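import Cfsg.Agent.Lib.PConstrained
import Cfsg.Agent.Lib.NPCFix
import Cfsg.Agent.S3798

/-! Basic facts on `p`-solvable groups. -/

set_option autoImplicit false
set_option linter.style.haveILetI false

namespace CfsgLib.PSolvable

open CfsgLib.CharP

variable {G : Type*} [Group G] {p : ℕ}

/-- A shift fixed by an element of coprime order is trivial. -/
theorem commute_of_coprime_shift {g y n : G} (hy : g * y * g⁻¹ = y * n) (hn : g * n = n * g)
    (hco : (orderOf g).Coprime (orderOf n)) : g * y = y * g := by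
  have hpow : ∀ m : ℕ, g ^ m * y * (g ^ m)⁻¹ = y * n ^ m := by
    intro m
    induction m with
    | zero => simp
    | succ m ih =>
      have hc : g * n ^ m = n ^ m * g := ((show Commute g n from hn).pow_right m).eq
      calc g ^ (m + 1) * y * (g ^ (m + 1))⁻¹ = g * (g ^ m * y * (g ^ m)⁻¹) * g⁻¹ := by rw [pow_succ']; group
        _ = (g * y * g⁻¹) * (g * n ^ m * g⁻¹) := by rw [ih]; group
        _ = y * n * n ^ m := by rw [hc, mul_inv_cancel_right, hy]
        _ = y * n ^ (m + 1) := by rw [pow_succ', mul_assoc]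
  have h := hpow (orderOf g)
  rw [pow_orderOf_eq_one, inv_one, mul_one, one_mul] at h
  have hn1 : n = 1 := orderOf_eq_one_iff.mp (Nat.eq_one_of_dvd_coprimes hco
    (orderOf_dvd_of_pow_eq_one (left_eq_mul.mp h)) dvd_rfl)
  rw [hn1, mul_one, mul_inv_eq_iff_eq_mul] at hy
  exact hy

/-- Subgroups of `p`-solvable groups are `p`-solvable. -/
theorem subgroup [Finite G] [hp : Fact p.Prime] (h : Cfsg.IsPSolvable p G) (H : Subgroup G) :
    Cfsg.IsPSolvable p ↥H := by
  obtain ⟨n, M, h0, h1, hm, hn, hstep⟩ := h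
  refine ⟨n, fun i => (M i).subgroupOf H, by simp [h0], by simp [h1], fun i j hij => Subgroup.comap_mono (hm hij),
    fun i => (hn i).subgroupOf H, fun i => ?_⟩
  have hd : ((M i.castSucc).subgroupOf H).relIndex ((M i.succ).subgroupOf H) ∣
      (M i.castSucc).relIndex (M i.succ) := by
    have e : ((M i.castSucc).subgroupOf H).relIndex ((M i.succ).subgroupOf H) =
        (M i.castSucc).relIndex (M i.succ ⊓ H) := by
      show ((M i.castSucc).comap H.subtype).relIndex _ = _
      rw [Subgroup.relIndex_comap, Subgroup.subgroupOf_map_subtype]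
    rw [e]
    haveI := (hn i.castSucc).subgroupOf (M i.succ)
    have h2 := Subgroup.relIndex_dvd_index_of_normal ((M i.castSucc).subgroupOf (M i.succ))
      ((M i.succ ⊓ H).subgroupOf (M i.succ))
    rwa [Subgroup.relIndex_subgroupOf inf_le_left] at h2
  rcases hstep i with ⟨m, hm'⟩ | hc
  · rw [hm'] at hd
    obtain ⟨m', -, hm''⟩ := (Nat.dvd_prime_pow hp.out).mp hd
    exact Or.inl ⟨m', hm''⟩
  · exact Or.inr (hc.coprime_dvd_left hd)

/-- Images of `p`-solvable groups are `p`-solvable. -/
theorem map {H : Type*} [Group H] [hp : Fact p.Prime] (f : G →* H) (hf : Function.Surjective f)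
    (h : Cfsg.IsPSolvable p G) : Cfsg.IsPSolvable p H :=
  Cfsg.Agent.S3798.isPSolvable_map hp.out f hf h

/-- Without `p'`-core, a `p`-solvable centraliser of `O_p` lies in `O_p`. -/
theorem centralizer_pCore_le [Finite G] [hp : Fact p.Prime] (hred : Cfsg.pPrimeCore p G = ⊥)
    (hsol : Cfsg.IsPSolvable p ↥(Subgroup.centralizer (Cfsg.pCore p G : Set G))) : HasCharP p G := by
  haveI := CfsgLib.Core.pCore_characteristic (G := G) p
  set R := Cfsg.pCore p G with hR
  set C := Subgroup.centralizer (R : Set G) with hC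
  haveI hCn : C.Normal := inferInstance
  set Z := R.subgroupOf C with hZ
  haveI hZn : Z.Normal := (inferInstance : R.Normal).subgroupOf C
  set π := QuotientGroup.mk' Z
  have hπ : Function.Surjective π := QuotientGroup.mk'_surjective Z
  intro x hx
  by_contra hxR
  haveI : Nontrivial (↥C ⧸ Z) := QuotientGroup.nontrivial_iff.mpr fun e => hxR (by
    have : (⟨x, hx⟩ : C) ∈ Z := e ▸ Subgroup.mem_top _
    exact this)
  have hRC : IsPGroup p ↥Z := (CfsgLib.Core.isPGroup_pCore (G := G) p).comap_subtype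
  have hmapC : (Cfsg.pCore p ↥C) ≤ Z := fun z hz =>
    CfsgLib.Core.pCore_subgroup_map_le p C (Subgroup.mem_map_of_mem C.subtype hz)
  have hpp : Cfsg.pPrimeCore p ↥C = ⊥ := by
    rw [eq_bot_iff]
    intro z hz
    have := CfsgLib.Core.pPrimeCore_subgroup_map_le p C (Subgroup.mem_map_of_mem C.subtype hz)
    rw [hred, Subgroup.mem_bot] at this
    exact Subgroup.mem_bot.mpr (Subtype.ext this)
  have hker : π.ker = Z := QuotientGroup.ker_mk' Z
  -- a normal subgroup of the quotient pulls back into `Z`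
  have hbot : ∀ Mb : Subgroup (↥C ⧸ Z), Mb.comap π ≤ Z → Mb = ⊥ := fun Mb hle => by
    rw [eq_bot_iff, ← Subgroup.map_comap_eq_self_of_surjective hπ Mb]
    rintro _ ⟨z, hz, rfl⟩
    exact Subgroup.mem_bot.mpr ((QuotientGroup.eq_one_iff z).mpr (hle hz))
  rcases Cfsg.Agent.S3798.core_ne_bot (map π hπ hsol) with h | h
  · haveI := CfsgLib.Core.pCore_characteristic (G := ↥C ⧸ Z) p
    refine h (hbot _ fun z hz => hmapC (CfsgLib.Core.le_pCore inferInstance ?_ hz))
    exact (CfsgLib.Core.isPGroup_pCore (G := ↥C ⧸ Z) p).comap_of_ker_isPGroup π (by rw [hker]; exact hRC)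
  · haveI := CfsgLib.Core.pPrimeCore_characteristic (G := ↥C ⧸ Z) p
    set Mb := Cfsg.pPrimeCore p (↥C ⧸ Z) with hMb
    set M := Mb.comap π with hM
    have hMcop := CfsgLib.Core.card_pPrimeCore_coprime (G := ↥C ⧸ Z) p
    have hcentral : ∀ a : M, CfsgLib.NPCFix.Small p a → ∀ g : M, g * a = a * g := by
      intro a ha g
      obtain ⟨j, hj⟩ : ∃ j, (a : C) ^ p ^ j = 1 := by
        rcases ha with e | ⟨h2, e⟩
        · exact ⟨1, by have := congrArg Subtype.val e; simpa using this⟩
        · exact ⟨2, by subst h2; have := congrArg Subtype.val e; simpa using this⟩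
      have h1 : π (a : C) = 1 := by
        refine orderOf_eq_one_iff.mp (Nat.eq_one_of_dvd_coprimes (hMcop.pow_right j) ?_
          ((orderOf_map_dvd π _).trans (orderOf_dvd_of_pow_eq_one hj)))
        exact (Subgroup.orderOf_mk (H := Mb) _ a.2).symm ▸ orderOf_dvd_natCard _
      have hZ' : ((a : C) : G) ∈ R := (QuotientGroup.eq_one_iff (a : C)).mp h1
      exact Subtype.ext (Subtype.ext ((Subgroup.mem_centralizer_iff.mp (g : C).2 _ hZ').symm))
    obtain ⟨P0, N, hN, hc⟩ := CfsgLib.NPCFix.npc_of_central (G := ↥M) hcentral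
    have hNcop : (Nat.card N).Coprime p := by
      rw [← hc.index_eq_card]
      exact (hp.out.coprime_iff_not_dvd.mpr P0.not_dvd_index).symm
    have hNbot : N = ⊥ := by
      rw [eq_bot_iff]
      intro z hz
      have h2 := CfsgLib.Core.pPrimeCore_subgroup_map_le p M
        (Subgroup.mem_map_of_mem M.subtype (CfsgLib.Core.le_pPrimeCore hN hNcop hz))
      rw [hpp, Subgroup.mem_bot] at h2
      exact Subgroup.mem_bot.mpr (Subtype.ext h2)
    have hMp : IsPGroup p ↥M := by
      obtain ⟨j, hj⟩ := P0.isPGroup'.exists_card_eq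
      refine IsPGroup.of_card (n := j) ?_
      rw [← hc.card_mul_card, hNbot, Subgroup.card_bot, one_mul, hj]
    refine h (hbot _ fun z hz => hmapC (CfsgLib.Core.le_pCore inferInstance hMp hz))

/-- A `p`-solvable group without `p'`-core has characteristic `p`. -/
theorem charP [Finite G] [hp : Fact p.Prime] (h : Cfsg.IsPSolvable p G)
    (hred : Cfsg.pPrimeCore p G = ⊥) : HasCharP p G :=
  centralizer_pCore_le hred (subgroup h _)

/-- The criterion for `p`-constraint by a `p`-solvable centraliser. -/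
theorem isPConstrained_of_centralizer [Finite G] [hp : Fact p.Prime] (P : Sylow p ↥(Cfsg.pPrimePCore p G))
    (hsol : Cfsg.IsPSolvable p ↥(Subgroup.centralizer
      (((P : Subgroup ↥(Cfsg.pPrimePCore p G)).map (Cfsg.pPrimePCore p G).subtype : Subgroup G) : Set G))) :
    Cfsg.IsPConstrained p G := by
  haveI := CfsgLib.PConstrained.pPrimeCore_normal (G := G) (p := p)
  rw [CfsgLib.PConstrained.isPConstrained_iff]
  set π := QuotientGroup.mk' (Cfsg.pPrimeCore p G)
  set U := (P : Subgroup (Cfsg.pPrimePCore p G)).map (Cfsg.pPrimePCore p G).subtype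
  have hπ : Function.Surjective π := QuotientGroup.mk'_surjective _
  have hker : (Nat.card π.ker).Coprime p := by
    rw [QuotientGroup.ker_mk']; exact CfsgLib.Core.card_pPrimeCore_coprime p
  have hUp : IsPGroup p U := P.isPGroup'.map _
  have hUmap : U.map π = Cfsg.pCore p (G ⧸ Cfsg.pPrimeCore p G) := by
    have hLmap : ((Cfsg.pPrimePCore p G)).map π = Cfsg.pCore p (G ⧸ Cfsg.pPrimeCore p G) :=
      Subgroup.map_comap_eq_self_of_surjective hπ _
    refine le_antisymm (hLmap ▸ Subgroup.map_mono (Subgroup.map_subtype_le _)) ?_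
    rw [← hLmap]
    have hA : IsPGroup p (((Cfsg.pPrimePCore p G)).map π) := hLmap ▸ CfsgLib.Core.isPGroup_pCore p
    rw [← Subgroup.relIndex_eq_one]
    obtain ⟨k, hk⟩ := hA.exists_card_eq
    have h1 : (U.map π).relIndex (((Cfsg.pPrimePCore p G)).map π) ∣ p ^ k := hk ▸ Subgroup.relIndex_dvd_card _ _
    have h2 : (U.map π).relIndex (((Cfsg.pPrimePCore p G)).map π) ∣ (P : Subgroup (Cfsg.pPrimePCore p G)).index := by
      rw [← Subgroup.relIndex_comap, Subgroup.comap_map_eq]
      have h3 : U.relIndex (Cfsg.pPrimePCore p G) = (P : Subgroup (Cfsg.pPrimePCore p G)).index := by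
        show ((P : Subgroup (Cfsg.pPrimePCore p G)).map (Cfsg.pPrimePCore p G).subtype).relIndex (Cfsg.pPrimePCore p G) = _
        rw [Subgroup.relIndex, Subgroup.subgroupOf, Subgroup.comap_map_eq_self_of_injective (Cfsg.pPrimePCore p G).subtype_injective]
      rw [← h3]
      exact Subgroup.relIndex_dvd_of_le_left _ le_sup_left
    exact Nat.eq_one_of_dvd_coprimes
      ((hp.out.coprime_iff_not_dvd.mpr P.not_dvd_index).symm.pow_right k) h2 h1
  refine centralizer_pCore_le (CfsgLib.Core.pPrimeCore_quotient_eq_bot p) ?_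
  rw [← hUmap, ← CfsgLib.PConstrained.centralizer_map_eq π hπ hker hUp]
  exact map (π.subgroupMap _) (π.subgroupMap_surjective _) hsol

end CfsgLib.PSolvable
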