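import Mathlib

/-! One-step extensions of normal subgroups in p-groups. (helper7) -/

set_option autoImplicit false
set_option linter.style.haveILetI false

open scoped Pointwise

namespace CfsgLib.PStep

/-- A nontrivial normal subgroup of a finite `p`-group meets the centre. -/
theorem normal_inf_center_ne_bot {p : ℕ} [Fact p.Prime] {P : Type*} [Group P] [Finite P] (hP : IsPGroup p P)
    {N : Subgroup P} (hN : N.Normal) (hNe : N ≠ ⊥) : N ⊓ Subgroup.center P ≠ ⊥ := by
  letI : MulAction P ↥N := MulAction.compHom ↥N (MulAut.conjNormal : P →* MulAut ↥N)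
  haveI : Nontrivial ↥N := (Subgroup.nontrivial_iff_ne_bot N).mpr hNe
  obtain ⟨k, hk0, hk⟩ := (hP.to_subgroup N).nontrivial_iff_card.mp inferInstance
  have h1 : (1 : ↥N) ∈ MulAction.fixedPoints P ↥N := fun g => map_one (MulAut.conjNormal (H := N) g)
  obtain ⟨z, hz, hz1⟩ := hP.exists_fixed_point_of_prime_dvd_card_of_fixed_point ↥N (hk ▸ dvd_pow_self p hk0.ne') h1
  rw [Subgroup.ne_bot_iff_exists_ne_one]
  refine ⟨⟨z, z.2, Subgroup.mem_center_iff.mpr fun g => ?_⟩, fun e => hz1 ?_⟩
  · have h : (MulAut.conjNormal g z : P) = z := congrArg Subtype.val (hz g)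
    rw [MulAut.conjNormal_apply] at h
    exact mul_inv_eq_iff_eq_mul.mp h
  · exact (Subtype.ext (congrArg (fun w : ↥(N ⊓ Subgroup.center P) => (w : P)) e) : z = 1).symm

theorem relIndex_le_orbit {G : Type*} [Group G] [Finite G] (H : Subgroup G) (x : G) (S : Set G) (hS : S.Finite)
    (h : ∀ g ∈ H, g * x * g⁻¹ ∈ S) :
    (Subgroup.centralizer ({x} : Set G)).relIndex H ≤ S.ncard := by
  classical
  let f : ↥H ⧸ (Subgroup.centralizer ({x} : Set G)).subgroupOf H → S :=
    Quotient.lift (fun g => ⟨(g : G) * x * (g : G)⁻¹, h g g.2⟩) (fun a b hab => by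
      apply Subtype.ext
      have hmem := QuotientGroup.leftRel_apply.mp hab
      rw [Subgroup.mem_subgroupOf, Subgroup.mem_centralizer_singleton_iff] at hmem
      show (a : G) * x * (a : G)⁻¹ = (b : G) * x * (b : G)⁻¹
      simp only [Subgroup.coe_mul, Subgroup.coe_inv] at hmem
      calc (a : G) * x * (a : G)⁻¹ = (a : G) * (x * ((a : G)⁻¹ * b)) * (b : G)⁻¹ := by group
        _ = (a : G) * ((a : G)⁻¹ * b * x) * (b : G)⁻¹ := by rw [hmem]
        _ = _ := by group)
  have hf : Function.Injective f := by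
    intro a b
    induction a using Quotient.inductionOn with | _ a =>
    induction b using Quotient.inductionOn with | _ b =>
    intro e
    apply QuotientGroup.eq.mpr
    rw [Subgroup.mem_subgroupOf, Subgroup.mem_centralizer_singleton_iff]
    have e' : (a : G) * x * (a : G)⁻¹ = (b : G) * x * (b : G)⁻¹ := congrArg Subtype.val e
    simp only [Subgroup.coe_mul, Subgroup.coe_inv]
    calc (a : G)⁻¹ * b * x = (a : G)⁻¹ * ((b : G) * x * (b : G)⁻¹) * b := by group
      _ = (a : G)⁻¹ * ((a : G) * x * (a : G)⁻¹) * b := by rw [e']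
      _ = _ := by group
  haveI := hS.to_subtype
  rw [← Nat.card_coe_set_eq]
  exact Nat.card_le_card_of_injective f hf

theorem exists_step {G : Type*} [Group G] [Finite G] {p : ℕ} [Fact p.Prime] (hG : IsPGroup p G)
    (N A : Subgroup G) [N.Normal] [A.Normal] (h : N < A) :
    ∃ x ∈ A, x ∉ N ∧ (∀ g : G, g * x * g⁻¹ * x⁻¹ ∈ N) ∧ x ^ p ∈ N := by
  have hp : p.Prime := Fact.out
  set B := A.map (QuotientGroup.mk' N) with hB
  haveI : B.Normal := Subgroup.Normal.map inferInstance _ (QuotientGroup.mk'_surjective N)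
  obtain ⟨a, haA, haN⟩ := SetLike.exists_of_lt h
  have hBne : B ≠ ⊥ := fun e => haN ((QuotientGroup.eq_one_iff a).mp
    (Subgroup.mem_bot.mp (e ▸ Subgroup.mem_map_of_mem _ haA)))
  have hQ : IsPGroup p (G ⧸ N) := hG.to_quotient N
  obtain ⟨z, ⟨hzB, hzZ⟩, hz1⟩ := (B ⊓ Subgroup.center (G ⧸ N)).bot_or_exists_ne_one.resolve_left
    (normal_inf_center_ne_bot hQ inferInstance hBne)
  obtain ⟨k, hk⟩ := IsPGroup.iff_orderOf.mp hQ z
  have hk0 : k ≠ 0 := fun e => hz1 (orderOf_eq_one_iff.mp (by rw [hk, e, pow_zero]))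
  obtain ⟨k', rfl⟩ := Nat.exists_eq_succ_of_ne_zero hk0
  obtain ⟨y, hy, hyz⟩ := Subgroup.mem_map.mp (pow_mem hzB (p ^ k'))
  have hne : z ^ p ^ k' ≠ 1 := fun e => by
    have := orderOf_dvd_of_pow_eq_one e
    rw [hk] at this
    exact absurd (Nat.le_of_dvd (pow_pos hp.pos _) this)
      (not_le.mpr (Nat.pow_lt_pow_right hp.one_lt (Nat.lt_succ_self k')))
  refine ⟨y, hy, fun hyN => hne (hyz ▸ (QuotientGroup.eq_one_iff y).mpr hyN), fun g => ?_, ?_⟩
  · refine (QuotientGroup.eq_one_iff _).mp ?_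
    show QuotientGroup.mk' N (g * y * g⁻¹ * y⁻¹) = 1
    have := Subgroup.mem_center_iff.mp (pow_mem hzZ (p ^ k')) (QuotientGroup.mk' N g)
    rw [← hyz] at this
    simp only [map_mul, map_inv, this]
    group
  · refine (QuotientGroup.eq_one_iff _).mp ?_
    show QuotientGroup.mk' N (y ^ p) = 1
    rw [map_pow, hyz, ← pow_mul, ← pow_succ, ← hk, pow_orderOf_eq_one]

theorem card_sup_zpowers {G : Type*} [Group G] [Finite G] {p : ℕ} [Fact p.Prime]
    (N : Subgroup G) [N.Normal] (x : G) (hxN : x ∉ N) (hp : x ^ p ∈ N) :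
    Nat.card ↥(N ⊔ Subgroup.zpowers x) = p * Nat.card ↥N := by
  set K := N ⊔ Subgroup.zpowers x
  have hmap : K.map (QuotientGroup.mk' N) = Subgroup.zpowers (QuotientGroup.mk' N x) := by
    rw [Subgroup.map_sup, MonoidHom.map_zpowers, (Subgroup.map_eq_bot_iff _).mpr (QuotientGroup.ker_mk' N).ge, bot_sup_eq]
  have hord : orderOf (QuotientGroup.mk' N x) = p :=
    orderOf_eq_prime (by rw [← map_pow]; exact (QuotientGroup.eq_one_iff _).mpr hp)
      (fun e => hxN ((QuotientGroup.eq_one_iff x).mp e))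
  have hcard : Nat.card ↥(K.map (QuotientGroup.mk' N)) = p := by rw [hmap, Nat.card_zpowers, hord]
  have h1 := (N.subgroupOf K).card_mul_index
  rw [Nat.card_congr (Subgroup.subgroupOfEquivOfLe (le_sup_left : N ≤ K)).toEquiv] at h1
  have h2 := Subgroup.relIndex_ker (QuotientGroup.mk' N) (K := K)
  rw [QuotientGroup.ker_mk', hcard] at h2
  rw [show (N.subgroupOf K).index = p from h2, mul_comm] at h1
  exact h1.symm

end CfsgLib.PStep
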