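import Cfsg.Agent.Lib.QdSection
import Cfsg.Agent.Lib.Qd
import Cfsg.Agent.Lib.PStep
import Cfsg.Prelude.Def_LocalEven

/-! A quadratic element outside the p-core of the automiser gives a section Qd(p). (owner helper5) -/

set_option autoImplicit false
set_option linter.style.haveILetI false
open scoped Matrix commutatorElement Pointwise

namespace CfsgLib.QdFree

universe u v

/-- upper transvection -/
def up (p : ℕ) [Fact p.Prime] : Matrix.SpecialLinearGroup (Fin 2) (ZMod p) :=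
  ⟨!![1, 1; 0, 1], by simp [Matrix.det_fin_two_of]⟩

theorem up_coe (p : ℕ) [Fact p.Prime] : ((up p : Matrix.SpecialLinearGroup (Fin 2) (ZMod p)) :
    Matrix (Fin 2) (Fin 2) (ZMod p)) = !![1, 1; 0, 1] := rfl

variable {p : ℕ} [hp : Fact p.Prime]

open CfsgLib.Linear.GL2Unipotent (v V)

theorem v_pow (c : ZMod p) (n : ℕ) : (v c : Matrix.SpecialLinearGroup (Fin 2) (ZMod p)) ^ n = v ((n : ZMod p) * c) := by
  induction n with
  | zero => exact Subtype.ext (by simp [Matrix.one_fin_two])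
  | succ n ih =>
    rw [pow_succ, ih]
    refine Subtype.ext ?_
    ext i j
    fin_cases i <;> fin_cases j <;> simp [Matrix.mul_apply, Fin.sum_univ_two, add_mul]

theorem v_pow_p (c : ZMod p) : (v c : Matrix.SpecialLinearGroup (Fin 2) (ZMod p)) ^ p = 1 := by
  rw [v_pow, ZMod.natCast_self, zero_mul]
  exact Subtype.ext (by simp [Matrix.one_fin_two])

/-- the Weyl element -/
def weyl (p : ℕ) [Fact p.Prime] : Matrix.SpecialLinearGroup (Fin 2) (ZMod p) :=
  ⟨!![0, 1; -1, 0], by simp [Matrix.det_fin_two_of]⟩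

theorem weyl_coe : ((weyl p : Matrix.SpecialLinearGroup (Fin 2) (ZMod p)) : Matrix (Fin 2) (Fin 2) (ZMod p)) =
    !![0, 1; -1, 0] := rfl

theorem weyl_eq : up p * (v (1 : ZMod p))⁻¹ * up p = weyl p := by
  have h : (v (1 : ZMod p) : Matrix.SpecialLinearGroup (Fin 2) (ZMod p))⁻¹ = v (-1) :=
    inv_eq_of_mul_eq_one_right (Subtype.ext (by simp [Matrix.one_fin_two]))
  rw [h]
  refine Subtype.ext ?_
  ext i j
  fin_cases i <;> fin_cases j <;> simp [Matrix.mul_apply, Fin.sum_univ_two, up_coe, weyl_coe]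

theorem weyl_sq : weyl p * weyl p = CfsgLib.QdExt.negI := by
  refine Subtype.ext ?_
  ext i j
  fin_cases i <;> fin_cases j <;> simp [Matrix.mul_apply, Fin.sum_univ_two, weyl_coe, CfsgLib.QdExt.negI_coe]

theorem up_eq : up p = weyl p * v (-1 : ZMod p) * (weyl p)⁻¹ := by
  rw [eq_mul_inv_iff_mul_eq]
  refine Subtype.ext ?_
  ext i j
  fin_cases i <;> fin_cases j <;> simp [Matrix.mul_apply, Fin.sum_univ_two, up_coe, weyl_coe]

theorem up_pow_p : up p ^ p = 1 := by rw [up_eq, conj_pow, v_pow_p, mul_one, mul_inv_cancel]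

theorem gen_sl2 (N : Subgroup (Matrix.SpecialLinearGroup (Fin 2) (ZMod p))) (h1 : up p ∈ N) (h2 : v (1 : ZMod p) ∈ N) :
    N = ⊤ := by
  have hV : (V : Subgroup (Matrix.SpecialLinearGroup (Fin 2) (ZMod p))) ≤ N := by
    rintro _ ⟨c, rfl⟩
    have := pow_mem h2 c.val
    rwa [v_pow, mul_one, ZMod.natCast_zmod_val] at this
  have hw : weyl p ∈ N := by rw [← weyl_eq]; exact mul_mem (mul_mem h1 (inv_mem h2)) h1
  rw [eq_top_iff, ← CfsgLib.Linear.GL2Unipotent.sup_eq_top (weyl p) (by simp [weyl_coe])]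
  refine sup_le hV ?_
  rintro _ ⟨x, hx, rfl⟩
  exact mul_mem (mul_mem hw (hV hx)) (inv_mem hw)

/-- The natural submodule. -/
theorem natural (hp2 : p ≠ 2) {K : Type u} [Group K] {W : Type v} [AddCommGroup W] [Module (ZMod p) W] [Nontrivial W]
    (π : K →* Module.End (ZMod p) W) (f : K →* Matrix.SpecialLinearGroup (Fin 2) (ZMod p))
    (hf : Function.Surjective f) (hker : ∀ g, f g = 1 → π g = 1)
    (hneg : ∀ g, f g = CfsgLib.QdExt.negI → π g = -1) (hquad : ∀ g, f g ^ p = 1 → (π g - 1) * (π g - 1) = 0) :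
    ∃ e : (Fin 2 → ZMod p) →ₗ[ZMod p] W, Function.Injective e ∧
      ∀ g w, π g (e w) = e ((f g : Matrix (Fin 2) (Fin 2) (ZMod p)) *ᵥ w) := by
  obtain ⟨x, hx⟩ := hf (up p)
  obtain ⟨y, hy⟩ := hf (v 1)
  obtain ⟨X, hX⟩ : ∃ X, π x - 1 = X := ⟨_, rfl⟩
  obtain ⟨Y, hY⟩ : ∃ Y, π y - 1 = Y := ⟨_, rfl⟩
  have hXX : X * X = 0 := hX ▸ hquad x (by rw [hx]; exact up_pow_p)
  have hYY : Y * Y = 0 := hY ▸ hquad y (by rw [hy]; exact v_pow_p 1)
  have hπx : π x = 1 + X := by rw [← hX]; abel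
  have hπy : π y = 1 + Y := by rw [← hY]; abel
  have hπy' : π y⁻¹ = 1 - Y := by
    have h1 : (1 - Y) * π y = 1 := by
      rw [hπy, show (1 - Y) * (1 + Y) = 1 - Y * Y by rw [sub_mul, one_mul, mul_add, mul_one]; abel, hYY, sub_zero]
    calc π y⁻¹ = ((1 - Y) * π y) * π y⁻¹ := by rw [h1, one_mul]
      _ = 1 - Y := by rw [mul_assoc, ← map_mul, mul_inv_cancel, map_one, mul_one]
  obtain ⟨T, hT⟩ : ∃ T, X * Y + Y * X = T := ⟨_, rfl⟩
  have hTX : T * X = X * T := by
    rw [← hT, add_mul, mul_add, mul_assoc Y X X, hXX, mul_zero, add_zero, ← mul_assoc X X Y, hXX, zero_mul,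
      zero_add, mul_assoc]
  have hTY : T * Y = Y * T := by
    rw [← hT, add_mul, mul_add, mul_assoc X Y Y, hYY, mul_zero, zero_add, ← mul_assoc Y Y X, hYY, zero_mul,
      add_zero, mul_assoc]
  obtain ⟨E, hE⟩ : ∃ E, π (x * y⁻¹ * x) = E := ⟨_, rfl⟩
  have hE2 : E * E = -1 := by
    rw [← hE, ← map_mul]
    refine hneg _ ?_
    rw [map_mul, map_mul, map_mul, map_inv, hx, hy, weyl_eq, weyl_sq]
  obtain ⟨N, hN⟩ : ∃ N, (2 - T) * X - Y = N := ⟨_, rfl⟩
  have hEN : E = (1 - T) + N := by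
    rw [← hE, map_mul, map_mul, hπx, hπy', ← hN]
    have h1 : X * Y * X = T * X := by rw [← hT, add_mul, mul_assoc Y X X, hXX, mul_zero, add_zero]
    have h2 : (1 + X) * (1 - Y) * (1 + X) = 1 + X + X - Y - (X * Y + Y * X) + X * X - X * Y * X := by noncomm_ring
    rw [h2, h1, hXX, hT, sub_mul, two_mul]
    abel
  have cX : Commute (1 - T) X := (Commute.one_left X).sub_left hTX
  have cY : Commute (1 - T) Y := (Commute.one_left Y).sub_left hTY
  have cX2 : Commute (2 - T) X := by rw [← one_add_one_eq_two]; exact ((Commute.one_left X).add_left (Commute.one_left X)).sub_left hTX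
  have cY2 : Commute (2 - T) Y := by rw [← one_add_one_eq_two]; exact ((Commute.one_left Y).add_left (Commute.one_left Y)).sub_left hTY
  have cN : Commute (1 - T) N := by
    rw [← hN]
    refine Commute.sub_right (Commute.mul_right ?_ cX) cY
    rw [← one_add_one_eq_two]
    exact ((Commute.one_right _).add_right (Commute.one_right _)).sub_right ((Commute.one_left T).sub_left (Commute.refl T))
  have hNN : N * N = -((2 - T) * T) := by
    rw [← hN]
    have h2 : ((2 - T) * X - Y) * ((2 - T) * X - Y) =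
        (2 - T) * (X * (2 - T)) * X - (2 - T) * (X * Y) - Y * (2 - T) * X + Y * Y := by noncomm_ring
    rw [h2, ← cX2.eq, ← cY2.eq, hYY, mul_assoc (2 - T) ((2 - T) * X) X, mul_assoc (2 - T) X X, hXX, mul_zero,
      mul_zero, ← hT]
    noncomm_ring
  have hT1 : T = 1 := by
    have h3 : E * E = (1 - T) * (1 - T) + ((1 - T) * N + (1 - T) * N) - (2 - T) * T := by
      rw [hEN, add_mul, mul_add, mul_add, ← cN.eq, hNN]; abel
    have h4 : ((1 - T) * E) + ((1 - T) * E) = 0 := by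
      rw [hE2] at h3
      rw [hEN, mul_add]
      have h5 : (1 - T) * (1 - T) + ((1 - T) * N + (1 - T) * N) - (2 - T) * T + 1 = 0 := by rw [← h3]; abel
      rw [← h5]; noncomm_ring
    have h6 : (1 - T) * E = 0 := by
      refine LinearMap.ext fun w => ?_
      have := LinearMap.congr_fun h4 w
      rw [LinearMap.add_apply, ← two_smul (ZMod p)] at this
      refine (smul_eq_zero.mp this).resolve_left fun h => hp2 ?_
      exact (Nat.prime_dvd_prime_iff_eq hp.out Nat.prime_two).mp ((ZMod.natCast_eq_zero_iff 2 p).mp (by exact_mod_cast h))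
    have h7 : (1 - T) * (E * E) = 0 := by rw [← mul_assoc, h6, zero_mul]
    rw [hE2, mul_neg, mul_one, neg_eq_zero, sub_eq_zero] at h7
    exact h7.symm
  have hXY : ∀ w, X (Y w) + Y (X w) = w := fun w => LinearMap.congr_fun (hT.trans hT1) w
  have hX0 : X ≠ 0 := by
    intro h
    obtain ⟨w, hw⟩ := exists_ne (0 : W)
    have := hXY w
    simp [h] at this
    exact hw this.symm
  obtain ⟨w₀, hw₀⟩ : ∃ w, X w ≠ 0 := by
    by_contra h; push Not at h; exact hX0 (LinearMap.ext h)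
  set u := X w₀ with hu
  have hXu : X u = 0 := LinearMap.congr_fun hXX w₀
  have hXYu : X (Y u) = u := by
    have := hXY u
    rwa [hXu, map_zero, add_zero] at this
  have hYYu : Y (Y u) = 0 := LinearMap.congr_fun hYY u
  let e : (Fin 2 → ZMod p) →ₗ[ZMod p] W :=
    { toFun := fun z => z 0 • u + z 1 • Y u
      map_add' := fun z z' => by simp only [Pi.add_apply, add_smul]; abel
      map_smul' := fun r z => by simp [smul_add, smul_smul] }
  have heX : ∀ z, X (e z) = z 1 • u := fun z => by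
    show X (z 0 • u + z 1 • Y u) = _
    rw [map_add, map_smul, map_smul, hXu, hXYu, smul_zero, zero_add]
  have heY : ∀ z, Y (e z) = z 0 • Y u := fun z => by
    show Y (z 0 • u + z 1 • Y u) = _
    rw [map_add, map_smul, map_smul, hYYu, smul_zero, add_zero]
  refine ⟨e, ?_, ?_⟩
  · rw [← LinearMap.ker_eq_bot, LinearMap.ker_eq_bot']
    intro z hz
    have h1 := heX z
    rw [hz, map_zero] at h1
    have hz1 : z 1 = 0 := (smul_eq_zero.mp h1.symm).resolve_right hw₀
    have h0 : z 0 • u + z 1 • Y u = 0 := hz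
    rw [hz1, zero_smul, add_zero] at h0
    have hz0 := (smul_eq_zero.mp h0).resolve_right hw₀
    funext i; fin_cases i <;> assumption
  · let S : Subgroup K :=
      { carrier := {g | ∀ w, π g (e w) = e ((f g : Matrix (Fin 2) (Fin 2) (ZMod p)) *ᵥ w)}
        one_mem' := fun w => by simp
        mul_mem' := by
          intro a b ha hb w
          rw [map_mul, Module.End.mul_apply, hb, ha, map_mul, Matrix.SpecialLinearGroup.coe_mul, Matrix.mulVec_mulVec]
        inv_mem' := by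
          intro a ha w
          have h1 := ha ((f a⁻¹ : Matrix (Fin 2) (Fin 2) (ZMod p)) *ᵥ w)
          rw [Matrix.mulVec_mulVec, ← Matrix.SpecialLinearGroup.coe_mul, ← map_mul, mul_inv_cancel, map_one,
            Matrix.SpecialLinearGroup.coe_one, Matrix.one_mulVec] at h1
          conv_lhs => rw [← h1]
          rw [← Module.End.mul_apply, ← map_mul, inv_mul_cancel, map_one]
          rfl }
    have hxS : x ∈ S := fun w => by
      rw [hπx, hx]
      show e w + X (e w) = _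
      rw [heX]
      show (w 0 • u + w 1 • Y u) + w 1 • u =
        ((up p : Matrix (Fin 2) (Fin 2) (ZMod p)) *ᵥ w) 0 • u + ((up p : Matrix (Fin 2) (Fin 2) (ZMod p)) *ᵥ w) 1 • Y u
      simp [up_coe, Matrix.mulVec, dotProduct, Fin.sum_univ_two, add_smul]
      abel
    have hyS : y ∈ S := fun w => by
      rw [hπy, hy]
      show e w + Y (e w) = _
      rw [heY]
      show (w 0 • u + w 1 • Y u) + w 0 • Y u =
        ((v (1 : ZMod p) : Matrix (Fin 2) (Fin 2) (ZMod p)) *ᵥ w) 0 • u +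
          ((v (1 : ZMod p) : Matrix (Fin 2) (Fin 2) (ZMod p)) *ᵥ w) 1 • Y u
      simp [Matrix.mulVec, dotProduct, Fin.sum_univ_two, add_smul]
      abel
    have htop := gen_sl2 (S.map f) ⟨x, hxS, hx⟩ ⟨y, hyS, hy⟩
    intro g
    obtain ⟨s, hs, hse⟩ := (htop.ge (Subgroup.mem_top (f g)) : f g ∈ S.map f)
    have h1 : π (s⁻¹ * g) = 1 := hker _ (by rw [map_mul, map_inv, hse, inv_mul_cancel])
    intro w
    rw [show g = s * (s⁻¹ * g) by group, map_mul, h1, mul_one, hs w, map_mul f, map_mul f, map_inv, hse,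
      inv_mul_cancel, mul_one]

/-- endomorphisms of an elementary abelian group as linear maps -/
def endLin {A : Type*} [AddCommGroup A] [Module (ZMod p) A] {H : Type*} [MulOneClass H] (act : H →* AddMonoid.End A) :
    H →* Module.End (ZMod p) A where
  toFun h := AddMonoidHom.toZModLinearMap p (act h)
  map_one' := LinearMap.ext fun x => by rw [map_one act]; rfl
  map_mul' g h := LinearMap.ext fun x => by rw [map_mul act]; rfl

theorem endLin_apply {A : Type*} [AddCommGroup A] [Module (ZMod p) A] {H : Type*} [MulOneClass H]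
    (act : H →* AddMonoid.End A) (h : H) (x : A) : endLin (p := p) act h x = act h x := rfl

/-- sections of sections -/
theorem involves_of_hom {A : Type*} [Group A] {G : Type*} [Group G] (K : Subgroup G) (f : ↥K →* A)
    (hf : Function.Surjective f) : Cfsg.Involves A G := by
  obtain ⟨R, hR, h⟩ := CfsgLib.Dickson.section_of_surjective K f hf
  exact ⟨K, R, hR, h⟩

theorem involves_trans {A : Type*} [Group A] {G : Type*} [Group G] {Q : Type*} [Group Q] (N : Subgroup G)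
    (φ : ↥N →* Q) (hφ : Function.Surjective φ) (h : Cfsg.Involves A Q) : Cfsg.Involves A G := by
  obtain ⟨K, R, hR, e⟩ := h
  obtain ⟨f, hf⟩ := CfsgLib.Dickson.surjective_of_section e
  let L := K.comap φ
  let res : ↥L →* ↥K := (φ.comp L.subtype).codRestrict K fun g => g.2
  have hres : Function.Surjective res := fun y => by
    obtain ⟨g, hg⟩ := hφ y
    exact ⟨⟨g, by rw [Subgroup.mem_comap, hg]; exact y.2⟩, Subtype.ext hg⟩
  let e' := L.equivMapOfInjective N.subtype N.subtype_injective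
  exact involves_of_hom (L.map N.subtype) ((f.comp res).comp e'.symm.toMonoidHom)
    ((hf.comp hres).comp e'.symm.surjective)

variable {G : Type u} [Group G] [Finite G]

/-- A split natural module inside a group gives Qd(p). -/
theorem involves_of_natural (hp2 : p ≠ 2) (U : Subgroup G) (K : Subgroup G)
    (f : ↥K →* Matrix.SpecialLinearGroup (Fin 2) (ZMod p)) (hf : Function.Surjective f)
    (ι : (Fin 2 → ZMod p) → G) (hι : Function.Injective ι) (hιU : ∀ g, g ∈ U ↔ ∃ w, ι w = g)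
    (hadd : ∀ a b, ι (a + b) = ι a * ι b)
    (hact : ∀ (g : ↥K) w, (g : G) * ι w * (g : G)⁻¹ = ι ((f g : Matrix (Fin 2) (Fin 2) (ZMod p)) *ᵥ w)) :
    Cfsg.Involves ↥(Cfsg.qd p) G := by
  haveI : CharP (ZMod p) p := ZMod.charP p
  have hι0 : ι 0 = 1 := by
    have := hadd 0 0
    rw [add_zero] at this
    exact left_eq_mul.mp this
  -- a 2-element over minus the identity
  obtain ⟨w, hw⟩ := hf CfsgLib.QdExt.negI
  obtain ⟨k, m, hm, hwm⟩ := Nat.exists_eq_pow_mul_and_not_dvd (orderOf_pos w).ne' 2 (by norm_num)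
  have hmo : Odd m := Nat.not_even_iff_odd.mp fun h => hm (even_iff_two_dvd.mp h)
  set z := w ^ m
  have hfz : f z = CfsgLib.QdExt.negI := by
    obtain ⟨t, ht⟩ := hmo
    rw [map_pow, hw, ht, pow_succ, pow_mul, pow_two, CfsgLib.QdExt.negI_sq, one_pow, one_mul]
  have hz2 : IsPGroup 2 ↥(Subgroup.zpowers z) := by
    have h1 : z ^ 2 ^ k = 1 := by rw [← pow_mul, mul_comm, ← hwm, pow_orderOf_eq_one]
    obtain ⟨j, -, hj⟩ := (Nat.dvd_prime_pow Nat.prime_two).mp (orderOf_dvd_of_pow_eq_one h1)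
    exact IsPGroup.of_card (n := j) (by rw [Nat.card_zpowers, hj])
  haveI : Fact (Nat.Prime 2) := ⟨Nat.prime_two⟩
  set T := (Subgroup.zpowers (CfsgLib.QdExt.negI : Matrix.SpecialLinearGroup (Fin 2) (ZMod p))).comap f
  haveI : (Subgroup.zpowers (CfsgLib.QdExt.negI : Matrix.SpecialLinearGroup (Fin 2) (ZMod p))).Normal :=
    ⟨fun x hx g => by
      obtain ⟨i, rfl⟩ := hx
      have hc : Commute g (CfsgLib.QdExt.negI : Matrix.SpecialLinearGroup (Fin 2) (ZMod p)) :=
        (CfsgLib.QdExt.negI_comm g).symm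
      show g * (CfsgLib.QdExt.negI : Matrix.SpecialLinearGroup (Fin 2) (ZMod p)) ^ i * g⁻¹ ∈
        Subgroup.zpowers (CfsgLib.QdExt.negI : Matrix.SpecialLinearGroup (Fin 2) (ZMod p))
      rw [(hc.zpow_right i).eq, mul_inv_cancel_right]
      exact Subgroup.zpow_mem _ (Subgroup.mem_zpowers _) i⟩
  haveI : T.Normal := Subgroup.Normal.comap inferInstance f
  have hzT : z ∈ T := by
    show f z ∈ Subgroup.zpowers (CfsgLib.QdExt.negI : Matrix.SpecialLinearGroup (Fin 2) (ZMod p))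
    rw [hfz]; exact Subgroup.mem_zpowers _
  have hz2' : IsPGroup 2 ↥(Subgroup.zpowers (⟨z, hzT⟩ : ↥T)) := by
    obtain ⟨j, hj⟩ := hz2.exists_card_eq
    exact IsPGroup.of_card (n := j) (by rw [Nat.card_zpowers, Subgroup.orderOf_mk, ← Nat.card_zpowers, hj])
  obtain ⟨S, hS⟩ := hz2'.exists_le_sylow
  set S' := (S : Subgroup ↥T).map T.subtype
  set Y := Subgroup.normalizer (S' : Set ↥K)
  have hzS : z ∈ S' := ⟨⟨z, hzT⟩, hS (Subgroup.mem_zpowers _), rfl⟩
  have hY : Y.map f = ⊤ := by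
    rw [eq_top_iff, ← Subgroup.map_top_of_surjective f hf, ← Sylow.normalizer_sup_eq_top S, Subgroup.map_sup]
    refine sup_le le_rfl ?_
    rintro _ ⟨t, ht, rfl⟩
    obtain ⟨i, hi⟩ := (ht : f t ∈ Subgroup.zpowers _)
    exact ⟨z ^ i, Subgroup.le_normalizer (S'.zpow_mem hzS i), by rw [map_zpow, hfz]; exact hi⟩
  set Y' := Y.map K.subtype
  have hzinv : ∀ g ∈ U, (z : G) * g * (z : G)⁻¹ = g⁻¹ := fun g hg => by
    obtain ⟨a, rfl⟩ := (hιU g).mp hg
    rw [hact, hfz, CfsgLib.QdExt.negI_coe]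
    refine eq_inv_of_mul_eq_one_left ?_
    rw [← hadd, ← hι0]
    congr 1
    funext i
    fin_cases i <;> simp [Matrix.mulVec, dotProduct, Fin.sum_univ_two]
  have hUp : ∀ g ∈ U, g ^ p = 1 := fun g hg => by
    obtain ⟨a, rfl⟩ := (hιU g).mp hg
    have : ∀ n : ℕ, ι a ^ n = ι (n • a) := fun n => by
      induction n with
      | zero => simp [hι0]
      | succ n ih => rw [pow_succ, ih, succ_nsmul, hadd]
    rw [this, show p • a = 0 by funext i; simp, hι0]
  have hYU : ∀ g : G, g ∈ U → g ∈ Y' → g = 1 := by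
    rintro g hgU ⟨y, hy, rfl⟩
    show (y : G) = 1
    change (y : G) ∈ U at hgU
    have hyz : y * z * y⁻¹ ∈ S' := (Subgroup.mem_normalizer_iff.mp hy z).mp hzS
    have h1 : (y * z * y⁻¹ * z⁻¹ : ↥K) = y ^ 2 := by
      refine Subtype.ext ?_
      have h2 := hzinv _ (U.inv_mem hgU)
      rw [inv_inv] at h2
      show (y : G) * z * (y : G)⁻¹ * (z : G)⁻¹ = (y : G) ^ 2
      rw [mul_assoc, mul_assoc, ← mul_assoc (z : G), h2, pow_two]
    have h3 : y ^ 2 ∈ S' := h1 ▸ S'.mul_mem hyz (S'.inv_mem hzS)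
    obtain ⟨j, hj⟩ := IsPGroup.iff_orderOf.mp (S.2.map T.subtype) ⟨y ^ 2, h3⟩
    rw [Subgroup.orderOf_mk] at hj
    have h4 : (y : G) ^ p = 1 := hUp _ hgU
    have h5 : y ^ 2 = 1 := orderOf_eq_one_iff.mp (Nat.eq_one_of_dvd_coprimes
      (((Nat.coprime_primes Nat.prime_two hp.out).mpr (Ne.symm hp2)).pow_left j) hj.dvd
      (orderOf_dvd_of_pow_eq_one (Subtype.ext (by
        rw [SubgroupClass.coe_pow, SubgroupClass.coe_pow, ← pow_mul, mul_comm, pow_mul, h4, one_pow]; rfl))))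
    have h6 : (y : G) ^ 2 = 1 := congrArg Subtype.val h5
    exact orderOf_eq_one_iff.mp (Nat.eq_one_of_dvd_coprimes
      ((Nat.coprime_primes Nat.prime_two hp.out).mpr (Ne.symm hp2))
      (orderOf_dvd_of_pow_eq_one h6) (orderOf_dvd_of_pow_eq_one h4))
  have hYN : Y' ≤ Subgroup.normalizer (U : Set G) := by
    rintro _ ⟨y, -, rfl⟩
    refine Subgroup.mem_normalizer_fintype ?_
    intro g hg
    obtain ⟨a, rfl⟩ := (hιU g).mp hg
    exact (hιU _).mpr ⟨_, (hact y a).symm⟩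
  have hdec : ∀ g : ↥(U ⊔ Y'), ∃ a : Fin 2 → ZMod p, ∃ y : ↥K, y ∈ Y ∧ ι a * (y : G) = (g : G) := fun g => by
    obtain ⟨n, hn, y', ⟨y, hy, rfl⟩, he⟩ :=
      (Subgroup.coe_mul_of_right_le_normalizer_left U Y' hYN ▸ g.2 : (g : G) ∈ (U : Set G) * (Y' : Set G))
    obtain ⟨a, rfl⟩ := (hιU n).mp hn
    exact ⟨a, y, hy, he⟩
  choose av yv hyY heq using hdec
  have huniq : ∀ (g : ↥(U ⊔ Y')) a (y : ↥K), y ∈ Y → ι a * (y : G) = (g : G) → av g = a ∧ yv g = y := by
    intro g a y hy he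
    have h1 : (ι a)⁻¹ * ι (av g) = (y : G) * (yv g : G)⁻¹ := by
      rw [eq_mul_inv_iff_mul_eq, mul_assoc, heq g, ← he, inv_mul_cancel_left]
    have h2 : (ι a)⁻¹ * ι (av g) = 1 := hYU _ (U.mul_mem (U.inv_mem ((hιU _).mpr ⟨_, rfl⟩)) ((hιU _).mpr ⟨_, rfl⟩))
      (h1 ▸ ⟨y * (yv g)⁻¹, Y.mul_mem hy (Y.inv_mem (hyY g)), rfl⟩)
    refine ⟨(hι (inv_mul_eq_one.mp h2)).symm, ?_⟩
    rw [h2, eq_comm, mul_inv_eq_one] at h1
    exact Subtype.ext h1.symm
  let Φ : ↥(U ⊔ Y') →* ↥(CfsgLib.Qd.aff (ZMod p)) := MonoidHom.mk' (fun g => CfsgLib.Qd.trl (av g) * CfsgLib.Qd.lift (f (yv g))) (by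
    intro g h
    obtain ⟨ea, ey⟩ := huniq (g * h) (av g + (f (yv g) : Matrix (Fin 2) (Fin 2) (ZMod p)) *ᵥ av h) (yv g * yv h)
      (Y.mul_mem (hyY g) (hyY h)) (by
        rw [hadd, ← hact, Subgroup.coe_mul, Subgroup.coe_mul, ← heq g, ← heq h]; group)
    simp only [ea, ey]
    rw [CfsgLib.Qd.ext_iff']
    simp [CfsgLib.Qd.vec_mul, add_comm])
  have hΦ : Function.Surjective Φ := by
    intro M
    obtain ⟨y, hy, hye⟩ := (hY.ge (Subgroup.mem_top (CfsgLib.Qd.blk M)) : CfsgLib.Qd.blk M ∈ Y.map f)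
    refine ⟨⟨ι (CfsgLib.Qd.vec M) * (y : G), Subgroup.mul_mem_sup ((hιU _).mpr ⟨_, rfl⟩) ⟨y, hy, rfl⟩⟩, ?_⟩
    obtain ⟨ea, ey⟩ := huniq ⟨ι (CfsgLib.Qd.vec M) * (y : G), Subgroup.mul_mem_sup ((hιU _).mpr ⟨_, rfl⟩) ⟨y, hy, rfl⟩⟩
      _ y hy rfl
    show CfsgLib.Qd.trl _ * CfsgLib.Qd.lift (f _) = M
    rw [ea, ey, hye, ← CfsgLib.Qd.eq_trl_mul_lift]
  exact involves_of_hom (U ⊔ Y') ((MulEquiv.subgroupCongr (CfsgLib.Qd.qd_eq p)).symm.toMonoidHom.comp Φ)
    ((MulEquiv.subgroupCongr (CfsgLib.Qd.qd_eq p)).symm.surjective.comp hΦ)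

/-- An irreducible quadratic pair on a normal elementary abelian subgroup gives Qd(p). -/
theorem involves_of_irred (hp2 : p ≠ 2) {W : Subgroup G} [W.Normal] (hab : ∀ x ∈ W, ∀ y ∈ W, x * y = y * x)
    (hexp : ∀ x ∈ W, x ^ p = 1) {a b : G} (haq : ∀ v ∈ W, ⁅⁅v, a⁆, a⁆ = 1) (hbq : ∀ v ∈ W, ⁅⁅v, b⁆, b⁆ = 1)
    (hnp : ¬ ∀ g ∈ Subgroup.closure ({a, b} : Set G), ∃ k : ℕ, g ^ p ^ k ∈ Subgroup.centralizer (W : Set G))
    (hirr : ∀ U : Subgroup G, U ≤ W → Subgroup.closure ({a, b} : Set G) ≤ Subgroup.normalizer (U : Set G) →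
      U = ⊥ ∨ U = W) :
    Cfsg.Involves ↥(Cfsg.qd p) G := by
  set H := Subgroup.closure ({a, b} : Set G) with hH
  letI : CommGroup W := { W.toGroup with mul_comm := fun x y => Subtype.ext (hab x x.2 y y.2) }
  letI : Module (ZMod p) (Additive W) := AddCommGroup.zmodModule (n := p) fun x =>
    Additive.toMul.injective (Subtype.ext (show ((Additive.toMul x : W) : G) ^ p = 1 from hexp _ (Additive.toMul x : W).2))
  let act : G →* AddMonoid.End (Additive W) := CfsgLib.ThompsonNPC.conjEnd W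
  let π : ↥H →* Module.End (ZMod p) (Additive W) := endLin (p := p) (A := Additive W) (act.comp H.subtype)
  have hπ : ∀ (h : ↥H) (x : Additive W), ((Additive.toMul (π h x) : W) : G) =
      (h : G) * ((Additive.toMul x : W) : G) * (h : G)⁻¹ := fun h x => rfl
  have hqd : ∀ c : ↥H, (∀ v ∈ W, ⁅⁅v, (c : G)⁆, (c : G)⁆ = 1) → (π c - 1) * (π c - 1) = 0 := by
    intro c hc
    refine LinearMap.ext fun x => ?_
    show π c (π c x - x) - (π c x - x) = 0
    rw [sub_eq_zero]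
    refine Additive.toMul.injective (Subtype.ext ?_)
    rw [hπ, toMul_sub, div_eq_mul_inv, Subgroup.coe_mul, Subgroup.coe_inv, hπ]
    set w : G := ((Additive.toMul x : W) : G)
    have h3 : Commute ⁅w, (c : G)⁆ (c : G) := commutatorElement_eq_one_iff_mul_comm.mp (hc w (Additive.toMul x : W).2)
    have h5 : ⁅w, (c : G)⁆⁻¹ = (c : G) * w * (c : G)⁻¹ * w⁻¹ := by rw [commutatorElement_def]; group
    rw [← h5, (h3.inv_left).symm.eq, mul_inv_cancel_right]
  have hgen : Subgroup.closure ({⟨a, Subgroup.subset_closure (Or.inl rfl)⟩, ⟨b, Subgroup.subset_closure (Or.inr rfl)⟩} : Set ↥H) = ⊤ := by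
    refine Subgroup.map_injective H.subtype_injective ?_
    rw [MonoidHom.map_closure, ← MonoidHom.range_eq_map, Subgroup.range_subtype, Set.image_pair]
    rfl
  haveI : Nontrivial (Additive W) := by
    by_contra hsub
    rw [not_nontrivial_iff_subsingleton] at hsub
    refine hnp fun g _ => ⟨0, Subgroup.mem_centralizer_iff.mpr fun v hv => ?_⟩
    have h1 : v = 1 := congrArg (fun z : Additive W => ((Additive.toMul z : W) : G))
      (Subsingleton.elim (Additive.ofMul (⟨v, hv⟩ : W)) 0)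
    rw [h1, one_mul, mul_one]
  have hir : CfsgLib.Dickson.Irred π := by
    intro U hU
    let U' : Subgroup G :=
      { carrier := {g | ∃ h : g ∈ W, Additive.ofMul (⟨g, h⟩ : W) ∈ U}
        one_mem' := ⟨one_mem W, U.zero_mem⟩
        mul_mem' := fun {x y} hx hy => ⟨mul_mem hx.1 hy.1, U.add_mem hx.2 hy.2⟩
        inv_mem' := fun {x} hx => ⟨inv_mem hx.1, U.neg_mem hx.2⟩ }
    rcases hirr U' (fun g hg => hg.1) (fun g hg => Subgroup.mem_normalizer_fintype fun x hx =>
        ⟨(inferInstance : W.Normal).conj_mem x hx.1 g, hU ⟨g, hg⟩ _ hx.2⟩) with h | h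
    · refine Or.inl ((Submodule.eq_bot_iff U).mpr fun x hx => ?_)
      have h1 : ((Additive.toMul x : W) : G) ∈ U' := ⟨(Additive.toMul x : W).2, hx⟩
      rw [h, Subgroup.mem_bot] at h1
      exact Additive.toMul.injective (Subtype.ext h1)
    · exact Or.inr (eq_top_iff.mpr fun x _ => (h.ge (Additive.toMul x : W).2).2)
  obtain ⟨K, f, hf, hker, hneg, hquad⟩ := CfsgLib.QdSection.exists_section_irred hp2 π hgen (hqd _ haq) (hqd _ hbq)
    hir fun hP => hnp fun g hg => by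
      obtain ⟨k, hk⟩ := hP ⟨g, hg⟩
      refine ⟨k, Subgroup.mem_centralizer_iff.mpr fun v hv => ?_⟩
      have h1 := congrArg (fun z : Additive W => ((Additive.toMul z : W) : G))
        (LinearMap.congr_fun hk (Additive.ofMul (⟨v, hv⟩ : W)))
      rw [hπ] at h1
      have h' : g ^ p ^ k * v * (g ^ p ^ k)⁻¹ = v := h1
      exact (mul_inv_eq_iff_eq_mul.mp h').symm
  obtain ⟨e, he, hint⟩ := natural hp2 (π.comp K.subtype) f hf hker hneg hquad
  let ι : (Fin 2 → ZMod p) → G := fun w => ((Additive.toMul (e w) : W) : G)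
  have hadd : ∀ x y, ι (x + y) = ι x * ι y := fun x y => by
    show ((Additive.toMul (e (x + y)) : W) : G) = _
    rw [map_add]; rfl
  have hι0 : ι 0 = 1 := by
    show ((Additive.toMul (e 0) : W) : G) = 1
    rw [map_zero]; rfl
  let U : Subgroup G :=
    { carrier := Set.range ι
      one_mem' := ⟨0, hι0⟩
      mul_mem' := by rintro _ _ ⟨x, rfl⟩ ⟨y, rfl⟩; exact ⟨x + y, hadd x y⟩
      inv_mem' := by
        rintro _ ⟨x, rfl⟩
        exact ⟨-x, eq_inv_of_mul_eq_one_left (by rw [← hadd, neg_add_cancel, hι0])⟩ }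
  let eK := K.equivMapOfInjective H.subtype H.subtype_injective
  refine involves_of_natural hp2 U (K.map H.subtype) (f.comp eK.symm.toMonoidHom) (hf.comp eK.symm.surjective) ι
    (fun x y hxy => he (Additive.toMul.injective (Subtype.ext hxy))) (fun g => Iff.rfl) hadd fun g w => ?_
  obtain ⟨g, rfl⟩ := eK.surjective g
  have h1 : π (g : ↥H) (e w) = e ((f g : Matrix (Fin 2) (Fin 2) (ZMod p)) *ᵥ w) := hint g w
  show ((eK g : ↥(K.map H.subtype)) : G) * ι w * ((eK g : ↥(K.map H.subtype)) : G)⁻¹ =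
    ι ((f (eK.symm (eK g)) : Matrix (Fin 2) (Fin 2) (ZMod p)) *ᵥ w)
  rw [MulEquiv.symm_apply_apply]
  show ((g : ↥H) : G) * _ * ((g : ↥H) : G)⁻¹ = ((Additive.toMul (e _) : W) : G)
  rw [← h1, hπ]

/-- **A quadratic element outside the p-core of the automiser gives Qd(p).** -/
theorem involves_of_quadratic (hp2 : p ≠ 2) {V : Subgroup G} [V.Normal] (hab : ∀ x ∈ V, ∀ y ∈ V, x * y = y * x)
    (hexp : ∀ x ∈ V, x ^ p = 1) {a : G} (haq : ∀ v ∈ V, ⁅⁅v, a⁆, a⁆ = 1)
    (hout : (QuotientGroup.mk a : G ⧸ Subgroup.centralizer (V : Set G)) ∉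
      Cfsg.pCore p (G ⧸ Subgroup.centralizer (V : Set G))) :
    Cfsg.Involves ↥(Cfsg.qd p) G := by
  set C := Subgroup.centralizer (V : Set G)
  set π := QuotientGroup.mk' C with hπ
  obtain ⟨g, hg⟩ : ∃ g : G ⧸ C, ¬ IsPGroup p ↥(Subgroup.zpowers (π a) ⊔ (Subgroup.zpowers (π a)).map (MulAut.conj g).toMonoidHom) := by
    by_contra hall
    push Not at hall
    obtain ⟨N, hN, hNp, hle⟩ := CfsgLib.BaerSuzuki.baer_suzuki _ hall
    exact hout (CfsgLib.Core.le_pCore hN hNp (hle (Subgroup.mem_zpowers _)))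
  obtain ⟨g, rfl⟩ := QuotientGroup.mk'_surjective C g
  set b := g * a * g⁻¹ with hb
  have hbq : ∀ v ∈ V, ⁅⁅v, b⁆, b⁆ = 1 := by
    intro v hv
    have hv' : g⁻¹ * v * g ∈ V := by simpa using (‹V.Normal›).conj_mem v hv g⁻¹
    have h := congrArg (MulAut.conj g) (haq _ hv')
    rw [map_one, map_commutatorElement, map_commutatorElement] at h
    simpa [hb, mul_assoc] using h
  set H := Subgroup.closure ({a, b} : Set G)
  let Pact : Subgroup G → Prop := fun U => ∀ g ∈ H, ∃ k : ℕ, g ^ p ^ k ∈ Subgroup.centralizer (U : Set G)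
  have hVbad : ¬ Pact V := by
    intro hpp
    apply hg
    have himg : H.map π = Subgroup.zpowers (π a) ⊔ (Subgroup.zpowers (π a)).map (MulAut.conj (π g)).toMonoidHom := by
      rw [MonoidHom.map_closure, Set.image_pair, Set.insert_eq, Subgroup.closure_union, ← Subgroup.zpowers_eq_closure,
        ← Subgroup.zpowers_eq_closure, MonoidHom.map_zpowers]
      congr 2
    rw [← himg]
    rintro ⟨_, x, hx, rfl⟩
    obtain ⟨k, hk⟩ := hpp x hx
    refine ⟨k, Subtype.ext ?_⟩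
    rw [SubmonoidClass.coe_pow, ← map_pow]
    exact (QuotientGroup.eq_one_iff _).mpr hk
  obtain ⟨U1, ⟨hU1V, hU1n, hU1bad⟩, hU1min⟩ := (Set.toFinite {U : Subgroup G | U ≤ V ∧ H ≤ Subgroup.normalizer (U : Set G) ∧ ¬ Pact U}).exists_minimal
    ⟨V, le_rfl, by rw [Subgroup.normalizer_eq_top V]; exact le_top, hVbad⟩
  have hU1ne : U1 ≠ ⊥ := by
    rintro rfl
    exact hU1bad fun g _ => ⟨0, Subgroup.mem_centralizer_iff.mpr fun v hv => by rw [Subgroup.mem_bot.mp hv]; simp⟩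
  obtain ⟨U0, ⟨hU0lt, hU0n⟩, hU0max⟩ := (Set.toFinite {U : Subgroup G | U < U1 ∧ H ≤ Subgroup.normalizer (U : Set G)}).exists_maximal
    ⟨⊥, bot_lt_iff_ne_bot.mpr hU1ne, by rw [Subgroup.normalizer_eq_top (⊥ : Subgroup G)]; exact le_top⟩
  have hU0good : Pact U0 := by
    by_contra hbad
    exact hU0lt.not_ge (hU1min ⟨hU0lt.le.trans hU1V, hU0n, hbad⟩ hU0lt.le)
  set N0 := H ⊔ U1
  have hU0N : N0 ≤ Subgroup.normalizer (U0 : Set G) := sup_le hU0n fun u hu => Subgroup.centralizer_le_normalizer _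
    (Subgroup.mem_centralizer_iff.mpr fun x hx => hab x (hU1V (hU0lt.le hx)) u (hU1V hu))
  have hU1N : N0 ≤ Subgroup.normalizer (U1 : Set G) := sup_le hU1n Subgroup.le_normalizer
  haveI : (U0.subgroupOf N0).Normal :=
    (Subgroup.normal_subgroupOf_iff_le_normalizer (hU0lt.le.trans le_sup_right)).mpr hU0N
  haveI : (U1.subgroupOf N0).Normal :=
    (Subgroup.normal_subgroupOf_iff_le_normalizer le_sup_right).mpr hU1N
  set ν := QuotientGroup.mk' (U0.subgroupOf N0)
  have hν : Function.Surjective ν := QuotientGroup.mk'_surjective _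
  set W := (U1.subgroupOf N0).map ν
  haveI : W.Normal := Subgroup.Normal.map inferInstance ν hν
  have haN : a ∈ N0 := Subgroup.mem_sup_left (Subgroup.subset_closure (Or.inl rfl))
  have hbN : b ∈ N0 := Subgroup.mem_sup_left (Subgroup.subset_closure (Or.inr rfl))
  have hq : ∀ (c : ↥N0), (∀ v ∈ V, ⁅⁅v, (c : G)⁆, (c : G)⁆ = 1) → ∀ w ∈ W, ⁅⁅w, ν c⁆, ν c⁆ = 1 := by
    rintro c hc _ ⟨u, hu, rfl⟩
    rw [← map_commutatorElement, ← map_commutatorElement,
      show ⁅⁅u, c⁆, c⁆ = 1 from Subtype.ext (hc u (hU1V hu)), map_one]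
  have hcl : Subgroup.closure ({ν ⟨a, haN⟩, ν ⟨b, hbN⟩} : Set _) = (H.subgroupOf N0).map ν := by
    rw [← Set.image_pair, ← MonoidHom.map_closure]
    congr 1
    refine Subgroup.map_injective N0.subtype_injective ?_
    rw [MonoidHom.map_closure, Set.image_pair, Subgroup.map_subgroupOf_eq_of_le le_sup_left]
    rfl
  refine involves_trans N0 ν hν (involves_of_irred hp2 (W := W) ?_ ?_ (hq ⟨a, haN⟩ haq) (hq ⟨b, hbN⟩ hbq) ?_ ?_)
  · rintro _ ⟨x, hx, rfl⟩ _ ⟨y, hy, rfl⟩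
    rw [← map_mul, ← map_mul]
    exact congrArg ν (Subtype.ext (hab x (hU1V hx) y (hU1V hy)))
  · rintro _ ⟨x, hx, rfl⟩
    rw [← map_pow, show x ^ p = 1 from Subtype.ext (by rw [SubgroupClass.coe_pow]; exact hexp x (hU1V hx)), map_one]
  · rw [hcl]
    intro hall
    refine hU1bad fun h hh => ?_
    obtain ⟨i, hi⟩ := hU0good h hh
    obtain ⟨j, hj⟩ := hall (ν ⟨h, Subgroup.mem_sup_left hh⟩) ⟨_, hh, rfl⟩
    refine ⟨i + j + 1, Subgroup.mem_centralizer_iff.mpr fun u hu => ?_⟩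
    set g' := h ^ p ^ (i + j)
    have h0 : g' ∈ Subgroup.centralizer (U0 : Set G) := by
      show h ^ p ^ (i + j) ∈ _
      rw [pow_add, pow_mul]; exact pow_mem hi _
    obtain ⟨g'', hg''⟩ : ∃ g'' : ↥N0, (g'' : G) = g' ∧ ν g'' ∈ Subgroup.centralizer (W : Set (↥N0 ⧸ U0.subgroupOf N0)) := by
      refine ⟨⟨h, Subgroup.mem_sup_left hh⟩ ^ p ^ (i + j), by rw [SubgroupClass.coe_pow], ?_⟩
      rw [map_pow, add_comm i j, pow_add, pow_mul]; exact pow_mem hj _
    have hc := Subgroup.mem_centralizer_iff.mp hg''.2 (ν ⟨u, Subgroup.mem_sup_right hu⟩) ⟨_, hu, rfl⟩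
    rw [← map_mul, ← map_mul] at hc
    have hd : g' * u * g'⁻¹ * u⁻¹ ∈ U0 := by
      have h1 := QuotientGroup.eq.mp hc
      have h2 : (((⟨u, Subgroup.mem_sup_right hu⟩ : ↥N0) * g'')⁻¹ * (g'' * ⟨u, Subgroup.mem_sup_right hu⟩) : ↥N0).1 ∈ U0 := h1
      simp only [Subgroup.coe_mul, Subgroup.coe_inv, hg''.1] at h2
      have h3 : (u * g') * ((u * g')⁻¹ * (g' * u)) * (u * g')⁻¹ ∈ U0 :=
        (Subgroup.mem_normalizer_iff.mp (hU0N (mul_mem (Subgroup.mem_sup_right hu : u ∈ N0)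
          (hg''.1 ▸ g''.2 : g' ∈ N0))) _).mp h2
      rwa [show (u * g') * ((u * g')⁻¹ * (g' * u)) * (u * g')⁻¹ = g' * u * g'⁻¹ * u⁻¹ by group] at h3
    set d := g' * u * g'⁻¹ * u⁻¹
    have hdfix : g' * d * g'⁻¹ = d := by
      rw [mul_inv_eq_iff_eq_mul]
      exact (Subgroup.mem_centralizer_iff.mp h0 d hd).symm
    have hiter : ∀ m : ℕ, g' ^ m * u * (g' ^ m)⁻¹ = d ^ m * u := by
      intro m
      induction m with
      | zero => simp
      | succ m ih =>
        calc g' ^ (m + 1) * u * (g' ^ (m + 1))⁻¹ = g' * (g' ^ m * u * (g' ^ m)⁻¹) * g'⁻¹ := by rw [pow_succ']; group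
          _ = (g' * d * g'⁻¹) ^ m * (g' * u * g'⁻¹) := by rw [ih, conj_pow]; group
          _ = _ := by
            rw [hdfix, pow_succ, mul_assoc (d ^ m)]
            exact congrArg (d ^ m * ·) (inv_mul_cancel_right _ u).symm
    have := hiter p
    rw [hexp d (hU1V (hU0lt.le hd)), one_mul, mul_inv_eq_iff_eq_mul] at this
    rw [pow_succ, pow_mul]
    exact this.symm
  · intro U hUW hUn
    have hle : (U.comap ν).map N0.subtype ≤ U1 := by
      rintro _ ⟨x, hx, rfl⟩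
      obtain ⟨y, hy, hye⟩ := hUW hx
      have h0 : y⁻¹ * x ∈ U0.subgroupOf N0 := QuotientGroup.eq.mp hye
      have h1 : ((y⁻¹ * x : ↥N0) : G) ∈ U0 := h0
      have h2 := mul_mem (show (y : G) ∈ U1 from hy) (hU0lt.le h1)
      rwa [Subgroup.coe_mul, Subgroup.coe_inv, mul_inv_cancel_left] at h2
    have hnorm : H ≤ Subgroup.normalizer (((U.comap ν).map N0.subtype : Subgroup G) : Set G) := by
      intro h hh
      refine Subgroup.mem_normalizer_fintype ?_
      rintro _ ⟨x, hx, rfl⟩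
      refine ⟨⟨h, Subgroup.mem_sup_left hh⟩ * x * ⟨h, Subgroup.mem_sup_left hh⟩⁻¹, ?_, rfl⟩
      show ν _ ∈ U
      rw [map_mul, map_mul, map_inv]
      exact (Subgroup.mem_normalizer_iff.mp (hUn (hcl.ge ⟨_, hh, rfl⟩)) _).mp hx
    rcases eq_or_lt_of_le hle with he | hlt
    · refine Or.inr (le_antisymm hUW ?_)
      rintro _ ⟨x, hx, rfl⟩
      obtain ⟨x', hx', hxe⟩ := he.ge (show (x : G) ∈ U1 from hx)
      obtain rfl := Subtype.ext hxe
      exact hx'
    · refine Or.inl ((Subgroup.eq_bot_iff_forall U).mpr fun w hw => ?_)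
      obtain ⟨x, rfl⟩ := hν w
      have hge : U0 ≤ (U.comap ν).map N0.subtype := fun y hy =>
        ⟨⟨y, Subgroup.mem_sup_right (hU0lt.le hy)⟩, by
          show ν _ ∈ U
          rw [show ν ⟨y, Subgroup.mem_sup_right (hU0lt.le hy)⟩ = 1 from (QuotientGroup.eq_one_iff _).mpr hy]
          exact one_mem _, rfl⟩
      have heq := le_antisymm (hU0max ⟨hlt, hnorm⟩ hge) hge
      exact (QuotientGroup.eq_one_iff x).mpr (heq.le ⟨x, hw, rfl⟩)

/-- No Qd(p) sections gives stability. -/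
theorem stable_of_qdFree (hp2 : p ≠ 2) (h : ¬ Cfsg.Involves ↥(Cfsg.qd p) G) : CfsgLib.Glauberman.Stable p G := by
  refine CfsgLib.Glauberman.stable_of_minimal fun W _ V _ _ _ hab hexp _ a ha => ?_
  by_contra hout
  exact h (involves_trans ⊤ ((QuotientGroup.mk' W).comp (⊤ : Subgroup G).subtype)
    (fun y => by obtain ⟨x, rfl⟩ := QuotientGroup.mk'_surjective W y; exact ⟨⟨x, Subgroup.mem_top x⟩, rfl⟩)
    (involves_of_quadratic hp2 hab hexp ha hout))

end CfsgLib.QdFree
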