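import Cfsg.Agent.Lib.Dickson.Section
import Cfsg.Agent.Lib.QdFree
import Cfsg.Agent.Lib.PSolvable
import Cfsg.Agent.Lib.Linear.Generation

/-! Action `p`-stability of groups without `SL₂(p)` sections. -/

set_option autoImplicit false
set_option linter.style.haveILetI false
open scoped commutatorElement

namespace CfsgLib.ActionPStable

variable {G : Type*} [Group G] [Finite G] {p : ℕ} [hp : Fact p.Prime]

theorem stableOn (hp2 : p ≠ 2) (h : CfsgLib.Dickson.SLFree p G) (V : Subgroup G) [V.Normal] (hV : IsPGroup p V) :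
    Cfsg.IsPStableOn p V := fun a ha => CfsgLib.Dickson.stable_of_slFree hp2 h V hV a fun v hv =>
  Subgroup.mem_bot.mp (ha ▸ Subgroup.commutator_mem_commutator
    (Subgroup.commutator_mem_commutator hv (Subgroup.mem_zpowers a)) (Subgroup.mem_zpowers a))

theorem of_slFree (hp2 : p ≠ 2) (h : CfsgLib.Dickson.SLFree p G) : Cfsg.IsActionPStable p G := by
  refine ⟨fun V _ hV => stableOn hp2 h V fun a => ⟨1, Subtype.ext (by
    rw [pow_one, SubmonoidClass.coe_pow]; exact hV.2 a a.2)⟩, ?_, fun S V hVn hle => ?_⟩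
  · set K := Cfsg.pCore p G
    set N := (frattini ↥K).map K.subtype with hN
    intro a ha
    haveI : K.Normal := Cfsg.pCore_normal p G
    set π := QuotientGroup.mk' N with hπd
    have hπ : Function.Surjective π := QuotientGroup.mk'_surjective N
    set V := K.map π with hVd
    haveI : V.Normal := (Cfsg.pCore_normal p G).map π hπ
    have hVp : IsPGroup p V := (CfsgLib.Core.isPGroup_pCore p).map π
    have hst := CfsgLib.Dickson.stable_of_slFree hp2 (h.of_surjective π hπ) V hVp (π a) fun v hv => by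
      obtain ⟨k, hk, rfl⟩ := hv
      rw [← map_commutatorElement, ← map_commutatorElement]
      exact (QuotientGroup.eq_one_iff _).mpr (ha (Subgroup.commutator_mem_commutator
        (Subgroup.commutator_mem_commutator hk (Subgroup.mem_zpowers a)) (Subgroup.mem_zpowers a)))
    set C := Subgroup.centralizer (V : Set (G ⧸ N)) with hC
    set φ := (QuotientGroup.mk' C).comp π with hφd
    have hφ : Function.Surjective φ := (QuotientGroup.mk'_surjective C).comp hπ
    have hker : φ.ker = Cfsg.sectionKernel K N := by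
      rw [hφd, ← MonoidHom.comap_ker, QuotientGroup.ker_mk']
      rfl
    haveI := Cfsg.pCore_normal p ((G ⧸ N) ⧸ C)
    refine ⟨(Cfsg.pCore p ((G ⧸ N) ⧸ C)).comap φ, Subgroup.Normal.comap inferInstance φ,
      hker ▸ MonoidHom.ker_le_comap _ _, ?_, hst⟩
    obtain ⟨k, hk⟩ := (CfsgLib.Core.isPGroup_pCore (G := (G ⧸ N) ⧸ C) p).exists_card_eq
    refine ⟨k, ?_⟩
    rw [← hker, ← hk, ← MonoidHom.comap_bot φ, Subgroup.relIndex_comap, Subgroup.map_comap_eq_self_of_surjective hφ,
      Subgroup.relIndex_bot_left]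
  · refine @stableOn _ _ _ p hp hp2 (h.of_subgroup _) V hVn ?_
    have h1 : IsPGroup p (V.map (Subgroup.normalizer (Cfsg.thompsonSubgroupOf p (S : Subgroup G) : Set G)).subtype) := S.2.to_le (hle.trans (Subgroup.map_subtype_le _))
    exact h1.of_equiv (V.equivMapOfInjective _ (Subgroup.subtype_injective _)).symm

/-- `SL₂(p)` is not `p`-solvable for `p ≥ 5`. -/
theorem not_pSolvable_SL2 (hp5 : 5 ≤ p) : ¬ Cfsg.IsPSolvable p (Matrix.SpecialLinearGroup (Fin 2) (ZMod p)) := by
  have hperf : commutator (Matrix.SpecialLinearGroup (Fin 2) (ZMod p)) = ⊤ := by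
    refine CfsgLib.Linear.Generation.commutator_SL_eq_top (Or.inr ⟨((2 : ℕ) : ZMod p), ?_, ?_⟩)
    · intro h
      have := Nat.le_of_dvd (by norm_num) ((ZMod.natCast_eq_zero_iff 2 p).mp h)
      omega
    · intro h
      have h3 : ((3 : ℕ) : ZMod p) = 0 := by
        have : ((2 : ℕ) : ZMod p) ^ 2 - 1 = ((3 : ℕ) : ZMod p) := by push_cast; ring
        rw [← this, h, sub_self]
      have := Nat.le_of_dvd (by norm_num) ((ZMod.natCast_eq_zero_iff 3 p).mp h3)
      omega
  rintro ⟨n, H, h0, h1, -, hn, hstep⟩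
  have key : ∀ i : Fin (n + 1), H i ≠ ⊤ := by
    intro i
    induction i using Fin.induction with
    | zero =>
      rw [h0]
      intro e
      have : CfsgLib.QdFree.up p ∈ (⊥ : Subgroup _) := e.symm ▸ Subgroup.mem_top _
      have h01 := congrArg (fun M : Matrix.SpecialLinearGroup (Fin 2) (ZMod p) => M.1 0 1) (Subgroup.mem_bot.mp this)
      simp [CfsgLib.QdFree.up_coe] at h01
    | succ i ih =>
      intro e
      apply ih
      set M := H i.castSucc
      haveI : M.Normal := hn _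
      have hd := hstep i
      rw [e, Subgroup.relIndex_top_right, Subgroup.index_eq_card] at hd
      have hord : ∀ g : Matrix.SpecialLinearGroup (Fin 2) (ZMod p), g ^ p = 1 → (Nat.card (_ ⧸ M)).Coprime p → g ∈ M :=
        fun g hg hc => (QuotientGroup.eq_one_iff g).mp (orderOf_eq_one_iff.mp (Nat.eq_one_of_dvd_coprimes hc
          (_root_.orderOf_dvd_natCard _) ((orderOf_map_dvd (QuotientGroup.mk' M) g).trans (orderOf_dvd_of_pow_eq_one hg))))
      rcases hd with ⟨m, hm⟩ | hc
      · haveI : Group.IsNilpotent (Matrix.SpecialLinearGroup (Fin 2) (ZMod p) ⧸ M) := (IsPGroup.of_card hm).isNilpotent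
        haveI : Group.IsSolvable (Matrix.SpecialLinearGroup (Fin 2) (ZMod p) ⧸ M) := inferInstance
        by_contra hM
        haveI : Nontrivial (Matrix.SpecialLinearGroup (Fin 2) (ZMod p) ⧸ M) := by
          rw [← Finite.one_lt_card_iff_nontrivial, ← Subgroup.index_eq_card]
          exact lt_of_le_of_ne (Nat.pos_of_ne_zero Subgroup.index_ne_zero_of_finite) fun e => hM (Subgroup.index_eq_one.mp e.symm)
        refine (Group.IsSolvable.commutator_lt_top_of_nontrivial (G := Matrix.SpecialLinearGroup (Fin 2) (ZMod p) ⧸ M)).ne ?_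
        rw [commutator_def, ← Subgroup.map_top_of_surjective _ (QuotientGroup.mk'_surjective M), ← Subgroup.map_commutator,
          ← commutator_def, hperf]
      · refine CfsgLib.QdFree.gen_sl2 M (hord _ CfsgLib.QdFree.up_pow_p hc) (hord _ (CfsgLib.QdFree.v_pow_p _) hc)
  exact key _ h1

theorem slFree_of_pSolvable (hp5 : 5 ≤ p) (h : Cfsg.IsPSolvable p G) : CfsgLib.Dickson.SLFree p G :=
  fun K f hf => not_pSolvable_SL2 hp5 (CfsgLib.PSolvable.map f hf (CfsgLib.PSolvable.subgroup h K))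

theorem slFree_of_abelian (hp2 : p ≠ 2) (hab : ∀ T : Sylow 2 G, IsMulCommutative T) : CfsgLib.Dickson.SLFree p G := by
  intro K f hf
  haveI : Fact (Nat.Prime 2) := ⟨Nat.prime_two⟩
  obtain ⟨a, b, hab1⟩ := ZMod.sq_add_sq p (-1)
  obtain ⟨i, hi0⟩ : ∃ i : Matrix.SpecialLinearGroup (Fin 2) (ZMod p), i.1 = !![0, 1; -1, 0] :=
    ⟨⟨!![0, 1; -1, 0], by simp [Matrix.det_fin_two_of]⟩, rfl⟩
  obtain ⟨j, hj0⟩ : ∃ j : Matrix.SpecialLinearGroup (Fin 2) (ZMod p), j.1 = !![a, b; b, -a] :=
    ⟨⟨!![a, b; b, -a], by rw [Matrix.det_fin_two_of]; linear_combination -hab1⟩, rfl⟩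
  have hneg : ∀ x : Matrix.SpecialLinearGroup (Fin 2) (ZMod p), (x * x).1 = -1 → orderOf x ∣ 2 ^ 2 := fun x hx =>
    orderOf_dvd_of_pow_eq_one (Subtype.ext (by
      show (x ^ (2 ^ 2)).1 = 1
      rw [show x ^ (2 ^ 2) = (x * x) * (x * x) by simp [pow_succ, mul_assoc], Matrix.SpecialLinearGroup.coe_mul, hx, neg_mul_neg, one_mul]))
  have hi : orderOf i ∣ 2 ^ 2 := hneg i (by
    ext r c; fin_cases r <;> fin_cases c <;> simp [hi0, Matrix.SpecialLinearGroup.coe_mul, Matrix.mul_apply, Fin.sum_univ_two])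
  have hj : orderOf j ∣ 2 ^ 2 := hneg j (by
    ext r c; fin_cases r <;> fin_cases c <;> simp [hj0, Matrix.SpecialLinearGroup.coe_mul, Matrix.mul_apply, Fin.sum_univ_two] <;> first | linear_combination hab1 | linear_combination -hab1 | ring)
  have hij : i * j * i⁻¹ = j⁻¹ := by
    ext r c
    fin_cases r <;> fin_cases c <;>
      simp [hi0, hj0, Matrix.SpecialLinearGroup.coe_inv, Matrix.adjugate_fin_two_of, Matrix.SpecialLinearGroup.coe_mul, Matrix.mul_apply, Fin.sum_univ_two]
  have hN : Subgroup.zpowers i ≤ Subgroup.normalizer ((Subgroup.zpowers j : Subgroup _) : Set _) := by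
    rw [Subgroup.zpowers_le]
    refine Subgroup.mem_normalizer_fintype fun w hw => ?_
    obtain ⟨k, rfl⟩ := hw
    show i * j ^ k * i⁻¹ ∈ Subgroup.zpowers j
    rw [← conj_zpow, hij]
    exact zpow_mem (inv_mem (Subgroup.mem_zpowers j)) k
  have hcyc : ∀ x : Matrix.SpecialLinearGroup (Fin 2) (ZMod p), orderOf x ∣ 2 ^ 2 → IsPGroup 2 (Subgroup.zpowers x) :=
    fun x hx => by
      obtain ⟨k, -, hk⟩ := (Nat.dvd_prime_pow Nat.prime_two).mp hx
      exact IsPGroup.of_card (by rw [Nat.card_zpowers, hk])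
  obtain ⟨Q, hQ⟩ := ((hcyc i hi).to_sup_of_normal_right' (hcyc j hj) hN).exists_le_sylow
  obtain ⟨S⟩ : Nonempty (Sylow 2 K) := inferInstance
  obtain ⟨T, hT⟩ := (S.2.map K.subtype).exists_le_sylow
  obtain ⟨g, hg⟩ := MulAction.exists_smul_eq (Matrix.SpecialLinearGroup (Fin 2) (ZMod p)) (S.mapSurjective hf) Q
  have hcomm : ∀ x ∈ (Q : Subgroup (Matrix.SpecialLinearGroup (Fin 2) (ZMod p))), ∀ y ∈ (Q : Subgroup (Matrix.SpecialLinearGroup (Fin 2) (ZMod p))), x * y = y * x := by
    rw [← hg]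
    rintro _ ⟨_, ⟨x, hx, rfl⟩, rfl⟩ _ ⟨_, ⟨y, hy, rfl⟩, rfl⟩
    have hxy : x * y = y * x := Subtype.ext (congrArg (fun z : ↥(T : Subgroup G) => (z : G)) ((hab T).is_comm.comm
      ⟨(x : G), hT (Subgroup.mem_map_of_mem K.subtype hx)⟩ ⟨(y : G), hT (Subgroup.mem_map_of_mem K.subtype hy)⟩))
    show g * f x * g⁻¹ * (g * f y * g⁻¹) = g * f y * g⁻¹ * (g * f x * g⁻¹)
    rw [conj_mul, conj_mul, ← map_mul, ← map_mul, hxy]
  have h1 := hcomm i (hQ (Subgroup.mem_sup_left (Subgroup.mem_zpowers i))) j (hQ (Subgroup.mem_sup_right (Subgroup.mem_zpowers j)))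
  rw [h1, mul_inv_cancel_right] at hij
  have h2 : (j * j).1 = (1 : Matrix (Fin 2) (Fin 2) (ZMod p)) := by
    rw [eq_inv_iff_mul_eq_one] at hij
    rw [hij]; rfl
  have h3 := congrFun (congrFun h2 0) 0
  simp [hj0, Matrix.SpecialLinearGroup.coe_mul, Matrix.mul_apply, Fin.sum_univ_two] at h3
  have h4 : ((2 : ℕ) : ZMod p) = 0 := by push_cast; linear_combination hab1 - h3
  exact hp2 ((Nat.prime_dvd_prime_iff_eq hp.out Nat.prime_two).mp ((ZMod.natCast_eq_zero_iff 2 p).mp h4)).symm.symm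

end CfsgLib.ActionPStable
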