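import Cfsg.Prelude.Def_LocalStructure
import Cfsg.Agent.Lib.LocalBasic

/-! Weakly closed p-subgroups (owner helper5). -/

set_option autoImplicit false

namespace CfsgLib.WC

open CfsgLib.LocalBasic
open scoped commutatorElement

variable {H : Type*} [Group H] [Finite H] {p : ℕ} [Fact p.Prime] {Q : Subgroup H}

theorem map_conj_conj (X : Subgroup H) (a b : H) :
    (X.map (MulAut.conj b).toMonoidHom).map (MulAut.conj a).toMonoidHom = X.map (MulAut.conj (a * b)).toMonoidHom := by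
  rw [Subgroup.map_map]; congr 1; ext y; simp [mul_assoc]

theorem map_conj_one (X : Subgroup H) : X.map (MulAut.conj (1 : H)).toMonoidHom = X :=
  conj_map_eq_of_mem_normalizer (Subgroup.one_mem _)

/-- The only conjugate in a `p`-group containing a weakly closed subgroup is itself. -/
theorem eq_of_le (hwc : Cfsg.IsWeaklyClosedSubgroup p Q) {R : Subgroup H} (hR : IsPGroup p ↥R) (hQR : Q ≤ R) {g : H}
    (hg : Q.map (MulAut.conj g).toMonoidHom ≤ R) : Q.map (MulAut.conj g).toMonoidHom = Q := by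
  obtain ⟨T, hQT, hT⟩ := hwc
  obtain ⟨x, -, hx⟩ := exists_conj_le_sylow T (M := (⊤ : Subgroup H)) le_top hR le_top
  have h1 : Q.map (MulAut.conj x).toMonoidHom = Q := hT x (by rintro _ ⟨q, hq, rfl⟩; exact hx q (hQR hq))
  have h2 : Q.map (MulAut.conj (x * g)).toMonoidHom = Q := hT _ (by
    rw [← map_conj_conj]; rintro _ ⟨q, hq, rfl⟩; exact hx q (hg hq))
  rw [← map_conj_conj] at h2
  exact Subgroup.map_injective (MulEquiv.injective _) (h2.trans h1.symm)

theorem le_normalizer_of_le (hwc : Cfsg.IsWeaklyClosedSubgroup p Q) {R : Subgroup H} (hR : IsPGroup p ↥R)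
    (hQR : Q ≤ R) : R ≤ Subgroup.normalizer (Q : Set H) := fun r hr =>
  mem_normalizer_of_conj_map_eq (eq_of_le hwc hR hQR (by
    rintro _ ⟨q, hq, rfl⟩; exact R.mul_mem (R.mul_mem hr (hQR hq)) (R.inv_mem hr)))

theorem normalizer_le (hwc : Cfsg.IsWeaklyClosedSubgroup p Q) {R : Subgroup H} (hR : IsPGroup p ↥R)
    (hQR : Q ≤ R) : Subgroup.normalizer (R : Set H) ≤ Subgroup.normalizer (Q : Set H) := fun g hg =>
  mem_normalizer_of_conj_map_eq (eq_of_le hwc hR hQR ((Subgroup.map_mono hQR).trans (conj_map_eq_of_mem_normalizer hg).le))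

theorem isPGroup_of (hwc : Cfsg.IsWeaklyClosedSubgroup p Q) : IsPGroup p ↥Q := by
  obtain ⟨T, hQT, -⟩ := hwc
  exact T.2.to_le hQT

/-- Mutually normalizing conjugates of a weakly closed subgroup are equal. -/
theorem eq_of_commutator_le (hwc : Cfsg.IsWeaklyClosedSubgroup p Q) {g : H}
    (h : ⁅Q, Q.map (MulAut.conj g).toMonoidHom⁆ ≤ Q ⊓ Q.map (MulAut.conj g).toMonoidHom) :
    Q.map (MulAut.conj g).toMonoidHom = Q := by
  have hQP : Q ≤ Subgroup.normalizer ((Q.map (MulAut.conj g).toMonoidHom : Subgroup H) : Set H) := by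
    rw [Subgroup.le_normalizer_iff_commutator_le_left, Subgroup.commutator_comm]
    exact h.trans inf_le_right
  exact eq_of_le hwc ((isPGroup_of hwc).to_sup_of_normal_right' ((isPGroup_of hwc).map _) hQP)
    le_sup_left le_sup_right

theorem subgroupOf (hwc : Cfsg.IsWeaklyClosedSubgroup p Q) {K : Subgroup H} (hQK : Q ≤ K) :
    Cfsg.IsWeaklyClosedSubgroup p (Q.subgroupOf K) := by
  obtain ⟨T, hT⟩ := ((isPGroup_of hwc).comap_subtype (H := Q) (K := K)).exists_le_sylow
  refine ⟨T, hT, fun k hk => ?_⟩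
  apply Subgroup.map_injective K.subtype_injective
  have e1 : (Q.subgroupOf K).map K.subtype = Q := by
    rw [Subgroup.subgroupOf_map_subtype, inf_eq_left.mpr hQK]
  have e2 : ((Q.subgroupOf K).map (MulAut.conj k).toMonoidHom).map K.subtype = Q.map (MulAut.conj (k : H)).toMonoidHom := by
    conv_rhs => rw [← e1]
    rw [Subgroup.map_map, Subgroup.map_map]; congr 1
  rw [e2, e1]
  refine eq_of_le hwc (T.2.map K.subtype) ?_ ?_
  · rw [← e1]; exact Subgroup.map_mono hT
  · rw [← e2]; exact Subgroup.map_mono hk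

/-- Conjugates of a weakly closed subgroup inside a subgroup containing it are conjugate there. -/
theorem exists_mem_conj_eq (hwc : Cfsg.IsWeaklyClosedSubgroup p Q) {K : Subgroup H} (hQK : Q ≤ K) {g : H}
    (hg : Q.map (MulAut.conj g).toMonoidHom ≤ K) :
    ∃ k ∈ K, Q.map (MulAut.conj g).toMonoidHom = Q.map (MulAut.conj k).toMonoidHom := by
  obtain ⟨T, hT⟩ := ((isPGroup_of hwc).comap_subtype (H := Q) (K := K)).exists_le_sylow
  obtain ⟨P, hP⟩ := (((isPGroup_of hwc).map (MulAut.conj g).toMonoidHom).comap_subtype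
    (H := Q.map (MulAut.conj g).toMonoidHom) (K := K)).exists_le_sylow
  obtain ⟨k, hk⟩ := MulAction.exists_smul_eq ↥K P T
  refine ⟨(k : H)⁻¹, K.inv_mem k.2, ?_⟩
  have hkT : Q.map (MulAut.conj ((k : H) * g)).toMonoidHom ≤ (T : Subgroup ↥K).map K.subtype := by
    rw [← map_conj_conj]
    rintro _ ⟨y, hy, rfl⟩
    refine ⟨k * ⟨y, hg hy⟩ * k⁻¹, ?_, rfl⟩
    rw [← hk]
    exact ⟨⟨y, hg hy⟩, hP (Subgroup.mem_subgroupOf.mpr hy), rfl⟩
  have hQT : Q ≤ (T : Subgroup ↥K).map K.subtype := fun q hq =>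
    ⟨⟨q, hQK hq⟩, hT (Subgroup.mem_subgroupOf.mpr hq), rfl⟩
  have h := eq_of_le hwc (T.2.map K.subtype) hQT hkT
  conv_rhs => rw [← h]
  rw [map_conj_conj, inv_mul_cancel_left]

theorem exists_sylow_le_normalizer (hwc : Cfsg.IsWeaklyClosedSubgroup p Q) :
    ∃ T : Sylow p H, Q ≤ (T : Subgroup H) ∧ (T : Subgroup H) ≤ Subgroup.normalizer (Q : Set H) := by
  obtain ⟨T, hT⟩ := (isPGroup_of hwc).exists_le_sylow
  exact ⟨T, hT, le_normalizer_of_le hwc T.2 hT⟩

/-- The map of a weakly closed subgroup in a quotient. -/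
theorem map_quotient (hwc : Cfsg.IsWeaklyClosedSubgroup p Q) (N : Subgroup H) [N.Normal] :
    Cfsg.IsWeaklyClosedSubgroup p (Q.map (QuotientGroup.mk' N)) := by
  obtain ⟨T, hQT, hTn⟩ := exists_sylow_le_normalizer hwc
  refine ⟨T.mapSurjective (QuotientGroup.mk'_surjective N), Subgroup.map_mono hQT, fun gq hgq => ?_⟩
  obtain ⟨g, rfl⟩ := QuotientGroup.mk'_surjective N gq
  have e : ∀ a : H, (Q.map (QuotientGroup.mk' N)).map (MulAut.conj (QuotientGroup.mk' N a)).toMonoidHom =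
      (Q.map (MulAut.conj a).toMonoidHom).map (QuotientGroup.mk' N) := fun a => by
    rw [Subgroup.map_map, Subgroup.map_map]; congr 1
  rw [e] at hgq ⊢
  have hle : Q.map (MulAut.conj g).toMonoidHom ≤ (T : Subgroup H) ⊔ N := by
    intro y hy
    obtain ⟨t, ht, he⟩ := hgq ⟨y, hy, rfl⟩
    have hn : t⁻¹ * y ∈ N := QuotientGroup.eq.mp he
    have := Subgroup.mul_mem_sup ht hn
    rwa [mul_inv_cancel_left] at this
  obtain ⟨k, hk, hkeq⟩ := exists_mem_conj_eq hwc (hQT.trans le_sup_left) hle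
  obtain ⟨t, ht, n, hn, rfl⟩ := Subgroup.mem_sup_of_normal_right.mp hk
  rw [hkeq, ← e, map_mul, show QuotientGroup.mk' N n = 1 from (QuotientGroup.eq_one_iff n).mpr hn, mul_one, e, conj_map_eq_of_mem_normalizer (hTn ht)]

end CfsgLib.WC
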