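import Cfsg.Prelude.Def_LocalStructure
import Cfsg.Agent.Lib.WeaklyClosedSub
import Cfsg.Agent.Lib.PCoreOf
import Cfsg.Agent.Lib.CharP

/-! Large subgroups and the centralizer of `O_p` (owner helper5). -/

set_option autoImplicit false
set_option linter.unusedSectionVars false

namespace CfsgLib.Large

open CfsgLib.LocalBasic CfsgLib.WC CfsgLib.PCoreOf
open scoped commutatorElement

variable {G : Type*} [Group G] [Finite G] {p : ℕ} [hp : Fact p.Prime] {Q : Subgroup G}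

theorem inf_centralizer_ne_bot (hQ : IsPGroup p ↥Q) {Y : Subgroup G} (hY : IsPGroup p ↥Y)
    (hn : Q ≤ Subgroup.normalizer (Y : Set G)) (hY1 : Y ≠ ⊥) : Y ⊓ Subgroup.centralizer (Q : Set G) ≠ ⊥ := by
  letI : MulAction ↥Q ↥Y :=
    { smul := fun q y => ⟨(q : G) * y * (q : G)⁻¹, (Subgroup.mem_normalizer_iff.mp (hn q.2) y).mp y.2⟩
      one_smul := fun y => Subtype.ext (show (1 : G) * y * (1 : G)⁻¹ = y by group)
      mul_smul := fun a b y => Subtype.ext
        (show ((a * b : ↥Q) : G) * y * ((a * b : ↥Q) : G)⁻¹ = (a : G) * ((b : G) * y * (b : G)⁻¹) * (a : G)⁻¹ by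
          rw [Subgroup.coe_mul]; group) }
  haveI : Nontrivial ↥Y := (Subgroup.nontrivial_iff_ne_bot Y).mpr hY1
  obtain ⟨k, hk0, hk⟩ := hY.nontrivial_iff_card.mp inferInstance
  have h1 : (1 : ↥Y) ∈ MulAction.fixedPoints ↥Q ↥Y := fun q =>
    Subtype.ext (show (q : G) * ((1 : ↥Y) : G) * (q : G)⁻¹ = ((1 : ↥Y) : G) by simp)
  obtain ⟨z, hz, hz1⟩ := hQ.exists_fixed_point_of_prime_dvd_card_of_fixed_point ↥Y (hk ▸ dvd_pow_self p hk0.ne') h1
  intro hbot
  refine hz1 (Subtype.ext ?_)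
  have hmem : (z : G) ∈ Y ⊓ Subgroup.centralizer (Q : Set G) := ⟨z.2, fun q hq => by
    have h : q * (z : G) * q⁻¹ = z := congrArg Subtype.val (hz ⟨q, hq⟩)
    exact mul_inv_eq_iff_eq_mul.mp h⟩
  rw [hbot, Subgroup.mem_bot] at hmem
  simp [hmem]

theorem commutator_le_inter {A B : Subgroup G} (hA : A ≤ Subgroup.normalizer (B : Set G))
    (hB : B ≤ Subgroup.normalizer (A : Set G)) : ⁅A, B⁆ ≤ A ⊓ B :=
  le_inf (Subgroup.le_normalizer_iff_commutator_le_left.mp hB)
    (Subgroup.le_normalizer_iff_commutator_le_right.mp hA)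

/-- If `Q` pushes `P` into `B`, so does `⁅T, Q⁆`. -/
theorem commutator_mem_of_conj {P B T : Subgroup G} (hQP : Q ≤ Subgroup.normalizer (P : Set G))
    (hTP : T ≤ Subgroup.normalizer (P : Set G)) (hQB : Q ≤ Subgroup.normalizer (B : Set G))
    (hTB : T ≤ Subgroup.normalizer (B : Set G)) (h : ∀ q ∈ Q, ∀ x ∈ P, ⁅q, x⁆ ∈ B) :
    ∀ k ∈ ⁅T, Q⁆, ∀ x ∈ P, ⁅k, x⁆ ∈ B := by
  let S : Subgroup G :=
    { carrier := {g | g ∈ Subgroup.normalizer (P : Set G) ∧ g ∈ Subgroup.normalizer (B : Set G) ∧ ∀ x ∈ P, ⁅g, x⁆ ∈ B}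
      one_mem' := ⟨Subgroup.one_mem _, Subgroup.one_mem _, fun x _ => by rw [commutatorElement_one_left]; exact B.one_mem⟩
      mul_mem' := by
        rintro g k ⟨hg1, hg2, hg⟩ ⟨hk1, hk2, hk⟩
        refine ⟨Subgroup.mul_mem _ hg1 hk1, Subgroup.mul_mem _ hg2 hk2, fun x hx => ?_⟩
        have e : ⁅g * k, x⁆ = g * ⁅k, x⁆ * g⁻¹ * ⁅g, x⁆ := by simp only [commutatorElement_def]; group
        rw [e]
        exact B.mul_mem ((Subgroup.mem_normalizer_iff.mp hg2 _).mp (hk x hx)) (hg x hx)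
      inv_mem' := by
        rintro g ⟨hg1, hg2, hg⟩
        refine ⟨Subgroup.inv_mem _ hg1, Subgroup.inv_mem _ hg2, fun x hx => ?_⟩
        have e : ⁅g⁻¹, x⁆ = g⁻¹ * ⁅g, x⁆⁻¹ * g := by simp only [commutatorElement_def]; group
        rw [e]
        have h2 := (Subgroup.mem_normalizer_iff.mp (Subgroup.inv_mem _ hg2) _).mp (B.inv_mem (hg x hx))
        simpa using h2 }
  suffices hle : ⁅T, Q⁆ ≤ S from fun k hk => (hle hk).2.2
  rw [Subgroup.commutator_le]
  intro t ht q hq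
  rw [commutatorElement_def]
  refine S.mul_mem ⟨Subgroup.mul_mem _ (Subgroup.mul_mem _ (hTP ht) (hQP hq)) (Subgroup.inv_mem _ (hTP ht)),
    Subgroup.mul_mem _ (Subgroup.mul_mem _ (hTB ht) (hQB hq)) (Subgroup.inv_mem _ (hTB ht)), fun x hx => ?_⟩
    (S.inv_mem ⟨hQP hq, hQB hq, h q hq⟩)
  have hx' : t⁻¹ * x * t ∈ P := by
    simpa using (Subgroup.mem_normalizer_iff.mp (Subgroup.inv_mem _ (hTP ht)) x).mp hx
  have e : ⁅t * q * t⁻¹, x⁆ = t * ⁅q, t⁻¹ * x * t⁆ * t⁻¹ := by simp only [commutatorElement_def]; group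
  rw [e]
  exact (Subgroup.mem_normalizer_iff.mp (hTB ht) _).mp (h q hq _ hx')

/-- A `p'`-element pushing a `p`-group into its centralised part centralises it. -/
theorem commute_of_mem {B : Subgroup G} (hB : IsPGroup p ↥B) {k x : G} (hk : (orderOf k).Coprime p)
    (hx : ⁅k, x⁆ ∈ B) (hkB : ∀ b ∈ B, k * b = b * k) : k * x = x * k := by
  obtain ⟨j, hj⟩ := hB ⟨_, hx⟩
  exact commute_of_commutator_fixed (hkB _ hx) (j := j) (by simpa using congrArg Subtype.val hj) hk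

/-- `⁅T, Q⁆` is a `p`-group, inside a group with characteristic `p` radical `P`. -/
theorem isPGroup_commutator (hwc : Cfsg.IsWeaklyClosedSubgroup p Q) {P T : Subgroup G}
    (hP : IsPGroup p ↥P) (hTP : T ≤ Subgroup.normalizer (P : Set G)) (hQP : Q ≤ Subgroup.normalizer (P : Set G))
    (hQT : Q ≤ Subgroup.normalizer (T : Set G))
    (hcent : ∀ c ∈ T, (orderOf c).Coprime p → (∀ x ∈ P, c * x = x * c) → c = 1)
    (hD : ∀ k ∈ ⁅T, Q⁆, (orderOf k).Coprime p → ∀ d ∈ P ⊓ T, k * d = d * k) :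
    IsPGroup p ↥(⁅T, Q⁆ : Subgroup G) := by
  have hKT : ⁅T, Q⁆ ≤ T := Subgroup.le_normalizer_iff_commutator_le_left.mp hQT
  have hTK : T ≤ Subgroup.normalizer ((⁅T, Q⁆ : Subgroup G) : Set G) := Subgroup.normalizer_commutator_ge_left T Q
  have hQp := isPGroup_of hwc
  have hPQ : IsPGroup p ↥(Q ⊔ P) := hQp.to_sup_of_normal_right' hP hQP
  have hPn : P ≤ Subgroup.normalizer (Q : Set G) := le_sup_right.trans (le_normalizer_of_le hwc hPQ le_sup_left)
  have hAQ : ∀ q ∈ Q, ∀ x ∈ P, ⁅q, x⁆ ∈ Q ⊓ P := fun q hq x hx =>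
    commutator_le_inter hQP hPn (Subgroup.commutator_mem_commutator hq hx)
  set B := Subgroup.closure {y : G | ∃ t ∈ Subgroup.normalizer (P : Set G) ⊓ T, ∃ q ∈ Q, ∃ x ∈ P, y = t * ⁅q, x⁆ * t⁻¹} with hB
  have hBP : B ≤ P := (Subgroup.closure_le _).mpr (by
    rintro _ ⟨t, ⟨htP, -⟩, q, hq, x, hx, rfl⟩
    exact (Subgroup.mem_normalizer_iff.mp htP _).mp (hAQ q hq x hx).2)
  have hTB : T ≤ Subgroup.normalizer (B : Set G) := by
    intro s hs
    refine mem_normalizer_of_conj_map_eq (Subgroup.eq_of_le_of_card_ge ?_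
      (Subgroup.card_map_of_injective (MulEquiv.injective _)).ge)
    rw [hB, MonoidHom.map_closure]
    refine Subgroup.closure_mono ?_
    rintro _ ⟨_, ⟨t, ⟨htP, htT⟩, q, hq, x, hx, rfl⟩, rfl⟩
    exact ⟨s * t, ⟨Subgroup.mul_mem _ (hTP hs) htP, T.mul_mem hs htT⟩, q, hq, x, hx, by simp [mul_assoc]⟩
  have hQB : Q ≤ Subgroup.normalizer (B : Set G) := by
    intro s hs
    refine mem_normalizer_of_conj_map_eq (Subgroup.eq_of_le_of_card_ge ?_
      (Subgroup.card_map_of_injective (MulEquiv.injective _)).ge)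
    rw [hB, MonoidHom.map_closure]
    refine Subgroup.closure_mono ?_
    rintro _ ⟨_, ⟨t, ⟨htP, htT⟩, q, hq, x, hx, rfl⟩, rfl⟩
    refine ⟨s * t * s⁻¹, ⟨Subgroup.mul_mem _ (Subgroup.mul_mem _ (hQP hs) htP) (Subgroup.inv_mem _ (hQP hs)),
      (Subgroup.mem_normalizer_iff.mp (hQT hs) t).mp htT⟩, s * q * s⁻¹, Q.mul_mem (Q.mul_mem hs hq) (Q.inv_mem hs),
      s * x * s⁻¹, (Subgroup.mem_normalizer_iff.mp (hQP hs) x).mp hx, ?_⟩
    simp only [MulEquiv.coe_toMonoidHom, MulAut.conj_apply, commutatorElement_def]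
    group
  have hpush := commutator_mem_of_conj (B := B) hQP hTP hQB hTB fun q hq x hx =>
    Subgroup.subset_closure ⟨1, Subgroup.one_mem _, q, hq, x, hx, by group⟩
  refine isPGroup_of_coprime_elements fun k hk => Subtype.ext ?_
  have hkT : (k : G) ∈ T := hKT k.2
  have hA : ∀ k' ∈ ⁅T, Q⁆, (orderOf k').Coprime p → ∀ q ∈ Q, ∀ x ∈ P, k' * ⁅q, x⁆ = ⁅q, x⁆ * k' := by
    intro k' hk' hco q hq x hx
    have hk'T : k' ∈ T := hKT hk'
    have ha := hAQ q hq x hx
    have hd : ⁅k', ⁅q, x⁆⁆ ∈ P ⊓ T := by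
      refine ⟨?_, ?_⟩
      · have := P.mul_mem ((Subgroup.mem_normalizer_iff.mp (hTP hk'T) _).mp ha.2) (P.inv_mem ha.2)
        simpa [commutatorElement_def] using this
      · have := T.mul_mem hk'T ((Subgroup.mem_normalizer_iff.mp (hQT ha.1) _).mp (T.inv_mem hk'T))
        simpa [commutatorElement_def, mul_assoc] using this
    exact commute_of_mem (hP.to_le inf_le_left) hco hd (hD k' hk' hco)
  have hkB : ∀ b ∈ B, (k : G) * b = b * k := by
    intro b hb
    refine (Subgroup.mem_centralizer_singleton_iff.mp ((Subgroup.closure_le _).mpr ?_ hb :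
      b ∈ Subgroup.centralizer ({(k : G)} : Set G))).symm
    rintro _ ⟨t, ⟨-, htT⟩, q, hq, x, hx, rfl⟩
    refine Subgroup.mem_centralizer_singleton_iff.mpr ?_
    have hk' : t⁻¹ * (k : G) * t ∈ ⁅T, Q⁆ := by
      simpa using (Subgroup.mem_normalizer_iff.mp (Subgroup.inv_mem _ (hTK htT)) (k : G)).mp k.2
    have hco : (orderOf (t⁻¹ * (k : G) * t)).Coprime p := by
      have e : t⁻¹ * (k : G) * t = MulAut.conj t⁻¹ (k : G) := by simp
      rw [e, MulEquiv.orderOf_eq]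
      rwa [Subgroup.orderOf_coe]
    have h1 := hA _ hk' hco q hq x hx
    calc t * ⁅q, x⁆ * t⁻¹ * (k : G) = t * (⁅q, x⁆ * (t⁻¹ * (k : G) * t)) * t⁻¹ := by group
      _ = t * (t⁻¹ * (k : G) * t * ⁅q, x⁆) * t⁻¹ := by rw [h1]
      _ = (k : G) * (t * ⁅q, x⁆ * t⁻¹) := by group
  refine hcent _ hkT (by rwa [Subgroup.orderOf_coe]) fun x hx => ?_
  exact commute_of_mem (hP.to_le hBP) (by rwa [Subgroup.orderOf_coe]) (hpush k k.2 x hx) hkB

/-- A subgroup normalized by `Q` with `p`-group commutator with `Q` is a `p`-group. -/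
theorem isPGroup_of_commutator (hwc : Cfsg.IsWeaklyClosedSubgroup p Q)
    (hCQ : Subgroup.centralizer (Q : Set G) ≤ Q) {T : Subgroup G} (hQT : Q ≤ Subgroup.normalizer (T : Set G))
    (hK : IsPGroup p ↥(⁅T, Q⁆ : Subgroup G))
    (hz : ∀ c ∈ T, (orderOf c).Coprime p → ∀ z ∈ Q ⊓ ⁅T, Q⁆, c * z = z * c) : IsPGroup p ↥T := by
  refine isPGroup_of_coprime_elements fun c hc => Subtype.ext ?_
  have hQK : Q ≤ Subgroup.normalizer ((⁅T, Q⁆ : Subgroup G) : Set G) := Subgroup.normalizer_commutator_ge_right T Q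
  have hR : IsPGroup p ↥(Q ⊔ ⁅T, Q⁆) := (isPGroup_of hwc).to_sup_of_normal_right' hK hQK
  have hcR : (c : G) ∈ Subgroup.normalizer ((Q ⊔ ⁅T, Q⁆ : Subgroup G) : Set G) := by
    refine mem_normalizer_of_conj_map_eq (Subgroup.eq_of_le_of_card_ge ?_
      (Subgroup.card_map_of_injective (MulEquiv.injective _)).ge)
    rw [Subgroup.map_sup, conj_map_eq_of_mem_normalizer (Subgroup.normalizer_commutator_ge_left T Q c.2)]
    refine sup_le ?_ le_sup_right
    rintro _ ⟨q, hq, rfl⟩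
    have e : (MulAut.conj (c : G)).toMonoidHom q = ⁅(c : G), q⁆ * q := by simp [commutatorElement_def]
    rw [e]
    exact Subgroup.mul_mem _ (Subgroup.mem_sup_right (Subgroup.commutator_mem_commutator c.2 hq)) (Subgroup.mem_sup_left hq)
  have hcN := normalizer_le hwc hR le_sup_left hcR
  have hcC : (c : G) ∈ Subgroup.centralizer (Q : Set G) := by
    intro q hq
    have h1 : ⁅(c : G), q⁆ ∈ Q ⊓ ⁅T, Q⁆ := by
      refine ⟨?_, Subgroup.commutator_mem_commutator c.2 hq⟩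
      have := Q.mul_mem ((Subgroup.mem_normalizer_iff.mp hcN q).mp hq) (Q.inv_mem hq)
      simpa [commutatorElement_def] using this
    exact (commute_of_mem (hK.to_le inf_le_right) (by rwa [Subgroup.orderOf_coe]) h1
      (hz _ c.2 (by rwa [Subgroup.orderOf_coe]))).symm
  exact CfsgLib.ThompsonNPC.eq_one_of_coprime_of_mem (isPGroup_of hwc) (hCQ hcC) (by rwa [Subgroup.orderOf_coe])

/-- `C(O_p(L))` is a `p`-group and `C_L(O_p(L)) ≤ O_p(L)`. -/
theorem centralizer_pcore_spec (hwc : Cfsg.IsWeaklyClosedSubgroup p Q) (hCQ : Subgroup.centralizer (Q : Set G) ≤ Q)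
    {L X : Subgroup G} (hQL : Q ≤ L) (hQX : Q ≤ X)
    (hCX : Subgroup.centralizer ((Cfsg.pCoreOf p L : Subgroup G) : Set G) ≤ X)
    (hX : ∀ c ∈ X, (orderOf c).Coprime p → (∀ x ∈ Cfsg.pCoreOf p X, c * x = x * c) → c = 1) :
    ⁅Q, Subgroup.centralizer ((Cfsg.pCoreOf p L : Subgroup G) : Set G)⁆ ≤ Q ⊓ Cfsg.pCoreOf p L ∧
      IsPGroup p ↥(Subgroup.centralizer ((Cfsg.pCoreOf p L : Subgroup G) : Set G)) ∧
      Subgroup.centralizer (Cfsg.pCore p ↥L : Set ↥L) ≤ Cfsg.pCore p ↥L := by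
  set O := Cfsg.pCoreOf p L with hO
  set C := Subgroup.centralizer (O : Set G) with hC
  have hLC : L ≤ Subgroup.normalizer (C : Set G) := normalizer_centralizer_ge (le_normalizer_pcoreOf L)
  set T := L ⊓ C with hT
  have hLT : L ≤ Subgroup.normalizer (T : Set G) := normalizer_inf_ge Subgroup.le_normalizer hLC
  have hXP : X ≤ Subgroup.normalizer ((Cfsg.pCoreOf p X : Subgroup G) : Set G) := le_normalizer_pcoreOf X
  have hPp := isPGroup_pcoreOf (p := p) X
  have hTp : IsPGroup p ↥T := by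
    have hO' : ∀ N : Subgroup G, N ≤ T → T ≤ Subgroup.normalizer (N : Set G) → IsPGroup p ↥N →
        ∀ c ∈ T, ∀ z ∈ N, c * z = z * c := by
      intro N hN hTN hNp c hc z hz
      have h1 : z ∈ O := by
        have hle : Cfsg.pCoreOf p T ≤ O := le_pcoreOf ((pcoreOf_le T).trans inf_le_left)
          (hLT.trans (normalizer_le_pcoreOf T)) (isPGroup_pcoreOf T)
        exact hle (le_pcoreOf hN hTN hNp hz)
      exact ((Subgroup.mem_inf.mp hc).2 z h1).symm
    have hK : IsPGroup p ↥(⁅T, Q⁆ : Subgroup G) :=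
      isPGroup_commutator hwc hPp ((inf_le_right.trans hCX).trans hXP) (hQX.trans hXP) (hQL.trans hLT)
        (fun c hc => hX c (hCX hc.2))
        (fun k hk _ d hd => hO' (Cfsg.pCoreOf p X ⊓ T) inf_le_right
          (normalizer_inf_ge ((inf_le_right.trans hCX).trans hXP) Subgroup.le_normalizer) (hPp.to_le inf_le_left) k
          (Subgroup.le_normalizer_iff_commutator_le_left.mp (hQL.trans hLT) hk) d hd)
    exact isPGroup_of_commutator hwc hCQ (hQL.trans hLT) hK fun c hc _ z hz =>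
      hO' _ (Subgroup.le_normalizer_iff_commutator_le_left.mp (hQL.trans hLT)) (Subgroup.normalizer_commutator_ge_left T Q)
        hK c hc z hz.2
  have hTO : T ≤ O := le_pcoreOf inf_le_left hLT hTp
  have hQC : Q ≤ Subgroup.normalizer (C : Set G) := hQL.trans hLC
  have hz0 : ∀ c ∈ C, ∀ z ∈ Q ⊓ C, c * z = z * c := fun c hc z hz =>
    ((hc z (hTO ⟨hQL hz.1, hz.2⟩))).symm
  have hCK : IsPGroup p ↥(⁅C, Q⁆ : Subgroup G) := by
    refine isPGroup_commutator hwc hPp (hCX.trans hXP) (hQX.trans hXP) hQC (fun c hc => hX c (hCX hc)) ?_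
    intro k hk hco d hd
    have hDn : C ≤ Subgroup.normalizer ((Cfsg.pCoreOf p X ⊓ C : Subgroup G) : Set G) :=
      normalizer_inf_ge (hCX.trans hXP) Subgroup.le_normalizer
    have hQDn : Q ≤ Subgroup.normalizer ((Cfsg.pCoreOf p X ⊓ C : Subgroup G) : Set G) :=
      normalizer_inf_ge (hQX.trans hXP) hQC
    have hDQ : Cfsg.pCoreOf p X ⊓ C ≤ Subgroup.normalizer (Q : Set G) :=
      le_sup_right.trans (le_normalizer_of_le hwc
        ((isPGroup_of hwc).to_sup_of_normal_right' (hPp.to_le inf_le_left) hQDn) le_sup_left)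
    have hmem := commutator_mem_of_conj (P := Cfsg.pCoreOf p X ⊓ C) (B := Q ⊓ C) (T := C) hQDn hDn
      (normalizer_inf_ge Subgroup.le_normalizer hQC) (fun c hc => mem_normalizer_of_conj_map_eq (by
        refine Subgroup.eq_of_le_of_card_ge ?_ (Subgroup.card_map_of_injective (MulEquiv.injective _)).ge
        rintro _ ⟨z, hz, rfl⟩
        have : c * z * c⁻¹ = z := by rw [hz0 c hc z hz, mul_inv_cancel_right]
        simpa [this] using hz))
      (fun q hq x hx => by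
        have := commutator_le_inter hQDn hDQ (Subgroup.commutator_mem_commutator hq hx)
        exact ⟨this.1, this.2.2⟩) k hk d hd
    exact commute_of_mem ((isPGroup_of hwc).to_le inf_le_left) hco hmem
      (hz0 k (Subgroup.le_normalizer_iff_commutator_le_left.mp hQC hk))
  have hCp : IsPGroup p ↥C := isPGroup_of_commutator hwc hCQ hQC hCK fun c hc _ z hz =>
    hz0 c hc z ⟨hz.1, Subgroup.le_normalizer_iff_commutator_le_left.mp hQC hz.2⟩
  refine ⟨?_, hCp, ?_⟩
  · have hCN : C ≤ Subgroup.normalizer (Q : Set G) := le_sup_right.trans (le_normalizer_of_le hwc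
      ((isPGroup_of hwc).to_sup_of_normal_right' hCp hQC) le_sup_left)
    intro x hx
    have := commutator_le_inter hQC hCN hx
    exact ⟨this.1, hTO ⟨hQL this.1, this.2⟩⟩
  · intro x hx
    have h1 : (x : G) ∈ T := ⟨x.2, by
      rintro _ ⟨y, hy, rfl⟩
      exact congrArg Subtype.val (hx y hy)⟩
    have h2 := hTO h1
    rwa [← pcoreOf_subgroupOf, Subgroup.mem_subgroupOf]

/-- A large `p`-subgroup is weakly closed. -/
theorem isWeaklyClosed_of_large (hQp : IsPGroup p ↥Q) (hQ1 : Q ≠ ⊥) (hL : Cfsg.IsLarge Q) :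
    Cfsg.IsWeaklyClosedSubgroup p Q := by
  have hR : ∀ R : Subgroup G, IsPGroup p ↥R → Q ≤ R → Subgroup.normalizer (R : Set G) ≤ Subgroup.normalizer (Q : Set G) := by
    intro R hR hQR
    refine le_trans ?_ (hL.2 (R ⊓ Subgroup.centralizer (R : Set G)) (inf_le_right.trans (Subgroup.centralizer_le hQR))
      (inf_centralizer_ne_bot hR hR Subgroup.le_normalizer (ne_bot_of_le_ne_bot hQ1 hQR)))
    exact normalizer_inf_ge le_rfl (normalizer_centralizer_ge le_rfl)
  obtain ⟨T, hQT⟩ := hQp.exists_le_sylow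
  refine ⟨T, hQT, fun g hg => ?_⟩
  have hT : (T : Subgroup G) ≤ Subgroup.normalizer (Q : Set G) := Subgroup.le_normalizer.trans (hR T T.2 hQT)
  have hS : ((g⁻¹ • T : Sylow p G) : Subgroup G) ≤ Subgroup.normalizer (Q : Set G) := by
    refine Subgroup.le_normalizer.trans (hR _ (g⁻¹ • T : Sylow p G).2 fun q hq => ?_)
    rw [Sylow.coe_subgroup_smul, Subgroup.mem_pointwise_smul_iff_inv_smul_mem, MulAut.smul_def]
    simpa [mul_assoc] using hg ⟨q, hq, rfl⟩
  obtain ⟨n, hn⟩ := MulAction.exists_smul_eq ↥(Subgroup.normalizer (Q : Set G)) ((g⁻¹ • T).subtype hS) (T.subtype hT)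
  rw [Sylow.smul_subtype] at hn
  have h1 : (n : G) • g⁻¹ • T = T := Sylow.subtype_injective hn
  rw [smul_smul, Sylow.smul_eq_iff_mem_normalizer] at h1
  have h2 := Subgroup.mul_mem _ (Subgroup.inv_mem _ n.2) (hR T T.2 hQT h1)
  rw [inv_mul_cancel_left] at h2
  exact conj_map_eq_of_mem_normalizer (by simpa using Subgroup.inv_mem _ h2)

theorem centralizer_le_normalizer (hL : Cfsg.IsLarge Q) {y : G} (hy1 : y ≠ 1)
    (hy : y ∈ Subgroup.centralizer (Q : Set G)) :
    Subgroup.centralizer ({y} : Set G) ≤ Subgroup.normalizer (Q : Set G) := by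
  refine le_trans ?_ (hL.2 (Subgroup.zpowers y) (Subgroup.zpowers_le.mpr hy) (by simpa using hy1))
  intro c hc
  refine mem_normalizer_of_conj_map_eq ?_
  rw [MonoidHom.map_zpowers]
  congr 1
  show c * y * c⁻¹ = y
  rw [Subgroup.mem_centralizer_singleton_iff.mp hc, mul_inv_cancel_right]

/-- The conclusion of `centralizer_pcore_spec` for a large subgroup. -/
theorem large_spec (hQp : IsPGroup p ↥Q) (hQ1 : Q ≠ ⊥) (hLg : Cfsg.IsLarge Q) {L : Subgroup G} (hQL : Q ≤ L)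
    (hO : Cfsg.pCoreOf p L ≠ ⊥) :
    IsPGroup p ↥(Subgroup.centralizer ((Cfsg.pCoreOf p L : Subgroup G) : Set G)) ∧
      Subgroup.centralizer (Cfsg.pCore p ↥L : Set ↥L) ≤ Cfsg.pCore p ↥L := by
  obtain ⟨y, hy, hy1⟩ := (Subgroup.ne_bot_iff_exists_ne_one.mp
    (inf_centralizer_ne_bot hQp (isPGroup_pcoreOf L) (hQL.trans (le_normalizer_pcoreOf L)) hO)).imp
      fun y (hy : y ≠ 1) => And.intro y.2 (fun h => hy (Subtype.ext h))
  set X := Subgroup.centralizer ({(y : G)} : Set G) with hX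
  have hQX : Q ≤ X := fun q hq => Subgroup.mem_centralizer_singleton_iff.mpr (hy.2 q hq)
  have hQP : Q ≤ Cfsg.pCoreOf p X := le_pcoreOf hQX (centralizer_le_normalizer hLg hy1 hy.2) hQp
  refine (centralizer_pcore_spec (isWeaklyClosed_of_large hQp hQ1 hLg) hLg.1 hQL hQX ?_ fun c _ hco hc => ?_).2
  · exact fun c hc => Subgroup.mem_centralizer_singleton_iff.mpr (hc _ hy.1).symm
  · exact CfsgLib.ThompsonNPC.eq_one_of_coprime_of_mem hQp (hLg.1 fun q hq => (hc q (hQP hq)).symm) hco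

end CfsgLib.Large
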