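import Mathlib.GroupTheory.Commutator.Basic
import Mathlib.GroupTheory.Index
import Mathlib.GroupTheory.GroupAction.Quotient
import Mathlib.GroupTheory.Subgroup.Centralizer
import Mathlib.Algebra.BigOperators.GroupWithZero.Finset
import Cfsg.Prelude.Def_Transfer
import Cfsg.Agent.Lib.LocalBasic
import Cfsg.Agent.Lib.Large

/-! The averaging homomorphism over cosets of a subgroup of index prime to p (owner helper5). -/

set_option autoImplicit false
set_option linter.unusedSectionVars false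

namespace CfsgLib.AvgHom

open scoped commutatorElement IsMulCommutative

variable {G : Type*} [Group G] [Finite G] {p : ℕ} [hp : Fact p.Prime]

theorem exists_avg {M R T₀ : Subgroup G} (hTR : T₀ ≤ R) (hind : (T₀.relIndex R).Coprime p)
    (hM : Cfsg.IsElementaryAbelian p M) (hRM : R ≤ Subgroup.normalizer (M : Set G)) :
    ∃ ν : G → G,
      (∀ z ∈ M ⊓ Subgroup.centralizer (T₀ : Set G), ν z ∈ M ⊓ Subgroup.centralizer (R : Set G) ∧ z⁻¹ * ν z ∈ ⁅M, R⁆) ∧
      (∀ z ∈ M ⊓ Subgroup.centralizer (T₀ : Set G), ∀ w ∈ M ⊓ Subgroup.centralizer (T₀ : Set G), ν (z * w) = ν z * ν w) ∧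
      (∀ z ∈ M ⊓ Subgroup.centralizer (R : Set G), ν z = z) ∧
      (∀ t, t ∈ Subgroup.normalizer (R : Set G) → t ∈ Subgroup.normalizer (T₀ : Set G) →
        t ∈ Subgroup.normalizer (M : Set G) → ∀ z ∈ M ⊓ Subgroup.centralizer (T₀ : Set G), ν (t * z * t⁻¹) = t * ν z * t⁻¹) := by
  classical
  haveI hMc : IsMulCommutative ↥M := hM.1
  set U := T₀.subgroupOf R with hU
  haveI := Fintype.ofFinite (↥R ⧸ U)
  have hconj : ∀ r : ↥R, ∀ z ∈ M, (r : G) * z * (r : G)⁻¹ ∈ M := fun r z hz =>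
    (Subgroup.mem_normalizer_iff.mp (hRM r.2) z).mp hz
  let φ : (↥R ⧸ U) → ↥M → ↥M := fun q z => ⟨(q.out : G) * z * (q.out : G)⁻¹, hconj q.out z z.2⟩
  have hφ : ∀ z : ↥M, (z : G) ∈ Subgroup.centralizer (T₀ : Set G) → ∀ r : ↥R,
      (φ (QuotientGroup.mk r) z : G) = (r : G) * z * (r : G)⁻¹ := by
    intro z hz r
    set r' := (QuotientGroup.mk r : ↥R ⧸ U).out with hr'
    have h1 : (QuotientGroup.mk r' : ↥R ⧸ U) = QuotientGroup.mk r := Quotient.out_eq' _
    rw [QuotientGroup.eq, hU, Subgroup.mem_subgroupOf] at h1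
    have h2 := hz _ h1
    simp only [Subgroup.coe_mul, Subgroup.coe_inv] at h2
    show (r' : G) * z * (r' : G)⁻¹ = _
    calc (r' : G) * z * (r' : G)⁻¹ = (r' : G) * (z * ((r' : G)⁻¹ * (r : G))) * (r : G)⁻¹ := by group
      _ = (r' : G) * ((r' : G)⁻¹ * (r : G) * z) * (r : G)⁻¹ := by rw [h2]
      _ = (r : G) * z * (r : G)⁻¹ := by group
  set n := Fintype.card (↥R ⧸ U) with hn
  have hncop : n.Coprime p := by
    rw [hn, ← Nat.card_eq_fintype_card]; exact hind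
  obtain ⟨m, -, hm⟩ := Nat.exists_mul_mod_eq_one_of_coprime hncop hp.out.one_lt
  have hpow : ∀ z : ↥M, z ^ (n * m) = z := by
    intro z
    have hz : z ^ p = 1 := Subtype.ext (by simpa using hM.2 z z.2)
    rw [← Nat.div_add_mod (n * m) p, hm, pow_add, pow_mul, hz, one_pow, pow_one, one_mul]
  let P : ↥M → ↥M := fun z => (∏ q : ↥R ⧸ U, φ q z) ^ m
  refine ⟨fun z => if h : z ∈ M then (P ⟨z, h⟩ : G) else 1, ?_, ?_, ?_, ?_⟩
  · intro z hz'
    have hz : z ∈ M ∧ z ∈ Subgroup.centralizer (_ : Set G) := Subgroup.mem_inf.mp hz'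
    beta_reduce
    rw [dif_pos hz.1]
    refine ⟨Subgroup.mem_inf.mpr ⟨SetLike.coe_mem _, fun l hl => ?_⟩, ?_⟩
    · let c : ↥M →* ↥M :=
        { toFun := fun u => ⟨l * u * l⁻¹, hconj ⟨l, hl⟩ u u.2⟩
          map_one' := by simp
          map_mul' := fun u v => Subtype.ext (by simp [mul_assoc]) }
      have h1 : c (P ⟨z, hz.1⟩) = P ⟨z, hz.1⟩ := by
        show c ((∏ q, φ q ⟨z, hz.1⟩) ^ m) = _
        rw [map_pow, map_prod]
        congr 1
        conv_rhs => rw [← Equiv.prod_comp (MulAction.toPerm (⟨l, hl⟩ : ↥R)) fun q => φ q ⟨z, hz.1⟩]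
        refine Finset.prod_congr rfl fun q _ => ?_
        induction q using QuotientGroup.induction_on with
        | H a =>
          apply Subtype.ext
          show l * (φ (QuotientGroup.mk a) ⟨z, hz.1⟩ : G) * l⁻¹ =
            (φ ((⟨l, hl⟩ : ↥R) • (QuotientGroup.mk a : ↥R ⧸ U)) ⟨z, hz.1⟩ : G)
          rw [MulAction.Quotient.smul_mk, hφ _ hz.2, hφ _ hz.2]
          simp [mul_assoc]
      exact mul_inv_eq_iff_eq_mul.mp (congrArg Subtype.val h1)
    · have h2 : ((⟨z, hz.1⟩ : ↥M) ^ n)⁻¹ * (∏ q, φ q ⟨z, hz.1⟩) ∈ (⁅M, R⁆).subgroupOf M := by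
        rw [hn, ← Finset.card_univ, ← Finset.prod_const, ← Finset.prod_inv_distrib, ← Finset.prod_mul_distrib]
        refine Subgroup.prod_mem _ fun q _ => ?_
        rw [Subgroup.mem_subgroupOf]
        show z⁻¹ * ((q.out : G) * z * (q.out : G)⁻¹) ∈ ⁅M, R⁆
        have h := Subgroup.commutator_mem_commutator (M.inv_mem hz.1) q.out.2
        rw [commutatorElement_def, inv_inv] at h
        simpa [mul_assoc] using h
      have h3 := Subgroup.pow_mem _ h2 m
      rw [mul_pow, inv_pow, ← pow_mul, hpow, Subgroup.mem_subgroupOf] at h3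
      exact h3
  · intro z hz' w hw'
    have hz := Subgroup.mem_inf.mp hz'
    have hw := Subgroup.mem_inf.mp hw'
    beta_reduce
    rw [dif_pos hz.1, dif_pos hw.1, dif_pos (M.mul_mem hz.1 hw.1)]
    rw [← Subgroup.coe_mul]
    congr 1
    show (∏ q, φ q _) ^ m = (∏ q, φ q _) ^ m * (∏ q, φ q _) ^ m
    rw [← mul_pow, ← Finset.prod_mul_distrib]
    congr 1
    refine Finset.prod_congr rfl fun q _ => Subtype.ext ?_
    simp [φ, mul_assoc]
  · intro z hz'
    have hz : z ∈ M ∧ z ∈ Subgroup.centralizer (_ : Set G) := Subgroup.mem_inf.mp hz'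
    beta_reduce
    rw [dif_pos hz.1]
    show (((∏ q, φ q ⟨z, hz.1⟩) ^ m : ↥M) : G) = z
    rw [Finset.prod_congr rfl (g := fun _ => (⟨z, hz.1⟩ : ↥M)) fun q _ => Subtype.ext (by
      show (q.out : G) * z * (q.out : G)⁻¹ = z
      rw [hz.2 _ q.out.2, mul_inv_cancel_right]), Finset.prod_const, Finset.card_univ, ← hn, ← pow_mul, hpow]
  · intro t htR htT htM z hz'
    have hz := Subgroup.mem_inf.mp hz'
    have htz : t * z * t⁻¹ ∈ M := (Subgroup.mem_normalizer_iff.mp htM z).mp hz.1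
    have htzT : t * z * t⁻¹ ∈ Subgroup.centralizer (T₀ : Set G) :=
      (Subgroup.mem_normalizer_iff.mp (CfsgLib.LocalBasic.normalizer_centralizer_ge le_rfl htT) z).mp hz.2
    beta_reduce
    rw [dif_pos hz.1, dif_pos htz]
    let σ : ↥M →* ↥M :=
      { toFun := fun u => ⟨t * u * t⁻¹, (Subgroup.mem_normalizer_iff.mp htM u).mp u.2⟩
        map_one' := by simp
        map_mul' := fun u v => Subtype.ext (by simp [mul_assoc]) }
    let τ : ↥R → ↥R := fun r => ⟨t * r * t⁻¹, (Subgroup.mem_normalizer_iff.mp htR r).mp r.2⟩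
    have hτ : ∀ a b : ↥R, (QuotientGroup.mk (τ a) : ↥R ⧸ U) = QuotientGroup.mk (τ b) ↔
        (QuotientGroup.mk a : ↥R ⧸ U) = QuotientGroup.mk b := by
      intro a b
      rw [QuotientGroup.eq, QuotientGroup.eq, hU, Subgroup.mem_subgroupOf, Subgroup.mem_subgroupOf]
      simp only [τ, Subgroup.coe_mul, Subgroup.coe_inv]
      rw [show (t * (a : G) * t⁻¹)⁻¹ * (t * (b : G) * t⁻¹) = t * ((a : G)⁻¹ * (b : G)) * t⁻¹ by group]
      exact (Subgroup.mem_normalizer_iff.mp htT _).symm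
    let τq : ↥R ⧸ U → ↥R ⧸ U := fun q => QuotientGroup.mk (τ q.out)
    have hτq : Function.Bijective τq := by
      refine Finite.injective_iff_bijective.mp fun q q' h => ?_
      have := (hτ _ _).mp h
      rwa [QuotientGroup.out_eq', QuotientGroup.out_eq'] at this
    show ((P ⟨t * z * t⁻¹, htz⟩ : ↥M) : G) = ((σ (P ⟨z, hz.1⟩) : ↥M) : G)
    congr 1
    show (∏ q, φ q ⟨t * z * t⁻¹, htz⟩) ^ m = σ ((∏ q, φ q ⟨z, hz.1⟩) ^ m)
    rw [map_pow, map_prod]
    congr 1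
    rw [← Equiv.prod_comp (Equiv.ofBijective τq hτq) fun q => φ q ⟨t * z * t⁻¹, htz⟩]
    refine Finset.prod_congr rfl fun q _ => ?_
    apply Subtype.ext
    show (φ (QuotientGroup.mk (τ q.out)) ⟨t * z * t⁻¹, htz⟩ : G) = t * ((q.out : G) * z * (q.out : G)⁻¹) * t⁻¹
    rw [hφ _ htzT]
    simp [τ, mul_assoc]

/-- Fixed points of a Sylow subgroup lift: if `T` fixes only elements centralised by `R`, so does `T₀`. -/
theorem fixed_le {M R T₀ T : Subgroup G} (hTR : T₀ ≤ R) (hind : (T₀.relIndex R).Coprime p)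
    (hM : Cfsg.IsElementaryAbelian p M) (hRM : R ≤ Subgroup.normalizer (M : Set G))
    (hT : IsPGroup p ↥T) (hTnR : T ≤ Subgroup.normalizer (R : Set G)) (hTnT : T ≤ Subgroup.normalizer (T₀ : Set G))
    (hTnM : T ≤ Subgroup.normalizer (M : Set G))
    (h : ∀ z ∈ M ⊓ Subgroup.centralizer (T₀ : Set G), z⁻¹ ∈ ⁅M, R⁆ → z ∈ Subgroup.centralizer (T : Set G) →
      z ∈ Subgroup.centralizer (R : Set G)) :
    M ⊓ Subgroup.centralizer (T₀ : Set G) ≤ Subgroup.centralizer (R : Set G) := by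
  obtain ⟨ν, h1, h2, h3, h4⟩ := exists_avg hTR hind hM hRM
  set C := M ⊓ Subgroup.centralizer (T₀ : Set G) with hC
  have hRC : M ⊓ Subgroup.centralizer (R : Set G) ≤ C := inf_le_inf_left M (Subgroup.centralizer_le hTR)
  have hν1 : ν 1 = 1 := h3 1 (Subgroup.one_mem _)
  let K : Subgroup G :=
    { carrier := {z | z ∈ C ∧ ν z = 1}
      one_mem' := ⟨C.one_mem, hν1⟩
      mul_mem' := fun {a b} ha hb => ⟨C.mul_mem ha.1 hb.1, by rw [h2 a ha.1 b hb.1, ha.2, hb.2, one_mul]⟩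
      inv_mem' := fun {a} ha => ⟨C.inv_mem ha.1, by
        have := h2 a⁻¹ (C.inv_mem ha.1) a ha.1
        rw [inv_mul_cancel, hν1, ha.2, mul_one] at this
        exact this.symm⟩ }
  have hKp : IsPGroup p ↥K := fun x => ⟨1, Subtype.ext (by simpa using hM.2 x x.2.1.1)⟩
  have hTK : T ≤ Subgroup.normalizer (K : Set G) := by
    intro t ht
    refine CfsgLib.LocalBasic.mem_normalizer_of_conj_map_eq (Subgroup.eq_of_le_of_card_ge ?_
      (Subgroup.card_map_of_injective (MulEquiv.injective _)).ge)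
    rintro _ ⟨z, ⟨hzC, hz1⟩, rfl⟩
    refine ⟨?_, ?_⟩
    · exact (Subgroup.mem_normalizer_iff.mp (CfsgLib.LocalBasic.normalizer_inf_ge hTnM
        (CfsgLib.LocalBasic.normalizer_centralizer_ge hTnT) ht) z).mp hzC
    · show ν (t * z * t⁻¹) = 1
      rw [h4 t (hTnR ht) (hTnT ht) (hTnM ht) z hzC, hz1, mul_one, mul_inv_cancel]
  have hK : K = ⊥ := by
    by_contra hK
    obtain ⟨⟨z, hz⟩, hz1⟩ := Subgroup.ne_bot_iff_exists_ne_one.mp (CfsgLib.Large.inf_centralizer_ne_bot hT hKp hTK hK)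
    obtain ⟨⟨hzC, hzν⟩, hzT⟩ := Subgroup.mem_inf.mp hz
    refine hz1 (Subtype.ext ?_)
    have hzW := (h1 z hzC).2
    rw [hzν, mul_one] at hzW
    show z = 1
    rw [← hzν, h3 z (Subgroup.mem_inf.mpr ⟨hzC.1, h z hzC hzW hzT⟩)]
  intro z hz
  have hn := (h1 z hz).1
  have hd : z * (ν z)⁻¹ ∈ C := C.mul_mem hz (C.inv_mem (hRC hn))
  have hk : z * (ν z)⁻¹ ∈ K := ⟨hd, by
    have h5 := h2 _ hd (ν z) (hRC hn)
    rw [inv_mul_cancel_right, h3 _ hn] at h5
    exact mul_eq_right.mp h5.symm⟩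
  rw [hK, Subgroup.mem_bot, mul_inv_eq_one] at hk
  rw [hk]; exact hn.2

end CfsgLib.AvgHom
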