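import Cfsg.Agent.Lib.PReduced2

/-! Existence of subgroups with the basic property (owner helper5). -/

set_option autoImplicit false
set_option linter.unusedSectionVars false

namespace CfsgLib.BasicProperty

open CfsgLib.LocalBasic CfsgLib.PReduced CfsgLib.PReduced2 CfsgLib.PCoreOf

variable {H : Type*} [Group H] [Finite H] {p : ℕ} [hp : Fact p.Prime]

/-- `Y_L` -/
local notation "Y[" L "]" => Cfsg.largestPReducedOf p L
/-- centralizer of a subgroup -/
local notation "C[" X "]" => Subgroup.centralizer ((X : Subgroup H) : Set H)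
/-- normalizer of a subgroup -/
local notation "N[" X "]" => Subgroup.normalizer ((X : Subgroup H) : Set H)

theorem charP_of_mem {X : Subgroup H} (hX : X ∈ Cfsg.charPSubgroups p H) :
    Subgroup.centralizer (Cfsg.pCore p ↥X : Set ↥X) ≤ Cfsg.pCore p ↥X := by
  intro x hx
  have h : (x : H) ∈ Subgroup.centralizer (((Cfsg.pCore p ↥X).map X.subtype : Subgroup H) : Set H) := by
    rintro _ ⟨y, hy, rfl⟩
    exact congrArg Subtype.val (hx y hy)
  obtain ⟨y, hy, hyx⟩ := hX.2 h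
  rwa [← X.subtype_injective hyx]

/-- An overgroup of a Sylow subgroup normalising a nontrivial `p`-subgroup lies in `𝓛`. -/
theorem mem_charP (hH : Cfsg.IsOfParabolicCharacteristic p H) (T : Sylow p H) {X R : Subgroup H}
    (hTX : (T : Subgroup H) ≤ X) (hR : IsPGroup p ↥R) (hR1 : R ≠ ⊥) (hRX : R ≤ X) (hXR : X ≤ N[R]) :
    X ∈ Cfsg.charPSubgroups p H := by
  have hRO : R ≤ Cfsg.pCoreOf p X := le_pcoreOf hRX hXR hR
  set O := Cfsg.pCoreOf p X with hO
  have hO1 : O ≠ ⊥ := fun h => hR1 (le_bot_iff.mp (h ▸ hRO))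
  refine ⟨fun h => hO1 (by rw [hO, Cfsg.pCoreOf, h, Subgroup.map_bot]), ?_⟩
  show C[O] ≤ O
  have hXN : X ≤ N[O] := le_normalizer_pcoreOf X
  have hchar := hH O (isPGroup_pcoreOf X) hO1 ⟨T, hTX.trans hXN⟩
  have hT : Cfsg.pCoreOf p N[O] ≤ X := (pcoreOf_le_sylow T (hTX.trans hXN)).trans hTX
  have hle : Cfsg.pCoreOf p N[O] ≤ O :=
    le_pcoreOf hT (hXN.trans (le_normalizer_pcoreOf _)) (isPGroup_pcoreOf _)
  intro c hc
  exact hle (mem_pcoreOf_of_centralizes hchar (centralizer_le_normalizer_self O hc)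
    fun o ho => hc o (hle ho))

theorem largest_ne_bot (T : Sylow p H) {X : Subgroup H} (hTX : (T : Subgroup H) ≤ X)
    (hX : X ∈ Cfsg.charPSubgroups p H) : Y[X] ≠ ⊥ := by
  have h1 : omegaZ p (T : Subgroup H) ≤ Y[X] := (omegaZ_le_sylowCenterClosure T hTX).trans
    (le_largestOf (sylowCenterClosure_le X) (reduced_sylowCenterClosure (charP_of_mem hX)))
  have hT1 : (T : Subgroup H) ≠ ⊥ := fun h => pcoreOf_ne_bot hX.1 (le_bot_iff.mp (h ▸ pcoreOf_le_sylow T hTX))
  intro h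
  rw [h, le_bot_iff] at h1
  haveI : Nontrivial ↥(T : Subgroup H) := (Subgroup.nontrivial_iff_ne_bot _).mpr hT1
  haveI := T.2.center_nontrivial
  obtain ⟨z, hz⟩ := exists_prime_orderOf_dvd_card' (G := ↥(Subgroup.center ↥(T : Subgroup H))) p
    ((T.2.to_subgroup _).card_eq_or_dvd.resolve_left Finite.one_lt_card.ne')
  have hzm : ((z : ↥(T : Subgroup H)) : H) ∈ omegaZ p (T : Subgroup H) := by
    refine mem_omegaZ.mpr ⟨⟨z.1.2, fun t ht => congrArg Subtype.val (Subgroup.mem_center_iff.mp z.2 ⟨t, ht⟩)⟩, ?_⟩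
    have := congrArg (fun u : ↥(Subgroup.center ↥(T : Subgroup H)) => ((u : ↥(T : Subgroup H)) : H))
      (pow_orderOf_eq_one z)
    rw [hz] at this
    simpa using this
  rw [h1, Subgroup.mem_bot] at hzm
  have : z = 1 := Subtype.ext (Subtype.ext hzm)
  rw [this, orderOf_one] at hz
  exact hp.out.ne_one hz.symm

theorem largest_isPGroup (X : Subgroup H) : IsPGroup p ↥(Y[X]) :=
  isPGroup_of_elementary (largestOf_spec X).2.1

theorem mono (T : Sylow p H) {X X' : Subgroup H} (hTX : (T : Subgroup H) ≤ X) (hXX : X ≤ X')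
    (hX' : X' ∈ Cfsg.charPSubgroups p H) : Y[X] ≤ Y[X'] :=
  conjClosure_le_largestOf T hTX hXX (charP_of_mem hX') (largestOf_le X) (by
    rw [subgroupOf_largestOf]; exact reduced_largest)

theorem mem_sup_iff {X Y : Subgroup H} (hXY : X ≤ N[Y]) {g : H} (hg : g ∈ X ⊔ C[Y]) :
    ∃ x ∈ X, ∃ c ∈ C[Y], g = x * c := by
  rw [← SetLike.mem_coe, Subgroup.coe_mul_of_left_le_normalizer_right _ _ (normalizer_centralizer_ge hXY),
    Set.mem_mul] at hg
  obtain ⟨x, hx, c, hc, rfl⟩ := hg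
  exact ⟨x, hx, c, hc, rfl⟩

theorem dagger_mem (hH : Cfsg.IsOfParabolicCharacteristic p H) (T : Sylow p H) {X : Subgroup H}
    (hTX : (T : Subgroup H) ≤ X) (hX : X ∈ Cfsg.charPSubgroups p H) : X ⊔ C[Y[X]] ∈ Cfsg.charPSubgroups p H :=
  mem_charP hH T (hTX.trans le_sup_left) (largest_isPGroup X) (largest_ne_bot T hTX hX)
    ((largestOf_le X).trans le_sup_left) (sup_le (largestOf_spec X).1 (centralizer_le_normalizer_self _))

/-- A subgroup supplementing `C(Y)` in an overgroup inherits the p-reduced subgroup. -/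
theorem reduced_of_supplement {W M Y : Subgroup H} (hYW : Y ≤ W) (hYM : Y ≤ M)
    (hY : Cfsg.IsPReducedNormal p (Y.subgroupOf W)) (hM : M ≤ W ⊔ C[Y]) (hsup : W ≤ M ⊔ C[Y]) :
    Cfsg.IsPReducedNormal p (Y.subgroupOf M) := by
  obtain ⟨hWY, hel, hred⟩ := (reduced_subgroupOf_iff hYW).mp hY
  have hbig : W ⊔ C[Y] ≤ N[Y] := sup_le hWY (centralizer_le_normalizer_self Y)
  have hMY : M ≤ N[Y] := hM.trans hbig
  refine (reduced_subgroupOf_iff hYM).mpr ⟨hMY, hel, fun N hNM hMN hN => ?_⟩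
  have hWNC : W ≤ Subgroup.normalizer ((N ⊔ C[Y] : Subgroup H) : Set H) := by
    refine hsup.trans (sup_le (normalizer_sup_ge hMN (normalizer_centralizer_ge hMY)) ?_)
    exact le_sup_right.trans Subgroup.le_normalizer
  have key := hred ((N ⊔ C[Y]) ⊓ W) inf_le_right (normalizer_inf_ge hWNC Subgroup.le_normalizer) ?_
  · intro n hn
    obtain ⟨w, hw, c, hc, rfl⟩ := mem_sup_iff hWY (hM (hNM hn))
    have hwN : w ∈ (N ⊔ C[Y]) ⊓ W := by
      refine ⟨?_, hw⟩
      have := (N ⊔ C[Y]).mul_mem (Subgroup.mem_sup_left hn) (Subgroup.mem_sup_right (C[Y].inv_mem hc))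
      simpa using this
    exact C[Y].mul_mem (key hwN) hc
  · intro x hx
    obtain ⟨n, hn, c, hc, rfl⟩ := mem_sup_iff (hNM.trans hMY) hx.1
    obtain ⟨k, hk⟩ := hN n hn
    refine ⟨k, ?_⟩
    have hnC := normalizer_centralizer_ge hMY (hNM hn)
    have : ∀ i : ℕ, (n ^ i)⁻¹ * (n * c) ^ i ∈ C[Y] := by
      intro i
      induction i with
      | zero => simp
      | succ i ih =>
        have e : (n ^ (i + 1))⁻¹ * (n * c) ^ (i + 1) = n⁻¹ * ((n ^ i)⁻¹ * (n * c) ^ i) * n * c := by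
          rw [pow_succ, pow_succ]; group
        rw [e]
        exact C[Y].mul_mem ((Subgroup.mem_normalizer_iff''.mp hnC _).mp ih) hc
    have := C[Y].mul_mem hk (this (p ^ k))
    rwa [mul_inv_cancel_left] at this

theorem exists_conj_sylow_le {G : Type*} [Group G] [Finite G] {K : Subgroup G} (hK : ¬ p ∣ K.index)
    (T : Sylow p G) : ∃ m : G, ∀ x ∈ (T : Subgroup G), m * x * m⁻¹ ∈ K := by
  obtain ⟨S⟩ := (inferInstance : Nonempty (Sylow p ↥K))
  obtain ⟨S', hS'⟩ := (S.2.map K.subtype).exists_le_sylow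
  have hnd : ¬ p ∣ ((S : Subgroup ↥K).map K.subtype).index := by
    rw [Subgroup.index_map_subtype]
    exact fun h => (hp.out.dvd_mul.mp h).elim S.not_dvd_index hK
  have heq : (S : Subgroup ↥K).map K.subtype = (S' : Subgroup G) := by
    have := ((S.2.map K.subtype).toSylow hnd).3 S'.2 hS'
    exact this.symm
  obtain ⟨m, -, hm⟩ := exists_conj_le_sylow S' (M := ⊤) le_top T.2 le_top
  exact ⟨m, fun x hx => Subgroup.map_subtype_le _ (heq.ge (hm x hx))⟩

theorem exists_max_nat {α : Type*} [Finite α] (P : α → Prop) (f : α → ℕ) (h : ∃ a, P a) :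
    ∃ a, P a ∧ ∀ b, P b → f b ≤ f a := by
  obtain ⟨a₀, ha₀⟩ := h
  obtain ⟨a, ha, hmax⟩ := Set.exists_max_image {a | P a} f (Set.toFinite _) ⟨a₀, ha₀⟩
  exact ⟨a, ha, hmax⟩

theorem exists_min_nat {α : Type*} [Finite α] (P : α → Prop) (f : α → ℕ) (h : ∃ a, P a) :
    ∃ a, P a ∧ ∀ b, P b → f a ≤ f b := by
  obtain ⟨a₀, ha₀⟩ := h
  obtain ⟨a, ha, hmin⟩ := Set.exists_min_image {a | P a} f (Set.toFinite _) ⟨a₀, ha₀⟩
  exact ⟨a, ha, hmin⟩

/-- Existence of `M` with the basic property above `L` and of `L*` inside it. -/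
theorem exists_basic (hH : Cfsg.IsOfParabolicCharacteristic p H) (T : Sylow p H) {L : Subgroup H}
    (hTL : (T : Subgroup H) ≤ L) (hL : L ∈ Cfsg.charPSubgroups p H) :
    ∃ M Ls : Subgroup H, (T : Subgroup H) ≤ M ∧ Cfsg.IsInFrakM p M ∧ (T : Subgroup H) ≤ Ls ∧ Ls ≤ M ∧
      Ls ∈ Cfsg.charPSubgroups p H ∧ Y[L] = Y[Ls] ∧ Y[L] ≤ Y[M] ∧ L ⊔ C[Y[L]] = Ls ⊔ C[Y[L]] := by
  -- a maximal member `X` of `𝓛`
  let P : Subgroup H → Prop := fun X => (T : Subgroup H) ≤ X ∧ X ∈ Cfsg.charPSubgroups p H ∧ Y[L] ≤ Y[X] ∧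
    L ≤ (X ⊓ N[Y[L]]) ⊔ C[Y[L]]
  have hP0 : P L := ⟨hTL, hL, le_rfl, (le_inf le_rfl (largestOf_spec L).1).trans le_sup_left⟩
  have hPup : ∀ X X', P X → X ≤ X' → X' ∈ Cfsg.charPSubgroups p H → P X' := fun X X' h hle hX' =>
    ⟨h.1.trans hle, hX', h.2.2.1.trans (mono T h.1 hle hX'),
      h.2.2.2.trans (sup_le_sup_right (inf_le_inf_right _ hle) _)⟩
  obtain ⟨X₀, hX₀, hX₀max⟩ := exists_max_nat P (fun X => Nat.card ↥(Y[X])) ⟨L, hP0⟩
  obtain ⟨X, ⟨hXP, hXY⟩, hXmax⟩ := exists_max_nat (fun X => P X ∧ Nat.card ↥(Y[X₀]) ≤ Nat.card ↥(Y[X]))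
    (fun X => Nat.card ↥X) ⟨X₀, hX₀, le_rfl⟩
  obtain ⟨hTX, hXL, hLX, hXsup⟩ := hXP
  have hmaxY : ∀ X', P X' → Y[X] ≤ Y[X'] → Y[X'] = Y[X] := fun X' h hle =>
    (Subgroup.eq_of_le_of_card_ge hle ((hX₀max X' h).trans hXY)).symm
  have hXM : X ∈ Cfsg.maxCharPSubgroups p H := by
    refine ⟨hXL, fun X' hX' hle => ?_⟩
    have hP' := hPup X X' ⟨hTX, hXL, hLX, hXsup⟩ hle hX'
    exact (Subgroup.eq_of_le_of_card_ge hle (hXmax X' ⟨hP',
      hXY.trans (Subgroup.card_le_of_le (mono T hTX hle hX'))⟩)).symm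
  have hXC : C[Y[X]] ≤ X := le_sup_right.trans (hXM.2 _ (dagger_mem hH T hTX hXL) le_sup_left).le
  have hYT : Y[X] ≤ (T : Subgroup H) := largestOf_le_sylow T hTX
  have hCle : C[Y[X]] ≤ C[Y[L]] := Subgroup.centralizer_le (SetLike.coe_subset_coe.mpr hLX)
  -- `M` minimal
  obtain ⟨M, ⟨hTM, hMX, hMsup⟩, hMmin⟩ := exists_min_nat
    (fun M : Subgroup H => (T : Subgroup H) ≤ M ∧ M ≤ X ∧ X ≤ M ⊔ C[Y[X]]) (fun M => Nat.card ↥M)
    ⟨X, hTX, le_rfl, le_sup_left⟩
  have hMeq : ∀ M' : Subgroup H, (T : Subgroup H) ≤ M' → M' ≤ M → X ≤ M' ⊔ C[Y[X]] → M' = M :=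
    fun M' h1 h2 h3 => Subgroup.eq_of_le_of_card_ge h2 (hMmin M' ⟨h1, h2.trans hMX, h3⟩)
  have hYM : Y[X] ≤ M := hYT.trans hTM
  have hXNY : X ≤ N[Y[X]] := (largestOf_spec X).1
  have hMN : M ≤ N[Y[X]] := hMX.trans hXNY
  have hML : M ∈ Cfsg.charPSubgroups p H :=
    mem_charP hH T hTM (largest_isPGroup X) (largest_ne_bot T hTX hXL) hYM hMN
  have hYeq : Y[M] = Y[X] := le_antisymm (mono T hTM hMX hXL) (le_largestOf hYM
    (reduced_of_supplement (largestOf_le X) hYM (by rw [subgroupOf_largestOf]; exact reduced_largest)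
      (hMX.trans le_sup_left) hMsup))
  have hdag : M ⊔ C[Y[M]] = X := by rw [hYeq]; exact le_antisymm (sup_le hMX hXC) hMsup
  have hMP : P M := by
    refine ⟨hTM, hML, hYeq ▸ hLX, hXsup.trans (sup_le ?_ le_sup_right)⟩
    intro g hg
    obtain ⟨m, hm, c, hc, rfl⟩ := mem_sup_iff hMN (hMsup hg.1)
    refine Subgroup.mul_mem _ (Subgroup.mem_sup_left ⟨hm, ?_⟩) (Subgroup.mem_sup_right (hCle hc))
    simpa using Subgroup.mul_mem _ hg.2 (centralizer_le_normalizer_self _ (Subgroup.inv_mem _ (hCle hc)))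
  -- the Frattini argument
  set T₀ := (T : Subgroup H) ⊓ C[Y[X]] with hT₀
  have hT₀M : M ≤ N[T₀] := by
    have h : M ⊓ N[T₀] = M := by
      refine hMeq _ (le_inf hTM (normalizer_inf_ge Subgroup.le_normalizer (normalizer_centralizer_ge (hTM.trans hMN))))
        inf_le_left (fun g hg => ?_)
      obtain ⟨m, hm, c, hc, rfl⟩ := mem_sup_iff hMN (hMsup hg)
      obtain ⟨a, ha, c', hc', rfl⟩ := frattini_inf T (normalizer_centralizer_ge hMN) hTM hm
      rw [mul_assoc]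
      exact Subgroup.mul_mem _ (Subgroup.mem_sup_left ha) (Subgroup.mem_sup_right (C[Y[X]].mul_mem hc'.2 hc))
    exact h ▸ inf_le_right
  have hpclosed : Cfsg.IsPClosed p ↥(M ⊓ C[Y[X]]) := by
    intro R
    obtain ⟨R₀, hR₀⟩ := exists_sylow_inf T (C := M ⊓ C[Y[X]])
      (normalizer_inf_ge (hTM.trans Subgroup.le_normalizer) (normalizer_centralizer_ge (hTM.trans hMN)))
    have e : (T : Subgroup H) ⊓ (M ⊓ C[Y[X]]) = T₀ := by
      rw [hT₀, ← inf_assoc, inf_eq_left.mpr hTM]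
    haveI hn0 : (R₀ : Subgroup ↥(M ⊓ C[Y[X]] : Subgroup H)).Normal := by
      rw [hR₀, e]
      exact (Subgroup.normal_subgroupOf_iff_le_normalizer (le_inf (inf_le_left.trans hTM) inf_le_right)).mpr
        (inf_le_left.trans hT₀M)
    haveI := Sylow.unique_of_normal R₀ hn0
    rwa [Subsingleton.elim R R₀]
  have hfr : ((M ⊓ C[Y[X]]).subgroupOf M).map (QuotientGroup.mk' (Cfsg.pCore p ↥M)) ≤
      frattini (↥M ⧸ Cfsg.pCore p ↥M) := by
    refine le_iInf₂ fun K (hK : IsCoatom K) => ?_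
    let π := QuotientGroup.mk' (Cfsg.pCore p ↥M)
    have hπ : Function.Surjective π := QuotientGroup.mk'_surjective _
    rw [Subgroup.map_le_iff_le_comap]
    set D := (M ⊓ C[Y[X]]).subgroupOf M with hD
    haveI hDn : D.Normal := (Subgroup.normal_subgroupOf_iff_le_normalizer inf_le_left).mpr
      (normalizer_inf_ge Subgroup.le_normalizer (normalizer_centralizer_ge hMN))
    set K' := K.comap π with hK'
    show D ≤ K'
    by_contra hnot
    have hK'max : IsCoatom K' := Subgroup.isCoatom_comap_of_surjective hπ hK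
    have hsup : K' ⊔ D = ⊤ := hK'max.2 _ (left_lt_sup.mpr hnot)
    let T' : Sylow p ↥M := T.subtype hTM
    have hD0 : (T' : Subgroup ↥M) ⊓ D ≤ K' := by
      intro x hx
      have hx0 : x ∈ Cfsg.pCore p ↥M := by
        rw [← pcoreOf_subgroupOf]
        refine Subgroup.mem_subgroupOf.mpr ?_
        refine le_pcoreOf (inf_le_left.trans hTM) hT₀M (T.2.to_le inf_le_left) ⟨?_, ?_⟩
        · exact (by simpa [T', Subgroup.mem_subgroupOf] using hx.1 : (x : H) ∈ (T : Subgroup H))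
        · exact (Subgroup.mem_subgroupOf.mp hx.2).2
      show π x ∈ K
      rw [(QuotientGroup.eq_one_iff x).mpr hx0 |> (fun h => (h : π x = 1))]
      exact K.one_mem
    have hnd : ¬ p ∣ K'.index := by
      intro hd
      have h1 : K'.index = K'.relIndex D := by
        have e1 : D.index = D.relIndex K' := by
          rw [← Subgroup.relIndex_top_right, ← hsup, Subgroup.relIndex_sup_right]
        have e2 := Subgroup.relIndex_mul_relIndex ⊥ (K' ⊓ D) K' bot_le inf_le_left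
        have e3 := Subgroup.relIndex_mul_relIndex ⊥ (K' ⊓ D) D bot_le inf_le_right
        simp only [Subgroup.relIndex_bot_left, Subgroup.inf_relIndex_left, Subgroup.inf_relIndex_right] at e2 e3
        have e4 := D.card_mul_index.trans K'.card_mul_index.symm
        rw [e1, ← e2, ← e3] at e4
        have h5 : 0 < Nat.card ↥(K' ⊓ D : Subgroup ↥M) * D.relIndex K' := by rw [e2]; exact Nat.card_pos
        apply Nat.eq_of_mul_eq_mul_left h5
        rw [← e4]; ring
      have h2 : K'.relIndex D ∣ ((T' : Subgroup ↥M) ⊓ D).relIndex D :=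
        Subgroup.relIndex_dvd_of_le_left D hD0
      have h3 := relIndex_inf_coprime T' (N := D) (by rw [Subgroup.normalizer_eq_top]; exact le_top)
      exact hp.out.coprime_iff_not_dvd.mp h3.symm ((h1 ▸ hd).trans h2)
    obtain ⟨m, hm⟩ := exists_conj_sylow_le hnd T'
    -- `m T' m⁻¹ ≤ K'`
    set K'' := K'.map (MulAut.conj m⁻¹).toMonoidHom with hK''
    have hT'' : (T' : Subgroup ↥M) ≤ K'' := fun x hx => ⟨_, hm x hx, by simp [mul_assoc]⟩
    have hne : K''.map M.subtype ≠ M := by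
      intro h
      have h1 : K'' = ⊤ := by
        rw [← Subgroup.comap_map_eq_self_of_injective M.subtype_injective K'', h]
        exact Subgroup.subgroupOf_self M
      apply hK'max.1
      refine Subgroup.map_injective (f := (MulAut.conj m⁻¹).toMonoidHom) (MulEquiv.injective (MulAut.conj m⁻¹)) ?_
      rw [← hK'', h1, Subgroup.map_top_of_surjective _ (MulEquiv.surjective (MulAut.conj m⁻¹))]
    refine hne (hMeq _ (fun x hx => ⟨⟨x, hTM hx⟩, hT'' (by
        rw [Sylow.coe_subtype, Subgroup.mem_subgroupOf]; exact hx), rfl⟩) (Subgroup.map_subtype_le _) ?_)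
    refine hMsup.trans (sup_le ?_ le_sup_right)
    intro g hg
    have hmem : (⟨g, hg⟩ : ↥M) ∈ K'' ⊔ D := by
      have : K'' ⊔ D = ⊤ := by
        have := congrArg (Subgroup.map (MulAut.conj m⁻¹).toMonoidHom) hsup
        rwa [Subgroup.map_sup, Subgroup.map_top_of_surjective _ (MulEquiv.surjective _),
          conj_map_eq_of_mem_normalizer (X := D) (by rw [Subgroup.normalizer_eq_top]; exact Subgroup.mem_top _)] at this
      rw [this]; exact Subgroup.mem_top _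
    have h2 : g ∈ (K'' ⊔ D).map M.subtype := ⟨_, hmem, rfl⟩
    rw [Subgroup.map_sup] at h2
    refine (sup_le_sup_left (?_ : D.map M.subtype ≤ C[Y[X]]) (K''.map M.subtype) : _) h2
    rintro _ ⟨d, hd, rfl⟩
    exact (Subgroup.mem_subgroupOf.mp hd).2
  have hfrak : Cfsg.IsInFrakM p M := by
    refine ⟨hML, by rw [hdag]; exact hXM, fun X' hX' hMX' => ?_, ?_, by rw [hYeq]; exact hpclosed,
      by rw [hYeq]; exact hfr⟩
    · rw [hdag]
      have hP' := hPup M X' hMP hMX' hX'.1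
      have hY' : Y[X'] = Y[X] := hmaxY X' hP' (hYeq ▸ mono T hTM hMX' hX'.1)
      have hC' : C[Y[X]] ≤ X' :=
        hY' ▸ le_sup_right.trans (hX'.2 _ (dagger_mem hH T hP'.1 hX'.1) le_sup_left).le
      exact hXM.2 X' hX'.1 (hMsup.trans (sup_le hMX' hC'))
    · rw [hdag, hYeq]
  -- `L*`
  set S₀ := (T : Subgroup H) ⊓ C[Y[L]] with hS₀
  set D := (L ⊔ C[Y[L]]) ⊓ M with hD
  have hLNY : L ⊔ C[Y[L]] ≤ N[Y[L]] := sup_le (largestOf_spec L).1 (centralizer_le_normalizer_self _)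
  have hTD : (T : Subgroup H) ≤ D := le_inf (hTL.trans le_sup_left) hTM
  set Ls := D ⊓ N[S₀] with hLs
  have hTLs : (T : Subgroup H) ≤ Ls := le_inf hTD
    (normalizer_inf_ge Subgroup.le_normalizer (normalizer_centralizer_ge (hTD.trans (inf_le_left.trans hLNY))))
  have hLsup : L ≤ Ls ⊔ C[Y[L]] := by
    intro g hg
    obtain ⟨x, hx, c, hc, rfl⟩ := mem_sup_iff (inf_le_right : M ⊓ N[Y[L]] ≤ N[Y[L]]) (hMP.2.2.2 hg)
    have hxD : x ∈ D := ⟨(by simpa using (L ⊔ C[Y[L]]).mul_mem (Subgroup.mem_sup_left hg) (Subgroup.mem_sup_right (C[Y[L]].inv_mem hc))), hx.1⟩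
    obtain ⟨a, ha, c', hc', rfl⟩ := frattini_inf T
      (normalizer_centralizer_ge (inf_le_left.trans hLNY : D ≤ N[Y[L]])) hTD hxD
    rw [mul_assoc]
    exact Subgroup.mul_mem _ (Subgroup.mem_sup_left ha) (Subgroup.mem_sup_right (C[Y[L]].mul_mem hc'.2 hc))
  have hLsL : Ls ≤ L ⊔ C[Y[L]] := inf_le_left.trans inf_le_left
  have hYL : Y[L] ≤ Ls := (largestOf_le_sylow T hTL).trans hTLs
  have hLsC : Ls ∈ Cfsg.charPSubgroups p H :=
    mem_charP hH T hTLs (largest_isPGroup L) (largest_ne_bot T hTL hL) hYL (hLsL.trans hLNY)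
  have hYLs : Y[L] = Y[Ls] := by
    refine le_antisymm (le_largestOf hYL (reduced_of_supplement (largestOf_le L) hYL
      (by rw [subgroupOf_largestOf]; exact reduced_largest) hLsL hLsup)) ?_
    rw [(largest_structure T hTL (charP_of_mem hL) rfl).2.2]
    intro y hy
    have hyc := pCoreOf_le_centralizer_largestOf (p := p) Ls
    have hS₀O : S₀ ≤ Cfsg.pCoreOf p Ls := le_pcoreOf (inf_le_left.trans hTLs) inf_le_right (T.2.to_le inf_le_left)
    have hyS : ∀ s ∈ S₀, s * y = y * s := fun s hs => ((hyc (hS₀O hs)) y hy).symm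
    have hYS : Y[L] ≤ S₀ :=
      le_inf (largestOf_le_sylow T hTL) (Subgroup.le_centralizer_iff_isMulCommutative.mpr (largestOf_spec L).2.1.1)
    exact mem_omegaZ.mpr ⟨⟨⟨largestOf_le_sylow T hTLs hy, fun z hz => hyS z (hYS hz)⟩, hyS⟩,
      (largestOf_spec Ls).2.1.2 y hy⟩
  exact ⟨M, Ls, hTM, hfrak, hTLs, inf_le_left.trans inf_le_right, hLsC, hYLs, hYeq ▸ hLX,
    le_antisymm (sup_le hLsup le_sup_right) (sup_le hLsL le_sup_right)⟩

end CfsgLib.BasicProperty
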