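import Mathlib
import Cfsg.Agent.Lib.Chars.Linear
import Cfsg.Agent.Lib.Chars.Clifford
import Cfsg.Agent.Lib.Chars.Induced
import Cfsg.Agent.Lib.Chars.Kernel
import Cfsg.Agent.Lib.Chars.Misc
import Cfsg.Agent.Lib.Chars.Central

/-!
# Degree divisibility and Gallagher's theorem
-/

set_option autoImplicit false

namespace CfsgLib.CharExtend

open Cfsg CfsgLib.Chars
open scoped ComplexConjugate

universe u

variable {G : Type u} [Group G]

theorem dvd_of_pow_dvd_pow_mul {a b c : ℕ} (ha : a ≠ 0) (hb : b ≠ 0) (hc : c ≠ 0)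
    (h : ∀ m : ℕ, a ^ m ∣ b ^ m * c) : a ∣ b := by
  rw [← Nat.factorization_le_iff_dvd ha hb]
  intro p
  have h1 := (Nat.factorization_le_iff_dvd (pow_ne_zero _ ha) (mul_ne_zero (pow_ne_zero _ hb) hc)).2
    (h (c.factorization p + 1)) p
  rw [Nat.factorization_pow, Nat.factorization_mul (pow_ne_zero _ hb) hc, Nat.factorization_pow] at h1
  simp only [Finsupp.coe_add, Pi.add_apply, Finsupp.coe_smul, Pi.smul_apply, smul_eq_mul] at h1
  by_contra hlt
  have : b.factorization p + 1 ≤ a.factorization p := by omega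
  have h2 := Nat.mul_le_mul_left (c.factorization p + 1) this
  rw [Nat.mul_add, mul_one] at h2
  omega

/-- If a normal subgroup acts by scalars, the degree divides its index. -/
theorem dvd_index_of_scalar [Finite G] (χ : IrrCharacter G) (H : Subgroup G) [H.Normal]
    (lam : H →* ℂˣ) (hlam : ∀ h : H, (χ : G → ℂ) h = (lam h : ℂ) * (χ : G → ℂ) 1) :
    charDegree (χ : G → ℂ) ∣ H.index := by
  classical
  haveI := Fintype.ofFinite G
  set d := charDegree (χ : G → ℂ)
  have hd : d ≠ 0 := (charDegree_pos χ).ne'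
  suffices key : ∀ m : ℕ, (d * Nat.card H) ^ m ∣ Nat.card G ^ m * Nat.card H by
    have := dvd_of_pow_dvd_pow_mul (mul_ne_zero hd Nat.card_pos.ne') Nat.card_pos.ne'
      Nat.card_pos.ne' key
    rw [← H.index_mul_card] at this
    exact Nat.dvd_of_mul_dvd_mul_right Nat.card_pos this
  intro m
  let φ : (Fin m → G) → ℂ := fun x => ∏ i, (χ : G → ℂ) (x i)
  have hφc : IsCharacter (Fin m → G) φ := by
    have : ∀ s : Finset (Fin m), IsCharacter (Fin m → G) (fun x => ∏ i ∈ s, (χ : G → ℂ) (x i)) := by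
      intro s
      induction s using Finset.induction_on with
      | empty =>
        simp only [Finset.prod_empty]
        exact IsIrrCharacter.isCharacter (isIrrCharacter_one _)
      | insert i s hi ih =>
        simp only [Finset.prod_insert hi]
        exact IsCharacter.mul (IsCharacter.comp (isCharacter_irr χ) (Pi.evalMonoidHom (fun _ : Fin m => G) i)) ih
    exact this Finset.univ
  have hφ : IsIrrCharacter (Fin m → G) φ := by
    refine isIrrCharacter_of_norm_one hφc ?_
    have h1 := sum_mul_conj_irr χ χ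
    rw [if_pos rfl] at h1
    simp only [classInner, φ, map_prod, ← Finset.prod_mul_distrib]
    rw [← Fintype.prod_sum (fun (_ : Fin m) (g : G) => (χ : G → ℂ) g * conj ((χ : G → ℂ) g)), h1,
      Nat.card_pi, Nat.cast_prod]
    exact inv_mul_cancel₀ (Finset.prod_ne_zero_iff.2 fun _ _ => natCast_card_ne_zero G)
  let Φ : IrrCharacter (Fin m → G) := ⟨φ, hφ⟩
  let L : (Fin m → H) →* ℂˣ :=
    { toFun := fun x => ∏ i, lam (x i)
      map_one' := by simp
      map_mul' := fun x y => by simp [Finset.prod_mul_distrib] }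
  let emb : (Fin m → H) →* (Fin m → G) :=
    { toFun := fun x i => (x i : G)
      map_one' := rfl
      map_mul' := fun x y => rfl }
  have hemb : Function.Injective emb := fun x y h => funext fun i => Subtype.ext (congrFun h i)
  let Z₀ : Subgroup (Fin m → G) := L.ker.map emb
  have hinv : ∀ (g : G) (h : H), lam ⟨g * h * g⁻¹, (inferInstance : H.Normal).conj_mem _ h.2 g⟩ = lam h := by
    intro g h
    apply Units.ext
    refine mul_right_cancel₀ (irr_one_ne_zero χ) ?_
    rw [← hlam, ← hlam]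
    exact IsCharacter.isClassFunction (isCharacter_irr χ) h g
  haveI : Z₀.Normal := by
    refine ⟨?_⟩
    rintro _ ⟨x, hx, rfl⟩ g
    refine ⟨fun i => ⟨g i * x i * (g i)⁻¹, (inferInstance : H.Normal).conj_mem _ (x i).2 (g i)⟩, ?_, rfl⟩
    rw [SetLike.mem_coe, MonoidHom.mem_ker] at hx ⊢
    refine Eq.trans ?_ hx
    show (∏ i : Fin m, lam ⟨g i * (x i : G) * (g i)⁻¹, (inferInstance : H.Normal).conj_mem _ (x i).2 (g i)⟩) = ∏ i : Fin m, lam (x i)
    exact Finset.prod_congr rfl fun i _ => hinv (g i) (x i)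
  have hker : ∀ z ∈ Z₀, φ z = φ 1 := by
    rintro _ ⟨x, hx, rfl⟩
    show ∏ i, (χ : G → ℂ) (x i : G) = ∏ _i : Fin m, (χ : G → ℂ) 1
    rw [SetLike.mem_coe, MonoidHom.mem_ker] at hx
    simp only [hlam, Finset.prod_mul_distrib]
    have h2 : (∏ i, ((lam (x i) : ℂˣ) : ℂ)) = 1 := by
      rw [← Units.coe_prod]; exact congrArg Units.val hx
    rw [h2, one_mul]
  obtain ⟨ψ, hψ⟩ := exists_deflate Z₀ Φ hker
  have hdeg : d ^ m = charDegree (ψ : (Fin m → G) ⧸ Z₀ → ℂ) := by
    have h1 := congrFun hψ 1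
    change (∏ _i : Fin m, (χ : G → ℂ) 1) = (ψ : (Fin m → G) ⧸ Z₀ → ℂ) 1 at h1
    rw [Finset.prod_const, Finset.card_univ, Fintype.card_fin, irr_apply_one, irr_apply_one] at h1
    exact_mod_cast h1
  have hdvd := charDegree_dvd ψ
  rw [← hdeg, ← Subgroup.index_eq_card] at hdvd
  have hcard : Nat.card Z₀ = Nat.card L.ker :=
    (Nat.card_congr (L.ker.equivMapOfInjective emb hemb).toEquiv).symm
  have hr : Nat.card L.range ∣ Nat.card H := by
    have hle : L.range ≤ lam.range := by
      rintro _ ⟨x, rfl⟩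
      show (∏ i, lam (x i)) ∈ lam.range
      exact Subgroup.prod_mem _ fun i _ => MonoidHom.mem_range.2 ⟨x i, rfl⟩
    exact (Subgroup.card_dvd_of_le hle).trans (Subgroup.card_range_dvd lam)
  have hHm : Nat.card H ^ m = Nat.card L.range * Nat.card L.ker := by
    rw [← Subgroup.index_ker, Subgroup.index_mul_card, Nat.card_pi, Finset.prod_const, Finset.card_univ, Fintype.card_fin]
  have hGm : Nat.card G ^ m = Z₀.index * Nat.card L.ker := by
    rw [← hcard, Subgroup.index_mul_card, Nat.card_pi, Finset.prod_const, Finset.card_univ, Fintype.card_fin]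
  rw [mul_pow, hHm, hGm, mul_assoc Z₀.index, mul_comm (Nat.card L.ker) (Nat.card H)]
  exact mul_dvd_mul hdvd (mul_dvd_mul hr dvd_rfl)

variable (N : Subgroup G) [N.Normal] [Fintype G] [Fintype N]

omit [Fintype G] in
theorem classInner_one_right (f : N → ℂ) :
    classInner f (fun _ => 1) = (Nat.card N : ℂ)⁻¹ * ∑ n : N, f n := by
  simp [classInner]

/-- Coset sums of an irreducible character. -/
theorem sum_coset (ψ : IrrCharacter G) (x : G) :
    ∑ n : N, (ψ : G → ℂ) (n * x) =
      (∑ n : N, (ψ : G → ℂ) n) / (ψ : G → ℂ) 1 * (ψ : G → ℂ) x := by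
  classical
  have hf : IsClassFunction G (fun g => if g ∈ N then (1 : ℂ) else 0) := fun g h => by
    have : h * g * h⁻¹ ∈ N ↔ g ∈ N := ⟨fun hh => by
      have := (inferInstance : N.Normal).conj_mem _ hh h⁻¹
      simpa [mul_assoc] using this, fun hg => (inferInstance : N.Normal).conj_mem _ hg h⟩
    simp only [this]
  have key : ∀ F : G → ℂ, ∑ n : N, F n = ∑ y : G, (if y ∈ N then (1 : ℂ) else 0) * F y := by
    intro F
    simp only [ite_mul, one_mul, zero_mul, ← Finset.sum_filter]
    exact (Finset.sum_subtype (Finset.univ.filter (fun y => y ∈ N)) (fun y => by simp) F).symm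
  rw [key (fun y => (ψ : G → ℂ) (y * x)), sum_classFunction_mul ψ hf x, omega, key]

/-- An extension of an irreducible character has norm one on each coset. -/
theorem sum_coset_norm (α : IrrCharacter G) (θ : IrrCharacter N)
    (hres : ∀ n : N, (α : G → ℂ) n = (θ : N → ℂ) n) (x : G) :
    ∑ n : N, (α : G → ℂ) (n * x) * conj ((α : G → ℂ) (n * x)) = (Nat.card N : ℂ) := by
  classical
  set φ : G → ℂ := fun g => (α : G → ℂ) g * conj ((α : G → ℂ) g)
  have hφ : IsCharacter G φ :=
    IsCharacter.mul (isCharacter_irr α) (IsIrrCharacter.isCharacter (isIrrCharacter_conj α))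
  have hN : (Nat.card N : ℂ) ≠ 0 := natCast_card_ne_zero N
  choose m hm using exists_mult hφ
  choose k hk using fun ψ : IrrCharacter G =>
    exists_mult (IsCharacter.restrict (isCharacter_irr ψ) N) (⟨fun _ => 1, isIrrCharacter_one N⟩ : IrrCharacter N)
  have hk' : ∀ ψ : IrrCharacter G, ∑ n : N, (ψ : G → ℂ) n = (Nat.card N : ℂ) * (k ψ : ℂ) := by
    intro ψ
    rw [← hk ψ]
    show _ = (Nat.card N : ℂ) * classInner (fun n : N => (ψ : G → ℂ) n) (fun _ => 1)
    rw [classInner_one_right, ← mul_assoc, mul_inv_cancel₀ hN, one_mul]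
  have hexp : ∀ g, φ g = ∑ ψ : IrrCharacter G, (m ψ : ℂ) * (ψ : G → ℂ) g := by
    intro g
    rw [classFunction_expand (IsCharacter.isClassFunction hφ) g]
    simp only [hm]
  have htot : ∑ n : N, φ n = (Nat.card N : ℂ) := by
    have := sum_mul_conj_irr θ θ
    rw [if_pos rfl] at this
    refine Eq.trans (Finset.sum_congr rfl fun n _ => ?_) this
    simp only [φ, hres]
  let one : IrrCharacter G := ⟨fun _ => 1, isIrrCharacter_one G⟩
  have hsum : ∑ ψ : IrrCharacter G, m ψ * k ψ = 1 := by
    have h : (Nat.card N : ℂ) * ((∑ ψ : IrrCharacter G, m ψ * k ψ : ℕ) : ℂ) = (Nat.card N : ℂ) * 1 := by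
      rw [mul_one]
      conv_rhs => rw [← htot]
      simp only [hexp]
      rw [Finset.sum_comm]
      simp only [← Finset.mul_sum, hk']
      push_cast
      rw [Finset.mul_sum]
      exact Finset.sum_congr rfl fun ψ _ => by ring
    exact_mod_cast mul_left_cancel₀ hN h
  have hone : m one = 1 := by
    have h := hm one
    have h1 := classInner_irr α α
    rw [if_pos rfl] at h1
    have : classInner φ (one : G → ℂ) = 1 := by
      rw [← h1]; simp [classInner, φ, one]
    exact_mod_cast (h.symm.trans this)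
  have kone : k one = 1 := by
    have := hk' one
    simp only [one, Finset.sum_const, nsmul_eq_mul, mul_one, Finset.card_univ, ← Nat.card_eq_fintype_card] at this
    exact_mod_cast (mul_left_cancel₀ hN (this.symm.trans (mul_one _).symm))
  have hzero : ∀ ψ, ψ ≠ one → m ψ * k ψ = 0 := by
    intro ψ hψ
    rw [← Finset.add_sum_erase _ _ (Finset.mem_univ one), hone, kone] at hsum
    have : ∑ χ ∈ Finset.univ.erase one, m χ * k χ = 0 := by omega
    exact Finset.sum_eq_zero_iff.1 this ψ (Finset.mem_erase.2 ⟨hψ, Finset.mem_univ _⟩)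
  show ∑ n : N, φ (n * x) = _
  simp only [hexp]
  rw [Finset.sum_comm]
  simp only [← Finset.mul_sum, sum_coset N, hk']
  rw [Finset.sum_eq_single one]
  · rw [hone, kone]; simp [one]
  · intro ψ _ hψ
    rcases Nat.mul_eq_zero.1 (hzero ψ hψ) with h | h <;> simp [h]
  · simp

/-- Gallagher's theorem. -/
theorem gallagher (α : IrrCharacter G) (θ : IrrCharacter N)
    (hres : ∀ n : N, (α : G → ℂ) n = (θ : N → ℂ) n) (χ : IrrCharacter G)
    (hχ : classInner (fun n : N => (χ : G → ℂ) n) (θ : N → ℂ) ≠ 0) :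
    ∃ β : IrrCharacter G, (∀ n ∈ N, (β : G → ℂ) n = (β : G → ℂ) 1) ∧
      ∀ g, (χ : G → ℂ) g = (α : G → ℂ) g * (β : G → ℂ) g := by
  classical
  set φ : G → ℂ := fun g => (χ : G → ℂ) g * conj ((α : G → ℂ) g)
  have hφ : IsCharacter G φ :=
    IsCharacter.mul (isCharacter_irr χ) (IsIrrCharacter.isCharacter (isIrrCharacter_conj α))
  have hN : (Nat.card N : ℂ) ≠ 0 := natCast_card_ne_zero N
  have htot : ∑ n : N, φ n = (Nat.card N : ℂ) * classInner (fun n : N => (χ : G → ℂ) n) (θ : N → ℂ) := by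
    rw [classInner, ← mul_assoc, mul_inv_cancel₀ hN, one_mul]
    exact Finset.sum_congr rfl fun n _ => by simp only [φ, hres]
  obtain ⟨β, hmβ, hkβ⟩ : ∃ β : IrrCharacter G, classInner φ (β : G → ℂ) ≠ 0 ∧ ∑ n : N, (β : G → ℂ) n ≠ 0 := by
    by_contra hc
    push Not at hc
    refine mul_ne_zero hN hχ ?_
    rw [← htot]
    simp only [classFunction_expand (IsCharacter.isClassFunction hφ)]
    rw [Finset.sum_comm]
    refine Finset.sum_eq_zero fun ψ _ => ?_
    rw [← Finset.mul_sum]
    by_cases h : classInner φ (ψ : G → ℂ) = 0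
    · rw [h, zero_mul]
    · rw [hc ψ h, mul_zero]
  let oneN : IrrCharacter N := ⟨fun _ => 1, isIrrCharacter_one N⟩
  have hkern : ∀ n ∈ N, (β : G → ℂ) n = (β : G → ℂ) 1 := by
    obtain ⟨e, -, -, hval, -⟩ := clifford N β oneN (by
      rw [show (oneN : N → ℂ) = fun _ => 1 from rfl, classInner_one_right]
      exact mul_ne_zero (inv_ne_zero hN) hkβ)
    have hs : ∀ m : N, ∀ ψ ∈ orbit N oneN, (ψ : N → ℂ) m = 1 := fun m ψ hψ => by
      obtain ⟨g, rfl⟩ := (mem_orbit N).1 hψ
      rfl
    intro n hn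
    have h1 := hval ⟨n, hn⟩
    have h2 := hval 1
    rw [Finset.sum_congr rfl (hs _)] at h1 h2
    exact h1.trans h2.symm
  have hirr : IsIrrCharacter G (fun g => (α : G → ℂ) g * (β : G → ℂ) g) := by
    refine isIrrCharacter_of_norm_one (IsCharacter.mul (isCharacter_irr α) (isCharacter_irr β)) ?_
    have hb := classInner_irr β β
    rw [if_pos rfl] at hb
    refine Eq.trans ?_ hb
    simp only [classInner]
    congr 1
    refine mul_left_cancel₀ hN ?_
    have key : ∀ F : G → ℂ, (Nat.card N : ℂ) * ∑ g : G, F g = ∑ g : G, ∑ n : N, F (n * g) := by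
      intro F
      rw [Finset.sum_comm]
      have : ∀ n : N, ∑ g : G, F (n * g) = ∑ g : G, F g := fun n => Equiv.sum_comp (Equiv.mulLeft (n : G)) F
      simp only [this, Finset.sum_const, nsmul_eq_mul, Finset.card_univ, Nat.card_eq_fintype_card]
    rw [key, Finset.mul_sum]
    refine Finset.sum_congr rfl fun g _ => ?_
    have hβn : ∀ n : N, (β : G → ℂ) (n * g) = (β : G → ℂ) g := fun n =>
      IsCharacter.mul_kernel (isCharacter_irr β) (hkern n n.2) g
    rw [← sum_coset_norm N α θ hres g, Finset.sum_mul]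
    refine Finset.sum_congr rfl fun n _ => ?_
    simp only [map_mul, hβn]
    ring
  refine ⟨β, hkern, fun g => ?_⟩
  by_contra hne
  refine hmβ ?_
  have h0 := classInner_irr χ (⟨_, hirr⟩ : IrrCharacter G)
  rw [if_neg (fun e => hne (congrFun (congrArg Subtype.val e) g))] at h0
  rw [← h0]
  simp only [classInner, φ, map_mul]
  exact congrArg _ (Finset.sum_congr rfl fun x _ => by ring)

end CfsgLib.CharExtend
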