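import Mathlib
import Cfsg.Agent.Lib.CharExtend
import Cfsg.Agent.Lib.Chars.Rep

/-!
# A finite central cover over which an invariant character extends
-/

set_option autoImplicit false

namespace CfsgLib.CharCover

open Cfsg CfsgLib.Chars
open scoped ComplexConjugate

universe u

/-- Equal characters of irreducible representations give an invertible intertwiner. -/
theorem exists_intertwiner {G : Type u} [Group G] [Finite G] {d : ℕ}
    (σ τ : Representation ℂ G (Fin d → ℂ)) (hσ : σ.IsIrreducible)
    (h : τ.character = σ.character) :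
    ∃ A : Module.End ℂ (Fin d → ℂ), IsUnit A ∧ ∀ g, A * σ g = τ g * A := by
  classical
  haveI := Fintype.ofFinite G
  let M : G → Matrix (Fin d) (Fin d) ℂ := fun g => LinearMap.toMatrix' (σ g)
  let M' : G → Matrix (Fin d) (Fin d) ℂ := fun g => LinearMap.toMatrix' (τ g)
  let A : Module.End ℂ (Fin d → ℂ) → Module.End ℂ (Fin d → ℂ) := fun Y => ∑ g : G, τ g * Y * σ g⁻¹
  have hA : ∀ Y g, A Y * σ g = τ g * A Y := by
    intro Y g
    simp only [A, Finset.sum_mul, Finset.mul_sum]
    rw [← Equiv.sum_comp (Equiv.mulLeft g) (fun k => τ k * Y * σ k⁻¹ * σ g)]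
    refine Finset.sum_congr rfl fun k _ => ?_
    simp only [Equiv.coe_mulLeft, map_mul, mul_assoc, mul_inv_rev]
    rw [← map_mul σ, inv_mul_cancel, map_one, mul_one]
  obtain ⟨Y, hY⟩ : ∃ Y, A Y ≠ 0 := by
    by_contra hc
    push Not at hc
    have hz : ∀ i j, ∑ g : G, M' g i i * M g⁻¹ j j = 0 := by
      intro i j
      have h1 := congrArg LinearMap.toMatrix' (hc (Matrix.toLin' (Matrix.single i j 1)))
      simp only [A, map_sum, Module.End.mul_eq_comp, LinearMap.toMatrix'_comp, LinearMap.toMatrix'_toLin', map_zero] at h1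
      have h2 := congrFun (congrFun h1 i) j
      simp only [Matrix.sum_apply, Matrix.mul_apply, Matrix.single_apply, Matrix.zero_apply] at h2
      simpa [Finset.sum_ite_eq, ite_and, M, M'] using h2
    have htr : ∀ (r : Representation ℂ G (Fin d → ℂ)) (g : G), r.character g = ∑ i, LinearMap.toMatrix' (r g) i i := by
      intro r g
      rw [Representation.character, LinearMap.trace_eq_matrix_trace ℂ (Pi.basisFun ℂ (Fin d)),
        LinearMap.toMatrix_eq_toMatrix']
      rfl
    let χ : IrrCharacter G := ⟨σ.character, d, σ, hσ, rfl⟩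
    have h1 := sum_mul_conj_irr χ χ
    rw [if_pos rfl] at h1
    apply natCast_card_ne_zero G
    rw [← h1]
    simp only [← IsCharacter.map_inv (isCharacter_irr χ)]
    change ∑ g : G, σ.character g * σ.character g⁻¹ = 0
    conv_lhs => enter [2, g]; rw [← h, htr τ g, h, htr σ g⁻¹, Finset.sum_mul_sum]
    rw [Finset.sum_comm]
    refine Finset.sum_eq_zero fun i _ => ?_
    rw [Finset.sum_comm]
    exact Finset.sum_eq_zero fun j _ => hz i j
  have hinj : LinearMap.ker (A Y) = ⊥ := by
    refine (((isIrreducible_iff σ).1 hσ).2 (LinearMap.ker (A Y)) fun g v hv => ?_).resolve_right fun htop => hY (LinearMap.ker_eq_top.1 htop)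
    rw [LinearMap.mem_ker] at hv ⊢
    have := LinearMap.congr_fun (hA Y g) v
    simp only [Module.End.mul_apply, hv, map_zero] at this
    exact this
  exact ⟨A Y, (LinearMap.isUnit_iff_ker_eq_bot _).2 hinj, hA Y⟩

/-- Schur's lemma for an irreducible representation. -/
theorem exists_scalar {G : Type u} [Group G] [Finite G] {d : ℕ} (σ : Representation ℂ G (Fin d → ℂ))
    (hσ : σ.IsIrreducible) (A : Module.End ℂ (Fin d → ℂ)) (h : ∀ g, A * σ g = σ g * A) :
    ∃ c : ℂ, A = c • 1 := by
  obtain ⟨hnt, hsub⟩ := (isIrreducible_iff σ).1 hσ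
  obtain ⟨c, hc⟩ := Module.End.exists_eigenvalue A
  refine ⟨c, ?_⟩
  have htop := (hsub (Module.End.eigenspace A c) fun g v hv => ?_).resolve_left hc
  · refine LinearMap.ext fun v => ?_
    have : v ∈ Module.End.eigenspace A c := htop ▸ Submodule.mem_top
    rw [Module.End.mem_eigenspace_iff] at this
    simpa using this
  · rw [Module.End.mem_eigenspace_iff] at hv ⊢
    have := LinearMap.congr_fun (h g) v
    simp only [Module.End.mul_apply, hv, map_smul] at this
    exact this

/-- An invariant character of a normal subgroup extends to a finite central cover. -/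
theorem exists_cover {G : Type u} [Group G] [Finite G] (N : Subgroup G) [N.Normal]
    (θ : IrrCharacter N) (hinv : ∀ g, conjIrr N θ g = θ) :
    ∃ (E : Type u) (_ : Group E) (_ : Finite E) (π : E →* G) (ι : N →* E) (α : IrrCharacter E),
      Function.Surjective π ∧ (∀ n, π (ι n) = (n : G)) ∧ (ι.range).Normal ∧
      π.ker ≤ Subgroup.center E ∧ ∀ n, (α : E → ℂ) (ι n) = (θ : N → ℂ) n := by
  classical
  obtain ⟨d, σ, hσ, hσc⟩ := θ.2
  haveI : Nontrivial (Fin d → ℂ) := ((isIrreducible_iff σ).1 hσ).1
  have hd : d ≠ 0 := by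
    rintro rfl
    exact not_subsingleton (Fin 0 → ℂ) inferInstance
  set k := Nat.card N
  have hk : k ≠ 0 := Nat.card_pos.ne'
  let V := Fin d → ℂ
  let Uv := (Module.End ℂ V)ˣ
  let det : Uv →* ℂ := (LinearMap.det : Module.End ℂ V →* ℂ).comp (Units.coeHom _)
  let E : Subgroup (G × Uv) :=
    { carrier := {p | (∀ n : N, (p.2 : Module.End ℂ V) * σ n = σ (conjN N p.1 n) * p.2) ∧ det p.2 ^ k = 1}
      mul_mem' := by
        rintro p q ⟨hp, hp'⟩ ⟨hq, hq'⟩
        refine ⟨fun n => ?_, by rw [Prod.snd_mul, map_mul, mul_pow, hp', hq', one_mul]⟩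
        rw [Prod.snd_mul, Units.val_mul, Prod.fst_mul, ← conjN_mul, mul_assoc, hq, ← mul_assoc, hp, mul_assoc]
      one_mem' := ⟨fun n => by simp [conjN_one], by simp⟩
      inv_mem' := by
        rintro p ⟨hp, hp'⟩
        refine ⟨fun n => ?_, ?_⟩
        · have h1 := hp (conjN N p.1⁻¹ n)
          rw [conjN_mul, mul_inv_cancel, conjN_one] at h1
          rw [Prod.snd_inv, Prod.fst_inv]
          calc ((p.2⁻¹ : Uv) : Module.End ℂ V) * σ n = (p.2⁻¹ : Uv) * (σ n * p.2) * (p.2⁻¹ : Uv) := by
                rw [mul_assoc, mul_assoc, Units.mul_inv, mul_one]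
            _ = σ (conjN N p.1⁻¹ n) * (p.2⁻¹ : Uv) := by
                rw [← h1, ← mul_assoc, Units.inv_mul, one_mul]
        · have h1 : det p.2 * det p.2⁻¹ = 1 := by rw [← map_mul, mul_inv_cancel, map_one]
          have := congrArg (· ^ k) h1
          simpa [mul_pow, hp'] using this }
  let π : E →* G := (MonoidHom.fst G Uv).comp E.subtype
  have hdetσ : ∀ n : N, det (σ.toHomUnits n) ^ k = 1 := fun n => by
    rw [← map_pow, ← map_pow, pow_card_eq_one', map_one, map_one]
  let ι : N →* E :=
    { toFun := fun n => ⟨((n : G), σ.toHomUnits n), fun m => by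
        show σ n * σ m = σ (conjN N (n : G) m) * σ n
        rw [← map_mul, ← map_mul]
        congr 1
        apply Subtype.ext
        simp [conjN_coe], hdetσ n⟩
      map_one' := by ext1; simp
      map_mul' := fun a b => by ext1; simp }
  let A : Representation ℂ E V := ((Units.coeHom (Module.End ℂ V)).comp (MonoidHom.snd G Uv)).comp E.subtype
  have hscal : ∀ x : E, x ∈ π.ker → ∃ c : ℂ, A x = c • 1 := by
    intro x hx
    refine exists_scalar σ hσ _ fun n => ?_
    have := x.2.1 n
    rw [show (x : G × Uv).1 = 1 from hx, conjN_one] at this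
    exact this
  have hcenter : π.ker ≤ Subgroup.center E := by
    intro x hx
    obtain ⟨c, hc⟩ := hscal x hx
    refine Subgroup.mem_center_iff.2 fun y => Subtype.ext (Prod.ext ?_ (Units.ext ?_))
    · show (y : G × Uv).1 * (x : G × Uv).1 = (x : G × Uv).1 * (y : G × Uv).1
      rw [show (x : G × Uv).1 = 1 from hx, mul_one, one_mul]
    · show (A y) * (A x) = A x * A y
      rw [hc, mul_smul_comm, smul_mul_assoc, mul_one, one_mul]
  have hfin : Finite E := by
    haveI : Finite {c : ℂ // c ^ (d * k) = 1} :=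
      (Polynomial.nthRootsFinset (d * k) (1 : ℂ)).finite_toSet.subset
        (fun c (hc : c ^ (d * k) = 1) => (Polynomial.mem_nthRootsFinset (Nat.pos_of_ne_zero (mul_ne_zero hd hk)) (1 : ℂ)).2 hc) |>.to_subtype
    haveI : Finite π.ker := by
      choose c hc using fun x : π.ker => hscal x.1 x.2
      refine Finite.of_injective (fun x => (⟨c x, ?_⟩ : {c : ℂ // c ^ (d * k) = 1})) ?_
      · have h1 := x.1.2.2
        change LinearMap.det (A x.1) ^ k = 1 at h1
        rwa [hc x, LinearMap.det_smul, map_one, mul_one, Module.finrank_fin_fun, ← pow_mul] at h1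
      · intro x y h
        have h' : c x = c y := congrArg Subtype.val h
        refine Subtype.ext (Subtype.ext (Prod.ext ((x.2 : (x.1 : G × Uv).1 = 1).trans (y.2 : (y.1 : G × Uv).1 = 1).symm) (Units.ext ?_)))
        show A x.1 = A y.1
        rw [hc x, hc y, h']
    haveI : Finite (E ⧸ π.ker) := Finite.of_injective _ (QuotientGroup.kerLift_injective π)
    exact Finite.of_subgroup_quotient π.ker
  have hsurj : Function.Surjective π := by
    intro g
    let τ : Representation ℂ N V := σ.comp (conjN N g).toMonoidHom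
    have hτ : τ.character = σ.character := by
      funext n
      have := congrFun (congrArg Subtype.val (hinv g)) n
      rw [conjIrr_apply, ← hσc] at this
      exact this
    obtain ⟨B, hB, hBc⟩ := exists_intertwiner σ τ hσ hτ
    have hdB : LinearMap.det B ≠ 0 := (hB.map LinearMap.det).ne_zero
    obtain ⟨c, hc⟩ := IsAlgClosed.exists_pow_nat_eq (LinearMap.det B)⁻¹ (Nat.pos_of_ne_zero hd)
    have hc0 : c ≠ 0 := fun h => inv_ne_zero hdB (by rw [← hc, h, zero_pow hd])
    have hcB : IsUnit (c • B) := hB.smul (Units.mk0 c hc0)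
    refine ⟨⟨(g, hcB.unit), fun n => ?_, ?_⟩, rfl⟩
    · show (c • B) * σ n = σ (conjN N g n) * (c • B)
      rw [smul_mul_assoc, mul_smul_comm, hBc]
      rfl
    · show LinearMap.det (c • B) ^ k = 1
      rw [LinearMap.det_smul, Module.finrank_fin_fun, hc, inv_mul_cancel₀ hdB, one_pow]
  have hnorm : (ι.range).Normal := by
    refine ⟨?_⟩
    rintro _ ⟨n, rfl⟩ x
    refine ⟨conjN N (x : G × Uv).1 n, Subtype.ext (Prod.ext ?_ (Units.ext ?_))⟩
    · show ((conjN N (x : G × Uv).1 n : N) : G) = _
      rw [conjN_coe]; rfl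
    · show σ (conjN N (x : G × Uv).1 n) = (A x) * σ n * ((x : G × Uv).2⁻¹ : Uv)
      rw [show A x * σ n = σ (conjN N (x : G × Uv).1 n) * A x from x.2.1 n, mul_assoc]
      show _ = σ _ * (((x : G × Uv).2 : Module.End ℂ V) * _)
      rw [Units.mul_inv, mul_one]
  have hirr : A.IsIrreducible := by
    refine (isIrreducible_iff A).2 ⟨inferInstance, fun W hW => ?_⟩
    exact ((isIrreducible_iff σ).1 hσ).2 W fun n v hv => hW (ι n) v hv
  exact ⟨E, inferInstance, hfin, π, ι, ⟨A.character, d, A, hirr, rfl⟩, hsurj, fun n => rfl, hnorm, hcenter,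
    fun n => by rw [← hσc]; rfl⟩

end CfsgLib.CharCover
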