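import Mathlib
import Cfsg.Agent.Lib.CharExtend
import Cfsg.Agent.Lib.CharCover

/-!
# Degrees over a normal subgroup, and extendibility
-/

set_option autoImplicit false

namespace CfsgLib.CharDegree

open Cfsg CfsgLib.Chars
open scoped ComplexConjugate

universe u

variable {G : Type u} [Group G] [Finite G]

/-- A central subgroup acts by a linear character. -/
theorem exists_central_hom (χ : IrrCharacter G) (Z : Subgroup G) (hZ : Z ≤ Subgroup.center G) :
    ∃ lam : Z →* ℂˣ, ∀ z : Z, (χ : G → ℂ) z = (lam z : ℂ) * (χ : G → ℂ) 1 := by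
  have h1 := irr_one_ne_zero χ
  let f : Z →* ℂ :=
    { toFun := fun z => (χ : G → ℂ) z / (χ : G → ℂ) 1
      map_one' := by simp [h1]
      map_mul' := fun y z => by
        have h := mul_central χ (hZ y.2) (z : G)
        show (χ : G → ℂ) ((y : G) * (z : G)) / _ = _
        field_simp
        exact h }
  refine ⟨f.toHomUnits, fun z => ?_⟩
  rw [MonoidHom.coe_toHomUnits]
  exact (div_mul_cancel₀ _ h1).symm

omit [Finite G] in
theorem classInner_comp_range {E : Type u} [Group E] [Fintype E] {N : Type u} [Group N] [Fintype N]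
    (ι : N →* E) (hι : Function.Injective ι) [Fintype ι.range] (f g : E → ℂ) :
    classInner (fun x : ι.range => f x) (fun x : ι.range => g x) =
      classInner (fun n : N => f (ι n)) (fun n : N => g (ι n)) := by
  have e : Nat.card ι.range = Nat.card N := (Nat.card_congr (MonoidHom.ofInjective hι).toEquiv).symm
  simp only [classInner, e]
  congr 1
  exact (Fintype.sum_equiv (MonoidHom.ofInjective hι).toEquiv _ _ fun n => rfl).symm

/-- A character with irreducible restriction is irreducible. -/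
theorem isIrr_of_restrict {φ : G → ℂ} (hφ : IsCharacter G φ) (M : Subgroup G) (θ : IrrCharacter M)
    (hres : ∀ m : M, φ m = (θ : M → ℂ) m) : IsIrrCharacter G φ := by
  classical
  haveI : Fintype M := Fintype.ofFinite M
  obtain ⟨l, hl⟩ := exists_list_irr hφ
  have hdeg : ∀ w : List (IrrCharacter G), (w.map Subtype.val).sum (1 : G) =
      (((w.map fun x : IrrCharacter G => charDegree (x : G → ℂ)).sum : ℕ) : ℂ) := by
    intro w; induction w with
    | nil => simp
    | cons x w ih => simp only [List.map_cons, List.sum_cons, Pi.add_apply, Nat.cast_add, ih, irr_apply_one]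
  have hsum : ∀ w : List (IrrCharacter G), classInner (fun m : M => (w.map Subtype.val).sum (m : G)) (θ : M → ℂ) ≠ 0 →
      ∃ x ∈ w, classInner (fun m : M => (x : G → ℂ) m) (θ : M → ℂ) ≠ 0 := by
    intro w; induction w with
    | nil => intro h; exact absurd (by simp [classInner]) h
    | cons x w ih =>
      intro h
      by_cases hx : classInner (fun m : M => (x : G → ℂ) m) (θ : M → ℂ) = 0
      · obtain ⟨y, hy, hy'⟩ := ih (fun h0 => h (by
          have : classInner (fun m : M => ((x :: w).map Subtype.val).sum (m : G)) (θ : M → ℂ) =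
              classInner (fun m : M => (x : G → ℂ) m) (θ : M → ℂ) +
              classInner (fun m : M => (w.map Subtype.val).sum (m : G)) (θ : M → ℂ) := by
            simp [classInner, add_mul, Finset.sum_add_distrib, mul_add]
          rw [this, hx, h0, add_zero]))
        exact ⟨y, List.mem_cons_of_mem _ hy, hy'⟩
      · exact ⟨x, List.mem_cons_self .., hx⟩
  obtain ⟨x, hx, hxθ⟩ := hsum l (by
    rw [← hl, show (fun m : M => φ m) = (θ : M → ℂ) from funext hres, classInner_irr, if_pos rfl]
    exact one_ne_zero)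
  have h1 : charDegree (θ : M → ℂ) ≤ charDegree (x : G → ℂ) := by
    refine (charDegree_le_of_constituent (IsCharacter.restrict (isCharacter_irr x) M) θ hxθ).trans (le_of_eq ?_)
    simp only [charDegree, OneMemClass.coe_one]
  have h2 : (charDegree (θ : M → ℂ)) = (l.map fun x : IrrCharacter G => charDegree (x : G → ℂ)).sum := by
    have h3 := hres 1
    rw [OneMemClass.coe_one, hl, hdeg, irr_apply_one, Nat.cast_inj] at h3
    exact h3.symm
  obtain ⟨t, u, rfl⟩ := List.append_of_mem hx
  rw [h2, List.map_append, List.map_cons, List.sum_append, List.sum_cons] at h1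
  have hnil : ∀ w : List (IrrCharacter G), (w.map fun y : IrrCharacter G => charDegree (y : G → ℂ)).sum = 0 → w = [] := by
    intro w hw
    cases w with
    | nil => rfl
    | cons y w =>
      have := charDegree_pos y
      simp only [List.map_cons, List.sum_cons] at hw
      omega
  rw [hnil t (by omega), hnil u (by omega), List.nil_append] at hl
  simp only [List.map_cons, List.map_nil, List.sum_cons, List.sum_nil, add_zero] at hl
  rw [hl]
  exact x.2

variable (N : Subgroup G) [N.Normal] [Fintype N]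

/-- The data attached to a character over an invariant character. -/
theorem exists_factor (θ : IrrCharacter N) (hinv : ∀ g, conjIrr N θ g = θ) :
    ∃ (E : Type u) (_ : Group E) (_ : Finite E) (π : E →* G) (ι : N →* E) (α : IrrCharacter E),
      Function.Surjective π ∧ (∀ n, π (ι n) = (n : G)) ∧ (ι.range).Normal ∧
      π.ker ≤ Subgroup.center E ∧ (∀ n, (α : E → ℂ) (ι n) = (θ : N → ℂ) n) ∧
      ∀ χ : IrrCharacter G, classInner (fun n : N => (χ : G → ℂ) n) (θ : N → ℂ) ≠ 0 →
        ∃ β : IrrCharacter E, (∀ n, (β : E → ℂ) (ι n) = (β : E → ℂ) 1) ∧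
          (∀ x, (χ : G → ℂ) (π x) = (α : E → ℂ) x * (β : E → ℂ) x) ∧
          charDegree (β : E → ℂ) ∣ N.index := by
  classical
  obtain ⟨E, gE, fE, π, ι, α, hπ, hπι, hnorm, hcen, hα⟩ := CfsgLib.CharCover.exists_cover N θ hinv
  refine ⟨E, gE, fE, π, ι, α, hπ, hπι, hnorm, hcen, hα, fun χ hχ => ?_⟩
  haveI := Fintype.ofFinite E
  haveI := hnorm
  haveI : Fintype ι.range := Fintype.ofFinite _
  have hι : Function.Injective ι := fun a b h => Subtype.ext (by rw [← hπι a, ← hπι b, h])
  obtain ⟨θ', hθ'⟩ : ∃ θ' : IrrCharacter ι.range, ∀ x : ι.range, (α : E → ℂ) x = (θ' : ι.range → ℂ) x := by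
    refine ⟨⟨fun x => (θ : N → ℂ) ((MonoidHom.ofInjective hι).symm x),
      IsIrrCharacter.comp θ.2 (MonoidHom.ofInjective hι).symm.toMonoidHom (MonoidHom.ofInjective hι).symm.surjective⟩, ?_⟩
    intro x
    obtain ⟨n, rfl⟩ := (MonoidHom.ofInjective hι).surjective x
    simp [MonoidHom.ofInjective_apply, hα]
  let χE : IrrCharacter E := ⟨fun x => (χ : G → ℂ) (π x), IsIrrCharacter.comp χ.2 π hπ⟩
  have hover : classInner (fun x : ι.range => (χE : E → ℂ) x) (θ' : ι.range → ℂ) ≠ 0 := by
    have e : (θ' : ι.range → ℂ) = fun x : ι.range => (α : E → ℂ) x := funext fun x => (hθ' x).symm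
    rw [e, classInner_comp_range ι hι]
    simpa only [χE, hπι, hα] using hχ
  obtain ⟨β, hker, hprod⟩ := CfsgLib.CharExtend.gallagher ι.range α θ' hθ' χE hover
  refine ⟨β, fun n => hker _ ⟨n, rfl⟩, hprod, ?_⟩
  obtain ⟨β', hβ'⟩ := exists_deflate ι.range β hker
  let q := QuotientGroup.mk' ι.range
  have hdeg : charDegree (β : E → ℂ) = charDegree (β' : E ⧸ ι.range → ℂ) := by
    rw [hβ']; rfl
  let H : Subgroup (E ⧸ ι.range) := π.ker.map q
  have hH : H ≤ Subgroup.center (E ⧸ ι.range) := by
    rintro _ ⟨z, hz, rfl⟩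
    refine Subgroup.mem_center_iff.2 fun y => ?_
    obtain ⟨y, rfl⟩ := QuotientGroup.mk'_surjective ι.range y
    rw [← map_mul, ← map_mul, Subgroup.mem_center_iff.1 (hcen hz) y]
  haveI : H.Normal := Subgroup.Normal.map inferInstance q (QuotientGroup.mk'_surjective _)
  obtain ⟨lam, hlam⟩ := exists_central_hom β' H hH
  rw [hdeg]
  refine (CfsgLib.CharExtend.dvd_index_of_scalar β' H lam hlam).trans (dvd_of_eq ?_)
  have hcom : N.comap π = π.ker ⊔ ι.range := by
    ext x
    constructor
    · intro hx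
      have h : x * (ι ⟨π x, hx⟩)⁻¹ ∈ π.ker := by
        rw [MonoidHom.mem_ker, map_mul, map_inv, hπι]; exact mul_inv_cancel _
      have := Subgroup.mul_mem (π.ker ⊔ ι.range) ((le_sup_left : π.ker ≤ _) h) ((le_sup_right : ι.range ≤ _) ⟨⟨π x, hx⟩, rfl⟩)
      simpa using this
    · intro hx
      refine (sup_le ?_ ?_ : π.ker ⊔ ι.range ≤ N.comap π) hx
      · intro z hz
        rw [Subgroup.mem_comap, MonoidHom.mem_ker.1 hz]; exact N.one_mem
      · rintro _ ⟨n, rfl⟩
        rw [Subgroup.mem_comap, hπι]; exact n.2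
  rw [Subgroup.index_map, MonoidHom.range_eq_top.2 (QuotientGroup.mk'_surjective _), Subgroup.index_top, mul_one,
    QuotientGroup.ker_mk', ← hcom, Subgroup.index_comap_of_surjective _ hπ]

variable [Fintype G]

/-- The ratio of degrees over an invariant character divides the index. -/
theorem degree_invariant (θ : IrrCharacter N) (hinv : ∀ g, conjIrr N θ g = θ) (χ : IrrCharacter G)
    (hχ : classInner (fun n : N => (χ : G → ℂ) n) (θ : N → ℂ) ≠ 0) :
    ∃ e : ℕ, charDegree (χ : G → ℂ) = e * charDegree (θ : N → ℂ) ∧ e ∣ N.index := by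
  obtain ⟨E, _, _, π, ι, α, -, -, -, -, hα, h⟩ := exists_factor N θ hinv
  obtain ⟨β, -, hprod, hdvd⟩ := h χ hχ
  refine ⟨_, ?_, hdvd⟩
  have h1 := hprod 1
  have h2 := hα 1
  rw [map_one] at h1 h2
  rw [h2, irr_apply_one, irr_apply_one, irr_apply_one, ← Nat.cast_mul, Nat.cast_inj] at h1
  rw [h1, mul_comm]

/-- Reduction to the inertia group. -/
theorem exists_inertia (θ : IrrCharacter N) (χ : IrrCharacter G)
    (hχ : classInner (fun n : N => (χ : G → ℂ) n) (θ : N → ℂ) ≠ 0) :
    ∃ (T : Subgroup G) (e : ℕ), N ≤ T ∧ (∀ g, g ∈ T ↔ conjIrr N θ g = θ) ∧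
      charDegree (χ : G → ℂ) = T.index * e * charDegree (θ : N → ℂ) ∧ e ∣ N.relIndex T := by
  classical
  let T : Subgroup G :=
    { carrier := {g | conjIrr N θ g = θ}
      mul_mem' := fun {a b} ha hb => by
        show conjIrr N θ (a * b) = θ
        rw [conjIrr_mul, show conjIrr N θ a = θ from ha, show conjIrr N θ b = θ from hb]
      one_mem' := conjIrr_one N θ
      inv_mem' := fun {a} ha => by
        show conjIrr N θ a⁻¹ = θ
        nth_rewrite 1 [← show conjIrr N θ a = θ from ha]
        rw [← conjIrr_mul, mul_inv_cancel, conjIrr_one] }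
  have hmem : ∀ g, g ∈ T ↔ conjIrr N θ g = θ := fun g => Iff.rfl
  have hNT : N ≤ T := fun x hx => Subtype.ext (funext fun n =>
    (conjIrr_apply' N θ x n).trans (IsCharacter.isClassFunction (isCharacter_irr θ) n ⟨x, hx⟩))
  haveI : Fintype T := Fintype.ofFinite T
  haveI : Fintype (N.subgroupOf T) := Fintype.ofFinite _
  haveI : (N.subgroupOf T).Normal := inferInstance
  let eqv : N.subgroupOf T ≃* N := Subgroup.subgroupOfEquivOfLe hNT
  let θT : IrrCharacter (N.subgroupOf T) :=
    ⟨fun x => (θ : N → ℂ) (eqv x), IsIrrCharacter.comp θ.2 eqv.toMonoidHom eqv.surjective⟩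
  have hinvT : ∀ g : T, conjIrr (N.subgroupOf T) θT g = θT := by
    intro g
    apply Subtype.ext; funext x
    rw [conjIrr_apply]
    show (θ : N → ℂ) (eqv (conjN (N.subgroupOf T) g x)) = (θ : N → ℂ) (eqv x)
    have h := congrFun (congrArg Subtype.val ((hmem g).1 g.2)) (eqv x)
    rw [conjIrr_apply] at h
    rw [← h]
    congr 1
  have hrestr : ∀ f : T → ℂ, classInner (fun x : N.subgroupOf T => f x) (θT : N.subgroupOf T → ℂ) =
      classInner (fun n : N => f ⟨n, hNT n.2⟩) (θ : N → ℂ) := by
    intro f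
    simp only [classInner, Nat.card_congr eqv.toEquiv]
    congr 1
    exact Fintype.sum_equiv eqv.toEquiv _ _ fun x => rfl
  -- a constituent of the restriction to `T` lying over `θ`
  have hres : IsCharacter T (fun t : T => (χ : G → ℂ) t) := IsCharacter.restrict (isCharacter_irr χ) T
  obtain ⟨ψ, hψ, hψθ⟩ : ∃ ψ : IrrCharacter T, classInner (fun t : T => (χ : G → ℂ) t) (ψ : T → ℂ) ≠ 0 ∧
      classInner (fun x : N.subgroupOf T => (ψ : T → ℂ) x) (θT : N.subgroupOf T → ℂ) ≠ 0 := by
    by_contra hc
    push Not at hc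
    apply hχ
    rw [← hrestr (fun t : T => (χ : G → ℂ) t)]
    rw [show (fun x : N.subgroupOf T => (χ : G → ℂ) ((x : T) : G)) = fun x : N.subgroupOf T =>
      ∑ ψ : IrrCharacter T, classInner (fun t : T => (χ : G → ℂ) t) (ψ : T → ℂ) * (ψ : T → ℂ) x from
        funext fun x => classFunction_expand (IsCharacter.isClassFunction hres) (x : T), classInner_sum]
    refine Finset.sum_eq_zero fun ψ _ => ?_
    by_cases h : classInner (fun t : T => (χ : G → ℂ) t) (ψ : T → ℂ) = 0
    · rw [h, zero_mul]
    · rw [hc ψ h, mul_zero]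
  obtain ⟨e, he, hedvd⟩ := degree_invariant (N.subgroupOf T) θT hinvT ψ hψθ
  obtain ⟨a, -, ha, -, hdeg⟩ := clifford N χ θ hχ
  obtain ⟨b, -, hb, -, hdegψ⟩ := clifford (N.subgroupOf T) ψ θT hψθ
  have horb1 : (orbit (N.subgroupOf T) θT).card = 1 := by
    rw [Finset.card_eq_one]
    refine ⟨θT, Finset.eq_singleton_iff_unique_mem.2 ⟨(mem_orbit _).2 ⟨1, (conjIrr_one _ _).symm⟩, fun x hx => ?_⟩⟩
    obtain ⟨g, rfl⟩ := (mem_orbit _).1 hx
    exact hinvT g
  have hθdeg : charDegree (θT : N.subgroupOf T → ℂ) = charDegree (θ : N → ℂ) := by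
    simp only [charDegree, θT, map_one]
  rw [horb1, mul_one, hθdeg] at hdegψ
  rw [hθdeg] at he
  have heb : e = b := Nat.eq_of_mul_eq_mul_right (charDegree_pos θ) (he.symm.trans hdegψ)
  -- the orbit has `T.index` elements
  have hiff : ∀ x y : G, conjIrr N θ x⁻¹ = conjIrr N θ y⁻¹ ↔ x⁻¹ * y ∈ T := by
    intro x y
    rw [hmem, conjIrr_mul]
    constructor
    · intro h
      rw [h, ← conjIrr_mul, inv_mul_cancel, conjIrr_one]
    · intro h
      conv_rhs => rw [← h]
      rw [← conjIrr_mul, mul_inv_cancel, conjIrr_one]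
  have horb : (orbit N θ).card = T.index := by
    rw [← Nat.card_eq_finsetCard, Subgroup.index]
    symm
    refine Nat.card_eq_of_bijective (Quotient.lift (fun g : G => (⟨conjIrr N θ g⁻¹, (mem_orbit N).2 ⟨_, rfl⟩⟩ : orbit N θ)) ?_) ⟨?_, ?_⟩
    · intro x y hxy
      exact Subtype.ext ((hiff x y).2 (QuotientGroup.leftRel_apply.1 hxy))
    · intro p q
      refine Quotient.inductionOn₂ p q fun x y h => Quotient.sound ?_
      exact QuotientGroup.leftRel_apply.2 ((hiff x y).1 (congrArg Subtype.val h))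
    · rintro ⟨ψ', hψ'⟩
      obtain ⟨g, rfl⟩ := (mem_orbit N).1 hψ'
      exact ⟨QuotientGroup.mk g⁻¹, Subtype.ext (by show conjIrr N θ g⁻¹⁻¹ = _; rw [inv_inv])⟩
  have hNT' : (N.subgroupOf T).index = N.relIndex T := rfl
  refine ⟨T, e, hNT, hmem, ?_, hedvd⟩
  rw [hdeg, horb]
  -- `χ 1` is squeezed between `ψ` and the induced character
  have h1 : e ≤ a := by
    obtain ⟨m, hm⟩ := exists_mult hres ψ
    have hm0 : m ≠ 0 := fun h => hψ (by rw [hm, h, Nat.cast_zero])
    choose c hc using exists_mult hres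
    choose c' hc' using fun φ : IrrCharacter T => exists_mult (IsCharacter.restrict (isCharacter_irr φ) (N.subgroupOf T)) θT
    have hsum : (a : ℂ) = ((∑ φ : IrrCharacter T, c φ * c' φ : ℕ) : ℂ) := by
      rw [← ha, ← hrestr (fun t : T => (χ : G → ℂ) t),
        show (fun x : N.subgroupOf T => (χ : G → ℂ) ((x : T) : G)) = fun x : N.subgroupOf T =>
          ∑ φ : IrrCharacter T, classInner (fun t : T => (χ : G → ℂ) t) (φ : T → ℂ) * (φ : T → ℂ) x from
            funext fun x => classFunction_expand (IsCharacter.isClassFunction hres) (x : T), classInner_sum]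
      push_cast
      exact Finset.sum_congr rfl fun φ _ => by rw [hc, hc']
    have hsum' : a = ∑ φ : IrrCharacter T, c φ * c' φ := by exact_mod_cast hsum
    have hcψ : c ψ = m := by exact_mod_cast ((hc ψ).symm.trans hm)
    have hc'ψ : c' ψ = b := by exact_mod_cast ((hc' ψ).symm.trans hb)
    calc e = 1 * c' ψ := by rw [one_mul, hc'ψ, heb]
      _ ≤ c ψ * c' ψ := Nat.mul_le_mul_right _ (by omega)
      _ ≤ a := hsum' ▸ Finset.single_le_sum (f := fun φ => c φ * c' φ) (fun _ _ => Nat.zero_le _) (Finset.mem_univ ψ)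
  have h2 : charDegree (χ : G → ℂ) ≤ T.index * (e * charDegree (θ : N → ℂ)) := by
    have hind := IsCharacter.indFun T (isCharacter_irr ψ)
    have hne : classInner (indFun T (ψ : T → ℂ)) (χ : G → ℂ) ≠ 0 := by
      rw [frobenius T _ (IsCharacter.isClassFunction (isCharacter_irr χ)), classInner_character_comm (isCharacter_irr ψ) hres]
      exact hψ
    refine (charDegree_le_of_constituent hind χ hne).trans (le_of_eq ?_)
    rw [← he]
    rw [charDegree, indFun_one, irr_apply_one, ← Nat.cast_mul, Complex.natCast_re, Nat.floor_natCast]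
  rw [hdeg, horb] at h2
  have h3 : a ≤ e := by
    refine Nat.le_of_mul_le_mul_left ?_ (Nat.mul_pos (Nat.pos_of_ne_zero (T.index_ne_zero_of_finite)) (charDegree_pos θ))
    calc T.index * charDegree (θ : N → ℂ) * a = a * T.index * charDegree (θ : N → ℂ) := by ring
      _ ≤ T.index * (e * charDegree (θ : N → ℂ)) := h2
      _ = T.index * charDegree (θ : N → ℂ) * e := by ring
  rw [le_antisymm h3 h1, mul_comm e]

end CfsgLib.CharDegree
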