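import Mathlib
import Cfsg.Prelude.Def_CharExt
import Cfsg.Agent.Lib.CharDegree

/-!
# Criteria for extending invariant characters
-/

set_option autoImplicit false

namespace CfsgLib.Extendible

open Cfsg CfsgLib.Chars
open scoped ComplexConjugate

universe u

variable {G : Type u} [Group G] [Finite G]

/-- The determinantal character does not depend on the representation. -/
theorem detChar_eq {d : ℕ} (ρ : Representation ℂ G (Fin d → ℂ)) (hρ : ρ.IsIrreducible) {φ : G → ℂ}
    (h : ρ.character = φ) (g : G) : detChar φ g = LinearMap.det (ρ g) := by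
  have hφ : IsCharacter G φ := ⟨d, ρ, h⟩
  rw [detChar, dif_pos hφ]
  have hspec := Classical.choose_spec (Classical.choose_spec hφ)
  revert hspec
  generalize Classical.choose (Classical.choose_spec hφ) = τ
  revert τ
  generalize Classical.choose hφ = m
  intro τ hτ
  have hm : m = d := by
    have h1 : τ.character 1 = ρ.character 1 := by rw [hτ, h]
    rw [Representation.char_one, Representation.char_one, Module.finrank_fin_fun, Module.finrank_fin_fun] at h1
    exact_mod_cast h1
  subst hm
  obtain ⟨B, hB, hc⟩ := CfsgLib.CharCover.exists_intertwiner ρ τ hρ (hτ.trans h.symm)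
  have h1 := congrArg LinearMap.det (hc g)
  rw [map_mul, map_mul, mul_comm] at h1
  exact (mul_right_cancel₀ (hB.map LinearMap.det).ne_zero h1).symm

/-- The determinantal character of an irreducible character, as a homomorphism. -/
theorem exists_detHom (χ : IrrCharacter G) :
    ∃ f : G →* ℂˣ, ∀ g, (f g : ℂ) = detChar (χ : G → ℂ) g := by
  obtain ⟨d, ρ, hρ, hc⟩ := χ.2
  refine ⟨((LinearMap.det : Module.End ℂ (Fin d → ℂ) →* ℂ).comp ρ).toHomUnits, fun g => ?_⟩
  rw [MonoidHom.coe_toHomUnits, detChar_eq ρ hρ hc]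
  rfl

/-- A representation scalar at a central element has determinant the scalar to the degree. -/
theorem det_central (χ : IrrCharacter G) {z : G} (hz : z ∈ Subgroup.center G) :
    detChar (χ : G → ℂ) z = ((χ : G → ℂ) z / (χ : G → ℂ) 1) ^ charDegree (χ : G → ℂ) := by
  obtain ⟨d, ρ, hρ, hc⟩ := χ.2
  rw [detChar_eq ρ hρ hc]
  obtain ⟨c, hcz⟩ := CfsgLib.CharCover.exists_scalar ρ hρ (ρ z) fun g => by
    rw [← map_mul, ← map_mul, Subgroup.mem_center_iff.1 hz g]
  have hd : charDegree (χ : G → ℂ) = d := by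
    rw [← hc]; simp [charDegree, Representation.char_one]
  have h1 : (χ : G → ℂ) z = c * (χ : G → ℂ) 1 := by
    rw [← hc]
    simp only [Representation.character, hcz, map_one, map_smul, smul_eq_mul]
  rw [hcz, h1, LinearMap.det_smul, map_one, mul_one, Module.finrank_fin_fun, hd,
    mul_div_cancel_right₀ _ (irr_one_ne_zero χ)]

/-- An invariant character extends if, for each prime, it either extends to a subgroup of index
prime to it, or a suitable power of its determinant extends. -/
theorem extends_of_local (N : Subgroup G) [N.Normal] [Fintype N] (θ : IrrCharacter N)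
    (hinv : ∀ g, conjIrr N θ g = θ)
    (hloc : ∀ p : ℕ, p.Prime →
      (∃ (P : Subgroup G) (hNP : N ≤ P) (η : P → ℂ), Nat.Coprime P.index p ∧ IsIrrCharacter P η ∧
        ∀ n : N, η ⟨(n : G), hNP n.2⟩ = (θ : N → ℂ) n) ∨
      (∃ (k : ℕ) (μ : G →* ℂˣ), Nat.Coprime (charDegree (θ : N → ℂ) * k) p ∧
        ∀ n : N, (μ n : ℂ) = detChar (θ : N → ℂ) n ^ k)) :
    ∃ χ : IrrCharacter G, ∀ n : N, (χ : G → ℂ) n = (θ : N → ℂ) n := by
  classical
  haveI := Fintype.ofFinite G
  obtain ⟨E, _, _, π, ι, α, hπ, hπι, hnorm, hcen, hα⟩ := CfsgLib.CharCover.exists_cover N θ hinv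
  haveI := Fintype.ofFinite E
  haveI := hnorm
  have hι : Function.Injective ι := fun a b h => Subtype.ext (by rw [← hπι a, ← hπι b, h])
  obtain ⟨a, ha⟩ := CfsgLib.CharDegree.exists_central_hom α π.ker hcen
  have key : ∀ p : ℕ, p.Prime → ∃ (m : ℕ) (L : E →* ℂˣ), Nat.Coprime m p ∧
      (∀ n, L (ι n) = 1) ∧ ∀ z : π.ker, L z = ((a z)⁻¹) ^ (m : ℤ) := by
    intro p hp
    rcases hloc p hp with ⟨P, hNP, η, hcop, hη, hηn⟩ | ⟨k, μ, hcop, hμ⟩
    · let R : Subgroup E := P.comap π
      haveI : Fintype R := Fintype.ofFinite R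
      have hιR : ∀ n, ι n ∈ R := fun n => by show π (ι n) ∈ P; rw [hπι]; exact hNP n.2
      let ιR : N →* R := ι.codRestrict R hιR
      haveI : ιR.range.Normal := by
        refine ⟨?_⟩
        rintro _ ⟨n, rfl⟩ x
        obtain ⟨m, hm⟩ := hnorm.conj_mem (ι n) ⟨n, rfl⟩ (x : E)
        exact ⟨m, Subtype.ext hm⟩
      haveI : Fintype ιR.range := Fintype.ofFinite _
      have hιRinj : Function.Injective ιR := fun x y h => hι (congrArg Subtype.val h)
      let eN := MonoidHom.ofInjective hιRinj
      let θR : IrrCharacter ιR.range := ⟨fun x => (θ : N → ℂ) (eN.symm x),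
        IsIrrCharacter.comp θ.2 eN.symm.toMonoidHom eN.symm.surjective⟩
      let αR : R → ℂ := fun x => (α : E → ℂ) x
      have hres : ∀ x : ιR.range, αR x = (θR : ιR.range → ℂ) x := by
        intro x
        obtain ⟨n, rfl⟩ := eN.surjective x
        show (α : E → ℂ) (ι n) = (θ : N → ℂ) (eN.symm (eN n))
        rw [MulEquiv.symm_apply_apply, hα]
      have hαR : IsIrrCharacter R αR := CfsgLib.CharDegree.isIrr_of_restrict
        (IsCharacter.restrict (isCharacter_irr α) R) ιR.range θR hres
      let πR : R →* P := (π.comp R.subtype).codRestrict P (fun x => x.2)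
      have hπR : Function.Surjective πR := fun x => by
        obtain ⟨y, hy⟩ := hπ x
        exact ⟨⟨y, show π y ∈ P by rw [hy]; exact x.2⟩, Subtype.ext hy⟩
      let ηR : IrrCharacter R := ⟨fun x => η (πR x), IsIrrCharacter.comp hη πR hπR⟩
      have hηι : ∀ x : ιR.range, (ηR : R → ℂ) x = (θR : ιR.range → ℂ) x := by
        intro x
        obtain ⟨n, rfl⟩ := eN.surjective x
        show η (πR (ιR n)) = (θ : N → ℂ) (eN.symm (eN n))
        rw [MulEquiv.symm_apply_apply]
        exact Eq.trans (congrArg η (Subtype.ext (hπι n) : πR (ιR n) = ⟨(n : G), hNP n.2⟩)) (hηn n)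
      have hover : classInner (fun x : ιR.range => (ηR : R → ℂ) x) (θR : ιR.range → ℂ) ≠ 0 := by
        have h := classInner_irr θR θR
        rw [if_pos rfl] at h
        rw [show (fun x : ιR.range => (ηR : R → ℂ) x) = (θR : ιR.range → ℂ) from funext hηι, h]
        exact one_ne_zero
      obtain ⟨β, hker, hprod⟩ := CfsgLib.CharExtend.gallagher ιR.range ⟨αR, hαR⟩ θR hres ηR hover
      have hβ1 : (β : R → ℂ) 1 = 1 := by
        have h1 := hprod 1
        have h2 := hηι 1
        have h3 := hres 1
        rw [OneMemClass.coe_one] at h2 h3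
        change (ηR : R → ℂ) 1 = αR 1 * _ at h1
        rw [h2, h3] at h1
        exact (mul_eq_left₀ (irr_one_ne_zero θR)).1 h1.symm
      obtain ⟨f, hf⟩ := IsCharacter.exists_hom (isCharacter_irr β) hβ1
      have hfι : ∀ x : R, x ∈ ιR.range → f x = 1 := fun x hx => Units.ext (by
        have := hker x hx
        rw [hβ1, hf] at this
        exact this)
      have hfz : ∀ (z : π.ker) (hz : (z : E) ∈ R), f ⟨z, hz⟩ = (a z)⁻¹ := by
        intro z hz
        refine eq_inv_of_mul_eq_one_left (Units.ext ?_)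
        have h := hprod ⟨z, hz⟩
        have hπz : πR ⟨z, hz⟩ = 1 := Subtype.ext z.2
        change η (πR ⟨z, hz⟩) = (α : E → ℂ) z * _ at h
        rw [hπz, ha z, hf] at h
        have h2 := hηι 1
        have h3 := hres 1
        rw [OneMemClass.coe_one] at h2 h3
        change η (πR 1) = _ at h2
        change (α : E → ℂ) 1 = _ at h3
        rw [map_one] at h2
        rw [h2, ← h3, mul_comm ((a z : ℂˣ) : ℂ), mul_assoc] at h
        have h4 := ((mul_eq_left₀ (irr_one_ne_zero α)).1 h.symm)
        rw [Units.val_mul, Units.val_one, mul_comm]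
        exact h4
      have hidx : R.index = P.index := Subgroup.index_comap_of_surjective _ hπ
      refine ⟨P.index, MonoidHom.transfer f, hcop, fun n => ?_, fun z => ?_⟩
      · haveI : Fintype (Quotient (MulAction.orbitRel (Subgroup.zpowers (ι n)) (E ⧸ R))) := Fintype.ofFinite _
        rw [MonoidHom.transfer_eq_prod_quotient_orbitRel_zpowers_quot]
        refine Finset.prod_eq_one fun q _ => hfι _ ?_
        have hmem : q.out.out⁻¹ * ι n ^ Function.minimalPeriod (ι n • ·) q.out * q.out.out ∈ ι.range := by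
          have := hnorm.conj_mem _ (ι.range.pow_mem ⟨n, rfl⟩ (Function.minimalPeriod (ι n • ·) q.out)) q.out.out⁻¹
          rwa [inv_inv] at this
        obtain ⟨m, hm⟩ := hmem
        exact ⟨m, Subtype.ext hm⟩
      · rw [MonoidHom.transfer_eq_pow]
        · rw [zpow_natCast, ← hidx]
          have hzR : (z : E) ∈ R := by show π z ∈ P; rw [MonoidHom.mem_ker.1 z.2]; exact P.one_mem
          rw [← hfz z hzR, ← map_pow]
          rfl
        · intro i g₀ _
          have hz := Subgroup.mem_center_iff.1 ((Subgroup.center E).pow_mem (hcen z.2) i) g₀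
          rw [mul_assoc, ← hz, inv_mul_cancel_left]
    · obtain ⟨D, hD⟩ := exists_detHom α
      refine ⟨charDegree (θ : N → ℂ) * k, (D ^ k)⁻¹ * μ.comp π, hcop, fun n => ?_, fun z => ?_⟩
      · apply Units.ext
        rw [MonoidHom.mul_apply, MonoidHom.inv_apply, MonoidHom.pow_apply, MonoidHom.comp_apply, hπι, Units.val_mul,
          Units.val_inv_eq_inv_val, Units.val_pow_eq_pow_val, hD, hμ]
        obtain ⟨d, A, hA, hAc⟩ := α.2
        obtain ⟨e, σ, hσ, hσc⟩ := θ.2
        have hde : d = e := by
          have h1 := hα 1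
          rw [map_one, ← hAc, ← hσc, Representation.char_one, Representation.char_one, Module.finrank_fin_fun,
            Module.finrank_fin_fun] at h1
          exact_mod_cast h1
        subst hde
        have hc' : Representation.character (A.comp ι) = σ.character := by
          funext m
          rw [hσc, ← hα m, ← hAc]
          rfl
        obtain ⟨B, hB, hBc⟩ := CfsgLib.CharCover.exists_intertwiner σ (A.comp ι) hσ hc'
        have h1 := congrArg LinearMap.det (hBc n)
        rw [map_mul, map_mul, mul_comm] at h1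
        have h2 := mul_right_cancel₀ (hB.map LinearMap.det).ne_zero h1
        have h3 : detChar (α : E → ℂ) (ι n) = detChar (θ : N → ℂ) n := by
          rw [detChar_eq A hA hAc, detChar_eq σ hσ hσc, h2]
          rfl
        have hne : detChar (θ : N → ℂ) n ≠ 0 := by
          rw [← h3, ← hD]; exact Units.ne_zero _
        rw [h3, Units.val_one, inv_mul_cancel₀ (pow_ne_zero _ hne)]
      · apply Units.ext
        rw [MonoidHom.mul_apply, MonoidHom.inv_apply, MonoidHom.pow_apply, MonoidHom.comp_apply,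
          MonoidHom.mem_ker.1 z.2, map_one, mul_one, zpow_natCast, inv_pow, Units.val_inv_eq_inv_val,
          Units.val_inv_eq_inv_val, Units.val_pow_eq_pow_val, Units.val_pow_eq_pow_val, hD, det_central α (hcen z.2), ha z,
          mul_div_cancel_right₀ _ (irr_one_ne_zero α), pow_mul]
        congr 3
        have h1 := hα 1
        rw [map_one] at h1
        simp only [charDegree, h1]
  let S : AddSubgroup ℤ :=
    { carrier := {m | ∃ L : E →* ℂˣ, (∀ n, L (ι n) = 1) ∧ ∀ z : π.ker, L z = ((a z)⁻¹) ^ m}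
      zero_mem' := ⟨1, fun _ => rfl, fun z => by simp⟩
      add_mem' := by
        rintro x y ⟨L, h1, h2⟩ ⟨M, h3, h4⟩
        exact ⟨L * M, fun n => by simp [h1, h3], fun z => by rw [MonoidHom.mul_apply, h2, h4, zpow_add]⟩
      neg_mem' := by
        rintro x ⟨L, h1, h2⟩
        exact ⟨L⁻¹, fun n => by simp [h1], fun z => by rw [MonoidHom.inv_apply, h2, zpow_neg]⟩ }
  obtain ⟨k, hk⟩ := Int.subgroup_cyclic S
  have hk1 : (1 : ℤ) ∈ S := by
    have hdvd : ∀ m : ℤ, m ∈ S → k ∣ m := by
      intro m hm
      rw [hk, AddSubgroup.mem_closure_singleton] at hm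
      obtain ⟨j, rfl⟩ := hm
      exact ⟨j, by rw [zsmul_eq_mul, Int.cast_id, mul_comm]⟩
    have hu : k.natAbs = 1 := by
      by_contra hne
      obtain ⟨p, hp, hpk⟩ := Nat.exists_prime_and_dvd hne
      obtain ⟨m, L, hcop, h1, h2⟩ := key p hp
      have h3 : k.natAbs ∣ m := Int.natCast_dvd_natCast.1 (Int.natAbs_dvd.2 (hdvd m ⟨L, h1, h2⟩))
      exact hp.coprime_iff_not_dvd.1 hcop.symm (hpk.trans h3)
    have hkmem : k ∈ S := hk ▸ AddSubgroup.subset_closure rfl
    rcases Int.natAbs_eq k with h | h <;> rw [hu] at h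
    · simpa [h] using hkmem
    · simpa [h] using S.neg_mem hkmem
  obtain ⟨L, hL1, hL2⟩ := hk1
  let X : IrrCharacter E := ⟨_, isIrrCharacter_hom_mul L α⟩
  obtain ⟨ψ, hψ⟩ := exists_deflate π.ker X (fun z hz => by
    show (L z : ℂ) * (α : E → ℂ) z = (L 1 : ℂ) * (α : E → ℂ) 1
    rw [ha ⟨z, hz⟩, hL2 ⟨z, hz⟩, zpow_one, map_one, Units.val_one, one_mul, ← mul_assoc, ← Units.val_mul, inv_mul_cancel,
      Units.val_one, one_mul])
  let e : E ⧸ π.ker ≃* G := QuotientGroup.quotientKerEquivOfSurjective π hπ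
  refine ⟨⟨fun g => (ψ : E ⧸ π.ker → ℂ) (e.symm g),
    IsIrrCharacter.comp ψ.2 e.symm.toMonoidHom e.symm.surjective⟩, fun n => ?_⟩
  have he : e.symm (n : G) = QuotientGroup.mk (ι n) := e.symm_apply_eq.2 (hπι n).symm
  show (ψ : E ⧸ π.ker → ℂ) (e.symm (n : G)) = _
  rw [he]
  refine Eq.trans (congrFun hψ (ι n)).symm ?_
  show (L (ι n) : ℂ) * (α : E → ℂ) (ι n) = _
  rw [hL1, hα, Units.val_one, one_mul]

end CfsgLib.Extendible
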