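import Mathlib
import Cfsg.Agent.Lib.Extendible

/-!
# Determinantal characters of extensions
-/

set_option autoImplicit false

namespace CfsgLib.DetChar

open Cfsg CfsgLib.Chars CfsgLib.Extendible
open scoped ComplexConjugate

universe u

variable {G : Type u} [Group G] [Finite G]

/-- Restriction commutes with the determinantal character. -/
theorem detChar_res (N : Subgroup G) (χ : IrrCharacter G) (θ : IrrCharacter N)
    (h : ∀ n : N, (χ : G → ℂ) n = (θ : N → ℂ) n) (n : N) :
    detChar (χ : G → ℂ) n = detChar (θ : N → ℂ) n := by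
  obtain ⟨d, A, hA, hAc⟩ := χ.2
  obtain ⟨e, σ, hσ, hσc⟩ := θ.2
  have hde : d = e := by
    have h1 := h 1
    rw [OneMemClass.coe_one, ← hAc, ← hσc, Representation.char_one, Representation.char_one, Module.finrank_fin_fun,
      Module.finrank_fin_fun] at h1
    exact_mod_cast h1
  subst hde
  have hc' : Representation.character (A.comp N.subtype) = σ.character := by
    funext m
    rw [hσc, ← h m, ← hAc]
    rfl
  obtain ⟨B, hB, hBc⟩ := CfsgLib.CharCover.exists_intertwiner σ (A.comp N.subtype) hσ hc'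
  have h1 := congrArg LinearMap.det (hBc n)
  rw [map_mul, map_mul, mul_comm] at h1
  rw [detChar_eq A hA hAc, detChar_eq σ hσ hσc, mul_right_cancel₀ (hB.map LinearMap.det).ne_zero h1]
  rfl

/-- The determinantal character of a twist by a linear character. -/
theorem detChar_twist (f : G →* ℂˣ) (χ : IrrCharacter G) (g : G) :
    detChar (fun x => (f x : ℂ) * (χ : G → ℂ) x) g =
      (f g : ℂ) ^ charDegree (χ : G → ℂ) * detChar (χ : G → ℂ) g := by
  obtain ⟨d, ρ, hρ, hc⟩ := χ.2
  let τ : Representation ℂ G (Fin d → ℂ) :=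
    { toFun := fun x => (f x : ℂ) • ρ x
      map_one' := by simp
      map_mul' := fun x y => by
        rw [map_mul, map_mul, Units.val_mul, smul_mul_assoc, mul_smul_comm, smul_smul] }
  have hτ : τ.IsIrreducible := by
    refine (isIrreducible_iff τ).2 ⟨((isIrreducible_iff ρ).1 hρ).1, fun W hW => ?_⟩
    refine ((isIrreducible_iff ρ).1 hρ).2 W fun x v hv => ?_
    have := W.smul_mem ((f x : ℂ))⁻¹ (hW x v hv)
    simpa [τ] using this
  have hd : charDegree (χ : G → ℂ) = d := by
    rw [← hc]; simp [charDegree, Representation.char_one]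
  rw [detChar_eq τ hτ (φ := fun x => (f x : ℂ) * (χ : G → ℂ) x) ?_, detChar_eq ρ hρ hc, hd]
  · show LinearMap.det ((f g : ℂ) • ρ g) = _
    rw [LinearMap.det_smul, Module.finrank_fin_fun]
  · funext x
    rw [← hc]
    simp [Representation.character, τ]

/-- The determinantal character of a linear character is itself. -/
theorem detChar_hom (f : G →* ℂˣ) (g : G) : detChar (fun x => (f x : ℂ)) g = (f g : ℂ) := by
  let one : IrrCharacter G := ⟨fun _ => 1, isIrrCharacter_one G⟩
  have h := detChar_twist f one g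
  have h1 : detChar (one : G → ℂ) g = 1 := by
    let ρ : Representation ℂ G (Fin 1 → ℂ) := 1
    have hρ : ρ.IsIrreducible := by
      refine (isIrreducible_iff ρ).2 ⟨inferInstance, fun W _ => ?_⟩
      rcases Nat.le_one_iff_eq_zero_or_eq_one.1 (le_of_le_of_eq (Submodule.finrank_le W) (Module.finrank_fin_fun (R := ℂ))) with h0 | h0
      · exact Or.inl (Submodule.finrank_eq_zero.1 h0)
      · exact Or.inr (Submodule.eq_top_of_finrank_eq (h0.trans (Module.finrank_fin_fun (R := ℂ)).symm))
    rw [detChar_eq ρ hρ (φ := (one : G → ℂ)) (funext fun x => by simp [Representation.character, ρ, one])]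
    simp [ρ]
  have h2 : charDegree (one : G → ℂ) = 1 := by simp [charDegree, one]
  rw [h1, h2, pow_one, mul_one] at h
  refine Eq.trans ?_ h
  congr 1
  funext x
  simp [one]

/-- Two extensions differ by a linear character trivial on the subgroup. -/
theorem exists_twist (N : Subgroup G) [N.Normal] (θ : IrrCharacter N) (α χ : IrrCharacter G)
    (hα : ∀ n : N, (α : G → ℂ) n = (θ : N → ℂ) n) (hχ : ∀ n : N, (χ : G → ℂ) n = (θ : N → ℂ) n) :
    ∃ f : G →* ℂˣ, (∀ n : N, f n = 1) ∧ ∀ x, (χ : G → ℂ) x = (f x : ℂ) * (α : G → ℂ) x := by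
  classical
  haveI := Fintype.ofFinite G
  haveI := Fintype.ofFinite N
  obtain ⟨β, hker, hprod⟩ := CfsgLib.CharExtend.gallagher N α θ hα χ (by
    rw [show (fun n : N => (χ : G → ℂ) n) = (θ : N → ℂ) from funext hχ, classInner_irr, if_pos rfl]
    exact one_ne_zero)
  have h1 := hprod 1
  have h2 := hχ 1
  have h3 := hα 1
  rw [OneMemClass.coe_one] at h2 h3
  rw [h2, h3] at h1
  have hβ1 : (β : G → ℂ) 1 = 1 := (mul_eq_left₀ (irr_one_ne_zero θ)).1 h1.symm
  obtain ⟨f, hf⟩ := IsCharacter.exists_hom (isCharacter_irr β) hβ1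
  refine ⟨f, fun n => Units.ext ?_, fun x => by rw [hprod x, hf, mul_comm]⟩
  have := hker n n.2
  rw [hβ1, hf] at this
  exact this

/-- The extension with prescribed determinant is unique. -/
theorem eq_of_detChar_eq (N : Subgroup G) [N.Normal] (θ : IrrCharacter N)
    (hcop : Nat.Coprime N.index (charDegree (θ : N → ℂ))) (α χ : IrrCharacter G)
    (hα : ∀ n : N, (α : G → ℂ) n = (θ : N → ℂ) n) (hχ : ∀ n : N, (χ : G → ℂ) n = (θ : N → ℂ) n)
    (hdet : ∀ g, (detChar (χ : G → ℂ) g) ^ N.index = (detChar (α : G → ℂ) g) ^ N.index → detChar (χ : G → ℂ) g = detChar (α : G → ℂ) g) :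
    (χ : G → ℂ) = (α : G → ℂ) := by
  obtain ⟨f, hf1, hf⟩ := exists_twist N θ α χ hα hχ
  have hd : charDegree (α : G → ℂ) = charDegree (θ : N → ℂ) := by
    have h := hα 1
    rw [OneMemClass.coe_one] at h
    simp only [charDegree, h]
  have hfun : (χ : G → ℂ) = fun x => (f x : ℂ) * (α : G → ℂ) x := funext hf
  funext x
  have hidx : f x ^ N.index = 1 := by
    rw [← map_pow]; exact hf1 ⟨_, N.pow_index_mem x⟩
  have h1 : detChar (χ : G → ℂ) x = (f x : ℂ) ^ charDegree (θ : N → ℂ) * detChar (α : G → ℂ) x := by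
    rw [hfun, detChar_twist, hd]
  have h2 : (detChar (χ : G → ℂ) x) ^ N.index = (detChar (α : G → ℂ) x) ^ N.index := by
    rw [h1, mul_pow, ← pow_mul, mul_comm (charDegree (θ : N → ℂ)), pow_mul, ← Units.val_pow_eq_pow_val, hidx,
      Units.val_one, one_pow, one_mul]
  obtain ⟨D, hD⟩ := exists_detHom α
  have h3 : f x ^ charDegree (θ : N → ℂ) = 1 := by
    apply Units.ext
    have := hdet x h2
    rw [h1] at this
    rw [Units.val_pow_eq_pow_val, Units.val_one]
    exact (mul_eq_right₀ (by rw [← hD]; exact Units.ne_zero _)).1 this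
  have h4 : f x = 1 := orderOf_eq_one_iff.1 (Nat.eq_one_of_dvd_coprimes hcop
    (orderOf_dvd_of_pow_eq_one hidx) (orderOf_dvd_of_pow_eq_one h3))
  rw [hf, h4, Units.val_one, one_mul]

end CfsgLib.DetChar
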