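import Mathlib
import Cfsg.Agent.Lib.Chars.Linear
import Cfsg.Agent.Lib.Chars.GaloisTwist

/-! Characters of abelian groups are sums of linear characters; power twists of characters. -/

namespace CfsgLib.Chars

open Cfsg

universe u

variable {G : Type u} [Group G]

theorem charDegree_eq_one_of_comm [Finite G] (hcomm : ∀ a b : G, a * b = b * a) (χ : IrrCharacter G) :
    charDegree (χ : G → ℂ) = 1 := by
  classical
  have h1 : commutator G = ⊥ := by
    rw [commutator_def, Subgroup.commutator_eq_bot_iff_le_centralizer]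
    exact fun a _ b _ => hcomm b a
  have h2 : Nat.card (ConjClasses G) = Nat.card G := by
    refine (Nat.card_congr (Equiv.ofBijective ConjClasses.mk ⟨fun a b hab => ?_, ConjClasses.mk_surjective⟩)).symm
    obtain ⟨c, hc⟩ := isConj_iff.1 (ConjClasses.mk_eq_mk_iff_isConj.1 hab)
    rw [← hc, hcomm c a, mul_inv_cancel_right]
  have h3 : Nat.card {χ : IrrCharacter G // charDegree (χ : G → ℂ) = 1} = Nat.card (IrrCharacter G) := by
    rw [card_linear, h1, Subgroup.index_bot, card_irr, h2]
  haveI := finite_irr G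
  by_contra h
  have := (Function.Injective.bijective_of_nat_card_le (f := (Subtype.val : {χ : IrrCharacter G // charDegree (χ : G → ℂ) = 1} → IrrCharacter G))
    Subtype.val_injective h3.ge).2 χ
  obtain ⟨a, ha⟩ := this
  exact h (ha ▸ a.2)

theorem exists_list_hom [Finite G] (hcomm : ∀ a b : G, a * b = b * a) {χ : G → ℂ} (hχ : IsCharacter G χ) :
    ∃ l : List (G →* ℂˣ), ∀ g, χ g = (l.map fun f => (f g : ℂ)).sum := by
  obtain ⟨l, rfl⟩ := exists_list_irr hχ
  clear hχ
  induction l with
  | nil => exact ⟨[], fun g => by simp⟩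
  | cons a t ih =>
    obtain ⟨l', hl'⟩ := ih
    obtain ⟨f, hf⟩ := exists_homIrr a (charDegree_eq_one_of_comm hcomm a)
    refine ⟨f :: l', fun g => ?_⟩
    simp only [List.map_cons, List.sum_cons, Pi.add_apply]
    rw [hl' g, ← hf]
    rfl

theorem isCharacter_pow [Finite G] {k : ℕ} (hk : k.Coprime (Nat.card G)) {χ : G → ℂ} (hχ : IsCharacter G χ) :
    IsCharacter G fun g => χ (g ^ k) := by
  letI := Fintype.ofFinite G
  obtain ⟨l, rfl⟩ := exists_list_irr hχ
  clear hχ
  induction l with
  | nil => simpa [Pi.zero_def] using isCharacter_zero (G := G)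
  | cons a t ih =>
    have h1 : IsCharacter G fun g => (a : G → ℂ) (g ^ k) := IsIrrCharacter.isCharacter (isIrrCharacter_pow hk a)
    simpa [List.map_cons, List.sum_cons] using! IsCharacter.add h1 ih

end CfsgLib.Chars
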