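import Mathlib
import Cfsg.Agent.Lib.CharDegree

/-!
# The Clifford correspondence
-/

set_option autoImplicit false

namespace CfsgLib.CliffordCorr

open Cfsg CfsgLib.Chars
open scoped ComplexConjugate

universe u

variable {G : Type u} [Group G] [Fintype G]

/-- A character with a nonzero value at one has an irreducible constituent. -/
theorem exists_irr_constituent {φ : G → ℂ} (hφ : IsCharacter G φ) (h1 : φ 1 ≠ 0) :
    ∃ χ : IrrCharacter G, classInner φ (χ : G → ℂ) ≠ 0 := by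
  by_contra hc
  push Not at hc
  have h := classFunction_expand (IsCharacter.isClassFunction hφ) 1
  simp only [hc, zero_mul, Finset.sum_const_zero] at h
  exact h1 h

/-- A character of the same degree as one of its constituents equals it. -/
theorem eq_of_constituent_degree {φ : G → ℂ} (hφ : IsCharacter G φ) (χ : IrrCharacter G)
    (h : classInner φ (χ : G → ℂ) ≠ 0) (hdeg : φ 1 = (χ : G → ℂ) 1) : φ = (χ : G → ℂ) := by
  classical
  choose m hm using exists_mult hφ
  have h1 := classFunction_expand (IsCharacter.isClassFunction hφ) 1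
  simp only [hm, irr_apply_one, hdeg] at h1
  have h2 : charDegree (χ : G → ℂ) = ∑ ψ : IrrCharacter G, m ψ * charDegree (ψ : G → ℂ) := by
    exact_mod_cast h1
  rw [← Finset.add_sum_erase _ _ (Finset.mem_univ χ)] at h2
  have hm1 : 1 ≤ m χ := Nat.one_le_iff_ne_zero.2 fun h0 => h (by rw [hm, h0, Nat.cast_zero])
  have hge := Nat.le_mul_of_pos_left (charDegree (χ : G → ℂ)) hm1
  have hz : ∑ ψ ∈ Finset.univ.erase χ, m ψ * charDegree (ψ : G → ℂ) = 0 := by omega
  have hmχ : m χ = 1 :=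
    Nat.eq_of_mul_eq_mul_right (charDegree_pos χ) (by omega : m χ * charDegree (χ : G → ℂ) = 1 * charDegree (χ : G → ℂ))
  funext x
  rw [classFunction_expand (IsCharacter.isClassFunction hφ) x]
  simp only [hm]
  rw [Finset.sum_eq_single χ, hmχ, Nat.cast_one, one_mul]
  · intro ψ _ hψ
    have := Finset.sum_eq_zero_iff.1 hz ψ (Finset.mem_erase.2 ⟨hψ, Finset.mem_univ _⟩)
    rcases Nat.mul_eq_zero.1 this with h0 | h0
    · rw [h0, Nat.cast_zero, zero_mul]
    · exact absurd h0 (charDegree_pos ψ).ne'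
  · simp

variable (N : Subgroup G) [N.Normal] [Fintype N] (θ : IrrCharacter N) {T : Subgroup G}
  (hmem : ∀ g, g ∈ T ↔ conjIrr N θ g = θ)

include hmem in
omit [Fintype G] [Fintype N] in
theorem le_inertia : N ≤ T := fun x hx => (hmem x).2 (Subtype.ext (funext fun n =>
  (conjIrr_apply' N θ x n).trans (IsCharacter.isClassFunction (isCharacter_irr θ) n ⟨x, hx⟩)))

include hmem in
theorem card_orbit : (orbit N θ).card = T.index := by
  classical
  have hiff : ∀ x y : G, conjIrr N θ x⁻¹ = conjIrr N θ y⁻¹ ↔ x⁻¹ * y ∈ T := by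
    intro x y
    rw [hmem, conjIrr_mul]
    constructor
    · intro h
      rw [h, ← conjIrr_mul, inv_mul_cancel, conjIrr_one]
    · intro h
      conv_rhs => rw [← h]
      rw [← conjIrr_mul, mul_inv_cancel, conjIrr_one]
  rw [← Nat.card_eq_finsetCard, Subgroup.index]
  symm
  refine Nat.card_eq_of_bijective (Quotient.lift (fun g : G => (⟨conjIrr N θ g⁻¹, (mem_orbit N).2 ⟨_, rfl⟩⟩ : orbit N θ)) ?_) ⟨?_, ?_⟩
  · intro x y hxy
    exact Subtype.ext ((hiff x y).2 (QuotientGroup.leftRel_apply.1 hxy))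
  · intro p q
    refine Quotient.inductionOn₂ p q fun x y h => Quotient.sound ?_
    exact QuotientGroup.leftRel_apply.2 ((hiff x y).1 (congrArg Subtype.val h))
  · rintro ⟨ψ', hψ'⟩
    obtain ⟨g, rfl⟩ := (mem_orbit N).1 hψ'
    exact ⟨QuotientGroup.mk g⁻¹, Subtype.ext (by show conjIrr N θ g⁻¹⁻¹ = _; rw [inv_inv])⟩

variable [Fintype T]

include hmem in
omit [Fintype G] in
/-- Below the inertia group the restriction is a multiple of `θ`. -/
theorem res_inertia [Finite G] (hNT : N ≤ T) (ψ : IrrCharacter T)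
    (hψ : classInner (fun n : N => (ψ : T → ℂ) ⟨n, hNT n.2⟩) (θ : N → ℂ) ≠ 0) :
    ∃ b : ℕ, 0 < b ∧ classInner (fun n : N => (ψ : T → ℂ) ⟨n, hNT n.2⟩) (θ : N → ℂ) = (b : ℂ) ∧
      ∀ n : N, (ψ : T → ℂ) ⟨n, hNT n.2⟩ = (b : ℂ) * (θ : N → ℂ) n := by
  classical
  haveI : Fintype (N.subgroupOf T) := Fintype.ofFinite _
  let eqv : N.subgroupOf T ≃* N := Subgroup.subgroupOfEquivOfLe hNT
  let θT : IrrCharacter (N.subgroupOf T) :=
    ⟨fun x => (θ : N → ℂ) (eqv x), IsIrrCharacter.comp θ.2 eqv.toMonoidHom eqv.surjective⟩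
  have hrestr : classInner (fun x : N.subgroupOf T => (ψ : T → ℂ) x) (θT : N.subgroupOf T → ℂ) =
      classInner (fun n : N => (ψ : T → ℂ) ⟨n, hNT n.2⟩) (θ : N → ℂ) := by
    simp only [classInner, Nat.card_congr eqv.toEquiv]
    congr 1
    exact Fintype.sum_equiv eqv.toEquiv _ _ fun x => rfl
  rw [← hrestr] at hψ
  obtain ⟨b, hb0, hb, hval, -⟩ := clifford (N.subgroupOf T) ψ θT hψ
  have horb : orbit (N.subgroupOf T) θT = {θT} := by
    refine Finset.eq_singleton_iff_unique_mem.2 ⟨(mem_orbit _).2 ⟨1, (conjIrr_one _ _).symm⟩, fun x hx => ?_⟩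
    obtain ⟨g, rfl⟩ := (mem_orbit _).1 hx
    apply Subtype.ext; funext x
    rw [conjIrr_apply]
    show (θ : N → ℂ) (eqv (conjN (N.subgroupOf T) g x)) = (θ : N → ℂ) (eqv x)
    have h := congrFun (congrArg Subtype.val ((hmem g).1 g.2)) (eqv x)
    rw [conjIrr_apply] at h
    rw [← h]
    congr 1
  refine ⟨b, hb0, hrestr.symm.trans hb, fun n => ?_⟩
  have h := hval (eqv.symm n)
  rw [horb, Finset.sum_singleton] at h
  have e : ((eqv.symm n : N.subgroupOf T) : T) = ⟨n, hNT n.2⟩ := rfl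
  rw [e] at h
  rw [h]
  show (b : ℂ) * (θ : N → ℂ) (eqv (eqv.symm n)) = _
  rw [MulEquiv.apply_symm_apply]

include hmem in
/-- The Clifford correspondence. -/
theorem clifford_corr (hNT : N ≤ T) (ψ : IrrCharacter T)
    (hψ : classInner (fun n : N => (ψ : T → ℂ) ⟨n, hNT n.2⟩) (θ : N → ℂ) ≠ 0)
    (χ : IrrCharacter G) (hc : classInner (fun t : T => (χ : G → ℂ) t) (ψ : T → ℂ) ≠ 0) :
    indFun T (ψ : T → ℂ) = (χ : G → ℂ) ∧
      classInner (fun n : N => (χ : G → ℂ) n) (θ : N → ℂ) =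
        classInner (fun n : N => (ψ : T → ℂ) ⟨n, hNT n.2⟩) (θ : N → ℂ) ∧
      ∀ ψ' : IrrCharacter T, classInner (fun t : T => (χ : G → ℂ) t) (ψ' : T → ℂ) ≠ 0 →
        classInner (fun n : N => (ψ' : T → ℂ) ⟨n, hNT n.2⟩) (θ : N → ℂ) ≠ 0 → ψ' = ψ := by
  classical
  have hres : IsCharacter T (fun t : T => (χ : G → ℂ) t) := IsCharacter.restrict (isCharacter_irr χ) T
  obtain ⟨b, hb0, hb, hbval⟩ := res_inertia N θ hmem hNT ψ hψ
  obtain ⟨a, ha⟩ := exists_mult (IsCharacter.restrict (isCharacter_irr χ) N) θ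
  choose c hcm using exists_mult hres
  have hresN : ∀ φ : IrrCharacter T, IsCharacter N (fun n : N => (φ : T → ℂ) ⟨n, hNT n.2⟩) := fun φ =>
    IsCharacter.comp (isCharacter_irr φ) (Subgroup.inclusion hNT)
  choose c' hc' using fun φ : IrrCharacter T => exists_mult (hresN φ) θ
  have hsum : a = ∑ φ : IrrCharacter T, c φ * c' φ := by
    have h : (a : ℂ) = ((∑ φ : IrrCharacter T, c φ * c' φ : ℕ) : ℂ) := by
      rw [← ha, show (fun n : N => (χ : G → ℂ) n) = fun n : N =>
        ∑ φ : IrrCharacter T, classInner (fun t : T => (χ : G → ℂ) t) (φ : T → ℂ) * (φ : T → ℂ) ⟨n, hNT n.2⟩ from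
          funext fun n => classFunction_expand (IsCharacter.isClassFunction hres) ⟨n, hNT n.2⟩, classInner_sum]
      push_cast
      exact Finset.sum_congr rfl fun φ _ => by rw [hcm, hc']
    exact_mod_cast h
  have hcψ : 1 ≤ c ψ := Nat.one_le_iff_ne_zero.2 fun h => hc (by rw [hcm, h, Nat.cast_zero])
  have hc'ψ : c' ψ = b := by exact_mod_cast (hc' ψ).symm.trans hb
  have hba : b ≤ a := by
    calc b ≤ c ψ * c' ψ := hc'ψ ▸ Nat.le_mul_of_pos_left _ hcψ
      _ ≤ a := hsum ▸ Finset.single_le_sum (f := fun φ => c φ * c' φ) (fun _ _ => Nat.zero_le _) (Finset.mem_univ ψ)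
  have hθN : classInner (fun n : N => (χ : G → ℂ) n) (θ : N → ℂ) ≠ 0 := by
    rw [ha, Nat.cast_ne_zero]; omega
  obtain ⟨a', -, ha', -, hdeg⟩ := clifford N χ θ hθN
  have : a' = a := by exact_mod_cast ha'.symm.trans ha
  subst this
  rw [card_orbit N θ hmem] at hdeg
  have hψdeg : (ψ : T → ℂ) 1 = (b : ℂ) * (θ : N → ℂ) 1 := hbval 1
  have hind := IsCharacter.indFun T (isCharacter_irr ψ)
  have hne : classInner (indFun T (ψ : T → ℂ)) (χ : G → ℂ) ≠ 0 := by
    rw [frobenius T _ (IsCharacter.isClassFunction (isCharacter_irr χ)), classInner_character_comm (isCharacter_irr ψ) hres]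
    exact hc
  have hle := charDegree_le_of_constituent hind χ hne
  have hinddeg : charDegree (indFun T (ψ : T → ℂ)) = T.index * b * charDegree (θ : N → ℂ) := by
    rw [charDegree, indFun_one, hψdeg, irr_apply_one, ← Nat.cast_mul, ← Nat.cast_mul, Complex.natCast_re,
      Nat.floor_natCast, ← mul_assoc]
  rw [hdeg, hinddeg, mul_comm a', mul_assoc, mul_assoc] at hle
  have hab : a' ≤ b :=
    Nat.le_of_mul_le_mul_right (Nat.le_of_mul_le_mul_left hle (Nat.pos_of_ne_zero T.index_ne_zero_of_finite)) (charDegree_pos θ)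
  have heq : a' = b := le_antisymm hab hba
  subst heq
  refine ⟨eq_of_constituent_degree hind χ hne ?_, by rw [ha, hb], fun ψ' h1 h2 => ?_⟩
  · rw [indFun_one, hψdeg, irr_apply_one, irr_apply_one, hdeg]
    push_cast
    ring
  · by_contra hne'
    have h3 : 1 ≤ c ψ' * c' ψ' := Nat.one_le_iff_ne_zero.2 (Nat.mul_ne_zero
      (fun h => h1 (by rw [hcm, h, Nat.cast_zero])) (fun h => h2 (by rw [hc', h, Nat.cast_zero])))
    rw [← Finset.add_sum_erase _ _ (Finset.mem_univ ψ), hc'ψ] at hsum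
    have h4 := Finset.single_le_sum (f := fun φ => c φ * c' φ) (fun _ _ => Nat.zero_le _)
      (Finset.mem_erase.2 ⟨hne', Finset.mem_univ ψ'⟩)
    have h5 := Nat.le_mul_of_pos_left a' hcψ
    omega

include hmem in
/-- Inducing from the inertia group gives an irreducible character. -/
theorem exists_induced (hNT : N ≤ T) (ψ : IrrCharacter T)
    (hψ : classInner (fun n : N => (ψ : T → ℂ) ⟨n, hNT n.2⟩) (θ : N → ℂ) ≠ 0) :
    ∃ χ : IrrCharacter G, indFun T (ψ : T → ℂ) = (χ : G → ℂ) ∧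
      classInner (fun t : T => (χ : G → ℂ) t) (ψ : T → ℂ) ≠ 0 := by
  have hind := IsCharacter.indFun T (isCharacter_irr ψ)
  obtain ⟨χ, hχ⟩ := exists_irr_constituent hind (by
    rw [indFun_one]
    exact mul_ne_zero (Nat.cast_ne_zero.2 T.index_ne_zero_of_finite) (irr_one_ne_zero ψ))
  rw [frobenius T _ (IsCharacter.isClassFunction (isCharacter_irr χ)),
    classInner_character_comm (isCharacter_irr ψ) (IsCharacter.restrict (isCharacter_irr χ) T)] at hχ
  exact ⟨χ, (clifford_corr N θ hmem hNT ψ hψ χ hχ).1, hχ⟩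

include hmem in
/-- Every character over `θ` is induced from one on the inertia group. -/
theorem exists_corr (hNT : N ≤ T) (χ : IrrCharacter G)
    (hχ : classInner (fun n : N => (χ : G → ℂ) n) (θ : N → ℂ) ≠ 0) :
    ∃ ψ : IrrCharacter T, classInner (fun t : T => (χ : G → ℂ) t) (ψ : T → ℂ) ≠ 0 ∧
      classInner (fun n : N => (ψ : T → ℂ) ⟨n, hNT n.2⟩) (θ : N → ℂ) ≠ 0 := by
  by_contra hc
  push Not at hc
  apply hχ
  have hres : IsCharacter T (fun t : T => (χ : G → ℂ) t) := IsCharacter.restrict (isCharacter_irr χ) T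
  rw [show (fun n : N => (χ : G → ℂ) n) = fun n : N =>
    ∑ φ : IrrCharacter T, classInner (fun t : T => (χ : G → ℂ) t) (φ : T → ℂ) * (φ : T → ℂ) ⟨n, hNT n.2⟩ from
      funext fun n => classFunction_expand (IsCharacter.isClassFunction hres) ⟨n, hNT n.2⟩, classInner_sum]
  refine Finset.sum_eq_zero fun φ _ => ?_
  by_cases h : classInner (fun t : T => (χ : G → ℂ) t) (φ : T → ℂ) = 0
  · rw [h, zero_mul]
  · rw [hc φ h, mul_zero]

/-- Inner products on a subgroup viewed inside a larger one. -/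
theorem classInner_subgroupOf (hNT : N ≤ T) [Fintype (N.subgroupOf T)] (f : T → ℂ) :
    classInner (fun x : N.subgroupOf T => f x)
        (fun x : N.subgroupOf T => (θ : N → ℂ) ⟨(x : T), Subgroup.mem_subgroupOf.mp x.2⟩) =
      classInner (fun n : N => f ⟨n, hNT n.2⟩) (θ : N → ℂ) := by
  let eqv : N.subgroupOf T ≃* N := Subgroup.subgroupOfEquivOfLe hNT
  simp only [classInner, Nat.card_congr eqv.toEquiv]
  congr 1
  exact Fintype.sum_equiv eqv.toEquiv _ _ fun x => rfl

/-- The character of `θ` on `N` viewed inside `T`. -/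
noncomputable def subIrr (hNT : N ≤ T) : IrrCharacter (N.subgroupOf T) :=
  ⟨fun x => (θ : N → ℂ) ⟨(x : T), Subgroup.mem_subgroupOf.mp x.2⟩,
    IsIrrCharacter.comp θ.2 (Subgroup.subgroupOfEquivOfLe hNT).toMonoidHom (Subgroup.subgroupOfEquivOfLe hNT).surjective⟩

/-- With abelian quotient, two characters over the same character differ by a linear character. -/
theorem exists_linear_twist {X : Type u} [Group X] [Fintype X] (M : Subgroup X) [M.Normal] [Fintype M]
    (hab : ∀ x y : X, x * y * x⁻¹ * y⁻¹ ∈ M) (ψ ψ' : IrrCharacter X)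
    (h : ∑ n : M, (ψ' : X → ℂ) n * conj ((ψ : X → ℂ) n) ≠ 0) :
    ∃ f : X →* ℂˣ, (∀ n : M, f n = 1) ∧ ∀ x, (ψ' : X → ℂ) x = (f x : ℂ) * (ψ : X → ℂ) x := by
  classical
  set φ : X → ℂ := fun g => (ψ' : X → ℂ) g * conj ((ψ : X → ℂ) g)
  have hφ : IsCharacter X φ :=
    IsCharacter.mul (isCharacter_irr ψ') (IsIrrCharacter.isCharacter (isIrrCharacter_conj ψ))
  obtain ⟨β, hmβ, hkβ⟩ : ∃ β : IrrCharacter X, classInner φ (β : X → ℂ) ≠ 0 ∧ ∑ n : M, (β : X → ℂ) n ≠ 0 := by
    by_contra hc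
    push Not at hc
    apply h
    show ∑ n : M, φ n = 0
    simp only [classFunction_expand (IsCharacter.isClassFunction hφ)]
    rw [Finset.sum_comm]
    refine Finset.sum_eq_zero fun β _ => ?_
    rw [← Finset.mul_sum]
    by_cases h' : classInner φ (β : X → ℂ) = 0
    · rw [h', zero_mul]
    · rw [hc β h', mul_zero]
  let oneM : IrrCharacter M := ⟨fun _ => 1, isIrrCharacter_one M⟩
  have hkern : ∀ n ∈ M, (β : X → ℂ) n = (β : X → ℂ) 1 := by
    obtain ⟨e, -, -, hval, -⟩ := clifford M β oneM (by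
      rw [show (oneM : M → ℂ) = fun _ => 1 from rfl, CfsgLib.CharExtend.classInner_one_right]
      exact mul_ne_zero (inv_ne_zero (natCast_card_ne_zero M)) hkβ)
    have hs : ∀ m : M, ∀ c ∈ orbit M oneM, (c : M → ℂ) m = 1 := fun m c hc' => by
      obtain ⟨g, rfl⟩ := (mem_orbit M).1 hc'
      rfl
    intro n hn
    have h1 := hval ⟨n, hn⟩
    have h2 := hval 1
    rw [Finset.sum_congr rfl (hs _)] at h1 h2
    exact h1.trans h2.symm
  obtain ⟨β', hβ'⟩ := exists_deflate M β hkern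
  have hc : Subgroup.center (X ⧸ M) = ⊤ := eq_top_iff.2 fun a _ => Subgroup.mem_center_iff.2 fun b => by
    obtain ⟨a, rfl⟩ := QuotientGroup.mk'_surjective M a
    obtain ⟨b, rfl⟩ := QuotientGroup.mk'_surjective M b
    rw [← map_mul, ← map_mul, QuotientGroup.mk'_eq_mk']
    refine ⟨(b * a)⁻¹ * (a * b), ?_, by group⟩
    have := hab a⁻¹ b⁻¹
    simpa [mul_assoc] using this
  obtain ⟨lam, hlam⟩ := CfsgLib.CharDegree.exists_central_hom β' (⊤ : Subgroup (X ⧸ M)) (hc ▸ le_rfl)
  have hd := CfsgLib.CharExtend.dvd_index_of_scalar β' ⊤ lam hlam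
  rw [Subgroup.index_top, Nat.dvd_one] at hd
  have hβ1 : (β : X → ℂ) 1 = 1 := by
    rw [hβ', Function.comp_apply, QuotientGroup.mk_one, irr_apply_one, hd, Nat.cast_one]
  obtain ⟨f, hf⟩ := IsCharacter.exists_hom (isCharacter_irr β) hβ1
  refine ⟨f, fun n => Units.ext ?_, fun x => ?_⟩
  · have := hkern n n.2
    rw [hβ1, hf] at this
    exact this
  · by_contra hne
    refine hmβ ?_
    have h0 := classInner_irr ψ' (⟨_, isIrrCharacter_hom_mul f ψ⟩ : IrrCharacter X)
    rw [if_neg (fun e => hne (congrFun (congrArg Subtype.val e) x))] at h0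
    rw [← h0]
    simp only [classInner, φ, map_mul, hf]
    exact congrArg _ (Finset.sum_congr rfl fun y _ => by ring)

end CfsgLib.CliffordCorr
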