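import Mathlib
import Cfsg.Agent.Lib.CNQuotient

/-! Maximal nilpotent subgroups of CN-groups. -/

set_option autoImplicit false

namespace CfsgLib.CNGroup

universe u

variable {G : Type u} [Group G]

/-- `H` is a maximal nilpotent subgroup. -/
def IsMaxNilp (H : Subgroup G) : Prop :=
  Group.IsNilpotent H ∧ ∀ L : Subgroup G, Group.IsNilpotent L → H ≤ L → L = H

/-- A subgroup containing all elements of prime-power order of `A` contains `A`. -/
theorem le_of_prime_pow_elements [Finite G] {A B : Subgroup G}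
    (h : ∀ r : ℕ, r.Prime → ∀ a ∈ A, (∃ i, orderOf a = r ^ i) → a ∈ B) : A ≤ B := by
  suffices hD : B.subgroupOf A = ⊤ from Subgroup.subgroupOf_eq_top.1 hD
  rw [← Subgroup.index_eq_one]
  by_contra hne
  obtain ⟨r, hr, hrd⟩ := Nat.exists_prime_and_dvd hne
  haveI : Fact r.Prime := ⟨hr⟩
  obtain ⟨R⟩ : Nonempty (Sylow r A) := inferInstance
  refine R.not_dvd_index (hrd.trans (Subgroup.index_dvd_of_le fun g hg => h r hr g g.2 ?_))
  obtain ⟨i, hi⟩ := IsPGroup.iff_orderOf.1 R.2 ⟨g, hg⟩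
  exact ⟨i, by rw [← hi, Subgroup.orderOf_mk, Subgroup.orderOf_coe]⟩

/-- Elements of coprime order in a nilpotent subgroup commute. -/
theorem commute_of_coprime [Finite G] {K : Subgroup G} (hK : Group.IsNilpotent K) {a b : G}
    (ha : a ∈ K) (hb : b ∈ K) (h : (orderOf a).Coprime (orderOf b)) : a * b = b * a := by
  haveI := hK
  exact congrArg Subtype.val (CfsgLib.GroupB.FrobBasic.commute_of_coprime
    (G := K) (a := ⟨a, ha⟩) (b := ⟨b, hb⟩) (by simpa using h)).eq

theorem sylow_normal [Finite G] {K : Subgroup G} (hK : Group.IsNilpotent K) {q : ℕ} [Fact q.Prime]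
    (R : Sylow q K) : (R : Subgroup K).Normal := by
  have hiff : Group.IsNilpotent K ↔ ∀ (p : ℕ) (_ : Fact p.Prime) (P : Sylow p K), (P : Subgroup K).Normal :=
    (Group.isNilpotent_of_finite_tfae (G := K)).out 0 3
  exact hiff.mp hK q inferInstance R

/-- A nilpotent subgroup has a central element of each prime order dividing its order. -/
theorem exists_central [Finite G] {K : Subgroup G} (hK : Group.IsNilpotent K) {r : ℕ}
    (hr : r.Prime) (hdvd : r ∣ Nat.card K) :
    ∃ z ∈ K, orderOf z = r ∧ ∀ k ∈ K, k * z = z * k := by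
  haveI : Fact r.Prime := ⟨hr⟩
  obtain ⟨R⟩ : Nonempty (Sylow r K) := inferInstance
  obtain ⟨k, hk⟩ := IsPGroup.iff_card.1 R.2
  have hk0 : k ≠ 0 := by
    rintro rfl
    exact R.not_dvd_index (by
      have := Subgroup.index_mul_card (R : Subgroup K)
      rw [hk, pow_zero, mul_one] at this
      rw [this]; exact hdvd)
  haveI : Nontrivial (R : Subgroup K) := Finite.one_lt_card_iff_nontrivial.1 (by
    rw [hk]; exact Nat.one_lt_pow hk0 hr.one_lt)
  have hC : IsPGroup r (Subgroup.center (R : Subgroup K)) := R.2.to_subgroup _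
  haveI := IsPGroup.center_nontrivial R.2
  obtain ⟨j, hj0, hj⟩ := hC.nontrivial_iff_card.1 inferInstance
  obtain ⟨⟨⟨⟨z, hzK⟩, hzR⟩, hzc⟩, hzo⟩ := exists_prime_orderOf_dvd_card' r
    (G := Subgroup.center (R : Subgroup K)) (hj ▸ dvd_pow_self r hj0.ne')
  rw [Subgroup.orderOf_mk, Subgroup.orderOf_mk, Subgroup.orderOf_mk] at hzo
  refine ⟨z, hzK, hzo, fun g hg => ?_⟩
  suffices hle : K ≤ Subgroup.centralizer ({z} : Set G) from
    Subgroup.mem_centralizer_singleton_iff.1 (hle hg)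
  refine le_of_prime_pow_elements fun q hq a ha hai => ?_
  rw [Subgroup.mem_centralizer_singleton_iff]
  obtain ⟨i, hi⟩ := hai
  by_cases hqr : q = r
  · subst hqr
    haveI : (R : Subgroup K).Normal := sylow_normal hK R
    have haR : (⟨a, ha⟩ : K) ∈ (R : Subgroup K) := by
      have h1 : IsPGroup q (Subgroup.zpowers (⟨a, ha⟩ : K)) := IsPGroup.of_card (n := i) (by
        rw [Nat.card_zpowers, Subgroup.orderOf_mk, hi])
      exact (le_of_eq (R.3 (h1.to_sup_of_normal_right R.2) le_sup_right))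
        (Subgroup.mem_sup_left (Subgroup.mem_zpowers _))
    exact congrArg (fun v : (R : Subgroup K) => ((v : K) : G))
      (Subgroup.mem_center_iff.1 hzc ⟨_, haR⟩)
  · exact commute_of_coprime hK ha hzK (by
      rw [hi, hzo]; exact ((Nat.coprime_primes hq hr).2 hqr).pow_left i)

theorem centralizer_eq (hCN : Cfsg.IsCNGroup G) {H : Subgroup G} (hH : IsMaxNilp H) {z : G}
    (hz1 : z ≠ 1) (hzc : ∀ h ∈ H, h * z = z * h) : Subgroup.centralizer ({z} : Set G) = H :=
  hH.2 _ (hCN z hz1) fun h hh => Subgroup.mem_centralizer_singleton_iff.2 (hzc h hh)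

theorem exists_ge [Finite G] {C : Subgroup G} (hC : Group.IsNilpotent C) :
    ∃ K : Subgroup G, C ≤ K ∧ IsMaxNilp K := by
  obtain ⟨K, hCK, hK⟩ := Finite.exists_le_maximal (p := fun L : Subgroup G => Group.IsNilpotent L)
    (a := C) hC
  exact ⟨K, hCK, hK.1, fun L hL hle => le_antisymm (hK.2 hL hle) hle⟩

/-- Maximal nilpotent subgroups of CN-groups are Hall subgroups. -/
theorem coprime_index [Finite G] (hCN : Cfsg.IsCNGroup G) {H : Subgroup G} (hH : IsMaxNilp H) :
    (Nat.card H).Coprime H.index := by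
  refine Nat.coprime_of_dvd fun p hp hpH hpi => ?_
  haveI : Fact p.Prime := ⟨hp⟩
  obtain ⟨S⟩ : Nonempty (Sylow p H) := inferInstance
  obtain ⟨P, hP⟩ := (S.2.map H.subtype).exists_le_sylow
  obtain ⟨z, hzH, hzo, hzc⟩ := exists_central hH.1 hp hpH
  have hz1 : z ≠ 1 := fun e => hp.ne_one (by rw [← hzo, e, orderOf_one])
  have hzC := centralizer_eq hCN hH hz1 hzc
  have hzP : z ∈ (P : Subgroup G) := by
    refine hP ⟨⟨z, hzH⟩, ?_, rfl⟩
    haveI : (S : Subgroup H).Normal := sylow_normal hH.1 S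
    have h1 : IsPGroup p (Subgroup.zpowers (⟨z, hzH⟩ : H)) := IsPGroup.of_card (n := 1) (by
      rw [Nat.card_zpowers, Subgroup.orderOf_mk, hzo, pow_one])
    exact (le_of_eq (S.3 (h1.to_sup_of_normal_right S.2) le_sup_right))
      (Subgroup.mem_sup_left (Subgroup.mem_zpowers _))
  haveI : Nontrivial (P : Subgroup G) := ⟨⟨⟨z, hzP⟩, 1, fun e => hz1 (congrArg Subtype.val e)⟩⟩
  haveI := IsPGroup.center_nontrivial P.2
  obtain ⟨⟨⟨x, hxP⟩, hxc⟩, hx1⟩ := exists_ne (1 : Subgroup.center (P : Subgroup G))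
  have hxc' : ∀ g ∈ (P : Subgroup G), g * x = x * g := fun g hg =>
    congrArg Subtype.val (Subgroup.mem_center_iff.1 hxc ⟨g, hg⟩)
  have hxH : x ∈ H := hzC ▸ Subgroup.mem_centralizer_singleton_iff.2 (hxc' z hzP).symm
  have hx1' : x ≠ 1 := fun e => hx1 (Subtype.ext (Subtype.ext e))
  obtain ⟨i, hi⟩ := IsPGroup.iff_orderOf.1 P.2 ⟨x, hxP⟩
  rw [Subgroup.orderOf_mk] at hi
  have hxcH : ∀ h ∈ H, h * x = x * h := by
    suffices hle : H ≤ Subgroup.centralizer ({x} : Set G) from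
      fun h hh => Subgroup.mem_centralizer_singleton_iff.1 (hle hh)
    refine le_of_prime_pow_elements fun q hq a ha hai => ?_
    rw [Subgroup.mem_centralizer_singleton_iff]
    obtain ⟨j, hj⟩ := hai
    by_cases hqp : q = p
    · subst hqp
      haveI : (S : Subgroup H).Normal := sylow_normal hH.1 S
      have h1 : IsPGroup q (Subgroup.zpowers (⟨a, ha⟩ : H)) := IsPGroup.of_card (n := j) (by
        rw [Nat.card_zpowers, Subgroup.orderOf_mk, hj])
      have haS := (le_of_eq (S.3 (h1.to_sup_of_normal_right S.2) le_sup_right))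
        (Subgroup.mem_sup_left (Subgroup.mem_zpowers (⟨a, ha⟩ : H)))
      exact hxc' a (hP ⟨⟨a, ha⟩, haS, rfl⟩)
    · exact commute_of_coprime hH.1 ha hxH (by
        rw [hi, hj]; exact Nat.Coprime.pow _ _ ((Nat.coprime_primes hq hp).2 hqp))
  have hPH : (P : Subgroup G) ≤ H := centralizer_eq hCN hH hx1' hxcH ▸ fun g hg =>
    Subgroup.mem_centralizer_singleton_iff.2 (hxc' g hg)
  exact P.not_dvd_index (hpi.trans (Subgroup.index_dvd_of_le hPH))

/-- In a maximal nilpotent subgroup which is not a `p`-group, centralisers are contained in it. -/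
theorem centralizer_le [Finite G] (hCN : Cfsg.IsCNGroup G) {H : Subgroup G} (hH : IsMaxNilp H)
    {q s : ℕ} (hq : q.Prime) (hs : s.Prime) (hqs : q ≠ s) (hqH : q ∣ Nat.card H) (hsH : s ∣ Nat.card H)
    {w : G} (hw : w ∈ H) (hw1 : w ≠ 1) : Subgroup.centralizer ({w} : Set G) ≤ H := by
  obtain ⟨K, hCK, hK⟩ := exists_ge (hCN w hw1)
  obtain ⟨a, haH, hao, hac⟩ := exists_central hH.1 hq hqH
  obtain ⟨b, hbH, hbo, hbc⟩ := exists_central hH.1 hs hsH
  have haK : a ∈ K := hCK (Subgroup.mem_centralizer_singleton_iff.2 (hac w hw).symm)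
  have hbK : b ∈ K := hCK (Subgroup.mem_centralizer_singleton_iff.2 (hbc w hw).symm)
  have key : ∀ r : ℕ, r.Prime → r ∣ Nat.card K → ∀ h ∈ H, (orderOf h).Coprime r → h ∈ K := by
    intro r hr hrK h hh hcop
    obtain ⟨z, hzK, hzo, hzc⟩ := exists_central hK.1 hr hrK
    have hz1 : z ≠ 1 := fun e => hr.ne_one (by rw [← hzo, e, orderOf_one])
    have ha1 : a ≠ 1 := fun e => hq.ne_one (by rw [← hao, e, orderOf_one])
    have hzH : z ∈ H := centralizer_eq hCN hH ha1 hac ▸
      Subgroup.mem_centralizer_singleton_iff.2 (hzc a haK).symm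
    rw [← centralizer_eq hCN hK hz1 hzc, Subgroup.mem_centralizer_singleton_iff]
    exact commute_of_coprime hH.1 hh hzH (by rw [hzo]; exact hcop)
  have hHK : H ≤ K := le_of_prime_pow_elements fun r hr h hh ⟨i, hi⟩ => by
    by_cases hrq : r = q
    · exact key s hs (hbo ▸ Subgroup.orderOf_mk b hbK ▸ orderOf_dvd_natCard _) h hh
        (by rw [hi, hrq]; exact ((Nat.coprime_primes hq hs).2 hqs).pow_left i)
    · exact key q hq (hao ▸ Subgroup.orderOf_mk a haK ▸ orderOf_dvd_natCard _) h hh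
        (by rw [hi]; exact ((Nat.coprime_primes hr hq).2 hrq).pow_left i)
  exact hH.2 K hK.1 hHK ▸ hCK

theorem inf_conj_eq_bot [Finite G] (hCN : Cfsg.IsCNGroup G) {H : Subgroup G} (hH : IsMaxNilp H)
    (hpp : ¬ IsPrimePow (Nat.card H)) (h1 : Nat.card H ≠ 1) (g : G)
    (hg : H.map (MulAut.conj g).toMonoidHom ≠ H) : H ⊓ H.map (MulAut.conj g).toMonoidHom = ⊥ := by
  obtain ⟨q, hq, hqH⟩ := Nat.exists_prime_and_dvd h1
  obtain ⟨s, hs, hsH, hqs⟩ : ∃ s : ℕ, s.Prime ∧ s ∣ Nat.card H ∧ q ≠ s := by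
    by_contra hcon
    push Not at hcon
    refine hpp ?_
    rw [Nat.eq_prime_pow_of_unique_prime_dvd Nat.card_pos.ne' (p := q)
      (fun {d} hd hdd => (hcon d hd hdd).symm)]
    refine hq.isPrimePow.pow ?_
    intro hz
    have := Nat.eq_prime_pow_of_unique_prime_dvd Nat.card_pos.ne' (p := q)
      (fun {d} hd hdd => (hcon d hd hdd).symm)
    rw [hz, pow_zero] at this
    exact h1 this
  rw [eq_bot_iff]
  rintro w ⟨hw, v, hv, rfl⟩
  rw [Subgroup.mem_bot]
  by_contra hw1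
  apply hg
  obtain ⟨a, haH, hao, hac⟩ := exists_central hH.1 hq hqH
  have ha1 : a ≠ 1 := fun e => hq.ne_one (by rw [← hao, e, orderOf_one])
  have hv1 : v ≠ 1 := fun e => hw1 (by rw [e, map_one])
  -- `a` centralises `w`, hence lies in both
  have haC : g⁻¹ * a * g ∈ H := centralizer_le hCN hH hq hs hqs hqH hsH hv hv1 (by
    rw [Subgroup.mem_centralizer_singleton_iff]
    have h2 : (g * v * g⁻¹) * a = a * (g * v * g⁻¹) := hac _ hw
    calc g⁻¹ * a * g * v = g⁻¹ * (a * (g * v * g⁻¹)) * g := by group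
      _ = g⁻¹ * ((g * v * g⁻¹) * a) * g := by rw [h2]
      _ = v * (g⁻¹ * a * g) := by group)
  have hb1 : g⁻¹ * a * g ≠ 1 := fun e => ha1 (by
    calc a = g * (g⁻¹ * a * g) * g⁻¹ := by group
      _ = 1 := by rw [e]; group)
  have h3 : ∀ x ∈ H.map (MulAut.conj g⁻¹).toMonoidHom, x ∈ H := by
    rintro _ ⟨x, hx, rfl⟩
    refine centralizer_le hCN hH hq hs hqs hqH hsH haC hb1 (Subgroup.mem_centralizer_singleton_iff.2 ?_)
    show g⁻¹ * x * g⁻¹⁻¹ * (g⁻¹ * a * g) = g⁻¹ * a * g * (g⁻¹ * x * g⁻¹⁻¹)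
    calc g⁻¹ * x * g⁻¹⁻¹ * (g⁻¹ * a * g) = g⁻¹ * (x * a) * g := by group
      _ = g⁻¹ * (a * x) * g := by rw [hac x hx]
      _ = _ := by group
  refine (Subgroup.eq_of_le_of_card_ge (H := H) (K := H.map (MulAut.conj g).toMonoidHom)
    (fun x hx => ⟨g⁻¹ * x * g⁻¹⁻¹, h3 _ ⟨x, hx, rfl⟩, ?_⟩)
    (le_of_eq (Subgroup.card_map_of_injective (MulAut.conj g).injective))).symm
  show g * (g⁻¹ * x * g⁻¹⁻¹) * g⁻¹ = x
  group

/-- A TI maximal nilpotent subgroup contains the centralisers of its nontrivial elements. -/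
theorem centralizer_le_of_ti [Finite G] (hCN : Cfsg.IsCNGroup G) {H : Subgroup G} (hH : IsMaxNilp H)
    (hTI : ∀ g : G, H.map (MulAut.conj g).toMonoidHom ≠ H → H ⊓ H.map (MulAut.conj g).toMonoidHom = ⊥)
    {x : G} (hx : x ∈ H) (hx1 : x ≠ 1) : Subgroup.centralizer ({x} : Set G) ≤ H := by
  refine le_of_prime_pow_elements fun r hr c hc ⟨i, hi⟩ => ?_
  haveI : Fact r.Prime := ⟨hr⟩
  have hnorm : c ∈ Subgroup.normalizer (H : Set G) := by
    rw [Subgroup.mem_normalizer_iff_map_conj_eq]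
    by_contra hne
    have h1 : x ∈ H ⊓ H.map (MulAut.conj c).toMonoidHom := ⟨hx, x, hx, by
      show c * x * c⁻¹ = x
      rw [Subgroup.mem_centralizer_singleton_iff.1 hc, mul_inv_cancel_right]⟩
    rw [hTI c hne, Subgroup.mem_bot] at h1
    exact hx1 h1
  by_cases hrH : r ∣ Nat.card H
  · -- `H` is a normal Hall subgroup of its normaliser
    let N := Subgroup.normalizer (H : Set G)
    haveI : (H.subgroupOf N).Normal := Subgroup.normal_in_normalizer
    have hcop : ¬ r ∣ (H.subgroupOf N).index := fun h => hr.not_dvd_one (by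
      have h2 : r ∣ H.index := h.trans (Subgroup.relIndex_dvd_index_of_le Subgroup.le_normalizer)
      exact (coprime_index hCN hH).gcd_eq_one ▸ Nat.dvd_gcd hrH h2)
    have h3 : (QuotientGroup.mk' (H.subgroupOf N) ⟨c, hnorm⟩) = 1 := by
      rw [← orderOf_eq_one_iff]
      refine Nat.eq_one_of_dvd_coprimes ((hr.coprime_iff_not_dvd.2 hcop).pow_left i) ?_
        (orderOf_dvd_natCard _)
      exact (orderOf_map_dvd _ _).trans (by rw [Subgroup.orderOf_mk, hi])
    exact (QuotientGroup.eq_one_iff (N := H.subgroupOf N) (⟨c, hnorm⟩ : N)).1 h3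
  · obtain ⟨q, hq, hqH⟩ : ∃ q : ℕ, q.Prime ∧ q ∣ Nat.card H :=
      Nat.exists_prime_and_dvd (fun h => hx1 (by
        have := Subgroup.eq_bot_of_card_eq H h
        rwa [this, Subgroup.mem_bot] at hx))
    obtain ⟨z, hzH, hzo, hzc⟩ := exists_central hH.1 hq hqH
    have hz1 : z ≠ 1 := fun e => hq.ne_one (by rw [← hzo, e, orderOf_one])
    rw [← centralizer_eq hCN hH hz1 hzc, Subgroup.mem_centralizer_singleton_iff]
    refine CfsgLib.CNQuotient.commute_of_coprime hCN hx1
      (Subgroup.mem_centralizer_singleton_iff.1 hc) (hzc x hx).symm ?_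
    rw [hi, hzo]
    exact ((Nat.coprime_primes hr hq).2 fun h => hrH (h ▸ hqH)).pow_left i

end CfsgLib.CNGroup
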