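import Mathlib
import Cfsg.Agent.Lib.Chars.Linear
import Cfsg.Agent.Lib.Chars.Clifford
import Cfsg.Agent.Lib.Chars.Induced

/-!
# Real characters and norms of induced characters
-/

set_option autoImplicit false

namespace CfsgLib.CharExtra

open Cfsg CfsgLib.Chars
open scoped ComplexConjugate

universe u

variable {G : Type u} [Group G] [Finite G]

/-- Complex conjugation on the irreducible characters. -/
noncomputable def conjEquiv : IrrCharacter G ≃ IrrCharacter G where
  toFun χ := ⟨_, isIrrCharacter_conj χ⟩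
  invFun χ := ⟨_, isIrrCharacter_conj χ⟩
  left_inv χ := Subtype.ext (funext fun g => Complex.conj_conj _)
  right_inv χ := Subtype.ext (funext fun g => Complex.conj_conj _)

theorem conjEquiv_apply (χ : IrrCharacter G) (g : G) :
    (conjEquiv χ : G → ℂ) g = conj ((χ : G → ℂ) g) := rfl

theorem conjEquiv_eq_iff (χ : IrrCharacter G) :
    conjEquiv χ = χ ↔ ∀ g : G, ((χ : G → ℂ) g).im = 0 :=
  ⟨fun h g => Complex.conj_eq_iff_im.1 (congrFun (congrArg Subtype.val h) g),
   fun h => Subtype.ext (funext fun g => Complex.conj_eq_iff_im.2 (h g))⟩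

/-- There are as many real irreducible characters as real classes. -/
theorem card_real :
    Nat.card {χ : IrrCharacter G // ∀ g : G, ((χ : G → ℂ) g).im = 0} =
      Nat.card {C : ConjClasses G // ∀ g : G, ConjClasses.mk g = C → IsConj g g⁻¹} := by
  rw [← Nat.card_congr (Equiv.subtypeEquivRight fun χ => conjEquiv_eq_iff (G := G) χ),
    brauer_permutation conjEquiv (Equiv.inv G)
      (fun a b h => by
        obtain ⟨c, rfl⟩ := isConj_iff.1 h
        exact isConj_iff.2 ⟨c, by simp [mul_assoc]⟩)
      (fun χ g => by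
        rw [conjEquiv_apply, Equiv.inv_apply, IsCharacter.map_inv (isCharacter_irr χ),
          Complex.conj_conj])]
  refine Nat.card_congr (Equiv.subtypeEquivRight fun C => forall_congr' fun g => ?_)
  constructor
  · intro h hg
    exact (ConjClasses.mk_eq_mk_iff_isConj.1 ((h hg).trans hg.symm)).symm
  · intro h hg
    exact (ConjClasses.mk_eq_mk_iff_isConj.2 (h hg).symm).trans hg

theorem eq_one_of_isConj_inv (hodd : Odd (Nat.card G)) {g : G} (h : IsConj g g⁻¹) : g = 1 := by
  obtain ⟨c, hc⟩ := isConj_iff.1 h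
  obtain ⟨m, hm⟩ := hodd
  have hc2 : Commute (c * c) g := by
    show c * c * g = g * (c * c)
    have h1 : c * g = g⁻¹ * c := by rw [← hc]; group
    have h2 : c * g⁻¹ = g * c := by
      calc c * g⁻¹ = (c * g * c⁻¹)⁻¹ * c := by group
        _ = g * c := by rw [hc, inv_inv]
    calc c * c * g = c * (c * g) := by group
      _ = (c * g⁻¹) * c := by rw [h1, mul_assoc]
      _ = g * (c * c) := by rw [h2, mul_assoc]
  have hcg : Commute c g := by
    have hcard : c ^ (2 * m + 1) = 1 := by rw [← hm]; exact pow_card_eq_one'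
    have : c = (c * c) ^ (m + 1) := by
      calc c = c ^ (2 * m + 1) * c := by rw [hcard, one_mul]
        _ = (c * c) ^ (m + 1) := by rw [← pow_two, ← pow_mul, ← pow_succ]; congr 1
    rw [this]; exact hc2.pow_left _
  have hg : g = g⁻¹ := by
    calc g = c * g * c⁻¹ := by rw [hcg.eq, mul_inv_cancel_right]
      _ = g⁻¹ := hc
  have h2 : g ^ 2 = 1 := by rw [pow_two]; nth_rewrite 2 [hg]; exact mul_inv_cancel g
  have h3 : g ^ (2 * m + 1) = 1 := by rw [← hm]; exact pow_card_eq_one'
  rwa [pow_succ, pow_mul, h2, one_pow, one_mul] at h3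

/-- In a group of odd order the only real irreducible character is the trivial one. -/
theorem eq_one_of_real (hodd : Odd (Nat.card G)) (χ : IrrCharacter G)
    (hreal : ∀ g : G, ((χ : G → ℂ) g).im = 0) : (χ : G → ℂ) = fun _ => 1 := by
  let one : IrrCharacter G := ⟨fun _ => 1, isIrrCharacter_one G⟩
  haveI : Subsingleton {C : ConjClasses G // ∀ g : G, ConjClasses.mk g = C → IsConj g g⁻¹} := by
    refine ⟨fun ⟨C, hC⟩ ⟨D, hD⟩ => Subtype.ext ?_⟩
    obtain ⟨a, rfl⟩ := ConjClasses.mk_surjective C
    obtain ⟨b, rfl⟩ := ConjClasses.mk_surjective D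
    show ConjClasses.mk a = ConjClasses.mk b
    rw [eq_one_of_isConj_inv hodd (hC a rfl), eq_one_of_isConj_inv hodd (hD b rfl)]
  have h1 : Nat.card {C : ConjClasses G // ∀ g : G, ConjClasses.mk g = C → IsConj g g⁻¹} ≤ 1 :=
    Finite.card_le_one_iff_subsingleton.2 inferInstance
  rw [← card_real] at h1
  haveI := Finite.card_le_one_iff_subsingleton.1 h1
  have := Subsingleton.elim (⟨χ, hreal⟩ : {χ : IrrCharacter G // ∀ g : G, ((χ : G → ℂ) g).im = 0})
    ⟨one, fun g => Complex.one_im⟩
  exact congrArg (fun x => (x.1 : G → ℂ)) this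

variable [Fintype G] (N : Subgroup G) [N.Normal]

open Classical in
/-- Inner product of two characters induced from a normal subgroup. -/
theorem card_mul_inner_ind (θ ψ : IrrCharacter N) :
    (Nat.card N : ℂ) * classInner (indFun N (θ : N → ℂ)) (indFun N (ψ : N → ℂ)) =
      (Nat.card {g : G // conjIrr N ψ g = θ} : ℂ) := by
  haveI : Fintype N := Fintype.ofFinite N
  rw [frobenius N _ (indFun_isClassFunction N _)]
  have hN : (Nat.card N : ℂ) ≠ 0 := Nat.cast_ne_zero.2 Nat.card_pos.ne'
  simp only [classInner, indFun_res N, map_mul, map_inv₀, map_natCast, map_sum, Finset.mul_sum]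
  rw [Finset.sum_comm]
  have hterm : ∀ x : G, ∑ h : N, (Nat.card N : ℂ) * ((Nat.card N : ℂ)⁻¹ *
      ((θ : N → ℂ) h * ((Nat.card N : ℂ)⁻¹ * conj ((ψ : N → ℂ) (conjN N x⁻¹ h))))) =
      if conjIrr N ψ x⁻¹ = θ then (1 : ℂ) else 0 := by
    intro x
    have h1 := classInner_irr θ (conjIrr N ψ x⁻¹)
    simp only [classInner, conjIrr_apply] at h1
    rw [show (if conjIrr N ψ x⁻¹ = θ then (1 : ℂ) else 0) =
      (if θ = conjIrr N ψ x⁻¹ then (1 : ℂ) else 0) from if_congr eq_comm rfl rfl, ← h1,
      Finset.mul_sum]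
    refine Finset.sum_congr rfl fun h _ => ?_
    field_simp
  rw [Finset.sum_congr rfl fun x _ => hterm x, Finset.sum_boole, Nat.card_eq_fintype_card,
    Fintype.card_subtype]
  refine congrArg _ ?_
  exact Finset.card_equiv (Equiv.inv G) (by simp)

end CfsgLib.CharExtra
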