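import Cfsg.Prelude.Def_BaumannBlocks
import Cfsg.Agent.Lib.LocalBasic

/-! The Chermak–Delgado lattice and centrally large subgroups (owner helper5). -/

set_option autoImplicit false

namespace CfsgLib.ChermakDelgado

open Cfsg Subgroup
open scoped Pointwise commutatorElement

variable {P : Type*} [Group P] [Finite P]

/-- The measure. -/
noncomputable def meas (H : Subgroup P) : ℕ := Nat.card ↥H * Nat.card ↥(centralizer (H : Set P))

theorem meas_pos (H : Subgroup P) : 0 < meas H := Nat.mul_pos Nat.card_pos Nat.card_pos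

theorem meas_le (H : Subgroup P) : meas H ≤ maxCentralizerProduct P :=
  le_csSup ⟨Nat.card P * Nat.card P, by
    rintro k ⟨R, rfl⟩
    exact Nat.mul_le_mul R.card_le_card_group (Subgroup.card_le_card_group _)⟩ ⟨H, rfl⟩

theorem exists_large : ∃ R : Subgroup P, IsCentralizerLarge R := by
  have h := Nat.sSup_mem (s := {k : ℕ | ∃ R : Subgroup P, Nat.card ↥R * Nat.card ↥(centralizer (R : Set P)) = k})
    ⟨_, ⊥, rfl⟩ ⟨Nat.card P * Nat.card P, by
    rintro k ⟨R, rfl⟩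
    exact Nat.mul_le_mul R.card_le_card_group (Subgroup.card_le_card_group _)⟩
  exact h

theorem large_of_le {H : Subgroup P} (h : maxCentralizerProduct P ≤ meas H) : IsCentralizerLarge H :=
  le_antisymm (meas_le H) h

omit [Finite P] in
theorem centralizer_sup (H K : Subgroup P) :
    centralizer ((H ⊔ K : Subgroup P) : Set P) = centralizer (H : Set P) ⊓ centralizer (K : Set P) := by
  refine le_antisymm (le_inf (centralizer_le (SetLike.coe_subset_coe.mpr le_sup_left))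
    (centralizer_le (SetLike.coe_subset_coe.mpr le_sup_right))) (le_centralizer_iff.mp (sup_le ?_ ?_))
  · exact le_centralizer_iff.mp inf_le_left
  · exact le_centralizer_iff.mp inf_le_right

omit [Finite P] in
theorem sup_centralizer_le (H K : Subgroup P) :
    centralizer (H : Set P) ⊔ centralizer (K : Set P) ≤ centralizer ((H ⊓ K : Subgroup P) : Set P) :=
  sup_le (centralizer_le (SetLike.coe_subset_coe.mpr inf_le_left)) (centralizer_le (SetLike.coe_subset_coe.mpr inf_le_right))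

theorem coe_mul_le (H K : Subgroup P) : (H : Set P) * (K : Set P) ⊆ ((H ⊔ K : Subgroup P) : Set P) := by
  rintro _ ⟨h, hh, k, hk, rfl⟩
  exact mul_mem_sup hh hk

theorem card_mul_le_sup (H K : Subgroup P) :
    Nat.card ↥H * Nat.card ↥K ≤ Nat.card ↥(H ⊔ K) * Nat.card ↥(H ⊓ K : Subgroup P) :=
  (LocalBasic.card_mul_le H K).trans (Nat.mul_le_mul_right _ (Nat.card_mono (Set.toFinite _) (coe_mul_le H K)))

/-- When the product formula holds, the join is the product set. -/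
theorem coe_sup_eq (H K : Subgroup P)
    (h : Nat.card ↥(H ⊔ K) * Nat.card ↥(H ⊓ K : Subgroup P) ≤ Nat.card ↥H * Nat.card ↥K) :
    ((H ⊔ K : Subgroup P) : Set P) = (H : Set P) * (K : Set P) := by
  refine (Set.eq_of_subset_of_ncard_le (coe_mul_le H K) ?_).symm
  rw [← Nat.card_coe_set_eq, ← Nat.card_coe_set_eq]
  exact Nat.le_of_mul_le_mul_right (h.trans (LocalBasic.card_mul_le H K)) Nat.card_pos

variable {Q R : Subgroup P}

theorem lattice (hQ : IsCentralizerLarge Q) (hR : IsCentralizerLarge R) :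
    IsCentralizerLarge (Q ⊔ R) ∧ IsCentralizerLarge (Q ⊓ R) ∧ ((Q ⊔ R : Subgroup P) : Set P) = (Q : Set P) * (R : Set P) ∧
      centralizer ((Q ⊓ R : Subgroup P) : Set P) = centralizer (Q : Set P) ⊔ centralizer (R : Set P) ∧
      ((centralizer (Q : Set P) ⊔ centralizer (R : Set P) : Subgroup P) : Set P)
        = (centralizer (Q : Set P) : Set P) * (centralizer (R : Set P) : Set P) := by
  set f := maxCentralizerProduct P with hf
  set CQ := centralizer (Q : Set P)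
  set CR := centralizer (R : Set P)
  set J := Q ⊔ R with hJ
  set M := Q ⊓ R with hM
  have hQ' : Nat.card ↥Q * Nat.card ↥CQ = f := hQ
  have hR' : Nat.card ↥R * Nat.card ↥CR = f := hR
  have h1 : Nat.card ↥Q * Nat.card ↥R ≤ Nat.card ↥J * Nat.card ↥M := card_mul_le_sup Q R
  have h2 : Nat.card ↥CQ * Nat.card ↥CR ≤ Nat.card ↥(CQ ⊔ CR) * Nat.card ↥(CQ ⊓ CR : Subgroup P) := card_mul_le_sup CQ CR
  have h3 : Nat.card ↥(CQ ⊔ CR) ≤ Nat.card ↥(centralizer (M : Set P)) := card_le_of_le (sup_centralizer_le Q R)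
  have hCJ : centralizer (J : Set P) = CQ ⊓ CR := centralizer_sup Q R
  have hm1 : Nat.card ↥J * Nat.card ↥(CQ ⊓ CR : Subgroup P) ≤ f := by rw [← hCJ]; exact meas_le J
  have hm2 : Nat.card ↥M * Nat.card ↥(centralizer (M : Set P)) ≤ f := meas_le M
  have hpos : 0 < Nat.card ↥J * Nat.card ↥M := Nat.mul_pos Nat.card_pos Nat.card_pos
  have hpos2 : 0 < Nat.card ↥(CQ ⊔ CR) * Nat.card ↥(CQ ⊓ CR : Subgroup P) := Nat.mul_pos Nat.card_pos Nat.card_pos
  have hf0 : 0 < f := hQ' ▸ Nat.mul_pos Nat.card_pos Nat.card_pos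
  have key : Nat.card ↥J * Nat.card ↥(CQ ⊓ CR : Subgroup P) * (Nat.card ↥M * Nat.card ↥(centralizer (M : Set P))) ≤ f * f :=
    Nat.mul_le_mul hm1 hm2
  have key2 : f * f = Nat.card ↥Q * Nat.card ↥R * (Nat.card ↥CQ * Nat.card ↥CR) := by
    rw [mul_mul_mul_comm, hQ', hR']
  have key3 : Nat.card ↥J * Nat.card ↥M * (Nat.card ↥(centralizer (M : Set P)) * Nat.card ↥(CQ ⊓ CR : Subgroup P)) ≤ f * f :=
    le_trans (le_of_eq (by ring)) key
  have hlow : f * f ≤ Nat.card ↥J * Nat.card ↥M * (Nat.card ↥(CQ ⊔ CR) * Nat.card ↥(CQ ⊓ CR : Subgroup P)) :=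
    key2 ▸ Nat.mul_le_mul h1 h2
  have e3 : Nat.card ↥(centralizer (M : Set P)) ≤ Nat.card ↥(CQ ⊔ CR) :=
    Nat.le_of_mul_le_mul_right (Nat.le_of_mul_le_mul_left (key3.trans hlow) hpos) Nat.card_pos
  have eprod : Nat.card ↥J * Nat.card ↥M * (Nat.card ↥(CQ ⊔ CR) * Nat.card ↥(CQ ⊓ CR : Subgroup P)) ≤ f * f :=
    (Nat.mul_le_mul_left _ (Nat.mul_le_mul_right _ h3)).trans key3
  have e1 : Nat.card ↥J * Nat.card ↥M ≤ Nat.card ↥Q * Nat.card ↥R := by
    refine Nat.le_of_mul_le_mul_right ((Nat.mul_le_mul_left _ h2).trans (eprod.trans key2.le)) ?_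
    exact Nat.mul_pos Nat.card_pos Nat.card_pos
  have e2 : Nat.card ↥(CQ ⊔ CR) * Nat.card ↥(CQ ⊓ CR : Subgroup P) ≤ Nat.card ↥CQ * Nat.card ↥CR := by
    refine Nat.le_of_mul_le_mul_left ((Nat.mul_le_mul_right _ h1).trans (eprod.trans key2.le)) ?_
    exact Nat.mul_pos Nat.card_pos Nat.card_pos
  have hall : f * f ≤ Nat.card ↥J * Nat.card ↥(CQ ⊓ CR : Subgroup P) * (Nat.card ↥M * Nat.card ↥(centralizer (M : Set P))) :=
    (hlow.trans (Nat.mul_le_mul_left _ (Nat.mul_le_mul_right _ h3))).trans (le_of_eq (by ring))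
  refine ⟨large_of_le ?_, large_of_le ?_, coe_sup_eq Q R e1, (eq_of_le_of_card_ge (sup_centralizer_le Q R) e3).symm,
    coe_sup_eq CQ CR e2⟩
  · show f ≤ Nat.card ↥J * Nat.card ↥(centralizer (J : Set P))
    rw [hCJ]
    exact Nat.le_of_mul_le_mul_right (hall.trans (Nat.mul_le_mul_left _ hm2)) hf0
  · exact Nat.le_of_mul_le_mul_left (hall.trans (Nat.mul_le_mul_right _ hm1)) hf0

theorem centralizer_large (hQ : IsCentralizerLarge Q) :
    IsCentralizerLarge (centralizer (Q : Set P)) ∧ centralizer (centralizer (Q : Set P) : Set P) = Q := by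
  set CQ := centralizer (Q : Set P)
  have hle : Q ≤ centralizer (CQ : Set P) := le_centralizer_iff.mp le_rfl
  have h1 : Nat.card ↥CQ * Nat.card ↥(centralizer (CQ : Set P)) ≤ Nat.card ↥Q * Nat.card ↥CQ :=
    (meas_le CQ).trans hQ.ge
  rw [mul_comm (Nat.card ↥Q)] at h1
  refine ⟨large_of_le ?_, (eq_of_le_of_card_ge hle (Nat.le_of_mul_le_mul_left h1 Nat.card_pos)).symm⟩
  exact hQ.ge.trans ((le_of_eq (mul_comm _ _)).trans (Nat.mul_le_mul_left _ (card_le_of_le hle)))

omit [Finite P] in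
theorem card_center (H : Subgroup P) : Nat.card ↥(center ↥H) = Nat.card ↥(H ⊓ centralizer (H : Set P) : Subgroup P) :=
  Nat.card_congr
    { toFun := fun x => ⟨((x : ↥H) : P), (x : ↥H).2, fun y hy => congrArg Subtype.val (mem_center_iff.mp x.2 ⟨y, hy⟩)⟩
      invFun := fun x => ⟨⟨x, x.2.1⟩, mem_center_iff.mpr fun y => Subtype.ext (x.2.2 y y.2)⟩
      left_inv := fun _ => rfl
      right_inv := fun _ => rfl }

theorem central_le (H : Subgroup P) : Nat.card ↥H * Nat.card ↥(center ↥H) ≤ meas H := by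
  rw [card_center]
  exact Nat.mul_le_mul_left _ (card_le_of_le inf_le_right)

theorem max_eq : maxCentralProduct P = maxCentralizerProduct P := by
  have hbdd : BddAbove {k : ℕ | ∃ R : Subgroup P, Nat.card ↥R * Nat.card ↥(center ↥R) = k} := ⟨maxCentralizerProduct P, by
    rintro k ⟨R, rfl⟩
    exact (central_le R).trans (meas_le R)⟩
  refine le_antisymm ?_ ?_
  · obtain ⟨R, hR⟩ := Nat.sSup_mem (s := {k : ℕ | ∃ R : Subgroup P, Nat.card ↥R * Nat.card ↥(center ↥R) = k}) ⟨_, ⊥, rfl⟩ hbdd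
    exact hR.symm.le.trans ((central_le R).trans (meas_le R))
  · obtain ⟨T, hT⟩ := exists_large (P := P)
    obtain ⟨hC, hCC⟩ := centralizer_large hT
    obtain ⟨hJ, -, -, -, -⟩ := lattice hT hC
    set J := T ⊔ centralizer (T : Set P)
    have hCJ : centralizer (J : Set P) ≤ J := by
      rw [centralizer_sup, hCC]
      exact inf_le_left.trans le_sup_right
    refine hJ.ge.trans (le_csSup hbdd ⟨J, ?_⟩)
    rw [card_center, inf_eq_right.mpr hCJ]

theorem centrallyLarge_iff : IsCentrallyLarge Q ↔ IsCentralizerLarge Q ∧ centralizer (Q : Set P) ≤ Q := by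
  unfold IsCentrallyLarge
  rw [max_eq, card_center]
  constructor
  · intro h
    have hsub : Nat.card ↥(centralizer (Q : Set P)) ≤ Nat.card ↥(Q ⊓ centralizer (Q : Set P) : Subgroup P) :=
      Nat.le_of_mul_le_mul_left ((meas_le Q).trans h.ge) Nat.card_pos
    have he := eq_of_le_of_card_ge (inf_le_right : Q ⊓ centralizer (Q : Set P) ≤ _) hsub
    refine ⟨?_, inf_eq_right.mp he⟩
    show Nat.card ↥Q * Nat.card ↥(centralizer (Q : Set P)) = _
    rw [← h, he]
  · rintro ⟨h, hle⟩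
    rw [inf_eq_right.mpr hle]
    exact h

theorem exists_centrallyLarge : ∃ R : Subgroup P, IsCentrallyLarge R := by
  obtain ⟨T, hT⟩ := exists_large (P := P)
  obtain ⟨hC, hCC⟩ := centralizer_large hT
  refine ⟨T ⊔ centralizer (T : Set P), centrallyLarge_iff.mpr ⟨(lattice hT hC).1, ?_⟩⟩
  rw [centralizer_sup, hCC]
  exact inf_le_left.trans le_sup_right

theorem exists_minimal : ∃ R : Subgroup P, IsMinimalCentrallyLarge R := by
  obtain ⟨R, hR⟩ := (Set.toFinite {R : Subgroup P | IsCentrallyLarge R}).exists_minimal exists_centrallyLarge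
  exact ⟨R, hR.1, fun R' hle h => le_antisymm hle (hR.2 h hle)⟩

theorem centrallyLarge_sup (hQ : IsCentrallyLarge Q) (hR : IsCentrallyLarge R) :
    IsCentrallyLarge (Q ⊔ R) ∧ ((Q ⊔ R : Subgroup P) : Set P) = (Q : Set P) * (R : Set P) := by
  obtain ⟨hQ1, hQ2⟩ := centrallyLarge_iff.mp hQ
  obtain ⟨hR1, -⟩ := centrallyLarge_iff.mp hR
  obtain ⟨hJ, -, hset, -, -⟩ := lattice hQ1 hR1
  refine ⟨centrallyLarge_iff.mpr ⟨hJ, ?_⟩, hset⟩
  rw [centralizer_sup]
  exact inf_le_left.trans (hQ2.trans le_sup_left)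

/-- The join of a nonempty family of centrally large subgroups is centrally large. -/
theorem centrallyLarge_sSup {s : Set (Subgroup P)} (hne : s.Nonempty) (h : ∀ R ∈ s, IsCentrallyLarge R) :
    IsCentrallyLarge (sSup s) := by
  obtain ⟨R, hR⟩ := (Set.toFinite {R : Subgroup P | IsCentrallyLarge R ∧ R ≤ sSup s}).exists_maximal
    ⟨hne.choose, h _ hne.choose_spec, le_sSup hne.choose_spec⟩
  have he : sSup s = R := le_antisymm (sSup_le fun T hT =>
    le_sup_right.trans (hR.2 (y := R ⊔ T) ⟨(centrallyLarge_sup hR.1.1 (h T hT)).1, sup_le hR.1.2 (le_sSup hT)⟩ le_sup_left))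
    hR.1.2
  exact he ▸ hR.1.1

omit [Finite P] in
theorem exists_maxAbelian [Finite P] : ∃ A, A ∈ maxAbelianSubgroups P := by
  obtain ⟨A, hA, hmax⟩ := (Set.toFinite {A : Subgroup P | IsMulCommutative A}).exists_maximalFor
    (fun A : Subgroup P => Nat.card ↥A) _ ⟨⊥, ⟨⟨fun a b => Subsingleton.elim _ _⟩⟩⟩
  exact ⟨A, hA, fun B hB => (le_total (Nat.card ↥B) (Nat.card ↥A)).elim id (fun h => hmax hB h)⟩

omit [Finite P] in
theorem isMulCommutative_iff_le {H : Subgroup P} : IsMulCommutative ↥H ↔ H ≤ centralizer (H : Set P) :=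
  ⟨fun h x hx y hy => congrArg Subtype.val (h.is_comm.comm ⟨y, hy⟩ ⟨x, hx⟩),
    fun h => ⟨⟨fun a b => Subtype.ext (h b.2 a a.2)⟩⟩⟩

/-- An abelian subgroup of largest order is self-centralizing. -/
theorem centralizer_maxAbelian {A : Subgroup P} (hA : A ∈ maxAbelianSubgroups P) : centralizer (A : Set P) = A := by
  refine le_antisymm (fun x hx => ?_) (isMulCommutative_iff_le.mp hA.1)
  have hB : IsMulCommutative ↥(A ⊔ zpowers x : Subgroup P) := by
    rw [isMulCommutative_iff_le, centralizer_sup]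
    refine sup_le (le_inf (isMulCommutative_iff_le.mp hA.1) (le_centralizer_iff.mp (zpowers_le.mpr hx)))
      (le_inf (zpowers_le.mpr hx) (zpowers_le.mpr ?_))
    intro y hy
    obtain ⟨i, rfl⟩ := mem_zpowers_iff.mp hy
    exact ((Commute.refl x).zpow_left i).eq
  have he := eq_of_le_of_card_ge (le_sup_left : A ≤ A ⊔ zpowers x) (hA.2 _ hB)
  exact he ▸ mem_sup_right (mem_zpowers x)

/-- Joining an abelian subgroup of largest order. -/
theorem sup_maxAbelian (hQ : IsCentrallyLarge Q) {A : Subgroup P} (hA : A ∈ maxAbelianSubgroups P) :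
    ((Q ⊔ A : Subgroup P) : Set P) = (Q : Set P) * (A : Set P) ∧ IsCentrallyLarge (Q ⊔ A) ∧
      (Q ⊔ A) ⊓ centralizer ((Q ⊓ A : Subgroup P) : Set P) = (Q ⊓ centralizer (Q : Set P)) ⊔ A ∧
      (((Q ⊓ centralizer (Q : Set P)) ⊔ A : Subgroup P) : Set P)
        = ((Q ⊓ centralizer (Q : Set P)) : Set P) * (A : Set P) := by
  obtain ⟨hQ1, hQ2⟩ := centrallyLarge_iff.mp hQ
  set Z := centralizer (Q : Set P) with hZdef
  rw [inf_eq_right.mpr hQ2]
  set J := Q ⊔ A with hJdef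
  set X := Q ⊓ A with hXdef
  set f := maxCentralizerProduct P
  have hAA := isMulCommutative_iff_le.mp hA.1
  have hCJ : centralizer (J : Set P) = Z ⊓ A := by rw [centralizer_sup, centralizer_maxAbelian hA]
  have hXA : X ≤ A := inf_le_right
  have hXZ : X ≤ centralizer (Z : Set P) := (inf_le_left : X ≤ Q).trans (le_centralizer_iff.mp le_rfl)
  have hZZ : Z ≤ centralizer (Z : Set P) := hQ2.trans (le_centralizer_iff.mp le_rfl)
  have hW : IsMulCommutative ↥(X ⊔ Z : Subgroup P) := by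
    rw [isMulCommutative_iff_le, centralizer_sup]
    exact sup_le (le_inf (hXA.trans (hAA.trans (centralizer_le (SetLike.coe_subset_coe.mpr hXA)))) hXZ)
      (le_inf (le_centralizer_iff.mp hXZ) hZZ)
  have hXZinf : X ⊓ Z = Z ⊓ A := by
    rw [hXdef, inf_comm Q A, inf_assoc, inf_eq_right.mpr hQ2, inf_comm]
  have hXle : Nat.card ↥X * Nat.card ↥Z ≤ Nat.card ↥A * Nat.card ↥(Z ⊓ A : Subgroup P) := by
    rw [← hXZinf]
    exact (card_mul_le_sup X Z).trans (Nat.mul_le_mul_right _ (hA.2 _ hW))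
  have hQA : Nat.card ↥Q * Nat.card ↥A ≤ Nat.card ↥J * Nat.card ↥X := card_mul_le_sup Q A
  have hQf : Nat.card ↥Q * Nat.card ↥Z = f := hQ1
  have hJle : Nat.card ↥J * Nat.card ↥(Z ⊓ A : Subgroup P) ≤ f := hCJ ▸ meas_le J
  have hAX : 0 < Nat.card ↥A * Nat.card ↥X := Nat.mul_pos Nat.card_pos Nat.card_pos
  have hZApos : 0 < Nat.card ↥(Z ⊓ A : Subgroup P) := Nat.card_pos
  -- `f |A| |X| ≤ |J| |Z ∩ A| |A| |X|`
  have hlow : f ≤ Nat.card ↥J * Nat.card ↥(Z ⊓ A : Subgroup P) := by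
    refine Nat.le_of_mul_le_mul_right ?_ hAX
    calc f * (Nat.card ↥A * Nat.card ↥X) = (Nat.card ↥Q * Nat.card ↥A) * (Nat.card ↥X * Nat.card ↥Z) := by rw [← hQf]; ring
      _ ≤ (Nat.card ↥J * Nat.card ↥X) * (Nat.card ↥A * Nat.card ↥(Z ⊓ A : Subgroup P)) := Nat.mul_le_mul hQA hXle
      _ = _ := by ring
  have hlarge : IsCentrallyLarge J := centrallyLarge_iff.mpr
    ⟨large_of_le (by show f ≤ _ * _; rw [hCJ]; exact hlow), by rw [hCJ]; exact inf_le_right.trans le_sup_right⟩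
  have hprod : Nat.card ↥J * Nat.card ↥X ≤ Nat.card ↥Q * Nat.card ↥A := by
    refine Nat.le_of_mul_le_mul_right ?_ (Nat.mul_pos (Nat.card_pos : 0 < Nat.card ↥A) hZApos)
    calc Nat.card ↥J * Nat.card ↥X * (Nat.card ↥A * Nat.card ↥(Z ⊓ A : Subgroup P))
        = (Nat.card ↥J * Nat.card ↥(Z ⊓ A : Subgroup P)) * (Nat.card ↥A * Nat.card ↥X) := by ring
      _ ≤ f * (Nat.card ↥A * Nat.card ↥X) := Nat.mul_le_mul_right _ hJle
      _ = (Nat.card ↥Q * Nat.card ↥A) * (Nat.card ↥X * Nat.card ↥Z) := by rw [← hQf]; ring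
      _ ≤ _ := Nat.mul_le_mul_left _ hXle
  have hset := coe_sup_eq Q A hprod
  -- `X ⊔ Z` has largest order among abelian subgroups
  have hWmax : X ⊔ Z ∈ maxAbelianSubgroups P := by
    refine ⟨hW, fun B hB => (hA.2 B hB).trans ?_⟩
    refine Nat.le_of_mul_le_mul_right ?_ hZApos
    have hrev : Nat.card ↥A * Nat.card ↥(Z ⊓ A : Subgroup P) ≤ Nat.card ↥X * Nat.card ↥Z := by
      refine Nat.le_of_mul_le_mul_left ?_ (Nat.mul_pos (Nat.card_pos : 0 < Nat.card ↥J) (Nat.card_pos : 0 < Nat.card ↥X))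
      calc Nat.card ↥J * Nat.card ↥X * (Nat.card ↥A * Nat.card ↥(Z ⊓ A : Subgroup P))
          = (Nat.card ↥J * Nat.card ↥(Z ⊓ A : Subgroup P)) * (Nat.card ↥A * Nat.card ↥X) := by ring
        _ ≤ f * (Nat.card ↥A * Nat.card ↥X) := Nat.mul_le_mul_right _ hJle
        _ = (Nat.card ↥Q * Nat.card ↥A) * (Nat.card ↥X * Nat.card ↥Z) := by rw [← hQf]; ring
        _ ≤ _ := Nat.mul_le_mul_right _ hQA
    refine hrev.trans ((card_mul_le_sup X Z).trans (le_of_eq ?_))
    rw [hXZinf]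
  have hCX : ∀ c ∈ Q, c ∈ centralizer (X : Set P) → ∃ z ∈ Z, ∃ a ∈ A, c = z * a := by
    intro c hcQ hcX
    have hc : c ∈ X ⊔ Z := by
      rw [← centralizer_maxAbelian hWmax, centralizer_sup]
      exact ⟨hcX, (le_centralizer_iff.mp le_rfl : Q ≤ centralizer (Z : Set P)) hcQ⟩
    obtain ⟨z, hz, x, hx, e⟩ : ∃ z ∈ Z, ∃ x ∈ X, z * x = c := by
      have hn : X ≤ normalizer (Z : Set P) := hXZ.trans (centralizer_le_normalizer _)
      rw [sup_comm, ← SetLike.mem_coe, coe_mul_of_right_le_normalizer_left Z X hn] at hc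
      exact Set.mem_mul.mp hc
    exact ⟨z, hz, x, hXA hx, e.symm⟩
  have hle : (Z ⊔ A : Subgroup P) ≤ J ⊓ centralizer (X : Set P) :=
    sup_le (le_inf (hQ2.trans le_sup_left) (centralizer_le (SetLike.coe_subset_coe.mpr inf_le_left)))
      (le_inf le_sup_right (hAA.trans (centralizer_le (SetLike.coe_subset_coe.mpr hXA))))
  have hsub : ((J ⊓ centralizer (X : Set P) : Subgroup P) : Set P) ⊆ (Z : Set P) * (A : Set P) := by
    rintro y ⟨hy, hyX⟩
    have hy : y ∈ ((Q ⊔ A : Subgroup P) : Set P) := hy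
    rw [hset] at hy
    obtain ⟨q, hq, a, ha, rfl⟩ := hy
    have hqX : q ∈ centralizer (X : Set P) := by
      have := mul_mem (show q * a ∈ centralizer (X : Set P) from hyX) (inv_mem ((hAA.trans (centralizer_le (SetLike.coe_subset_coe.mpr hXA))) ha))
      rwa [mul_inv_cancel_right] at this
    obtain ⟨z, hz, a', ha', rfl⟩ := hCX q hq hqX
    exact ⟨z, hz, a' * a, A.mul_mem ha' ha, by simp [mul_assoc]⟩
  have hEq : J ⊓ centralizer (X : Set P) = Z ⊔ A := le_antisymm (fun y hy => coe_mul_le Z A (hsub hy)) hle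
  refine ⟨hset, hlarge, hEq, ?_⟩
  rw [show (Q : Set P) ⊓ (Z : Set P) = (Z : Set P) from inf_eq_right.mpr (SetLike.coe_subset_coe.mpr hQ2)]
  exact Set.Subset.antisymm (fun y hy => hsub (hle hy)) (coe_mul_le Z A)

omit [Finite P] in
theorem thompson_inf_centralizer [Finite P] :
    thompsonSubgroupA P ⊓ centralizer (thompsonSubgroupA P : Set P) = centralizer (thompsonSubgroupA P : Set P) := by
  refine inf_eq_right.mpr ?_
  obtain ⟨A, hA⟩ := exists_maxAbelian (P := P)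
  refine le_trans ?_ (le_sSup hA)
  rw [← centralizer_maxAbelian hA]
  exact centralizer_le (SetLike.coe_subset_coe.mpr (le_sSup hA))

/-- Joining the Thompson subgroup. -/
theorem sup_thompson (hQ : IsCentrallyLarge Q) :
    IsCentrallyLarge (Q ⊔ thompsonSubgroupA P) ∧
      centralizer ((thompsonSubgroupA P ⊓ centralizer (thompsonSubgroupA P : Set P) : Subgroup P) : Set P)
        ≤ Q ⊔ thompsonSubgroupA P := by
  obtain ⟨K, hK⟩ := (Set.toFinite {R : Subgroup P | IsCentrallyLarge R ∧ Q ≤ R ∧ R ≤ Q ⊔ thompsonSubgroupA P}).exists_maximal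
    ⟨Q, hQ, le_rfl, le_sup_left⟩
  have he : Q ⊔ thompsonSubgroupA P = K := le_antisymm (sup_le hK.1.2.1 (sSup_le fun A hA =>
    le_sup_right.trans (hK.2 (y := K ⊔ A) ⟨(sup_maxAbelian hK.1.1 hA).2.1, hK.1.2.1.trans le_sup_left,
      sup_le hK.1.2.2 ((le_sSup hA).trans le_sup_right)⟩ le_sup_left))) hK.1.2.2
  have hKl : IsCentrallyLarge (Q ⊔ thompsonSubgroupA P) := he ▸ hK.1.1
  refine ⟨hKl, ?_⟩
  obtain ⟨h1, -⟩ := centrallyLarge_iff.mp hKl
  conv_rhs => rw [← (centralizer_large h1).2]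
  refine centralizer_le (SetLike.coe_subset_coe.mpr ?_)
  rw [thompson_inf_centralizer, centralizer_sup]
  exact inf_le_right

/-- Structure shared by minimal centrally large subgroups. -/
theorem minimal_eq (hQ : IsMinimalCentrallyLarge Q) (hR : IsMinimalCentrallyLarge R) :
    (Q ⊓ R) ⊔ centralizer (Q : Set P) = Q ∧ ⁅Q, Q⁆ = ⁅Q ⊓ R, Q ⊓ R⁆ ∧
      (Q ⊓ R) ⊓ centralizer (Q : Set P) = (Q ⊓ R) ⊓ centralizer ((Q ⊓ R : Subgroup P) : Set P) := by
  obtain ⟨hQ1, hQ2⟩ := centrallyLarge_iff.mp hQ.1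
  obtain ⟨hR1, hR2⟩ := centrallyLarge_iff.mp hR.1
  obtain ⟨-, hM, -, hCM, hCset⟩ := lattice hQ1 hR1
  set Z := centralizer (Q : Set P) with hZ
  set M := Q ⊓ R with hMdef
  obtain ⟨hZl, hCC⟩ := centralizer_large hQ1
  have hT := (lattice hM hZl).1
  have hTQ : M ⊔ Z = Q := by
    refine hQ.2 _ (sup_le inf_le_left hQ2) (centrallyLarge_iff.mpr ⟨hT, ?_⟩)
    rw [centralizer_sup, hCC, hCM]
    rintro y ⟨hy, hyQ⟩
    have hy : y ∈ ((Z ⊔ centralizer (R : Set P) : Subgroup P) : Set P) := hy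
    rw [hCset] at hy
    obtain ⟨z, hz, w, hw, rfl⟩ := hy
    refine mul_mem (mem_sup_right hz) (mem_sup_left ⟨?_, hR2 hw⟩)
    have := mul_mem (inv_mem (hQ2 hz)) hyQ
    rwa [inv_mul_cancel_left] at this
  refine ⟨hTQ, le_antisymm ?_ (commutator_mono inf_le_left inf_le_left), ?_⟩
  · rw [commutator_le]
    intro a ha b hb
    have hn : M ≤ normalizer (Z : Set P) :=
      (inf_le_left.trans (le_centralizer_iff.mp le_rfl : Q ≤ centralizer (Z : Set P))).trans (centralizer_le_normalizer _)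
    have hset := coe_mul_of_left_le_normalizer_right M Z hn
    rw [hTQ] at hset
    rw [← SetLike.mem_coe, hset] at ha hb
    obtain ⟨m, hm, z, hz, rfl⟩ := ha
    obtain ⟨n, hn', w, hw, rfl⟩ := hb
    have hz' : ∀ y ∈ Q, y * z = z * y := fun y hy => hz y hy
    have hw' : ∀ y ∈ Q, y * w = w * y := fun y hy => hw y hy
    have e : ⁅m * z, n * w⁆ = ⁅m, n⁆ := by
      rw [commutatorElement_def, commutatorElement_def]
      calc m * z * (n * w) * (m * z)⁻¹ * (n * w)⁻¹
          = m * (z * (n * w)) * z⁻¹ * m⁻¹ * w⁻¹ * n⁻¹ := by group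
        _ = m * ((n * w) * z) * z⁻¹ * m⁻¹ * w⁻¹ * n⁻¹ := by rw [← hz' _ (mul_mem hn'.1 (hQ2 hw))]
        _ = m * n * (w * m⁻¹) * w⁻¹ * n⁻¹ := by group
        _ = m * n * (m⁻¹ * w) * w⁻¹ * n⁻¹ := by rw [← hw' _ (inv_mem hm.1)]
        _ = m * n * m⁻¹ * n⁻¹ := by group
    show ⁅m * z, n * w⁆ ∈ _
    rw [e]
    exact commutator_mem_commutator hm hn'
  · refine le_antisymm (inf_le_inf_left _ (centralizer_le (SetLike.coe_subset_coe.mpr inf_le_left))) ?_
    rintro x ⟨hxM, hx⟩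
    refine ⟨hxM, ?_⟩
    have : x ∈ centralizer ((M ⊔ Z : Subgroup P) : Set P) := by
      rw [centralizer_sup, hCC]
      exact ⟨hx, hxM.1⟩
    rwa [hTQ] at this

end CfsgLib.ChermakDelgado

namespace CfsgLib.ChermakDelgado

open scoped Pointwise

/-- The other half of the product formula. -/
theorem mul_card_le {P : Type*} [Group P] [Finite P] (H K : Subgroup P) :
    Nat.card ↥((H : Set P) * (K : Set P)) * Nat.card ↥(H ⊓ K : Subgroup P) ≤ Nat.card ↥H * Nat.card ↥K := by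
  classical
  have hrep : ∀ x : ↥((H : Set P) * (K : Set P)), ∃ h ∈ H, ∃ k ∈ K, h * k = (x : P) := fun x => Set.mem_mul.mp x.2
  choose h hh k hk hx using hrep
  rw [← Nat.card_prod, ← Nat.card_prod]
  refine Nat.card_le_card_of_injective (fun q => ((⟨h q.1 * q.2, H.mul_mem (hh q.1) q.2.2.1⟩,
      ⟨(q.2 : P)⁻¹ * k q.1, K.mul_mem (K.inv_mem q.2.2.2) (hk q.1)⟩) : ↥H × ↥K)) ?_
  rintro ⟨x, i⟩ ⟨y, j⟩ heq
  simp only [Prod.mk.injEq, Subtype.mk.injEq] at heq
  obtain ⟨h1, h2⟩ := heq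
  have hxy : x = y := by
    apply Subtype.ext
    rw [← hx x, ← hx y]
    calc h x * k x = h x * i * ((i : P)⁻¹ * k x) := by group
      _ = h y * j * ((j : P)⁻¹ * k y) := by rw [h1, h2]
      _ = _ := by group
  subst hxy
  exact Prod.ext rfl (Subtype.ext (mul_left_cancel h1))

end CfsgLib.ChermakDelgado
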