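import Mathlib

/-! Elementary facts on Klein four-subgroups. -/

set_option autoImplicit false

namespace CfsgLib.KleinBasic

variable {P : Type*} [Group P]

theorem exists_klein (a b : P) (ha : a * a = 1) (hb : b * b = 1) (hab : a * b = b * a) (ha1 : a ≠ 1)
    (hb1 : b ≠ 1) (hne : a ≠ b) :
    ∃ W : Subgroup P, IsKleinFour W ∧ a ∈ W ∧ b ∈ W ∧ ∀ c : P, Commute c a → Commute c b → ∀ w ∈ W, Commute c w := by
  classical
  have hai : a⁻¹ = a := inv_eq_of_mul_eq_one_right ha
  have hbi : b⁻¹ = b := inv_eq_of_mul_eq_one_right hb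
  have haab : a * (a * b) = b := by rw [← mul_assoc, ha, one_mul]
  have hbab : b * (a * b) = a := by rw [hab, ← mul_assoc, hb, one_mul]
  have habb : a * b * b = a := by rw [mul_assoc, hb, mul_one]
  have haba : a * b * a = b := by rw [hab, mul_assoc, ha, mul_one]
  have habab : a * b * (a * b) = 1 := by rw [mul_assoc, hbab, ha]
  let W : Subgroup P :=
    { carrier := {1, a, b, a * b}
      one_mem' := Or.inl rfl
      mul_mem' := by
        rintro x y (rfl | rfl | rfl | rfl) (rfl | rfl | rfl | rfl) <;>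
          simp [ha, hb, haab, hbab, habb, haba, habab, ← hab]
      inv_mem' := by
        rintro x (rfl | rfl | rfl | rfl) <;> simp [hai, hbi, mul_inv_rev, ← hab] }
  have hmem : ∀ w, w ∈ W ↔ w = 1 ∨ w = a ∨ w = b ∨ w = a * b := fun w => Iff.rfl
  refine ⟨W, ⟨?_, ?_⟩, (hmem a).2 (by simp), (hmem b).2 (by simp), fun c hca hcb w hw => ?_⟩
  · rw [← SetLike.coe_sort_coe, Nat.card_coe_set_eq]
    show ({1, a, b, a * b} : Set P).ncard = 4
    have h1 : a * b ≠ 1 := fun h => hne (by rw [← hbi]; exact eq_inv_of_mul_eq_one_left h)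
    rw [Set.ncard_insert_of_notMem, Set.ncard_insert_of_notMem, Set.ncard_insert_of_notMem, Set.ncard_singleton] <;>
      simp_all [eq_comm]
  · have h2 : ∀ w : W, w ^ 2 = 1 := by
      rintro ⟨w, hw⟩
      refine Subtype.ext ?_
      show w ^ 2 = 1
      rcases hw with rfl | rfl | rfl | rfl <;> simp [pow_two, ha, hb, habab]
    haveI : Nontrivial W := ⟨⟨⟨a, (hmem a).2 (by simp)⟩, 1, fun h => ha1 (congrArg Subtype.val h)⟩⟩
    rcases (Nat.dvd_prime Nat.prime_two).1 (Monoid.exponent_dvd_of_forall_pow_eq_one h2) with h | h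
    · haveI : Subsingleton W := Monoid.exp_eq_one_iff.1 h
      exact absurd (congrArg Subtype.val (Subsingleton.elim (⟨a, (hmem a).2 (by simp)⟩ : W) 1)) ha1
    · exact h
  · rcases hw with rfl | rfl | rfl | rfl
    exacts [Commute.one_right c, hca, hcb, hca.mul_right hcb]

theorem mem_cases {W : Subgroup P} (hW : IsKleinFour W) {a b : P} (ha : a ∈ W) (hb : b ∈ W)
    (ha1 : a ≠ 1) (hb1 : b ≠ 1) (hne : a ≠ b) {w : P} (hw : w ∈ W) : w = 1 ∨ w = a ∨ w = b ∨ w = a * b := by
  classical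
  haveI := hW
  haveI : Finite W := Nat.finite_of_card_ne_zero (by rw [hW.card_four]; norm_num)
  haveI : Fintype W := Fintype.ofFinite W
  have h := IsKleinFour.eq_finset_univ (G := W) (x := ⟨a, ha⟩) (y := ⟨b, hb⟩)
    (fun e => ha1 (congrArg Subtype.val e)) (fun e => hb1 (congrArg Subtype.val e)) (fun e => hne (congrArg Subtype.val e))
  have hm : (⟨w, hw⟩ : W) ∈ (Finset.univ : Finset W) := Finset.mem_univ _
  rw [← h] at hm
  simp only [Finset.mem_insert, Finset.mem_singleton, Subtype.ext_iff, Subgroup.coe_mul] at hm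
  tauto

theorem klein_le {W : Subgroup P} (hW : IsKleinFour W) {a b : P} (ha : a ∈ W) (hb : b ∈ W)
    (ha1 : a ≠ 1) (hb1 : b ≠ 1) (hne : a ≠ b) (E : Subgroup P) (haE : a ∈ E) (hbE : b ∈ E) : W ≤ E := by
  intro w hw
  rcases mem_cases hW ha hb ha1 hb1 hne hw with rfl | rfl | rfl | rfl
  exacts [E.one_mem, haE, hbE, E.mul_mem haE hbE]

theorem klein_gens (U : Subgroup P) (hU : IsKleinFour U) :
    ∃ u v : P, u ∈ U ∧ v ∈ U ∧ u ≠ 1 ∧ v ≠ 1 ∧ u ≠ v ∧ ∀ c : P, Commute c u → Commute c v → ∀ w ∈ U, Commute c w := by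
  classical
  haveI := hU
  haveI : Finite U := Nat.finite_of_card_ne_zero (by rw [hU.card_four]; norm_num)
  haveI : Fintype U := Fintype.ofFinite U
  have h4 : Fintype.card U = 4 := by rw [← Nat.card_eq_fintype_card]; exact IsKleinFour.card_four
  obtain ⟨u, hu⟩ := Fintype.exists_ne_of_one_lt_card (by omega) (1 : U)
  obtain ⟨v, -, hv⟩ := Finset.exists_mem_notMem_of_card_lt_card (s := ({1, u} : Finset U)) (t := Finset.univ)
    (by rw [Finset.card_univ, h4]; exact Finset.card_le_two.trans_lt (by norm_num))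
  simp only [Finset.mem_insert, Finset.mem_singleton, not_or] at hv
  have hu1 : (u : P) ≠ 1 := fun e => hu (Subtype.ext e)
  have hv1 : (v : P) ≠ 1 := fun e => hv.1 (Subtype.ext e)
  have huv : (u : P) ≠ v := fun e => hv.2 (Subtype.ext e.symm)
  refine ⟨u, v, u.2, v.2, hu1, hv1, huv, fun c hcu hcv w hw => ?_⟩
  rcases mem_cases hU u.2 v.2 hu1 hv1 huv hw with rfl | rfl | rfl | rfl
  exacts [Commute.one_right c, hcu, hcv, hcu.mul_right hcv]

end CfsgLib.KleinBasic
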