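import Mathlib
import Cfsg.Agent.Lib.KleinBasic

/-! The normaliser of a self-centralising Klein four subgroup embeds in `S₄`. -/

set_option autoImplicit false

namespace CfsgLib.KleinNormalizer

open CfsgLib.KleinBasic

variable {G : Type*} [Group G]

theorem eq_closure {V : Subgroup G} (hV : IsKleinFour V) {a b : G} (ha : a ∈ V) (hb : b ∈ V)
    (ha1 : a ≠ 1) (hb1 : b ≠ 1) (hne : a ≠ b) : V = Subgroup.closure {a, b} :=
  le_antisymm (klein_le hV ha hb ha1 hb1 hne _ (Subgroup.subset_closure (by simp))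
      (Subgroup.subset_closure (by simp)))
    ((Subgroup.closure_le _).2 (by rintro x (rfl | rfl) <;> assumption))

theorem mul_self {V : Subgroup G} (hV : IsKleinFour V) {a : G} (ha : a ∈ V) : a * a = 1 :=
  haveI := hV
  congrArg Subtype.val (IsKleinFour.mul_self (⟨a, ha⟩ : V))

theorem orderOf_two {V : Subgroup G} (hV : IsKleinFour V) {a : G} (ha : a ∈ V) (ha1 : a ≠ 1) :
    orderOf a = 2 :=
  orderOf_eq_prime (by rw [sq]; exact mul_self hV ha) ha1

theorem commute {V : Subgroup G} (hV : IsKleinFour V) {a b : G} (ha : a ∈ V) (hb : b ∈ V) :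
    Commute a b := by
  have h := mul_self hV (V.mul_mem ha hb)
  have ha' := inv_eq_of_mul_eq_one_right (mul_self hV ha)
  have hb' := inv_eq_of_mul_eq_one_right (mul_self hV hb)
  have := inv_eq_of_mul_eq_one_right h
  rw [_root_.mul_inv_rev, ha', hb'] at this
  exact this.symm

theorem map_isKleinFour {V : Subgroup G} (hV : IsKleinFour V) {H : Type*} [Group H] (f : G →* H)
    (hf : Function.Injective f) : IsKleinFour (V.map f) :=
  ⟨by rw [← Nat.card_congr (V.equivMapOfInjective f hf).toEquiv]; exact hV.card_four,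
    by rw [← Monoid.exponent_eq_of_mulEquiv (V.equivMapOfInjective f hf)]; exact hV.exponent_two⟩

theorem main [Finite G] {V : Subgroup G} (hV : IsKleinFour V) {a b : G} (ha : a ∈ V) (hb : b ∈ V)
    (ha1 : a ≠ 1) (hb1 : b ≠ 1) (hne : a ≠ b)
    (hC : ∀ g : G, Commute g a → Commute g b → g ∈ V)
    {w : G} (hwa : w * a * w⁻¹ = b) (hwb : w * b * w⁻¹ = a * b) :
    (∃ φ : ↥(Subgroup.normalizer (V : Set G)) →* Equiv.Perm (Fin 4), Function.Injective φ) ∧
      (Nat.card ↥(Subgroup.normalizer (V : Set G)) = 12 ∧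
          (∀ g : G, g * a * g⁻¹ = a → g * b * g⁻¹ ≠ a * b) ∨
        Nat.card ↥(Subgroup.normalizer (V : Set G)) = 24) := by
  classical
  set N := Subgroup.normalizer (V : Set G) with hN
  have hc := fun {x : G} (hx : x ∈ V) {y : G} (hy : y ∈ V) => commute hV hx hy
  have hab1 : a * b ≠ 1 := fun h => hne (by
    rw [← inv_eq_of_mul_eq_one_right h]; exact (inv_eq_of_mul_eq_one_right (mul_self hV ha)).symm)
  have habmem : a * b ∈ V := V.mul_mem ha hb
  have hVle : V ≤ N := Subgroup.le_normalizer
  -- the action on the three involutions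
  let S := {v : G // v ∈ V ∧ v ≠ 1}
  have hconj : ∀ n : N, ∀ v : G, v ∈ V → (n : G) * v * (n : G)⁻¹ ∈ V :=
    fun n v hv => (Subgroup.mem_normalizer_iff.1 n.2 v).1 hv
  letI : MulAction N S :=
    { smul := fun n v => ⟨(n : G) * v.1 * (n : G)⁻¹, hconj n _ v.2.1, fun h => v.2.2 (conj_eq_one_iff.1 h)⟩
      one_smul := fun v => Subtype.ext (show (1 : G) * v.1 * (1 : G)⁻¹ = v.1 by group)
      mul_smul := fun m n v => Subtype.ext
        (show (m : G) * n * v.1 * ((m : G) * n)⁻¹ = (m : G) * ((n : G) * v.1 * (n : G)⁻¹) * (m : G)⁻¹ by group) }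
  have hcases : ∀ v : S, v.1 = a ∨ v.1 = b ∨ v.1 = a * b := fun v =>
    (mem_cases hV ha hb ha1 hb1 hne v.2.1).resolve_left v.2.2
  set α := MulAction.toPermHom N S with hα
  have hker : α.ker = V.subgroupOf N := by
    ext n
    rw [MonoidHom.mem_ker, Subgroup.mem_subgroupOf]
    constructor
    · intro h
      have h' : ∀ v : S, n • v = v := fun v => Equiv.Perm.congr_fun h v
      refine hC _ ?_ ?_
      · exact mul_inv_eq_iff_eq_mul.1 (congrArg Subtype.val (h' ⟨a, ha, ha1⟩))
      · exact mul_inv_eq_iff_eq_mul.1 (congrArg Subtype.val (h' ⟨b, hb, hb1⟩))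
    · intro h
      ext v
      show (n : G) * v.1 * (n : G)⁻¹ = v.1
      rw [(hc h v.2.1).eq, mul_inv_cancel_right]
  have hcardS : Nat.card S = 3 := by
    have h4 : (V : Set G).ncard = 4 := (Nat.card_coe_set_eq _).symm.trans hV.card_four
    have : Nat.card S = ((V : Set G) \ {1}).ncard := Nat.card_coe_set_eq _
    rw [this, Set.ncard_sdiff_singleton_of_mem V.one_mem, h4]
  -- the normalising three-cycle
  have hwN : w ∈ N := by
    have hle : V.map (MulAut.conj w).toMonoidHom = V := by
      have hK := map_isKleinFour hV (MulAut.conj w).toMonoidHom (MulAut.conj w).injective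
      rw [eq_closure hK ⟨a, ha, hwa⟩ ⟨b, hb, hwb⟩ hb1 hab1
        (fun h => ha1 (mul_eq_right.1 h.symm)), eq_closure hV hb habmem hb1 hab1
        (fun h => ha1 (mul_eq_right.1 h.symm))]
    rw [hN, Subgroup.mem_normalizer_iff_map_conj_eq]
    exact hle
  have htrans : MulAction.IsPretransitive N S := by
    have key : ∀ v : S, ∃ n : N, n • (⟨a, ha, ha1⟩ : S) = v := by
      intro v
      rcases hcases v with h | h | h
      · exact ⟨1, Subtype.ext (by rw [one_smul]; exact h.symm)⟩
      · exact ⟨⟨w, hwN⟩, Subtype.ext (by show w * a * w⁻¹ = v.1; rw [hwa, h])⟩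
      · refine ⟨⟨w, hwN⟩ * ⟨w, hwN⟩, Subtype.ext ?_⟩
        show w * w * a * (w * w)⁻¹ = v.1
        rw [show w * w * a * (w * w)⁻¹ = w * (w * a * w⁻¹) * w⁻¹ by group, hwa, hwb, h]
    refine ⟨fun u v => ?_⟩
    obtain ⟨m, hm⟩ := key u
    obtain ⟨n, hn⟩ := key v
    exact ⟨n * m⁻¹, by rw [mul_smul, ← hm, inv_smul_smul, hn]⟩
  have h3 : 3 ∣ Nat.card α.range := by
    have h := MulAction.index_stabilizer_of_transitive N (⟨a, ha, ha1⟩ : S)
    rw [hcardS] at h
    have hle : α.ker ≤ MulAction.stabilizer N (⟨a, ha, ha1⟩ : S) := fun n hn =>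
      Equiv.Perm.congr_fun hn _
    rw [← Subgroup.index_ker, ← h]
    exact Subgroup.index_dvd_of_le hle
  have h6 : Nat.card α.range ∣ 6 := by
    have h := Subgroup.card_subgroup_dvd_card α.range
    haveI : Fintype S := Fintype.ofFinite S
    rwa [Nat.card_perm, hcardS] at h
  have hcardN : Nat.card N = 4 * Nat.card α.range := by
    rw [← Subgroup.card_mul_index α.ker, Subgroup.index_ker, hker,
      Nat.card_congr (Subgroup.subgroupOfEquivOfLe hVle).toEquiv, hV.card_four]
  have hr : Nat.card α.range = 3 ∨ Nat.card α.range = 6 := by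
    have := Nat.le_of_dvd (by norm_num) h6
    obtain ⟨c, hc'⟩ := h3
    have : 0 < Nat.card α.range := Nat.card_pos
    obtain ⟨d, hd⟩ := h6
    interval_cases hh : Nat.card α.range <;> omega
  refine ⟨?_, ?_⟩
  · -- the action on the four Sylow 3-subgroups
    haveI : Fact (Nat.Prime 3) := ⟨Nat.prime_three⟩
    let P : Sylow 3 N := default
    have hv3 : (Nat.card N).factorization 3 = 1 := by
      rcases hr with h | h <;> rw [hcardN, h]
      · rw [show (4 * 3 : ℕ) = 2 ^ 2 * 3 by norm_num, Nat.factorization_mul (by norm_num) (by norm_num),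
          Nat.prime_two.factorization_pow, Nat.prime_three.factorization]
        simp
      · rw [show (4 * 6 : ℕ) = 2 ^ 3 * 3 by norm_num, Nat.factorization_mul (by norm_num) (by norm_num),
          Nat.prime_two.factorization_pow, Nat.prime_three.factorization]
        simp
    have hP3 : Nat.card (P : Subgroup N) = 3 := by rw [P.card_eq_multiplicity, hv3, pow_one]
    set W := V.subgroupOf N with hW
    have hW4 : Nat.card W = 4 := by
      rw [Nat.card_congr (Subgroup.subgroupOfEquivOfLe hVle).toEquiv, hV.card_four]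
    haveI hWn : W.Normal := Subgroup.normal_in_normalizer
    have hnn : ¬ (P : Subgroup N).Normal := by
      intro hn
      have hdis : Disjoint (P : Subgroup N) W :=
        (Subgroup.disjoint_of_coprime_natCard (by rw [hP3, hW4]; norm_num))
      have hle : (P : Subgroup N) ≤ W := fun n hnP => by
        refine Subgroup.mem_subgroupOf.2 (hC _ ?_ ?_)
        · exact (congrArg Subtype.val (Subgroup.commute_of_normal_of_disjoint _ _ hn hWn hdis n ⟨a, hVle ha⟩ hnP
            (Subgroup.mem_subgroupOf.2 ha)).eq : _)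
        · exact (congrArg Subtype.val (Subgroup.commute_of_normal_of_disjoint _ _ hn hWn hdis n ⟨b, hVle hb⟩ hnP
            (Subgroup.mem_subgroupOf.2 hb)).eq : _)
      have h := Subgroup.card_dvd_of_le hle
      rw [hP3, hW4] at h
      norm_num at h
    have hn4 : Nat.card (Sylow 3 N) = 4 := by
      have hne : Nat.card (Sylow 3 N) ≠ 1 := fun h => by
        haveI : Subsingleton (Sylow 3 N) := (Nat.card_eq_one_iff_unique.1 h).1
        exact hnn (P.normal_of_subsingleton)
      have hmod : Nat.card (Sylow 3 N) ≡ 1 [MOD 3] := card_sylow_modEq_one 3 N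
      have hdvd := P.card_dvd_index
      have hidx := (P : Subgroup N).card_mul_index
      rw [hP3, hcardN] at hidx
      have hdvd8 : Nat.card (Sylow 3 N) ∣ 8 := by
        refine hdvd.trans ?_
        rcases hr with h | h <;> rw [h] at hidx
        · exact ⟨2, by omega⟩
        · exact ⟨1, by omega⟩
      have := Nat.le_of_dvd (by norm_num) hdvd8
      unfold Nat.ModEq at hmod
      interval_cases hh : Nat.card (Sylow 3 N) <;> first | omega | norm_num at hdvd8
    obtain ⟨e⟩ : Nonempty (Sylow 3 N ≃ Fin 4) :=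
      ⟨(Finite.equivFin _).trans (finCongr hn4)⟩
    set β := MulAction.toPermHom N (Sylow 3 N) with hβ
    refine ⟨e.permCongrHom.toMonoidHom.comp β, e.permCongrHom.injective.comp ?_⟩
    rw [← MonoidHom.ker_eq_bot_iff]
    set K := β.ker
    have hKn : ∀ Q : Sylow 3 N, K ≤ Subgroup.normalizer (Q : Set N) := by
      intro Q k hk
      rw [← Sylow.stabilizer_eq_normalizer]
      exact Equiv.Perm.congr_fun hk Q
    have hnorm6 : Nat.card ↥(Subgroup.normalizer (P : Set N)) * 4 = Nat.card N := by
      rw [← Subgroup.card_mul_index (Subgroup.normalizer (P : Set N)),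
        ← P.card_eq_index_normalizer, hn4]
    have hK6 : Nat.card K ∣ 6 := by
      refine (Subgroup.card_dvd_of_le (hKn P)).trans ?_
      rcases hr with h | h <;> rw [hcardN, h] at hnorm6
      · exact ⟨2, by omega⟩
      · exact ⟨1, by omega⟩
    by_contra hK
    by_cases hKW : ∀ k ∈ K, k ∈ W → k = 1
    · have hdis : Disjoint K W := Subgroup.disjoint_def.2 fun {k} h1 h2 => hKW k h1 h2
      refine hK ((Subgroup.eq_bot_iff_forall _).2 fun k hk => hKW k hk ?_)
      refine Subgroup.mem_subgroupOf.2 (hC _ ?_ ?_)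
      · exact (congrArg Subtype.val (Subgroup.commute_of_normal_of_disjoint K W β.normal_ker hWn hdis k
          ⟨a, hVle ha⟩ hk (Subgroup.mem_subgroupOf.2 ha)).eq : _)
      · exact (congrArg Subtype.val (Subgroup.commute_of_normal_of_disjoint K W β.normal_ker hWn hdis k
          ⟨b, hVle hb⟩ hk (Subgroup.mem_subgroupOf.2 hb)).eq : _)
    · push Not at hKW
      obtain ⟨k, hkK, hkW, hk1⟩ := hKW
      have hWK : W ≤ K := by
        intro x hx
        by_cases hx1 : x = 1
        · rw [hx1]; exact one_mem _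
        obtain ⟨n, hn⟩ := htrans.exists_smul_eq
          (⟨k.1, Subgroup.mem_subgroupOf.1 hkW, fun h => hk1 (Subtype.ext h)⟩ : S)
          ⟨x.1, Subgroup.mem_subgroupOf.1 hx, fun h => hx1 (Subtype.ext h)⟩
        have : n * k * n⁻¹ = x := by
          have h := congrArg Subtype.val hn
          exact Subtype.ext h
        exact this ▸ β.normal_ker.conj_mem k hkK n
      have h := (Subgroup.card_dvd_of_le hWK).trans hK6
      rw [hW4] at h
      norm_num at h
  · rcases hr with h | h
    · left
      refine ⟨by rw [hcardN, h], fun g hga hgb => ?_⟩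
      have hgN : g ∈ N := by
        have hK := map_isKleinFour hV (MulAut.conj g).toMonoidHom (MulAut.conj g).injective
        rw [hN, Subgroup.mem_normalizer_iff_map_conj_eq]
        show V.map (MulAut.conj g).toMonoidHom = V
        rw [eq_closure hK ⟨a, ha, hga⟩ ⟨b, hb, hgb⟩ ha1 hab1 (fun h => hb1 (mul_eq_left.1 h.symm)),
          eq_closure hV ha habmem ha1 hab1 (fun h => hb1 (mul_eq_left.1 h.symm))]
      set p := α ⟨g, hgN⟩
      have hp2 : p ^ 2 = 1 := by
        ext v
        show g * (g * v.1 * g⁻¹) * g⁻¹ = v.1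
        have e : g * (g * b * g⁻¹) * g⁻¹ = b := by
          rw [hgb, show g * (a * b) * g⁻¹ = (g * a * g⁻¹) * (g * b * g⁻¹) by group, hga, hgb, ← mul_assoc,
            mul_self hV ha, one_mul]
        rcases hcases v with hv | hv | hv <;> rw [hv]
        · rw [hga, hga]
        · exact e
        · rw [show g * (g * (a * b) * g⁻¹) * g⁻¹ = (g * (g * a * g⁻¹) * g⁻¹) * (g * (g * b * g⁻¹) * g⁻¹) by group,
            hga, hga, e]
      have hp3 : p ^ 3 = 1 := by
        have hmem : p ∈ α.range := ⟨_, rfl⟩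
        have := pow_card_eq_one' (x := (⟨p, hmem⟩ : α.range))
        rw [h] at this
        exact congrArg Subtype.val this
      have hp1 : p = 1 := by simpa [pow_succ, hp2] using hp3
      have hfix := congrArg Subtype.val (Equiv.Perm.congr_fun hp1 ⟨b, hb, hb1⟩)
      change g * b * g⁻¹ = b at hfix
      rw [hgb] at hfix
      exact ha1 (mul_eq_right.1 hfix)
    · right; rw [hcardN, h]

theorem exists_A4 [Finite G] {N : Subgroup G} (h12 : Nat.card N = 12 ∨ Nat.card N = 24)
    (φ : N →* Equiv.Perm (Fin 4)) (hφ : Function.Injective φ) :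
    ∃ H : Subgroup G, Nonempty (H ≃* alternatingGroup (Fin 4)) := by
  have hle : alternatingGroup (Fin 4) ≤ φ.range := by
    have hidx := Subgroup.card_mul_index φ.range
    rw [← Nat.card_congr (MonoidHom.ofInjective hφ).toEquiv, Nat.card_perm, Nat.card_fin,
      show Nat.factorial 4 = 24 from rfl] at hidx
    rcases h12 with h | h <;> rw [h] at hidx
    · rw [Equiv.Perm.eq_alternatingGroup_of_index_eq_two (show φ.range.index = 2 by omega)]
    · rw [Subgroup.index_eq_one.1 (show φ.range.index = 1 by omega)]; exact le_top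
  let e : ↥((alternatingGroup (Fin 4)).comap φ) ≃* alternatingGroup (Fin 4) :=
    MulEquiv.ofBijective (φ.subgroupComap (alternatingGroup (Fin 4)))
      ⟨fun x y h => Subtype.ext (hφ (congrArg Subtype.val h)), fun y => by
        obtain ⟨x, hx⟩ := hle y.2
        exact ⟨⟨x, by rw [Subgroup.mem_comap, hx]; exact y.2⟩, Subtype.ext hx⟩⟩
  exact ⟨((alternatingGroup (Fin 4)).comap φ).map N.subtype,
    ⟨(Subgroup.equivMapOfInjective _ N.subtype N.subtype_injective).symm.trans e⟩⟩

theorem exists_S4 [Finite G] {N : Subgroup G} (h24 : Nat.card N = 24)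
    (φ : N →* Equiv.Perm (Fin 4)) (hφ : Function.Injective φ) :
    Nonempty (N ≃* Equiv.Perm (Fin 4)) := by
  refine ⟨MulEquiv.ofBijective φ ((Nat.bijective_iff_injective_and_card φ).2 ⟨hφ, ?_⟩)⟩
  rw [h24, Nat.card_perm, Nat.card_fin]
  rfl

end CfsgLib.KleinNormalizer
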