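import Mathlib
import Cfsg.Agent.Lib.Involution

/-! Counting with involutions: conjugacy classes, the Brauer–Fowler bound, embeddings from subgroups. -/

namespace CfsgLib.InvolutionCount

open CfsgLib.Involution

variable {G : Type*} [Group G] [Finite G]

/-- Class size times centralizer order. -/
theorem card_class_mul_card_centralizer (x : G) :
    Nat.card {g : G // IsConj x g} * Nat.card (Subgroup.centralizer ({x} : Set G)) = Nat.card G := by
  classical
  choose t ht using fun a : {g : G // IsConj x g} => isConj_iff.1 a.2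
  rw [← Nat.card_prod]
  refine Nat.card_eq_of_bijective (fun ac => t ac.1 * (ac.2 : G)) ⟨?_, fun g => ?_⟩
  · rintro ⟨a, c⟩ ⟨a', c'⟩ h
    have h' : t a * (c : G) = t a' * c' := h
    have hcon : ∀ (a : {g : G // IsConj x g}) (c : Subgroup.centralizer ({x} : Set G)),
        (t a * (c : G)) * x * (t a * (c : G))⁻¹ = (a : G) := by
      intro a c
      rw [← ht a, show t a * (c : G) * x * (t a * (c : G))⁻¹ =
        t a * ((c : G) * x) * (c : G)⁻¹ * (t a)⁻¹ by group,
        Subgroup.mem_centralizer_singleton_iff.1 c.2]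
      group
    have ha : a = a' := Subtype.ext (by rw [← hcon a c, h', hcon a' c'])
    subst ha
    exact Prod.ext rfl (Subtype.ext (mul_left_cancel h'))
  · let a : {g : G // IsConj x g} := ⟨g * x * g⁻¹, isConj_iff.2 ⟨g, rfl⟩⟩
    refine ⟨⟨a, ⟨(t a)⁻¹ * g, ?_⟩⟩, mul_inv_cancel_left _ _⟩
    rw [Subgroup.mem_centralizer_singleton_iff]
    have h1 : t a * x * (t a)⁻¹ = g * x * g⁻¹ := ht a
    calc (t a)⁻¹ * g * x = (t a)⁻¹ * (g * x * g⁻¹) * g := by group
      _ = x * ((t a)⁻¹ * g) := by rw [← h1]; group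

/-- The elements conjugating `x` to itself or its inverse. -/
def invStab (x : G) : Subgroup G where
  carrier := {g | g * x * g⁻¹ = x ∨ g * x * g⁻¹ = x⁻¹}
  one_mem' := Or.inl (by simp)
  mul_mem' := fun {a b} ha hb => by
    have e : a * b * x * (a * b)⁻¹ = a * (b * x * b⁻¹) * a⁻¹ := by group
    rcases hb with hb | hb <;> rw [Set.mem_ofPred_eq, e, hb]
    · exact ha
    · rcases ha with ha | ha
      · exact Or.inr (by rw [← conj_inv, ha])
      · exact Or.inl (by rw [← conj_inv, ha, inv_inv])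
  inv_mem' := fun {a} ha => by
    rcases ha with ha | ha
    · refine Or.inl ?_
      conv_lhs => rw [← ha]
      group
    · refine Or.inr ?_
      have h2 : a⁻¹ * (a * x * a⁻¹)⁻¹ * a⁻¹⁻¹ = x⁻¹ := by group
      rwa [ha, inv_inv] at h2

theorem sq_card_eq_sum [Fintype G] :
    Nat.card {t : G // orderOf t = 2} ^ 2 =
      ∑ x : G, Nat.card {u : G // orderOf u = 2 ∧ orderOf (u * x) = 2} := by
  classical
  rw [sq, ← Nat.card_prod, ← Nat.card_sigma]
  refine Nat.card_eq_of_bijective (fun p => ⟨p.1.1 * p.2.1, p.1.1, p.1.2, ?_⟩) ⟨?_, ?_⟩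
  · rw [← mul_assoc, Involution.mul_self p.1.2, one_mul, p.2.2]
  · rintro ⟨⟨u, hu⟩, ⟨v, hv⟩⟩ ⟨⟨u', hu'⟩, ⟨v', hv'⟩⟩ h
    have h1 : u * v = u' * v' := congrArg Sigma.fst h
    have h2 : u = u' := congrArg (fun s : Σ x : G, {u : G // orderOf u = 2 ∧ orderOf (u * x) = 2} =>
      (s.2 : G)) h
    subst h2
    exact Prod.ext rfl (Subtype.ext (mul_left_cancel h1))
  · rintro ⟨x, u, hu, hux⟩
    refine ⟨(⟨u, hu⟩, ⟨u * x, hux⟩), Sigma.subtype_ext ?_ rfl⟩
    show u * (u * x) = x
    rw [← mul_assoc, Involution.mul_self hu, one_mul]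

theorem conj_eq_inv_of_mul {u x : G} (hu : orderOf u = 2) (hux : orderOf (u * x) = 2) :
    u * x * u⁻¹ = x⁻¹ := by
  have h := conj_mul_eq_inv hu hux
  rwa [← mul_assoc u u x, Involution.mul_self hu, one_mul] at h

/-- Brauer–Fowler: with odd centre there is a proper subgroup of small index. -/
theorem exists_small_index (heven : Even (Nat.card G))
    (hZ : Odd (Nat.card (Subgroup.center G))) :
    ∃ H : Subgroup G, H ≠ ⊤ ∧ (H.index = 2 ∨
      2 * H.index * (Nat.card {t : G // orderOf t = 2}) ^ 2 <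
        Nat.card G * (Nat.card G + Nat.card {t : G // orderOf t = 2})) := by
  classical
  haveI := Fintype.ofFinite G
  by_contra hcon
  push Not at hcon
  set n := Nat.card {t : G // orderOf t = 2} with hndef
  set g := Nat.card G with hgdef
  have hn : 0 < n := by
    obtain ⟨t, ht⟩ := exists_prime_orderOf_dvd_card' (G := G) 2 (even_iff_two_dvd.1 heven)
    exact Nat.card_pos_iff.2 ⟨⟨⟨t, ht⟩⟩, inferInstance⟩
  have hH : ∀ H : Subgroup G, H ≠ ⊤ → Nat.card H * (g + n) ≤ 2 * n ^ 2 := by
    intro H hH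
    refine Nat.le_of_mul_le_mul_left (c := g) ?_ (Nat.card_pos (α := G))
    calc g * (Nat.card H * (g + n)) = Nat.card H * (g * (g + n)) := by ring
      _ ≤ Nat.card H * (2 * H.index * n ^ 2) := Nat.mul_le_mul_left _ (hcon H hH).2
      _ = g * (2 * n ^ 2) := by rw [hgdef, ← H.card_mul_index]; ring
  let β : G → ℕ := fun x => Nat.card {u : G // orderOf u = 2 ∧ orderOf (u * x) = 2}
  have hβ1 : β 1 = n := Nat.card_congr (Equiv.subtypeEquivRight fun u => by simp)
  have hinv : ∀ x : G, orderOf x = 2 → (β x + 2) * (g + n) ≤ 2 * n ^ 2 := by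
    intro x hx
    set C := Subgroup.centralizer ({x} : Set G)
    have hC : C ≠ ⊤ := by
      intro h
      have hxZ : x ∈ Subgroup.center G := Subgroup.mem_center_iff.2 fun y =>
        Subgroup.mem_centralizer_singleton_iff.1 (show y ∈ C by rw [h]; exact Subgroup.mem_top y)
      have := Subgroup.orderOf_dvd_natCard (Subgroup.center G) hxZ
      rw [hx] at this
      exact hZ.not_two_dvd_nat this
    refine le_trans (Nat.mul_le_mul_right _ ?_) (hH C hC)
    have hsub : insert 1 (insert x {u : G | orderOf u = 2 ∧ orderOf (u * x) = 2}) ⊆ (C : Set G) := by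
      rintro u (rfl | rfl | ⟨hu, hux⟩)
      · exact C.one_mem
      · exact Subgroup.mem_centralizer_singleton_iff.2 rfl
      · refine Subgroup.mem_centralizer_singleton_iff.2 ?_
        have := conj_eq_inv_of_mul hu hux
        rw [inv_eq hx] at this
        calc u * x = u * x * u⁻¹ * u := by group
          _ = x * u := by rw [this]
    have h1 := Set.ncard_le_ncard hsub (Set.toFinite _)
    rw [Set.ncard_insert_of_notMem ?_ (Set.toFinite _), Set.ncard_insert_of_notMem ?_ (Set.toFinite _),
      ← Nat.card_coe_set_eq, ← Nat.card_coe_set_eq] at h1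
    · exact h1
    · rintro ⟨-, h⟩
      rw [Involution.mul_self hx, orderOf_one] at h
      exact absurd h (by decide)
    · rintro (h | ⟨h, -⟩)
      · exact ne_one hx h.symm
      · rw [orderOf_one] at h
        exact absurd h (by decide)
  have hrest : ∀ x : G, x ≠ 1 → orderOf x ≠ 2 → β x * (g + n) ≤ n ^ 2 := by
    intro x hx1 hx2
    rcases Nat.eq_zero_or_pos (β x) with h0 | h0
    · rw [h0, zero_mul]; exact Nat.zero_le _
    obtain ⟨⟨u₀, hu₀, hu₀x⟩⟩ := (Nat.card_pos_iff.1 h0).1
    set C := Subgroup.centralizer ({x} : Set G) with hCdef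
    have hu₀i : u₀ * x * u₀⁻¹ = x⁻¹ := conj_eq_inv_of_mul hu₀ hu₀x
    have hu₀C : u₀ ∉ C := fun h => by
      rw [hCdef, Subgroup.mem_centralizer_singleton_iff] at h
      rw [h, mul_inv_cancel_right] at hu₀i
      exact hx2 (orderOf_eq_two (eq_inv_iff_mul_eq_one.1 hu₀i) hx1)
    have hle : C ≤ invStab x := fun c hc => Or.inl (by
      rw [Subgroup.mem_centralizer_singleton_iff.1 hc, mul_inv_cancel_right])
    have hlt : 2 * Nat.card C ≤ Nat.card (invStab x) := by
      obtain ⟨k, hk⟩ := Subgroup.card_dvd_of_le hle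
      rcases k with _ | _ | k
      · exact absurd hk (by rw [mul_zero]; exact Nat.card_pos.ne')
      · exact absurd (Subgroup.eq_of_le_of_card_ge hle (by rw [hk, zero_add, mul_one]))
          fun h => hu₀C (h ▸ Or.inr hu₀i)
      · rw [hk, mul_comm 2]
        exact Nat.mul_le_mul_left _ (by omega)
    have hcoset : ∀ b : G, b * x * b⁻¹ = x⁻¹ → u₀⁻¹ * b ∈ C := fun b hb => by
      rw [hCdef, Subgroup.mem_centralizer_singleton_iff]
      calc u₀⁻¹ * b * x = u₀⁻¹ * (b * x * b⁻¹) * b := by group
        _ = u₀⁻¹ * (u₀ * x * u₀⁻¹) * b := by rw [hb, hu₀i]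
        _ = x * (u₀⁻¹ * b) := by group
    have hstab : invStab x ≠ ⊤ := by
      intro htop
      refine (hcon C (fun h => hu₀C (h ▸ Subgroup.mem_top u₀))).1 ?_
      refine Subgroup.index_eq_two_iff.2 ⟨u₀, fun b => ?_⟩
      have hb : b ∈ invStab x := htop ▸ Subgroup.mem_top b
      by_cases hbC : b ∈ C
      · exact Or.inr ⟨hbC, fun h => hu₀C (by simpa using C.mul_mem (C.inv_mem hbC) h)⟩
      · refine Or.inl ⟨?_, hbC⟩
        rcases hb with hb | hb
        · exact absurd (Subgroup.mem_centralizer_singleton_iff.2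
            (mul_inv_eq_iff_eq_mul.1 hb)) hbC
        · rw [hCdef, Subgroup.mem_centralizer_singleton_iff]
          calc b * u₀ * x = b * (u₀ * x * u₀⁻¹) * u₀ := by group
            _ = (b * x * b⁻¹)⁻¹ * (b * u₀) := by rw [hu₀i]; group
            _ = x * (b * u₀) := by rw [hb, inv_inv]
    have hβC : β x ≤ Nat.card C :=
      Nat.card_le_card_of_injective
        (fun u : {u : G // orderOf u = 2 ∧ orderOf (u * x) = 2} =>
          (⟨u₀⁻¹ * u.1, hcoset _ (conj_eq_inv_of_mul u.2.1 u.2.2)⟩ : C))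
        fun a b h => Subtype.ext (mul_left_cancel (congrArg Subtype.val h))
    have h1 := hH _ hstab
    have h2 : 2 * β x * (g + n) ≤ 2 * n ^ 2 :=
      le_trans (Nat.mul_le_mul_right _ (le_trans (Nat.mul_le_mul_left 2 hβC) hlt)) h1
    rw [mul_assoc] at h2
    omega
  -- summing up
  set T : Finset G := Finset.univ.filter (fun x : G => orderOf x = 2) with hT
  set S : Finset G := Finset.univ.filter (fun x : G => orderOf x ≠ 2 ∧ x ≠ 1) with hS
  have hTcard : T.card = n := by
    rw [hT, hndef, Nat.card_eq_fintype_card, Fintype.card_subtype]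
  have hsplit : ∀ f : G → ℕ, ∑ x, f x = f 1 + ∑ x ∈ T, f x + ∑ x ∈ S, f x := by
    intro f
    rw [← Finset.sum_filter_add_sum_filter_not Finset.univ (fun x : G => orderOf x = 2) f, ← hT]
    have hins : (Finset.univ.filter fun x : G => ¬ orderOf x = 2) = insert 1 S := by
      ext x
      simp only [hS, Finset.mem_filter, Finset.mem_univ, true_and, Finset.mem_insert]
      constructor
      · intro h
        by_cases h1 : x = 1
        · exact Or.inl h1
        · exact Or.inr ⟨h, h1⟩
      · rintro (rfl | ⟨h, -⟩)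
        · simp
        · exact h
    rw [hins, Finset.sum_insert (by simp [hS])]
    ring
  have hScard : 1 + n + S.card = g := by
    have h1 := hsplit (fun _ => 1)
    simp only [Finset.sum_const, smul_eq_mul, mul_one, hTcard, Finset.card_univ] at h1
    rw [hgdef, Nat.card_eq_fintype_card, h1]
  have h1 : n ^ 2 * (g + n) =
      n * (g + n) + (∑ x ∈ T, β x * (g + n)) + ∑ x ∈ S, β x * (g + n) := by
    rw [hndef, sq_card_eq_sum, Finset.sum_mul, hsplit, ← hndef]
    show β 1 * (g + n) + _ + _ = _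
    rw [hβ1]
  have h2 : (∑ x ∈ T, β x * (g + n)) + n * (2 * (g + n)) ≤ n * (2 * n ^ 2) := by
    have h3 : ∑ x ∈ T, (β x + 2) * (g + n) ≤ ∑ _x ∈ T, 2 * n ^ 2 :=
      Finset.sum_le_sum fun x hx => hinv x (Finset.mem_filter.1 hx).2
    simp only [add_mul, Finset.sum_add_distrib, Finset.sum_const, smul_eq_mul, hTcard] at h3
    exact h3
  have h3 : ∑ x ∈ S, β x * (g + n) ≤ S.card * n ^ 2 := by
    rw [← smul_eq_mul, ← Finset.sum_const]
    exact Finset.sum_le_sum fun x hx =>
      hrest x (Finset.mem_filter.1 hx).2.2 (Finset.mem_filter.1 hx).2.1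
  nlinarith

theorem card_le_mul_card (t : G) (ht : orderOf t = 2) :
    Nat.card G ≤ Nat.card {t : G // orderOf t = 2} *
      Nat.card (Subgroup.centralizer ({t} : Set G)) := by
  rw [← card_class_mul_card_centralizer t]
  refine Nat.mul_le_mul_right _ (Nat.card_le_card_of_injective
    (fun g : {g : G // IsConj t g} => (⟨g.1, ?_⟩ : {t : G // orderOf t = 2})) ?_)
  · obtain ⟨c, hc⟩ := isConj_iff.1 g.2
    rw [← hc]
    exact orderOf_conj' ht
  · exact fun a b h => Subtype.ext (congrArg (fun z : {t : G // orderOf t = 2} => (z : G)) h)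

theorem card_involutions_le : Nat.card {t : G // orderOf t = 2} ≤ Nat.card G :=
  Nat.card_le_card_of_injective Subtype.val Subtype.val_injective

theorem exists_injective_perm [IsSimpleGroup G] (H : Subgroup G) (hH : H ≠ ⊤) :
    ∃ f : G →* Equiv.Perm (G ⧸ H), Function.Injective f := by
  refine ⟨MulAction.toPermHom G (G ⧸ H), (MonoidHom.ker_eq_bot_iff _).1 ?_⟩
  rw [← Subgroup.normalCore_eq_ker]
  rcases (inferInstance : H.normalCore.Normal).eq_bot_or_eq_top with h | h
  · exact h
  · exact absurd (top_le_iff.1 (h ▸ Subgroup.normalCore_le H)) hH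

theorem card_le_factorial [IsSimpleGroup G] (H : Subgroup G) (hH : H ≠ ⊤) :
    Nat.card G ≤ H.index.factorial := by
  obtain ⟨f, hf⟩ := exists_injective_perm H hH
  refine (Nat.card_le_card_of_injective f hf).trans_eq ?_
  rw [Nat.card_perm, Subgroup.index_eq_card]

theorem card_eq_two_of_center_even [IsSimpleGroup G] (h : ¬ Odd (Nat.card (Subgroup.center G))) :
    Nat.card G = 2 ∧ IsMulCommutative G := by
  rcases (inferInstance : (Subgroup.center G).Normal).eq_bot_or_eq_top with h1 | h1
  · rw [h1, Subgroup.card_bot] at h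
    exact absurd odd_one h
  · have hcomm : IsMulCommutative G :=
      ⟨⟨fun a b => (Subgroup.mem_center_iff.1 (h1 ▸ Subgroup.mem_top b) a)⟩⟩
    refine ⟨?_, hcomm⟩
    have hp : (Nat.card G).Prime := by
      haveI := hcomm
      exact Group.is_simple_iff_prime_card.1 inferInstance
    rw [h1, Subgroup.card_top, Nat.not_odd_iff_even] at h
    exact (Nat.prime_dvd_prime_iff_eq Nat.prime_two hp).1 (even_iff_two_dvd.1 h) |>.symm

end CfsgLib.InvolutionCount
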