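import Mathlib
import Cfsg.Agent.Lib.InvolutionCount

/-! Elementary tools for simple groups of small order. -/

set_option autoImplicit false

namespace CfsgLib.SmallSimple

universe u

variable {G : Type u} [Group G] [Finite G] [IsSimpleGroup G]

theorem not_solvable (hG : ¬ IsMulCommutative G) : ¬ Group.IsSolvable G := fun h =>
  hG ⟨⟨IsSimpleGroup.comm_iff_isSolvable.2 h⟩⟩

theorem not_isMulCommutative_of_card (h : ¬ (Nat.card G).Prime) : ¬ IsMulCommutative G := by
  intro hc
  haveI := hc
  letI : CommGroup G := IsMulCommutative.instCommGroup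
  exact h IsSimpleGroup.prime_card

theorem not_prime_pow (hG : ¬ IsMulCommutative G) {p : ℕ} [Fact p.Prime] : ¬ IsPGroup p G := fun h =>
  not_solvable hG (by haveI := h.isNilpotent; infer_instance)

theorem sylow_ne_top (hG : ¬ IsMulCommutative G) {p : ℕ} [Fact p.Prime] (P : Sylow p G) :
    (P : Subgroup G) ≠ ⊤ := fun h =>
  not_prime_pow hG (p := p) (IsPGroup.of_equiv (h ▸ P.2 : IsPGroup p (⊤ : Subgroup G)) Subgroup.topEquiv)

theorem sylow_ne_bot {p : ℕ} [Fact p.Prime] (hp : p ∣ Nat.card G) (P : Sylow p G) :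
    (P : Subgroup G) ≠ ⊥ := fun h => P.not_dvd_index (by rw [h, Subgroup.index_bot]; exact hp)

theorem normalizer_ne_top (hG : ¬ IsMulCommutative G) {p : ℕ} [Fact p.Prime] (hp : p ∣ Nat.card G)
    (P : Sylow p G) : Subgroup.normalizer ((P : Subgroup G) : Set G) ≠ ⊤ := fun h => by
  rcases (Subgroup.normalizer_eq_top_iff.1 h : (P : Subgroup G).Normal).eq_bot_or_eq_top with h' | h'
  · exact sylow_ne_bot hp P h'
  · exact sylow_ne_top hG P h'

theorem card_sylow_ne_one (hG : ¬ IsMulCommutative G) {p : ℕ} [Fact p.Prime] (hp : p ∣ Nat.card G) :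
    Nat.card (Sylow p G) ≠ 1 := fun h => by
  obtain ⟨P⟩ := (inferInstance : Nonempty (Sylow p G))
  rw [Sylow.card_eq_index_normalizer P, Subgroup.index_eq_one] at h
  exact normalizer_ne_top hG hp P h

/-- The number of Sylow `p`-subgroups divides the `p'`-part and is `1` modulo `p`. -/
theorem card_sylow_mem {p k m : ℕ} [Fact p.Prime] (hcard : Nat.card G = p ^ k * m) (hm : ¬ p ∣ m)
    (P : Sylow p G) : Nat.card (P : Subgroup G) = p ^ k ∧ Nat.card (Sylow p G) ∣ m ∧ Nat.card (Sylow p G) % p = 1 := by
  have hp : p.Prime := Fact.out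
  have hP : Nat.card (P : Subgroup G) = p ^ k := by
    rw [P.card_eq_multiplicity, hcard, Nat.factorization_mul (pow_pos hp.pos k).ne'
      (fun h => hm (by rw [h]; exact dvd_zero p)), hp.factorization_pow]
    simp [Nat.factorization_eq_zero_of_not_dvd hm]
  refine ⟨hP, ?_, ?_⟩
  · have h1 := Subgroup.index_mul_card (P : Subgroup G)
    rw [hP, hcard, mul_comm] at h1
    rw [← Nat.eq_of_mul_eq_mul_left (pow_pos hp.pos k) h1]
    exact Sylow.card_dvd_index P
  · have h2 := card_sylow_modEq_one p G
    rw [Nat.ModEq, Nat.mod_eq_of_lt hp.one_lt] at h2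
    exact h2

/-- Burnside transfer in a nonabelian simple group. -/
theorem not_normalizer_le_centralizer (hG : ¬ IsMulCommutative G) {p : ℕ} [Fact p.Prime]
    (hp : p ∣ Nat.card G) (P : Sylow p G) :
    ¬ Subgroup.normalizer ((P : Subgroup G) : Set G) ≤ Subgroup.centralizer ((P : Subgroup G) : Set G) := by
  intro h
  have hc := MonoidHom.ker_transferSylow_isComplement' P h
  rcases (inferInstance : (MonoidHom.transferSylow P h).ker.Normal).eq_bot_or_eq_top with h' | h'
  · rw [h', Subgroup.isComplement'_bot_left] at hc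
    exact sylow_ne_top hG P hc
  · rw [h', Subgroup.isComplement'_top_left] at hc
    exact sylow_ne_bot hp P hc

theorem card_dvd_factorial (H : Subgroup G) (hH : H ≠ ⊤) : Nat.card G ∣ H.index.factorial := by
  obtain ⟨f, hf⟩ := CfsgLib.InvolutionCount.exists_injective_perm H hH
  have := Subgroup.card_dvd_of_injective f hf
  rwa [Nat.card_perm, ← Subgroup.index_eq_card] at this

theorem center_eq_bot (hG : ¬ IsMulCommutative G) : Subgroup.center G = ⊥ := by
  rcases (inferInstance : (Subgroup.center G).Normal).eq_bot_or_eq_top with h | h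
  · exact h
  · exact absurd ⟨⟨fun a b => (Subgroup.mem_center_iff.1 (h ▸ Subgroup.mem_top b) a)⟩⟩ hG

theorem centralizer_ne_top (hG : ¬ IsMulCommutative G) {x : G} (hx : x ≠ 1) :
    Subgroup.centralizer ({x} : Set G) ≠ ⊤ := fun h => hx (by
  have h1 : x ∈ Subgroup.center G := Subgroup.mem_center_iff.2 fun g =>
    Subgroup.mem_centralizer_singleton_iff.1 (h ▸ Subgroup.mem_top g)
  rwa [center_eq_bot hG, Subgroup.mem_bot] at h1)

/-- A simple group with even order whose Sylow 2-subgroup is cyclic is abelian. -/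
theorem sylow_two_not_cyclic (hG : ¬ IsMulCommutative G) (heven : Even (Nat.card G)) (T : Sylow 2 G) :
    ¬ IsCyclic (T : Subgroup G) := by
  intro hT
  haveI := hT
  refine not_normalizer_le_centralizer hG heven.two_dvd T ?_
  exact IsCyclic.normalizer_le_centralizer (Nat.minFac_eq_two_iff _ |>.2 heven.two_dvd) hT

end CfsgLib.SmallSimple
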