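import Mathlib

/-! Counting elements of Sylow subgroups with trivial intersections; actions on Sylow subgroups. -/

set_option autoImplicit false

namespace CfsgLib.SmallSimple2

universe u

variable {G : Type u} [Group G] [Finite G] {p : ℕ} [Fact p.Prime]

theorem inf_eq_bot_of_card_prime (hP : ∀ P : Sylow p G, Nat.card (P : Subgroup G) = p) (P Q : Sylow p G)
    (h : P ≠ Q) : (P : Subgroup G) ⊓ (Q : Subgroup G) = ⊥ := by
  have hp : p.Prime := Fact.out
  have hd := Subgroup.card_dvd_of_le (inf_le_left : (P : Subgroup G) ⊓ (Q : Subgroup G) ≤ P)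
  rw [hP P, Nat.dvd_prime hp] at hd
  rcases hd with hd | hd
  · exact Subgroup.eq_bot_of_card_eq _ hd
  · exfalso
    have h1 := Subgroup.eq_of_le_of_card_ge (inf_le_left : (P : Subgroup G) ⊓ (Q : Subgroup G) ≤ P)
      (by rw [hd, hP P])
    have h2 := Subgroup.eq_of_le_of_card_ge (inf_eq_left.1 h1 : (P : Subgroup G) ≤ Q) (by rw [hP P, hP Q])
    exact h (Sylow.ext h2)

/-- Nontrivial elements of Sylow subgroups intersecting trivially. -/
theorem ncard_union (hdis : ∀ P Q : Sylow p G, P ≠ Q → (P : Subgroup G) ⊓ (Q : Subgroup G) = ⊥)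
    {c : ℕ} (hc : ∀ P : Sylow p G, Nat.card (P : Subgroup G) = c) :
    {g : G | g ≠ 1 ∧ ∃ P : Sylow p G, g ∈ (P : Subgroup G)}.ncard = Nat.card (Sylow p G) * (c - 1) := by
  classical
  haveI := Fintype.ofFinite G
  haveI := Fintype.ofFinite (Sylow p G)
  let S : Sylow p G → Finset G := fun P => ((P : Subgroup G) : Set G).toFinset.erase 1
  have hset : {g : G | g ≠ 1 ∧ ∃ P : Sylow p G, g ∈ (P : Subgroup G)} = ↑(Finset.univ.biUnion S) := by
    ext g
    simp [S]
    exact ⟨fun ⟨a, P, b⟩ => ⟨⟨P, b⟩, a⟩, fun ⟨⟨P, b⟩, a⟩ => ⟨a, P, b⟩⟩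
  rw [hset, Set.ncard_coe_finset, Finset.card_biUnion]
  · rw [Finset.sum_congr rfl (g := fun _ => c - 1) fun P _ => by
      rw [Finset.card_erase_of_mem (by simp), Set.toFinset_card, ← Nat.card_eq_fintype_card]
      exact congrArg (· - 1) (hc P), Finset.sum_const, Finset.card_univ, smul_eq_mul, Nat.card_eq_fintype_card]
  · intro P _ Q _ hne
    rw [Function.onFun, Finset.disjoint_left]
    intro g hg hg'
    simp only [S, Finset.mem_erase, Set.mem_toFinset, SetLike.mem_coe] at hg hg'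
    have : g ∈ (P : Subgroup G) ⊓ (Q : Subgroup G) := ⟨hg.2, hg'.2⟩
    rw [hdis P Q hne, Subgroup.mem_bot] at this
    exact hg.1 this

/-- The action on Sylow subgroups, as a homomorphism into permutations of `Fin n`. -/
theorem exists_perm_hom {n : ℕ} (hn : Nat.card (Sylow p G) = n) :
    ∃ f : G →* Equiv.Perm (Fin n), ∀ g ∈ f.ker, ∀ P : Sylow p G,
      g ∈ Subgroup.normalizer ((P : Subgroup G) : Set G) := by
  haveI := Fintype.ofFinite (Sylow p G)
  obtain ⟨e⟩ : Nonempty (Sylow p G ≃ Fin n) := ⟨Finite.equivFinOfCardEq hn⟩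
  refine ⟨e.permCongrHom.toMonoidHom.comp (MulAction.toPermHom G (Sylow p G)), fun g hg P => ?_⟩
  rw [MonoidHom.mem_ker, MonoidHom.comp_apply, MulEquiv.coe_toMonoidHom] at hg
  have h1 : MulAction.toPermHom G (Sylow p G) g = 1 := e.permCongrHom.injective (hg.trans (map_one _).symm)
  exact Sylow.smul_eq_iff_mem_normalizer.1 (Equiv.congr_fun h1 P)

end CfsgLib.SmallSimple2
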