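import Mathlib
import Cfsg.Agent.S0494

/-! Finite groups with a partition into cyclic TI-subgroups of index at most two in their normalisers. -/

set_option autoImplicit false
set_option linter.style.haveILetI false

namespace CfsgLib.CyclicPartition

variable {G : Type*} [Group G]

/-- the hypothesis: `A x` is the block of `x` -/
structure Data (G : Type*) [Group G] where
  A : G → Subgroup G
  mem : ∀ x, x ≠ 1 → x ∈ A x
  eq : ∀ x y, x ≠ 1 → y ≠ 1 → y ∈ A x → A y = A x
  cyc : ∀ x, x ≠ 1 → IsCyclic (A x)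
  conj : ∀ h x, x ≠ 1 → (A x).map (MulAut.conj h).toMonoidHom = A (h * x * h⁻¹)
  two : ∀ x, x ≠ 1 → Nat.card (Subgroup.normalizer (A x : Set G)) = Nat.card (A x) ∨
    Nat.card (Subgroup.normalizer (A x : Set G)) = 2 * Nat.card (A x)
  inv : ∀ x, x ≠ 1 → ∀ h ∈ Subgroup.normalizer (A x : Set G), h ∉ A x →
    h * h = 1 ∧ ∀ a ∈ A x, h * a * h⁻¹ = a⁻¹



theorem unit_cases {g a b c : ℕ} (ha : 2 ≤ a) (hab : a ≤ b) (hbc : b ≤ c)
    (h : g * (b * c + a * c + a * b) = g * (a * b * c) + 2 * (a * b * c)) (hg : 0 < g) :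
    a = 2 ∧ ((b = 2 ∧ g = 2 * c) ∨ (b = 3 ∧ c = 3 ∧ g = 12) ∨ (b = 3 ∧ c = 4 ∧ g = 24) ∨ (b = 3 ∧ c = 5 ∧ g = 60)) := by
  have hpos : 0 < a * b * c := Nat.mul_pos (Nat.mul_pos (by omega) (by omega)) (by omega)
  have hlt : a * b * c < b * c + a * c + a * b := by
    by_contra hcon
    rw [not_lt] at hcon
    have := Nat.mul_le_mul_left g hcon
    omega
  obtain rfl : a = 2 := by
    by_contra hne
    have h3 : 3 ≤ a := by omega
    have e1 : 3 * (b * c) ≤ a * b * c := by rw [mul_assoc]; exact Nat.mul_le_mul_right _ h3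
    have e2 : a * c ≤ b * c := Nat.mul_le_mul_right c hab
    have e3 : a * b ≤ b * c := le_trans (Nat.mul_le_mul_right b (le_trans hab hbc)) (le_of_eq (mul_comm c b))
    omega
  have hb : b ≤ 3 := by
    by_contra hcon
    have h4 : 4 ≤ b := by omega
    have e1 : 4 * c ≤ b * c := Nat.mul_le_mul_right c h4
    have e2 : 2 * b * c = 2 * (b * c) := by ring
    omega
  refine ⟨rfl, ?_⟩
  interval_cases b
  · left
    refine ⟨rfl, ?_⟩
    have e : 4 * g = 8 * c := by linarith
    omega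
  · right
    have hc : c ≤ 5 := by omega
    interval_cases c <;> omega

namespace Data

variable (D : Data G)

/-- the stabiliser of a block -/
def N (x : G) : Subgroup G := Subgroup.normalizer (D.A x : Set G)

theorem A_le (x : G) : D.A x ≤ D.N x := Subgroup.le_normalizer

theorem map_N (h x : G) (hx : x ≠ 1) : (D.N x).map (MulAut.conj h).toMonoidHom = D.N (h * x * h⁻¹) := by
  rw [N, N, ← D.conj h x hx, Subgroup.map_equiv_normalizer_eq]

/-- trichotomy of the partition count -/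
theorem classes [Finite G] (hne : Nontrivial G) :
    (∃ x, x ≠ 1 ∧ D.A x = ⊤) ∨
    (∃ x, x ≠ 1 ∧ D.N x = ⊤ ∧ Nat.card G = 2 * Nat.card (D.A x)) ∨
    (Nat.card G = 12 ∧ ∃ x, x ≠ 1 ∧ Nat.card (D.A x) = 3 ∧ D.N x = D.A x) ∨
    (Nat.card G = 24 ∧ ∃ x, x ≠ 1 ∧ Nat.card (D.A x) = 3 ∧ Nat.card (D.N x) = 6) ∨
    (Nat.card G = 60 ∧ ∃ x y z, x ≠ 1 ∧ y ≠ 1 ∧ z ≠ 1 ∧ Nat.card (D.A x) = 2 ∧ Nat.card (D.A y) = 3 ∧
      Nat.card (D.A z) = 5 ∧ Nat.card (D.N x) = 4 ∧ Nat.card (D.N y) = 6 ∧ Nat.card (D.N z) = 10 ∧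
      ∀ w, w ≠ 1 → (∃ h, D.A w = D.A (h * x * h⁻¹)) ∨ (∃ h, D.A w = D.A (h * y * h⁻¹)) ∨
        ∃ h, D.A w = D.A (h * z * h⁻¹)) := by
  classical
  haveI : Fintype G := Fintype.ofFinite G
  set g := Nat.card G with hg
  have hg2 : 2 ≤ g := Finite.one_lt_card
  -- the class of an element
  let cl : G → Finset G := fun x => {w | w ≠ 1 ∧ ∃ h, D.A w = D.A (h * x * h⁻¹)}
  have hAf : ∀ x, ({w | w ∈ D.A x} : Finset G).card = Nat.card (D.A x) := fun x => by
    rw [Nat.card_eq_fintype_card, Fintype.card_subtype]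
  have hone : ∀ x h : G, x ≠ 1 → h * x * h⁻¹ ≠ 1 := fun x h hx e => hx (conj_eq_one_iff.1 e)
  have hcl : ∀ x, x ≠ 1 → (cl x).card * Nat.card (D.N x) = g * (Nat.card (D.A x) - 1) := by
    intro x hx
    have hidx : ((Finset.univ.image fun h : G => D.A (h * x * h⁻¹))).card * Nat.card (D.N x) = g := by
      rw [hg, ← (D.N x).index_mul_card]
      congr 1
      rw [Subgroup.index_eq_card, ← Nat.card_eq_finsetCard]
      symm
      refine Nat.card_congr (Equiv.ofBijective (Quotient.lift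
        (fun h => (⟨D.A (h * x * h⁻¹), Finset.mem_image.2 ⟨h, Finset.mem_univ _, rfl⟩⟩ :
          ↥(Finset.univ.image fun h : G => D.A (h * x * h⁻¹)))) ?_) ⟨?_, ?_⟩)
      · intro a b hab
        apply Subtype.ext
        have hab' : a⁻¹ * b ∈ D.N x := QuotientGroup.leftRel_apply.1 hab
        have h1 := Subgroup.mem_normalizer_iff_map_conj_eq.1 hab'
        show D.A (a * x * a⁻¹) = D.A (b * x * b⁻¹)
        rw [← D.conj a x hx, ← D.conj b x hx]
        conv_lhs => rw [← h1]
        rw [Subgroup.map_map]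
        congr 1
        ext y
        simp [mul_assoc]
      · rintro ⟨a⟩ ⟨b⟩ hab
        apply Quotient.sound
        refine QuotientGroup.leftRel_apply.2 (Subgroup.mem_normalizer_iff_map_conj_eq.2 ?_)
        have h' : D.A (a * x * a⁻¹) = D.A (b * x * b⁻¹) := congrArg Subtype.val hab
        rw [← D.conj a x hx, ← D.conj b x hx] at h'
        have h2 := congrArg (fun S : Subgroup G => S.map (MulAut.conj a⁻¹).toMonoidHom) h'
        simp only [Subgroup.map_map] at h2
        have e1 : (MulAut.conj a⁻¹).toMonoidHom.comp (MulAut.conj a).toMonoidHom = MonoidHom.id G := by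
          ext y; simp [mul_assoc]
        have e2 : (MulAut.conj a⁻¹).toMonoidHom.comp (MulAut.conj b).toMonoidHom = (MulAut.conj (a⁻¹ * b)).toMonoidHom := by
          ext y; simp [mul_assoc]
        rw [e1, Subgroup.map_id, e2] at h2
        exact h2.symm
      · rintro ⟨S, hS⟩
        obtain ⟨h, -, rfl⟩ := Finset.mem_image.1 hS
        exact ⟨Quotient.mk _ h, rfl⟩
    have hfib : (cl x).card = (Finset.univ.image fun h : G => D.A (h * x * h⁻¹)).card * (Nat.card (D.A x) - 1) := by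
      rw [Finset.card_eq_sum_card_fiberwise (f := D.A) (t := Finset.univ.image fun h : G => D.A (h * x * h⁻¹))]
      · rw [Finset.sum_congr rfl (g := fun _ => Nat.card (D.A x) - 1) ?_, Finset.sum_const, smul_eq_mul]
        intro S hS
        obtain ⟨h, -, rfl⟩ := Finset.mem_image.1 hS
        have hx' := hone x h hx
        have : ({w ∈ cl x | D.A w = D.A (h * x * h⁻¹)} : Finset G) =
            ({w | w ∈ D.A (h * x * h⁻¹)} : Finset G).erase 1 := by
          ext w
          simp only [cl, Finset.mem_filter, Finset.mem_univ, true_and, Finset.mem_erase]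
          constructor
          · rintro ⟨⟨hw, -⟩, e⟩
            exact ⟨hw, e ▸ D.mem w hw⟩
          · rintro ⟨hw, hm⟩
            exact ⟨⟨hw, h, D.eq _ w hx' hw hm⟩, D.eq _ w hx' hw hm⟩
        rw [this, Finset.card_erase_of_mem (by simp [one_mem]), hAf, ← D.conj h x hx,
          Subgroup.card_map_of_injective (MulAut.conj h).injective]
      · intro w hw
        obtain ⟨-, h, e⟩ := (Finset.mem_filter.1 hw).2
        exact Finset.mem_image.2 ⟨h, Finset.mem_univ _, e.symm⟩
    rw [hfib, mul_right_comm, hidx]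
  have ha2 : ∀ x, x ≠ 1 → 2 ≤ Nat.card (D.A x) := fun x hx => by
    haveI : Nontrivial (D.A x) := ⟨⟨⟨x, D.mem x hx⟩, 1, fun e => hx (congrArg Subtype.val e)⟩⟩
    exact Finite.one_lt_card
  -- the classes are disjoint or equal
  have hdisj : ∀ x y, y ≠ 1 → x ≠ 1 → y ∉ cl x → Disjoint (cl x) (cl y) := by
    intro x y hy hx hnot
    rw [Finset.disjoint_left]
    intro w hw hw'
    obtain ⟨hw1, h, e⟩ := (Finset.mem_filter.1 hw).2
    obtain ⟨-, k, e'⟩ := (Finset.mem_filter.1 hw').2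
    refine hnot (Finset.mem_filter.2 ⟨Finset.mem_univ _, hy, k⁻¹ * h, ?_⟩)
    have h1 := congrArg (fun S : Subgroup G => S.map (MulAut.conj k⁻¹).toMonoidHom) (e.symm.trans e')
    simp only [D.conj _ _ (hone x h hx), D.conj _ _ (hone y k hy)] at h1
    rw [show k⁻¹ * (k * y * k⁻¹) * k⁻¹⁻¹ = y by group,
      show k⁻¹ * (h * x * h⁻¹) * k⁻¹⁻¹ = k⁻¹ * h * x * (k⁻¹ * h)⁻¹ by group] at h1
    exact h1.symm
  have hself : ∀ x, x ≠ 1 → x ∈ cl x := fun x hx =>
    Finset.mem_filter.2 ⟨Finset.mem_univ _, hx, 1, by simp⟩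
  set U : Finset G := Finset.univ.erase 1 with hU
  have hUc : U.card = g - 1 := by
    rw [hU, Finset.card_erase_of_mem (Finset.mem_univ _), Finset.card_univ, hg, Nat.card_eq_fintype_card]
  have hsubU : ∀ x, cl x ⊆ U := fun x w hw => Finset.mem_erase.2 ⟨(Finset.mem_filter.1 hw).2.1, Finset.mem_univ _⟩
  have hquart : ∀ x, x ≠ 1 → g ≤ 4 * (cl x).card := by
    intro x hx
    have h := hcl x hx
    have h2 := ha2 x hx
    have hN : Nat.card (D.N x) ≤ 4 * (Nat.card (D.A x) - 1) := by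
      rcases D.two x hx with e | e <;> rw [N, e] <;> omega
    have h3 := Nat.mul_le_mul_left (cl x).card hN
    have hpos : 0 < Nat.card (D.A x) - 1 := by omega
    refine Nat.le_of_mul_le_mul_right ?_ hpos
    calc g * (Nat.card (D.A x) - 1) = (cl x).card * Nat.card (D.N x) := h.symm
      _ ≤ (cl x).card * (4 * (Nat.card (D.A x) - 1)) := h3
      _ = 4 * (cl x).card * (Nat.card (D.A x) - 1) := by ring
  -- `g · (a - 1) = e a · |class|`
  have hforms : ∀ x, x ≠ 1 → (cl x).card * Nat.card (D.A x) + g = g * Nat.card (D.A x) ∧ Nat.card (D.N x) = Nat.card (D.A x) ∨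
      2 * ((cl x).card * Nat.card (D.A x)) + g = g * Nat.card (D.A x) ∧ Nat.card (D.N x) = 2 * Nat.card (D.A x) := by
    intro x hx
    have h := hcl x hx
    obtain ⟨a', ha'⟩ : ∃ a', Nat.card (D.A x) = a' + 1 := ⟨Nat.card (D.A x) - 1, by have := ha2 x hx; omega⟩
    rcases D.two x hx with e | e
    · refine Or.inl ⟨?_, e⟩
      rw [show Nat.card (D.N x) = Nat.card (D.A x) from e] at h
      rw [ha', Nat.add_sub_cancel] at h; rw [ha']; linarith
    · refine Or.inr ⟨?_, e⟩
      rw [show Nat.card (D.N x) = 2 * Nat.card (D.A x) from e] at h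
      rw [ha', Nat.add_sub_cancel] at h; rw [ha']; linarith
  have htopA : ∀ x, Nat.card (D.A x) = g → D.A x = ⊤ := fun x h => Subgroup.eq_top_of_card_eq _ (h.trans hg)
  have htopN : ∀ x, Nat.card (D.N x) = g → D.N x = ⊤ := fun x h => Subgroup.eq_top_of_card_eq _ (h.trans hg)
  have hNle : ∀ x, Nat.card (D.N x) ≤ g := fun x => Nat.le_of_dvd Nat.card_pos (Subgroup.card_subgroup_dvd_card _)
  obtain ⟨x, hxU⟩ : U.Nonempty := by rw [← Finset.card_pos, hUc]; omega
  have hx : x ≠ 1 := (Finset.mem_erase.1 hxU).1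
  have hax := ha2 x hx
  rcases Finset.eq_empty_or_nonempty (U \ cl x) with h0 | ⟨y, hyU⟩
  · -- one class
    have hc : (cl x).card = g - 1 := by
      rw [← hUc, Finset.Subset.antisymm (hsubU x) (Finset.sdiff_eq_empty_iff_subset.1 h0)]
    obtain ⟨g', hg'⟩ : ∃ g', g = g' + 1 := ⟨g - 1, by omega⟩
    rw [hg', Nat.add_sub_cancel] at hc
    rcases hforms x hx with ⟨h, -⟩ | ⟨h, hN⟩ <;> rw [hc] at h
    · exact Or.inl ⟨x, hx, htopA x (by rw [hg'] at h ⊢; linarith)⟩
    · exfalso
      have h2 : Nat.card (D.A x) * (g' + 1) + (g' + 1) = 2 * Nat.card (D.A x) := by rw [hg'] at h; linarith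
      have h3 : Nat.card (D.A x) * 2 ≤ Nat.card (D.A x) * (g' + 1) := Nat.mul_le_mul_left _ (by omega)
      omega
  rw [Finset.mem_sdiff] at hyU
  have hy : y ≠ 1 := (Finset.mem_erase.1 hyU.1).1
  have hay := ha2 y hy
  have hxy := hdisj x y hy hx hyU.2
  rcases Finset.eq_empty_or_nonempty ((U \ cl x) \ cl y) with h0 | ⟨z, hzU⟩
  · -- two classes
    have hc : (cl x).card + (cl y).card = g - 1 := by
      rw [← hUc, ← Finset.card_union_of_disjoint hxy]
      congr 1
      refine Finset.Subset.antisymm (Finset.union_subset (hsubU x) (hsubU y)) fun w hw => ?_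
      by_contra hn
      rw [Finset.mem_union, not_or] at hn
      exact Finset.eq_empty_iff_forall_notMem.1 h0 w
        (Finset.mem_sdiff.2 ⟨Finset.mem_sdiff.2 ⟨hw, hn.1⟩, hn.2⟩)
    have hcc : (cl x).card + (cl y).card + 1 = g := by omega
    have mixed : ∀ u v : G, u ≠ 1 → v ≠ 1 → (cl u).card + (cl v).card + 1 = g →
        ((cl u).card * Nat.card (D.A u) + g = g * Nat.card (D.A u) ∧ Nat.card (D.N u) = Nat.card (D.A u)) →
        (2 * ((cl v).card * Nat.card (D.A v)) + g = g * Nat.card (D.A v) ∧ Nat.card (D.N v) = 2 * Nat.card (D.A v)) →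
        (∃ x, x ≠ 1 ∧ D.N x = ⊤ ∧ g = 2 * Nat.card (D.A x)) ∨
          (g = 12 ∧ ∃ x, x ≠ 1 ∧ Nat.card (D.A x) = 3 ∧ D.N x = D.A x) := by
      intro u v hu hv hsum ⟨h1, h1N⟩ ⟨h2, h2N⟩
      have hau := ha2 u hu
      have hav := ha2 v hv
      set a := Nat.card (D.A u)
      set b := Nat.card (D.A v)
      have key : 2 * g * b + g * a = g * a * b + 2 * a * b := by
        have e3 : 2 * ((cl u).card * a) * b + 2 * g * b = 2 * (g * a) * b := by rw [← h1]; ring
        have e4 : 2 * ((cl v).card * b) * a + g * a = g * b * a := by rw [← h2]; ring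
        have e5 : 2 * a * b * ((cl u).card + (cl v).card + 1) = 2 * a * b * g := by rw [hsum]
        linarith
      have hg0 : 0 < g := by omega
      have ha3 : a ≤ 3 := by
        by_contra hcon
        have h4 : g * 4 * b ≤ g * a * b := Nat.mul_le_mul_right b (Nat.mul_le_mul_left g (by omega))
        have hab : 0 < a * b := Nat.mul_pos (by omega) (by omega)
        have h5 : g * a * 2 ≤ g * a * b := Nat.mul_le_mul_left _ hav
        linarith
      interval_cases hea : a
      · left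
        refine ⟨v, hv, htopN v ?_, ?_⟩ <;> linarith
      · right
        have hb2 : b = 2 := by
          by_contra hne
          have : g * 3 ≤ g * b := Nat.mul_le_mul_left g (by omega)
          linarith
        rw [hb2] at key
        refine ⟨by linarith, u, hu, hea, (Subgroup.eq_of_le_of_card_ge (D.A_le u) (le_of_eq ?_)).symm⟩
        rw [h1N]; exact hea.symm
    rcases hforms x hx with hfx | hfx <;> rcases hforms y hy with hfy | hfy
    · exfalso
      have h2x := hfx.1; have h2y := hfy.1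
      have e1 : g * 2 ≤ g * Nat.card (D.A x) := Nat.mul_le_mul_left g hax
      have e2 : g * 2 ≤ g * Nat.card (D.A y) := Nat.mul_le_mul_left g hay
      have h1 : g * Nat.card (D.A x) ≤ 2 * ((cl x).card * Nat.card (D.A x)) := by omega
      have h2 : g * Nat.card (D.A y) ≤ 2 * ((cl y).card * Nat.card (D.A y)) := by omega
      have h3 : g ≤ 2 * (cl x).card := Nat.le_of_mul_le_mul_right 
        (le_trans h1 (le_of_eq (mul_assoc _ _ _).symm)) (by omega)
      have h4 : g ≤ 2 * (cl y).card := Nat.le_of_mul_le_mul_right 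
        (le_trans h2 (le_of_eq (mul_assoc _ _ _).symm)) (by omega)
      omega
    · rcases mixed x y hx hy hcc hfx hfy with h | h
      · exact Or.inr (Or.inl h)
      · exact Or.inr (Or.inr (Or.inl h))
    · rcases mixed y x hy hx (by omega) hfy hfx with h | h
      · exact Or.inr (Or.inl h)
      · exact Or.inr (Or.inr (Or.inl h))
    · exfalso
      have nx := hNle x; rw [hfx.2] at nx
      have ny := hNle y; rw [hfy.2] at ny
      set a := Nat.card (D.A x)
      set b := Nat.card (D.A y)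
      have e3 : 2 * ((cl x).card * a) * b + g * b = g * a * b := by rw [← hfx.1]; ring
      have e4 : 2 * ((cl y).card * b) * a + g * a = g * b * a := by rw [← hfy.1]; ring
      have e5 : 2 * a * b * ((cl x).card + (cl y).card + 1) = 2 * a * b * g := by rw [hcc]
      have key : g * b + g * a = 2 * a * b := by linarith
      have h5 : 2 * a * b ≤ g * b := Nat.mul_le_mul_right b nx
      have h6 : 0 < g * a := Nat.mul_pos (by omega) (by omega)
      omega
  rw [Finset.mem_sdiff, Finset.mem_sdiff] at hzU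
  have hz : z ≠ 1 := (Finset.mem_erase.1 hzU.1.1).1
  have haz := ha2 z hz
  have hxz := hdisj x z hz hx hzU.1.2
  have hyz := hdisj y z hz hy hzU.2
  have hsub3 : cl x ∪ cl y ∪ cl z ⊆ U := Finset.union_subset (Finset.union_subset (hsubU x) (hsubU y)) (hsubU z)
  have hd3 : Disjoint (cl x ∪ cl y) (cl z) := Finset.disjoint_union_left.2 ⟨hxz, hyz⟩
  have hcard3 : (cl x).card + (cl y).card + (cl z).card ≤ g - 1 := by
    rw [← hUc, ← Finset.card_union_of_disjoint hxy, ← Finset.card_union_of_disjoint hd3]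
    exact Finset.card_le_card hsub3
  have hq := hquart x hx
  have hqy := hquart y hy
  have hqz := hquart z hz
  have hfull : ∀ w, w ≠ 1 → w ∈ cl x ∨ w ∈ cl y ∨ w ∈ cl z := by
    intro w hw
    by_contra hn
    simp only [not_or] at hn
    have hdw : Disjoint (cl x ∪ cl y ∪ cl z) (cl w) := Finset.disjoint_union_left.2
      ⟨Finset.disjoint_union_left.2 ⟨hdisj x w hw hx hn.1, hdisj y w hw hy hn.2.1⟩, hdisj z w hw hz hn.2.2⟩
    have h4 := hquart w hw
    have h5 : (cl x).card + (cl y).card + (cl z).card + (cl w).card ≤ g - 1 := by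
      rw [← hUc, ← Finset.card_union_of_disjoint hxy, ← Finset.card_union_of_disjoint hd3,
        ← Finset.card_union_of_disjoint hdw]
      exact Finset.card_le_card (Finset.union_subset hsub3 (hsubU w))
    omega
  have hsum : (cl x).card + (cl y).card + (cl z).card + 1 = g := by
    have : cl x ∪ cl y ∪ cl z = U := Finset.Subset.antisymm hsub3 fun w hw => by
      rcases hfull w (Finset.mem_erase.1 hw).1 with h | h | h <;> simp [h]
    have h := congrArg Finset.card this
    rw [Finset.card_union_of_disjoint hd3, Finset.card_union_of_disjoint hxy, hUc] at h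
    omega
  have hF : ∀ w, w = x ∨ w = y ∨ w = z →
      2 * ((cl w).card * Nat.card (D.A w)) + g = g * Nat.card (D.A w) ∧ Nat.card (D.N w) = 2 * Nat.card (D.A w) := by
    intro w hw
    have hw1 : w ≠ 1 := by rcases hw with rfl | rfl | rfl <;> assumption
    rcases hforms w hw1 with ⟨h, -⟩ | h
    · exfalso
      have e1 : g * 2 ≤ g * Nat.card (D.A w) := Nat.mul_le_mul_left g (ha2 w hw1)
      have h1 : g * Nat.card (D.A w) ≤ 2 * ((cl w).card * Nat.card (D.A w)) := by omega
      have h3 : g ≤ 2 * (cl w).card := Nat.le_of_mul_le_mul_right 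
        (le_trans h1 (le_of_eq (mul_assoc _ _ _).symm)) (by have := ha2 w hw1; omega)
      rcases hw with rfl | rfl | rfl <;> omega
    · exact h
  -- order the three classes
  obtain ⟨u, v, w, huvw, huv, hvw⟩ : ∃ u v w, ((u = x ∧ v = y ∧ w = z) ∨ (u = x ∧ v = z ∧ w = y) ∨ (u = y ∧ v = x ∧ w = z) ∨
      (u = y ∧ v = z ∧ w = x) ∨ (u = z ∧ v = x ∧ w = y) ∨ (u = z ∧ v = y ∧ w = x)) ∧
      Nat.card (D.A u) ≤ Nat.card (D.A v) ∧ Nat.card (D.A v) ≤ Nat.card (D.A w) := by
    rcases le_total (Nat.card (D.A x)) (Nat.card (D.A y)) with h1 | h1 <;>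
      rcases le_total (Nat.card (D.A y)) (Nat.card (D.A z)) with h2 | h2 <;>
      rcases le_total (Nat.card (D.A x)) (Nat.card (D.A z)) with h3 | h3
    · exact ⟨x, y, z, by simp, h1, h2⟩
    · exact ⟨x, y, z, by simp, h1, h2⟩
    · exact ⟨x, z, y, by simp, h3, h2⟩
    · exact ⟨z, x, y, by simp, h3, h1⟩
    · exact ⟨y, x, z, by simp, h1, h3⟩
    · exact ⟨y, z, x, by simp, h2, h3⟩
    · exact ⟨z, y, x, by simp, h2, h1⟩
    · exact ⟨z, y, x, by simp, h2, h1⟩
  have hu : u = x ∨ u = y ∨ u = z := by rcases huvw with h | h | h | h | h | h <;> simp [h.1]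
  have hv : v = x ∨ v = y ∨ v = z := by rcases huvw with h | h | h | h | h | h <;> simp [h.2.1]
  have hw : w = x ∨ w = y ∨ w = z := by rcases huvw with h | h | h | h | h | h <;> simp [h.2.2]
  have hu1 : u ≠ 1 := by rcases hu with rfl | rfl | rfl <;> assumption
  have hv1 : v ≠ 1 := by rcases hv with rfl | rfl | rfl <;> assumption
  have hw1 : w ≠ 1 := by rcases hw with rfl | rfl | rfl <;> assumption
  have hs : (cl u).card + (cl v).card + (cl w).card + 1 = g := by
    rcases huvw with ⟨rfl, rfl, rfl⟩ | ⟨rfl, rfl, rfl⟩ | ⟨rfl, rfl, rfl⟩ | ⟨rfl, rfl, rfl⟩ | ⟨rfl, rfl, rfl⟩ | ⟨rfl, rfl, rfl⟩ <;> omega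
  obtain ⟨fu, nu⟩ := hF u hu
  obtain ⟨fv, nv⟩ := hF v hv
  obtain ⟨fw, nw⟩ := hF w hw
  set a := Nat.card (D.A u)
  set b := Nat.card (D.A v)
  set c := Nat.card (D.A w)
  have key : g * (b * c + a * c + a * b) = g * (a * b * c) + 2 * (a * b * c) := by
    have e1 : 2 * ((cl u).card * a) * (b * c) + g * (b * c) = g * a * (b * c) := by rw [← fu]; ring
    have e2 : 2 * ((cl v).card * b) * (a * c) + g * (a * c) = g * b * (a * c) := by rw [← fv]; ring
    have e3 : 2 * ((cl w).card * c) * (a * b) + g * (a * b) = g * c * (a * b) := by rw [← fw]; ring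
    have e4 : 2 * (a * b * c) * ((cl u).card + (cl v).card + (cl w).card + 1) = 2 * (a * b * c) * g := by rw [hs]
    linarith
  obtain ⟨ha', h⟩ := unit_cases (ha2 u hu1) huv hvw key (by omega)
  rcases h with ⟨hb', hg'⟩ | ⟨hb', hc', hg'⟩ | ⟨hb', hc', hg'⟩ | ⟨hb', hc', hg'⟩
  · exact Or.inr (Or.inl ⟨w, hw1, htopN w (nw.trans hg'.symm), hg'⟩)
  · -- two classes of Sylow subgroups of order three are impossible
    exfalso
    haveI : Fact (Nat.Prime 3) := ⟨Nat.prime_three⟩
    have hp : ∀ t, Nat.card (D.A t) = 3 → ∃ P : Sylow 3 G, (P : Subgroup G) = D.A t := fun t ht => by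
      refine ⟨Sylow.ofCard (D.A t) ?_, rfl⟩
      rw [ht, ← hg, hg', show (12 : ℕ) = 2 ^ 2 * 3 by norm_num, Nat.factorization_mul (by norm_num) (by norm_num),
        Nat.prime_two.factorization_pow, Nat.prime_three.factorization]
      simp
    obtain ⟨P, hP⟩ := hp v hb'
    obtain ⟨R, hR⟩ := hp w hc'
    obtain ⟨h, hh⟩ := MulAction.exists_smul_eq G P R
    have hmem : w ∈ cl v := Finset.mem_filter.2 ⟨Finset.mem_univ _, hw1, h, by
      rw [← D.conj h v hv1, ← hR, ← hh, ← hP]
      rfl⟩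
    have hnd : ∀ {s t : G}, Disjoint (cl s) (cl t) → w ∈ cl s → w ∈ cl t → False := fun hd h1 h2 =>
      Finset.disjoint_left.1 hd h1 h2
    rcases huvw with ⟨-, e2, e3⟩ | ⟨-, e2, e3⟩ | ⟨-, e2, e3⟩ | ⟨-, e2, e3⟩ | ⟨-, e2, e3⟩ | ⟨-, e2, e3⟩
    · exact hnd hyz (e2 ▸ hmem) (e3 ▸ hself w hw1)
    · exact hnd hyz.symm (e2 ▸ hmem) (e3 ▸ hself w hw1)
    · exact hnd hxz (e2 ▸ hmem) (e3 ▸ hself w hw1)
    · exact hnd hxz.symm (e2 ▸ hmem) (e3 ▸ hself w hw1)
    · exact hnd hxy (e2 ▸ hmem) (e3 ▸ hself w hw1)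
    · exact hnd hxy.symm (e2 ▸ hmem) (e3 ▸ hself w hw1)
  · exact Or.inr (Or.inr (Or.inr (Or.inl ⟨hg', v, hv1, hb', by linarith⟩)))
  · refine Or.inr (Or.inr (Or.inr (Or.inr ⟨hg', u, v, w, hu1, hv1, hw1, ha', hb', hc',
      by linarith, by linarith, by linarith, fun t ht => ?_⟩)))
    have h3 := hfull t ht
    have conv : ∀ s, t ∈ cl s → ∃ h, D.A t = D.A (h * s * h⁻¹) := fun s hs => (Finset.mem_filter.1 hs).2.2
    rcases huvw with ⟨rfl, rfl, rfl⟩ | ⟨rfl, rfl, rfl⟩ | ⟨rfl, rfl, rfl⟩ | ⟨rfl, rfl, rfl⟩ | ⟨rfl, rfl, rfl⟩ | ⟨rfl, rfl, rfl⟩ <;>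
      rcases h3 with h | h | h <;> first | exact Or.inl (conv _ h) | exact Or.inr (Or.inl (conv _ h)) | exact Or.inr (Or.inr (conv _ h))

end Data

end CfsgLib.CyclicPartition
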