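import Mathlib
import Cfsg.Agent.Lib.CyclicPartition

/-! The groups occurring in the classification of cyclic TI partitions. -/

set_option autoImplicit false
set_option linter.style.haveILetI false

namespace CfsgLib.CyclicPartition

variable {G : Type*} [Group G] [Finite G]

theorem dihedral_iso {n : ℕ} [NeZero n] {r s : G} (hr : orderOf r = n) (hs : s ∉ Subgroup.zpowers r)
    (hss : s * s = 1) (hinv : s * r * s⁻¹ = r⁻¹) (hG : Nat.card G = 2 * n) : Nonempty (G ≃* DihedralGroup n) := by
  subst hr
  set e : ZMod (orderOf r) → G := fun i => r ^ i.val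
  have hadd : ∀ i j, e (i + j) = e i * e j := fun i j => by
    simp only [e]
    rw [← pow_add, ZMod.val_add, pow_mod_orderOf]
  have hneg : ∀ i, e (-i) = (e i)⁻¹ := fun i => eq_inv_of_mul_eq_one_left (by rw [← hadd, neg_add_cancel]; simp [e])
  have hse : ∀ i, s * e i = (e i)⁻¹ * s := fun i => by
    have h : s * e i * s⁻¹ = (e i)⁻¹ := by simp only [e]; rw [← conj_pow, hinv, inv_pow]
    rw [← h, inv_mul_cancel_right]
  have hes : ∀ i, e i * s = s * (e i)⁻¹ := fun i => by rw [← hneg, hse, hneg, inv_inv]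
  let f : DihedralGroup (orderOf r) → G := fun x => match x with
    | .r i => e i
    | .sr i => s * e i
  have hf : ∀ x y, f (x * y) = f x * f y := by
    rintro (i | i) (j | j) <;> simp only [DihedralGroup.r_mul_r, DihedralGroup.r_mul_sr, DihedralGroup.sr_mul_r,
      DihedralGroup.sr_mul_sr, f]
    · exact hadd i j
    · rw [← mul_assoc, hes, mul_assoc, sub_eq_add_neg, add_comm, hadd, hneg]
    · rw [mul_assoc, hadd]
    · rw [mul_assoc s (e i), ← mul_assoc (e i) s, hes, mul_assoc s (e i)⁻¹, ← mul_assoc s s, hss, one_mul,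
        sub_eq_add_neg, add_comm, hadd, hneg]
  have hinj : ∀ i j, e i = e j → i = j := fun i j h =>
    ZMod.val_injective _ (pow_injOn_Iio_orderOf (Set.mem_Iio.2 i.val_lt) (Set.mem_Iio.2 j.val_lt) h)
  have hbij : Function.Bijective (MonoidHom.mk' f hf) := by
    refine (Nat.bijective_iff_injective_and_card _).2 ⟨?_, by rw [DihedralGroup.nat_card, hG]⟩
    rintro (i | i) (j | j) h <;> simp only [MonoidHom.mk'_apply, f] at h
    · rw [hinj _ _ h]
    · exact absurd ⟨((i.val : ℤ) - j.val), by
        show r ^ _ = s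
        rw [zpow_sub, zpow_natCast, zpow_natCast]; exact mul_inv_eq_of_eq_mul h⟩ hs
    · exact absurd ⟨((j.val : ℤ) - i.val), by
        show r ^ _ = s
        rw [zpow_sub, zpow_natCast, zpow_natCast]; exact mul_inv_eq_of_eq_mul h.symm⟩ hs
    · rw [hinj _ _ (mul_left_cancel h)]
  exact ⟨(MulEquiv.ofBijective _ hbij).symm⟩

namespace Data

variable (D : Data G)

/-- **The finite groups with such a partition.** -/
theorem classification :
    IsCyclic G ∨ (∃ n, Nat.card G = 2 * n ∧ Nonempty (G ≃* DihedralGroup n) ∧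
        ∃ x, x ≠ 1 ∧ D.N x = ⊤ ∧ Nat.card (D.A x) = n) ∨
      Nonempty (G ≃* alternatingGroup (Fin 4)) ∨ Nonempty (G ≃* Equiv.Perm (Fin 4)) ∨
      Nonempty (G ≃* alternatingGroup (Fin 5)) := by
  classical
  cases subsingleton_or_nontrivial G with
  | inl h =>
    exact Or.inl (isCyclic_of_subsingleton)
  | inr hnt =>
  rcases D.classes hnt with ⟨x, hx, htop⟩ | ⟨x, hx, htop, hcard⟩ | ⟨hG, x, hx, ha, hNA⟩ | ⟨hG, x, hx, ha, hN⟩ |
    ⟨hG, x, y, z, hx, hy, hz, hax, hay, haz, hNx, hNy, hNz, hall⟩
  · haveI := D.cyc x hx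
    haveI : IsCyclic (⊤ : Subgroup G) := htop ▸ this
    exact Or.inl (isCyclic_of_surjective (Subgroup.topEquiv (G := G)).toMonoidHom (Subgroup.topEquiv (G := G)).surjective)
  · haveI := D.cyc x hx
    obtain ⟨r, hr⟩ := IsCyclic.exists_ofOrder_eq_natCard (α := D.A x)
    obtain ⟨s, hs⟩ : ∃ s, s ∉ D.A x := by
      by_contra h
      push Not at h
      have := (D.A x).eq_top_iff'.2 h
      rw [this, Subgroup.card_top] at hcard
      have := Nat.card_pos (α := G)
      omega
    obtain ⟨hss, hinv⟩ := D.inv x hx s (by rw [show Subgroup.normalizer (D.A x : Set G) = ⊤ from htop]; trivial) hs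
    haveI : NeZero (Nat.card (D.A x)) := ⟨Nat.card_pos.ne'⟩
    have hzp : s ∉ Subgroup.zpowers (r : G) := fun h => hs (Subgroup.zpowers_le.2 r.2 h)
    refine Or.inr (Or.inl ⟨_, hcard, dihedral_iso (r := (r : G)) ?_ hzp hss (hinv r r.2) hcard, x, hx, htop, rfl⟩)
    rw [Subgroup.orderOf_coe, hr]
  · -- twelve
    right; right; left
    obtain ⟨e⟩ : Nonempty (G ⧸ D.A x ≃ Fin 4) := by
      have h := (D.A x).index_mul_card
      rw [hG, ha, Subgroup.index_eq_card] at h
      exact ⟨(Finite.equivFin _).trans (finCongr (by omega))⟩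
    set φ := MulAction.toPermHom G (G ⧸ D.A x)
    have hinj : Function.Injective φ := by
      rw [← MonoidHom.ker_eq_bot_iff, Subgroup.eq_bot_iff_forall]
      intro k hk
      by_contra hk1
      rw [← Subgroup.normalCore_eq_ker] at hk
      have hA : ∀ h : G, k ∈ D.A (h * x * h⁻¹) := fun h => by
        rw [← D.conj h x hx]
        exact ⟨h⁻¹ * k * h, by simpa using hk h⁻¹, by simp [mul_assoc]⟩
      have heq : ∀ h : G, D.A (h * x * h⁻¹) = D.A k := fun h =>
        (D.eq _ k (fun e => hx (conj_eq_one_iff.1 e)) hk1 (hA h)).symm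
      have hnorm : D.N x = ⊤ := eq_top_iff.2 fun h _ => Subgroup.mem_normalizer_iff_map_conj_eq.2 (by
        have h1 := heq 1
        rw [one_mul, inv_one, mul_one] at h1
        show (D.A x).map (MulAut.conj h).toMonoidHom = D.A x
        rw [D.conj h x hx, heq h, h1])
      rw [hnorm] at hNA
      rw [← hNA, Subgroup.card_top, hG] at ha
      omega
    set ψ := e.permCongrHom.toMonoidHom.comp φ
    have hψ : Function.Injective ψ := e.permCongrHom.injective.comp hinj
    have hr : ψ.range = alternatingGroup (Fin 4) := by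
      refine Equiv.Perm.eq_alternatingGroup_of_index_eq_two ?_
      have h := ψ.range.index_mul_card
      rw [← Nat.card_congr (MonoidHom.ofInjective hψ).toEquiv, hG, Nat.card_perm, Nat.card_fin,
        show Nat.factorial 4 = 24 from rfl] at h
      omega
    exact ⟨(MonoidHom.ofInjective hψ).trans (MulEquiv.subgroupCongr hr)⟩
  · -- twenty-four
    right; right; right; left
    obtain ⟨e⟩ : Nonempty (G ⧸ D.N x ≃ Fin 4) := by
      have h := (D.N x).index_mul_card
      rw [hG, hN, Subgroup.index_eq_card] at h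
      exact ⟨(Finite.equivFin _).trans (finCongr (by omega))⟩
    set φ := MulAction.toPermHom G (G ⧸ D.N x)
    have hinj : Function.Injective φ := by
      rw [← MonoidHom.ker_eq_bot_iff, Subgroup.eq_bot_iff_forall]
      by_contra hcon
      push Not at hcon
      obtain ⟨k, hk, hk1⟩ := hcon
      have hnorm : (φ.ker : Subgroup G).Normal := inferInstance
      have hle : φ.ker ≤ D.N x := by
        rw [← Subgroup.normalCore_eq_ker]; exact Subgroup.normalCore_le _
      -- the kernel meets the block nontrivially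
      obtain ⟨m, hm, hmA, hm1⟩ : ∃ m ∈ φ.ker, m ∈ D.A x ∧ m ≠ 1 := by
        by_cases hkA : k ∈ D.A x
        · exact ⟨k, hk, hkA, hk1⟩
        obtain ⟨-, hinv⟩ := D.inv x hx k (hle hk) hkA
        have hxA := D.mem x hx
        refine ⟨x * k * x⁻¹ * k⁻¹, mul_mem (hnorm.conj_mem k hk x) (inv_mem hk), ?_, ?_⟩
        · rw [show x * k * x⁻¹ * k⁻¹ = x * (k * x * k⁻¹)⁻¹ by group, hinv x hxA, inv_inv]
          exact mul_mem hxA hxA
        · rw [show x * k * x⁻¹ * k⁻¹ = x * (k * x * k⁻¹)⁻¹ by group, hinv x hxA, inv_inv, ← sq]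
          intro h2
          have h1 := orderOf_dvd_of_pow_eq_one h2
          have h3 : orderOf x ∣ 3 := ha ▸ (Subgroup.orderOf_mk x hxA ▸ orderOf_dvd_natCard (⟨x, hxA⟩ : D.A x))
          exact hx (orderOf_eq_one_iff.1 (Nat.eq_one_of_dvd_coprimes (by norm_num : Nat.Coprime 2 3) h1 h3))
      have hAm : D.A m = D.A x := D.eq x m hx hm1 hmA
      have hall : ∀ h : G, D.A (h * x * h⁻¹) = D.A x := by
        intro h
        have h1 : m ∈ D.N (h * x * h⁻¹) := by
          rw [← D.map_N h x hx]
          exact ⟨h⁻¹ * m * h, hle (by simpa using hnorm.conj_mem m hm h⁻¹), by simp [mul_assoc]⟩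
        have hxh : h * x * h⁻¹ ≠ 1 := fun e => hx (conj_eq_one_iff.1 e)
        by_cases h2 : m ∈ D.A (h * x * h⁻¹)
        · rw [← D.eq _ m hxh hm1 h2, hAm]
        · exfalso
          obtain ⟨hsq, -⟩ := D.inv _ hxh m h1 h2
          have e1 := orderOf_dvd_of_pow_eq_one (show m ^ 2 = 1 by rw [sq, hsq])
          have e2 : orderOf m ∣ 3 := ha ▸ (Subgroup.orderOf_mk m hmA ▸ orderOf_dvd_natCard (⟨m, hmA⟩ : D.A x))
          exact hm1 (orderOf_eq_one_iff.1 (Nat.eq_one_of_dvd_coprimes (by norm_num : Nat.Coprime 2 3) e1 e2))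
      have htop : D.N x = ⊤ := eq_top_iff.2 fun h _ => Subgroup.mem_normalizer_iff_map_conj_eq.2 (by
        show (D.A x).map (MulAut.conj h).toMonoidHom = D.A x
        rw [D.conj h x hx, hall h])
      rw [htop, Subgroup.card_top, hG] at hN
      omega
    set ψ := e.permCongrHom.toMonoidHom.comp φ
    have hψ : Function.Injective ψ := e.permCongrHom.injective.comp hinj
    refine ⟨MulEquiv.ofBijective ψ ((Nat.bijective_iff_injective_and_card ψ).2 ⟨hψ, ?_⟩)⟩
    rw [hG, Nat.card_perm, Nat.card_fin]; rfl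
  · -- sixty
    right; right; right; right
    have hsimple : IsSimpleGroup G := by
      refine { exists_pair_ne := exists_pair_ne G, eq_bot_or_eq_top_of_normal := fun M hM => ?_ }
      by_contra hcon
      push Not at hcon
      obtain ⟨hbot, htop⟩ := hcon
      haveI : Fact (Nat.Prime 2) := ⟨Nat.prime_two⟩
      -- a block of prime order meeting `M` lies in it with all its conjugates
      have habs : ∀ t, t ≠ 1 → ∀ m, m ∈ M → m ≠ 1 → (∃ h, D.A m = D.A (h * t * h⁻¹)) → (Nat.card (D.A t)).Prime →
          ∀ h, D.A (h * t * h⁻¹) ≤ M := by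
        intro t ht m hm hm1 ⟨h₀, he⟩ hp h
        have hcard : ∀ k, Nat.card (D.A (k * t * k⁻¹)) = Nat.card (D.A t) := fun k => by
          rw [← D.conj k t ht, Subgroup.card_map_of_injective (MulAut.conj k).injective]
        haveI : Fact (Nat.card (D.A t)).Prime := ⟨hp⟩
        have hle : D.A (h₀ * t * h₀⁻¹) ≤ M := by
          rw [← he]
          intro a ha
          have hz : Subgroup.zpowers m = D.A m := by
            refine Subgroup.eq_of_le_of_card_ge (Subgroup.zpowers_le.2 (D.mem m hm1)) ?_
            rw [Nat.card_zpowers]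
            refine le_of_eq ?_
            have hd : orderOf m ∣ Nat.card (D.A t) := by
              rw [← hcard h₀, ← he]
              exact Subgroup.orderOf_mk m (D.mem m hm1) ▸ orderOf_dvd_natCard (⟨m, D.mem m hm1⟩ : D.A m)
            rw [he, hcard h₀]
            exact (((Nat.dvd_prime hp).1 hd).resolve_left fun e => hm1 (orderOf_eq_one_iff.1 e)).symm
          exact Subgroup.zpowers_le.2 hm (hz ▸ ha)
        intro a ha
        rw [← D.conj h t ht] at ha
        obtain ⟨b, hb, rfl⟩ := ha
        have hb' : h₀ * b * h₀⁻¹ ∈ M := hle (D.conj h₀ t ht ▸ ⟨b, hb, rfl⟩)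
        have h2 := hM.conj_mem _ hb' (h * h₀⁻¹)
        simp only [MulEquiv.coe_toMonoidHom, MulAut.conj_apply]
        rwa [show h * h₀⁻¹ * (h₀ * b * h₀⁻¹) * (h * h₀⁻¹)⁻¹ = h * b * h⁻¹ by group] at h2
      haveI : Fintype G := Fintype.ofFinite G
      -- the number of non-identity elements in the conjugates of a block
      have hcount : ∀ t, t ≠ 1 → (∀ h, D.A (h * t * h⁻¹) ≤ M) → ∀ k, Nat.card (D.N t) * k = 60 →
          k * (Nat.card (D.A t) - 1) + 1 ≤ Nat.card M := by
        intro t ht hle k hk
        let f : (G ⧸ D.N t) × {a : D.A t // a ≠ 1} → {m : M // m ≠ 1} := fun p =>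
          ⟨⟨Quotient.out p.1 * p.2.1.1 * (Quotient.out p.1)⁻¹, hle _ (by rw [← D.conj _ t ht]; exact ⟨_, p.2.1.2, rfl⟩)⟩,
            fun e => p.2.2 (Subtype.ext (conj_eq_one_iff.1 (congrArg Subtype.val e)))⟩
        have hf : Function.Injective f := by
          rintro ⟨u, a⟩ ⟨v, b⟩ hab
          have h : Quotient.out u * a.1.1 * (Quotient.out u)⁻¹ = Quotient.out v * b.1.1 * (Quotient.out v)⁻¹ :=
            congrArg (fun z : {m : M // m ≠ 1} => z.1.1) hab
          have ha1 : a.1.1 ≠ 1 := fun e => a.2 (Subtype.ext e)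
          have hb1 : b.1.1 ≠ 1 := fun e => b.2 (Subtype.ext e)
          have hc : (Quotient.out v)⁻¹ * Quotient.out u ∈ D.N t := by
            refine Subgroup.mem_normalizer_iff_map_conj_eq.2 ?_
            show (D.A t).map (MulAut.conj ((Quotient.out v)⁻¹ * Quotient.out u)).toMonoidHom = D.A t
            rw [← D.eq t a.1.1 ht ha1 a.1.2, D.conj _ _ ha1,
              show (Quotient.out v)⁻¹ * Quotient.out u * a.1.1 * ((Quotient.out v)⁻¹ * Quotient.out u)⁻¹ = b.1.1 by
                calc _ = (Quotient.out v)⁻¹ * (Quotient.out u * a.1.1 * (Quotient.out u)⁻¹) * Quotient.out v := by group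
                  _ = b.1.1 := by rw [h]; group,
              D.eq t b.1.1 ht hb1 b.1.2, D.eq t a.1.1 ht ha1 a.1.2]
          obtain rfl : u = v := by
            have := QuotientGroup.eq.2 hc
            rw [QuotientGroup.out_eq', QuotientGroup.out_eq'] at this
            exact this.symm
          have hab' : a = b := Subtype.ext (Subtype.ext (mul_left_cancel (mul_right_cancel h)))
          rw [hab']
        have h1 := Nat.card_le_card_of_injective f hf
        have hcompl : ∀ (K : Subgroup G), Nat.card {a : K // a ≠ 1} = Nat.card K - 1 := fun K => by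
          rw [Nat.card_eq_fintype_card, Nat.card_eq_fintype_card, Fintype.card_subtype_compl, Fintype.card_subtype_eq]
        rw [Nat.card_prod, hcompl, hcompl, ← Subgroup.index_eq_card] at h1
        have h2 := (D.N t).index_mul_card
        rw [hG] at h2
        have h3 : (D.N t).index = k := Nat.eq_of_mul_eq_mul_right Nat.card_pos (by rw [h2, ← hk, mul_comm])
        rw [h3] at h1
        have := Nat.card_pos (α := M)
        omega
      have hdvd : Nat.card M ∣ 60 := hG ▸ Subgroup.card_subgroup_dvd_card M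
      have hproper : Nat.card M ≤ 30 := by
        have h := M.index_mul_card
        rw [hG] at h
        have : 2 ≤ M.index := by
          rcases Nat.lt_or_ge M.index 2 with h2 | h2
          · exfalso
            have := (M.index_ne_zero_of_finite)
            exact htop (Subgroup.index_eq_one.1 (by omega))
          · exact h2
        have := Nat.mul_le_mul_right (Nat.card M) this
        omega
      have hy3 : Nat.card (D.A y) = 3 := hay
      haveI : Fact (Nat.Prime 3) := ⟨Nat.prime_three⟩
      haveI : Fact (Nat.Prime 5) := ⟨by norm_num⟩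
      -- every prime divisor of `|M|` brings all the blocks of that order
      have hdiv : ∀ p : ℕ, p.Prime → p ∣ Nat.card M → ∃ t, t ≠ 1 ∧ (t = x ∨ t = y ∨ t = z) ∧ Nat.card (D.A t) = p ∧
          ∀ h, D.A (h * t * h⁻¹) ≤ M := by
        intro p hp hpd
        haveI : Fact p.Prime := ⟨hp⟩
        obtain ⟨m, hm⟩ := exists_prime_orderOf_dvd_card' (G := M) p hpd
        rw [← Subgroup.orderOf_coe] at hm
        have hm1 : (m : G) ≠ 1 := fun e => by rw [e, orderOf_one] at hm; exact hp.ne_one hm.symm
        have key : ∀ t, t ≠ 1 → (∃ h, D.A (m : G) = D.A (h * t * h⁻¹)) → (Nat.card (D.A t)).Prime →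
            Nat.card (D.A t) = p ∧ ∀ h, D.A (h * t * h⁻¹) ≤ M := by
          intro t ht he hpt
          refine ⟨?_, habs t ht m m.2 hm1 he hpt⟩
          obtain ⟨h, he⟩ := he
          have h1 : p ∣ Nat.card (D.A t) := by
            have hc : Nat.card (D.A (h * t * h⁻¹)) = Nat.card (D.A t) := by
              rw [← D.conj h t ht, Subgroup.card_map_of_injective (MulAut.conj h).injective]
            rw [← hc, ← he, ← hm]
            exact Subgroup.orderOf_mk (m : G) (D.mem _ hm1) ▸ orderOf_dvd_natCard (⟨(m : G), D.mem _ hm1⟩ : D.A (m : G))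
          exact ((Nat.prime_dvd_prime_iff_eq hp hpt).1 h1).symm
        rcases hall m hm1 with h | h | h
        · obtain ⟨h1, h2⟩ := key x hx h (by rw [hax]; norm_num); exact ⟨x, hx, Or.inl rfl, h1, h2⟩
        · obtain ⟨h1, h2⟩ := key y hy h (by rw [hay]; norm_num); exact ⟨y, hy, Or.inr (Or.inl rfl), h1, h2⟩
        · obtain ⟨h1, h2⟩ := key z hz h (by rw [haz]; norm_num); exact ⟨z, hz, Or.inr (Or.inr rfl), h1, h2⟩
      have b2 : 2 ∣ Nat.card M → 16 ≤ Nat.card M := fun hd => by
        obtain ⟨t, ht, ht', hp, hle⟩ := hdiv 2 Nat.prime_two hd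
        rcases ht' with rfl | rfl | rfl <;> [skip; omega; omega]
        have := hcount t ht hle 15 (by rw [hNx])
        rw [hax] at this; omega
      have b3 : 3 ∣ Nat.card M → 21 ≤ Nat.card M := fun hd => by
        obtain ⟨t, ht, ht', hp, hle⟩ := hdiv 3 Nat.prime_three hd
        rcases ht' with rfl | rfl | rfl <;> [omega; skip; omega]
        have := hcount t ht hle 10 (by rw [hNy])
        rw [hay] at this; omega
      have b5 : 5 ∣ Nat.card M → 25 ≤ Nat.card M := fun hd => by
        obtain ⟨t, ht, ht', hp, hle⟩ := hdiv 5 (by norm_num) hd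
        rcases ht' with rfl | rfl | rfl <;> [omega; omega; skip]
        have := hcount t ht hle 6 (by rw [hNz])
        rw [haz] at this; omega
      have hM1 : Nat.card M ≠ 1 := fun h => hbot (Subgroup.card_eq_one.1 h)
      have hM30 : Nat.card M = 30 := by
        have := Nat.card_pos (α := M)
        interval_cases hM' : Nat.card M <;> first | omega | rfl
      -- all three kinds then lie in `M`
      have h5 := hdiv 5 (by norm_num) (by rw [hM30]; norm_num)
      have h3 := hdiv 3 Nat.prime_three (by rw [hM30]; norm_num)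
      have h2 := hdiv 2 Nat.prime_two (by rw [hM30]; norm_num)
      obtain ⟨t2, ht2, h2', hp2, hle2⟩ := h2
      obtain ⟨t3, ht3, h3', hp3, hle3⟩ := h3
      obtain ⟨t5, ht5, h5', hp5, hle5⟩ := h5
      obtain rfl : t2 = x := by rcases h2' with rfl | rfl | rfl <;> [rfl; omega; omega]
      obtain rfl : t3 = y := by rcases h3' with rfl | rfl | rfl <;> [omega; rfl; omega]
      obtain rfl : t5 = z := by rcases h5' with rfl | rfl | rfl <;> [omega; omega; rfl]
      refine htop (M.eq_top_iff'.2 fun w => ?_)
      by_cases hw : w = 1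
      · rw [hw]; exact one_mem _
      rcases hall w hw with ⟨h, he⟩ | ⟨h, he⟩ | ⟨h, he⟩
      · exact hle2 h (he ▸ D.mem w hw)
      · exact hle3 h (he ▸ D.mem w hw)
      · exact hle5 h (he ▸ D.mem w hw)
    exact Cfsg.Agent.S0494.result hG

end Data

end CfsgLib.CyclicPartition
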