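import Cfsg.Agent.Lib.KInfStable
import Cfsg.Agent.Lib.IterChief
import Cfsg.Agent.Lib.Thompson.Kegel

/-! A quadratic chief factor below a critical subgroup (owner helper5). -/

set_option autoImplicit false
set_option linter.style.haveILetI false

universe u

namespace CfsgLib.ChiefKernel

open Cfsg CfsgLib.Fusion CfsgLib.LocalBasic CfsgLib.CharP CfsgLib.SectionReduce
open scoped commutatorElement

variable {G : Type u} [Group G] [Finite G] {p : ℕ} [hp : Fact p.Prime]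

/-- The members: minimal `H`-invariant groups strictly over `Z` inside `A`. -/
def members (Z A H : Subgroup G) : Set (Subgroup G) :=
  {W | Z < W ∧ W ≤ A ∧ H ≤ Subgroup.normalizer (W : Set G) ∧
    ∀ X : Subgroup G, H ≤ Subgroup.normalizer (X : Set G) → Z ≤ X → X ≤ W → X = Z ∨ X = W}

/-- A minimal `H'`-invariant group is a join of minimal invariant groups of a normal subgroup. -/
theorem member_le {Z A H H' : Subgroup G} [hZn : Z.Normal] (hHH' : H ≤ H')
    (hn : H' ≤ Subgroup.normalizer (H : Set G)) {W : Subgroup G} (hW : W ∈ members Z A H') :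
    W ≤ ⨆ X ∈ members Z A H, X := by
  obtain ⟨hZW, hWA, hWn, hWmin⟩ := hW
  obtain ⟨W0, ⟨hW0a, hW0b, hW0c⟩, hW0min⟩ := (Set.toFinite {X : Subgroup G | Z < X ∧ X ≤ W ∧
    H ≤ Subgroup.normalizer (X : Set G)}).exists_minimal ⟨W, hZW, le_rfl, hHH'.trans hWn⟩
  set Wc := ⨆ x ∈ H', cj x W0 with hWc
  have hcjZ : ∀ x, cj x Z = Z := fun x => mem_normalizer_iff_cj.mp (by rw [Subgroup.normalizer_eq_top]; trivial)
  have hle : Wc ≤ W := iSup₂_le fun x hx => (cj_mono x hW0b).trans (mem_normalizer_iff_cj.mp (hWn hx)).le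
  have hnc : H' ≤ Subgroup.normalizer (Wc : Set G) := by
    intro y hy
    refine mem_normalizer_iff_cj.mpr (Subgroup.eq_of_le_of_card_ge ?_ (card_cj y Wc).ge)
    rw [cj, hWc, Subgroup.map_iSup]
    refine iSup_le fun x => ?_
    rw [Subgroup.map_iSup]
    exact iSup_le fun hx => le_iSup₂_of_le (y * x) (mul_mem hy hx) (cj_mul y x W0).ge
  have hZWc : Z < Wc := hW0a.trans_le (le_iSup₂_of_le 1 (one_mem _) (cj_one W0).ge)
  rcases hWmin Wc hnc hZWc.le hle with h | h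
  · exact absurd h.symm hZWc.ne
  rw [← h]
  refine iSup₂_le fun x hx => le_iSup₂_of_le (cj x W0) ?_ le_rfl
  have hxn : ∀ X : Subgroup G, H ≤ Subgroup.normalizer (X : Set G) → ∀ y, y ∈ H' →
      H ≤ Subgroup.normalizer ((cj y X : Subgroup G) : Set G) := fun X hX y hy => by
    rw [← cj_normalizer]
    exact (mem_normalizer_iff_cj.mp (hn hy)).ge.trans (cj_mono y hX)
  refine ⟨lt_of_le_of_ne ((hcjZ x).ge.trans (cj_mono x hW0a.le)) fun he => hW0a.ne ?_,
    (le_iSup₂_of_le x hx le_rfl : cj x W0 ≤ Wc).trans (hle.trans hWA), hxn W0 hW0c x hx, fun X hX h1 h2 => ?_⟩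
  · rw [← cj_inv_cj x W0, ← he, hcjZ]
  · rcases eq_or_ne (cj x⁻¹ X) Z with h3 | h3
    · left; rw [← hcjZ x, ← h3, ← cj_mul, mul_inv_cancel, cj_one]
    · right
      have h4 : cj x⁻¹ X ≤ W0 := (cj_mono _ h2).trans (cj_inv_cj x W0).le
      have h5 : Z < cj x⁻¹ X := lt_of_le_of_ne ((hcjZ x⁻¹).ge.trans (cj_mono _ h1)) (Ne.symm h3)
      have h6 := le_antisymm h4 (hW0min ⟨h5, h4.trans hW0b, hxn X hX x⁻¹ (inv_mem hx)⟩ h4)
      rw [← h6, ← cj_mul, mul_inv_cancel, cj_one]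

/-- A chief factor is a join of minimal invariant groups of any subgroup subnormal through a `p`-quotient. -/
theorem sum_minimal {N K H Z A : Subgroup G} [hNn : N.Normal] [hKn : K.Normal] [hZn : Z.Normal] [hAn : A.Normal]
    (hK : ∀ x ∈ K, ∃ k : ℕ, x ^ p ^ k ∈ N) (hNH : N ≤ H) (hHK : H ≤ K) (hZA : Z < A)
    (hirr : ∀ X : Subgroup G, X.Normal → Z ≤ X → X ≤ A → X = Z ∨ X = A) :
    A ≤ ⨆ W ∈ members Z A H, W := by
  suffices h : ∀ (m : ℕ) (H : Subgroup G), N ≤ H → H ≤ K → Nat.card ↥K < Nat.card ↥H + m →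
      A ≤ ⨆ W ∈ members Z A H, W from h (Nat.card ↥K + 1) H hNH hHK (by omega)
  intro m
  induction m with
  | zero => intro H _ hHK hm; have := Subgroup.card_le_of_le hHK; omega
  | succ m ih =>
    intro H hNH hHK hm
    rcases eq_or_ne H K with rfl | hne
    · refine member_le (H' := ⊤) le_top (by rw [Subgroup.normalizer_eq_top]) ⟨hZA, le_rfl,
        le_top.trans (Subgroup.normalizer_eq_top A).ge, fun X hX h1 h2 =>
          hirr X (Subgroup.normalizer_eq_top_iff.mp (top_le_iff.mp hX)) h1 h2⟩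
    set H' := K ⊓ Subgroup.normalizer (H : Set G)
    have hlt : H < H' := by
      refine lt_of_le_of_ne (le_inf hHK Subgroup.le_normalizer) fun he => hne ?_
      set π := QuotientGroup.mk' N
      have hc : ∀ {X : Subgroup G}, N ≤ X → (X.map π).comap π = X := fun {X} hX => by
        rw [Subgroup.comap_map_eq, QuotientGroup.ker_mk', sup_eq_left.mpr hX]
      have hKp : IsPGroup p ↥(K.map π) := by
        rintro ⟨_, x, hx, rfl⟩
        obtain ⟨k, hk⟩ := hK x hx
        exact ⟨k, Subtype.ext (by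
          show π x ^ p ^ k = 1
          rw [← map_pow]; exact (QuotientGroup.eq_one_iff _).mpr hk)⟩
      have h1 := eq_of_normalizer_inf_le hKp (Subgroup.map_mono hHK) (by
        rintro z ⟨hz1, hz2⟩
        obtain ⟨x, hx, rfl⟩ := hz1
        refine ⟨x, ?_, rfl⟩
        rw [SetLike.mem_coe, he]
        refine Subgroup.mem_inf.mpr ⟨hx, ?_⟩
        rw [← hc hNH, ← Subgroup.comap_normalizer_eq_of_surjective _ (QuotientGroup.mk'_surjective N)]
        exact hz2)
      rw [← hc hNH, h1, hc (hNH.trans hHK)]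
    have hcard : Nat.card ↥H < Nat.card ↥H' :=
      lt_of_le_of_ne (Subgroup.card_le_of_le hlt.le) fun he => hlt.ne (Subgroup.eq_of_le_of_card_ge hlt.le he.ge)
    exact (ih H' (hNH.trans hlt.le) inf_le_left (by omega)).trans
      (iSup₂_le fun W hW => member_le hlt.le inf_le_right hW)

/-- The elements trivial on every chief factor below `V`. -/
def kerBelow (V : Subgroup G) : Subgroup G where
  carrier := {x | ∀ U' V' : Subgroup G, IsChiefFactor U' V' → U' ≤ V → ∀ u ∈ U', ⁅u, x⁆ ∈ V'}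
  one_mem' := fun U' V' _ _ u _ => by rw [commutatorElement_one_right]; exact one_mem V'
  mul_mem' := fun {x y} hx hy U' V' hc hle u hu => by
    rw [show ⁅u, x * y⁆ = ⁅u, x⁆ * (x * ⁅u, y⁆ * x⁻¹) by simp only [commutatorElement_def]; group]
    exact mul_mem (hx U' V' hc hle u hu) (hc.2.2.1.conj_mem _ (hy U' V' hc hle u hu) x)
  inv_mem' := fun {x} hx U' V' hc hle u hu => by
    rw [show ⁅u, x⁻¹⁆ = x⁻¹ * ⁅u, x⁆⁻¹ * x⁻¹⁻¹ by simp only [commutatorElement_def]; group]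
    exact hc.2.2.1.conj_mem _ (inv_mem (hx U' V' hc hle u hu)) x⁻¹

theorem kerBelow_normal (V : Subgroup G) : (kerBelow V).Normal :=
  ⟨fun x hx g U' V' hc hle u hu => by
    rw [show ⁅u, g * x * g⁻¹⁆ = g * ⁅g⁻¹ * u * g⁻¹⁻¹, x⁆ * g⁻¹ by simp only [commutatorElement_def]; group]
    exact hc.2.2.1.conj_mem _ (hx U' V' hc hle _ (hc.2.1.conj_mem u hu g⁻¹)) g⟩

/-- A `p'`-element trivial on the chief factors below a normal `p`-subgroup centralises it. -/
theorem centralizes_below : ∀ (n : ℕ) (V : Subgroup G), Nat.card ↥V = n → V.Normal → IsPGroup p ↥V →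
    ∀ x ∈ kerBelow V, (orderOf x).Coprime p → ∀ v ∈ V, v * x = x * v := by
  intro n
  induction n using Nat.strong_induction_on with
  | _ n ih =>
  intro V hn hV hVp x hx hxc v hv
  rcases eq_or_ne V ⊥ with rfl | hV0
  · rw [Subgroup.mem_bot.mp hv, one_mul, mul_one]
  haveI := hV
  obtain ⟨X, ⟨hXn, hXV⟩, hXmax⟩ := (Set.toFinite {X : Subgroup G | X.Normal ∧ X < V}).exists_maximal
    ⟨⊥, inferInstance, bot_lt_iff_ne_bot.mpr hV0⟩
  have hch : IsChiefFactor V X := by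
    refine ⟨hXV, hV, hXn, fun N hN h1 h2 => ?_⟩
    by_contra h
    push Not at h
    exact h.1 (le_antisymm (hXmax ⟨hN, lt_of_le_of_ne h2 h.2⟩ h1) h1)
  have hlt : Nat.card ↥X < n := hn ▸ lt_of_le_of_ne (Subgroup.card_le_of_le hXV.le)
    fun h => hXV.ne (Subgroup.eq_of_le_of_card_ge hXV.le h.ge)
  have h1 : ⁅x, v⁆ ∈ X := by rw [← commutatorElement_inv]; exact inv_mem (hx V X hch le_rfl v hv)
  have h2 := ih _ hlt X rfl hXn (hVp.to_le hXV.le) x (fun U' V' hc hle => hx U' V' hc (hle.trans hXV.le)) hxc _ h1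
  obtain ⟨j, hj⟩ := hVp ⟨_, hXV.le h1⟩
  exact (commute_of_commutator_fixed h2.symm (j := j) (by simpa using congrArg Subtype.val hj) hxc).symm

/-- An element outside `O_p(G)` moves a chief factor below a critical subgroup. -/
theorem exists_moved {A : Subgroup G} [A.Normal] (hAR : A ≤ pCore p G)
    (hA4 : pCore p G ⊓ Subgroup.centralizer (A : Set G) ≤ A)
    (hc : Subgroup.centralizer ((pCore p G : Subgroup G) : Set G) ≤ pCore p G) {g : G} (hg : g ∉ pCore p G) :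
    ∃ W V : Subgroup G, IsChiefFactor W V ∧ W ≤ A ∧ g ∈ kerBelow V ∧ ¬ ∀ w ∈ W, ⁅w, g⁆ ∈ V := by
  haveI hRn : (pCore p G).Normal := Cfsg.pCore_normal p G
  have hRp : IsPGroup p ↥(pCore p G) := CfsgLib.Core.isPGroup_pCore p
  have hgA : g ∉ kerBelow A := fun h => by
    haveI := kerBelow_normal (G := G) A
    refine hg (CfsgLib.Core.le_pCore inferInstance (isPGroup_of_coprime_elements fun x hx => ?_) h)
    have hx' : (orderOf (x : G)).Coprime p := by rwa [Subgroup.orderOf_coe]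
    have hfix := centralizes_below (p := p) _ A rfl inferInstance (hRp.to_le hAR) x x.2 hx'
    have hR : ∀ r ∈ pCore p G, r * (x : G) = x * r := by
      intro r hr
      have h1 : ⁅(x : G), r⁆ ∈ pCore p G := by
        rw [commutatorElement_def]; exact mul_mem (hRn.conj_mem r hr x) (inv_mem hr)
      have h2 : ⁅(x : G), r⁆ ∈ A := hA4 (Subgroup.mem_inf.mpr ⟨h1, fun a ha => by
        have ha' : r⁻¹ * a * r ∈ A := by simpa using (inferInstance : A.Normal).conj_mem a ha r⁻¹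
        have e : (x : G)⁻¹ * a * x = a := by rw [mul_assoc, hfix a ha, inv_mul_cancel_left]
        have e' : (x : G) * (r⁻¹ * a * r) * (x : G)⁻¹ = r⁻¹ * a * r := by rw [← hfix _ ha', mul_inv_cancel_right]
        calc a * ⁅(x : G), r⁆ = (x : G) * ((x : G)⁻¹ * a * x) * r * (x : G)⁻¹ * r⁻¹ := by
              rw [commutatorElement_def]; group
          _ = (x : G) * a * r * (x : G)⁻¹ * r⁻¹ := by rw [e]
          _ = (x : G) * r * (x : G)⁻¹ * ((x : G) * (r⁻¹ * a * r) * (x : G)⁻¹) * r⁻¹ := by group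
          _ = (x : G) * r * (x : G)⁻¹ * (r⁻¹ * a * r) * r⁻¹ := by rw [e']
          _ = ⁅(x : G), r⁆ * a := by rw [commutatorElement_def]; group⟩)
      obtain ⟨j, hj⟩ := hRp ⟨_, h1⟩
      exact (commute_of_commutator_fixed (hfix _ h2).symm (j := j) (by simpa using congrArg Subtype.val hj) hx').symm
    exact Subtype.ext (eq_one_of_centralizes (show HasCharP p G from hc) hx' fun r hr => (hR r hr).symm)
  obtain ⟨V, ⟨hVn, hVA, hgV⟩, hVmax⟩ := (Set.toFinite {V : Subgroup G | V.Normal ∧ V ≤ A ∧ g ∈ kerBelow V}).exists_maximal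
    ⟨⊥, inferInstance, bot_le, fun U' V' hc hle => absurd (hc.1.trans_le hle) not_lt_bot⟩
  haveI := hVn
  have hVne : V ≠ A := fun h => hgA (h ▸ hgV)
  obtain ⟨W, ⟨hWn, hVW, hWA⟩, hWmin⟩ := (Set.toFinite {W : Subgroup G | W.Normal ∧ V < W ∧ W ≤ A}).exists_minimal
    ⟨A, inferInstance, lt_of_le_of_ne hVA hVne, le_rfl⟩
  have hch : IsChiefFactor W V := by
    refine ⟨hVW, hWn, hVn, fun N hN h1 h2 => ?_⟩
    by_contra h
    push Not at h
    exact h.2 (le_antisymm h2 (hWmin ⟨hN, lt_of_le_of_ne h1 (Ne.symm h.1), h2.trans hWA⟩ h2))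
  refine ⟨W, V, hch, hWA, hgV, fun htriv => ?_⟩
  refine hVW.not_ge (hVmax ⟨hWn, hWA, fun U' V' hc' hle u hu => ?_⟩ hVW.le)
  obtain ⟨hV'U, hU'n, hV'n, hU'⟩ := hc'
  haveI := hU'n
  haveI := hV'n
  rcases hU' ((U' ⊓ V) ⊔ V') (Subgroup.sup_normal _ _) le_sup_right (sup_le inf_le_left hV'U.le) with h | h
  · refine (le_sup_left.trans h.le : U' ⊓ V ≤ V') (Subgroup.mem_inf.mpr ⟨?_, htriv u (hle hu)⟩)
    rw [commutatorElement_def, show u * g * u⁻¹ * g⁻¹ = u * (g * u⁻¹ * g⁻¹) by group]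
    exact mul_mem hu (hU'n.conj_mem _ (inv_mem hu) g)
  · have hfac : IsChiefFactor (U' ⊓ V) (U' ⊓ V ⊓ V') := by
      refine ⟨lt_of_le_of_ne inf_le_left fun he => hV'U.ne ?_, inferInstance, inferInstance, fun N hN h1 h2 => ?_⟩
      · rw [← h, sup_eq_right.mpr (inf_eq_left.mp he)]
      haveI := hN
      rcases hU' (N ⊔ V') (Subgroup.sup_normal _ _) le_sup_right (sup_le (h2.trans inf_le_left) hV'U.le) with h' | h'
      · exact Or.inl (le_antisymm (le_inf h2 (le_sup_left.trans h'.le)) h1)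
      · refine Or.inr (le_antisymm h2 fun y hy => ?_)
        obtain ⟨n, hn, v, hv, rfl⟩ := Subgroup.mem_sup_of_normal_left.mp (h'.ge (inf_le_left (b := V) hy))
        have hvY : v ∈ U' ⊓ V ⊓ V' := Subgroup.mem_inf.mpr ⟨by simpa using mul_mem (inv_mem (h2 hn)) hy, hv⟩
        exact mul_mem hn (h1 hvY)
    obtain ⟨y, hy, v, hv, rfl⟩ := Subgroup.mem_sup_of_normal_left.mp (h.ge hu)
    rw [show ⁅y * v, g⁆ = y * (v * (g * v⁻¹ * g⁻¹)) * y⁻¹ * ⁅y, g⁆ by simp only [commutatorElement_def]; group]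
    exact mul_mem (hV'n.conj_mem _ (mul_mem hv (hV'n.conj_mem _ (inv_mem hv) g)) y)
      (Subgroup.mem_inf.mp (hgV _ _ hfac inf_le_right y hy)).2

/-- The subgroups of `A` on which a member acts quadratically. -/
def Sharp (A B : Subgroup G) : Prop :=
  ∀ X : Subgroup G, X ≤ A → B ≤ Subgroup.normalizer (X : Set G) → ⁅X, X⁆ ≤ Subgroup.centralizer (B : Set G) →
    ⁅⁅X, B⁆, B⁆ = ⊥

/-- The quadratic chief factor. -/
theorem exists_quadratic (S : Sylow p G) {A : Subgroup G} [hAn : A.Normal] (hAR : A ≤ pCore p G)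
    (hA2 : ⁅A, A⁆ ≤ Subgroup.centralizer (A : Set G))
    (hA4 : pCore p G ⊓ Subgroup.centralizer (A : Set G) ≤ A)
    (hc : Subgroup.centralizer ((pCore p G : Subgroup G) : Set G) ≤ pCore p G) {g : G} (hgR : g ∉ pCore p G)
    (hZ2 : ⁅⁅A ⊓ Subgroup.centralizer (A : Set G), Subgroup.zpowers g⁆, Subgroup.zpowers g⁆ = ⊥)
    (halt : ⁅⁅A, Subgroup.zpowers g⁆, Subgroup.zpowers g⁆ ≤ A ⊓ Subgroup.centralizer (A : Set G) ∨
      ∃ B : Subgroup G, g ∈ B ∧ ⁅A, B⁆ ≤ B ∧ ⁅B, B⁆ ≤ Subgroup.centralizer (B : Set G) ∧ Sharp A B) :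
    ∃ U V : Subgroup G, IsChiefFactor U V ∧ U ≤ A ∧ ⁅⁅U, Subgroup.zpowers g⁆, Subgroup.zpowers g⁆ ≤ V ∧
      ¬ ⁅U, Subgroup.zpowers g⁆ ≤ V := by
  classical
  haveI hRn : (pCore p G).Normal := Cfsg.pCore_normal p G
  obtain ⟨W, V, hch, hWA, hgV, hmoved⟩ := exists_moved hAR hA4 hc hgR
  obtain ⟨hVW, hWn, hVn, hmin⟩ := hch
  haveI := hWn
  haveI := hVn
  set Zg := Subgroup.zpowers g with hZg
  refine ⟨W, V, ⟨hVW, hWn, hVn, hmin⟩, hWA, ?_,
    fun h => hmoved fun w hw => h (Subgroup.commutator_mem_commutator hw (Subgroup.mem_zpowers g))⟩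
  set Z := A ⊓ Subgroup.centralizer (A : Set G) with hZ
  by_cases hWZ : W ⊓ Z ≤ V
  swap
  · have hW : (W ⊓ Z) ⊔ V = W := (hmin _ (Subgroup.sup_normal _ _) le_sup_right (sup_le inf_le_left hVW.le)).resolve_left
      fun h => hWZ (le_sup_left.trans h.le)
    rw [← hW]
    exact (CfsgLib.IterChief.iter_sup_le (X := W ⊓ Z) (V := V) (G0 := Zg) 2).trans
      (sup_le ((CfsgLib.IterChief.iter_mono (inf_le_right : W ⊓ Z ≤ Z) 2).trans (hZ2.le.trans bot_le)) le_rfl)
  rcases halt with h1 | ⟨B, hgB, hABB, hBc, hsharp⟩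
  · exact (le_inf (CfsgLib.IterChief.iter_le_left (CfsgLib.IterChief.normalizes_of_normal Zg W) 2)
      ((Subgroup.commutator_mono (Subgroup.commutator_mono hWA le_rfl) le_rfl).trans h1)).trans hWZ
  -- the kernel below `V` and its `p'`-part
  set K := kerBelow V with hKdef
  haveI hKn : K.Normal := kerBelow_normal V
  have hRp : IsPGroup p ↥(pCore p G) := CfsgLib.Core.isPGroup_pCore p
  have hWp : IsPGroup p ↥W := hRp.to_le (hWA.trans hAR)
  set N := Subgroup.closure {x : G | x ∈ K ∧ (orderOf x).Coprime p} with hNdef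
  have hNK : N ≤ K := (Subgroup.closure_le _).mpr fun x hx => hx.1
  haveI hNn : N.Normal := by
    rw [← Subgroup.normalizer_eq_top_iff, eq_top_iff]
    intro x _
    refine mem_normalizer_iff_cj.mpr (Subgroup.eq_of_le_of_card_ge ?_ (card_cj x _).ge)
    rw [cj, hNdef, MonoidHom.map_closure, Subgroup.closure_le]
    rintro _ ⟨y, hy, rfl⟩
    refine Subgroup.subset_closure ⟨hKn.conj_mem y hy.1 x, ?_⟩
    rw [orderOf_injective _ (MulAut.conj x).injective]
    exact hy.2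
  have hNC : N ≤ Subgroup.centralizer (V : Set G) := (Subgroup.closure_le _).mpr fun x hx v hv =>
    centralizes_below (p := p) _ V rfl hVn (hWp.to_le hVW.le) x hx.1 hx.2 v hv
  have hKN : ∀ x ∈ K, ∃ k : ℕ, x ^ p ^ k ∈ N := by
    intro x hx
    obtain ⟨a, b, ha, hb, hab, ⟨k, hk⟩, hbc⟩ := CfsgLib.ThompsonNPC.exists_mul_parts p x
    refine ⟨k, ?_⟩
    have hcm : Commute a b := by
      obtain ⟨i, rfl⟩ := Subgroup.mem_zpowers_iff.mp ha
      obtain ⟨j, rfl⟩ := Subgroup.mem_zpowers_iff.mp hb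
      exact zpow_mul_comm x i j
    rw [← hab, hcm.mul_pow, hk, one_mul]
    exact pow_mem (show b ∈ N from Subgroup.subset_closure ⟨Subgroup.zpowers_le.mpr hx hb, hbc⟩) _
  set W1 := ⁅W, N⁆ with hW1
  have hW1W : W1 ≤ W := Subgroup.commutator_le_left W N
  have hW1V : ¬ W1 ≤ V := by
    intro hle
    set π := QuotientGroup.mk' V
    have hπk : π.ker = V := QuotientGroup.ker_mk' V
    set S' := (S : Subgroup G).map π
    have hWS : W.map π ≤ S' := Subgroup.map_mono ((hWA.trans hAR).trans (CfsgLib.Core.pCore_le_sylow S))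
    haveI : (W.map π).Normal := hWn.map π (QuotientGroup.mk'_surjective V)
    have hWne : W.map π ≠ ⊥ := fun h => hVW.not_ge (by rwa [Subgroup.map_eq_bot_iff, hπk] at h)
    obtain ⟨⟨z, hzS⟩, hz, hz1, -, hzc⟩ := CfsgLib.ThompsonNPC.exists_central_of_normal (S.2.map π)
      ((W.map π).subgroupOf S') (fun h => hWne (by rw [← Subgroup.map_subgroupOf_eq_of_le hWS, h, Subgroup.map_bot]))
    -- `K` is generated by `N` and its trace on `S`
    have hKgen : K ≤ N ⊔ ((S : Subgroup G) ⊓ K) := by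
      set J := N ⊔ ((S : Subgroup G) ⊓ K)
      have hJK : J ≤ K := sup_le hNK inf_le_right
      have h2 : ¬ p ∣ J.relIndex K := fun hd => sylow_inf_normal (not_dvd_relIndex S le_top) le_top le_top
        (by rw [Subgroup.normalizer_eq_top]) (hd.trans (Subgroup.relIndex_dvd_of_le_left K le_sup_right))
      have h3 : ∃ j, J.relIndex K ∣ p ^ j := by
        haveI : (N.subgroupOf K).Normal := inferInstance
        have hq : IsPGroup p (↥K ⧸ N.subgroupOf K) := fun z => by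
          obtain ⟨⟨x, hx⟩, rfl⟩ := QuotientGroup.mk'_surjective _ z
          obtain ⟨k, hk⟩ := hKN x hx
          exact ⟨k, by rw [← map_pow]; exact (QuotientGroup.eq_one_iff _).mpr hk⟩
        obtain ⟨j, hj⟩ := IsPGroup.iff_card.mp hq
        exact ⟨j, hj ▸ Subgroup.index_dvd_of_le (Subgroup.comap_mono le_sup_left : N.subgroupOf K ≤ J.subgroupOf K)⟩
      obtain ⟨j, hj⟩ := h3
      exact Subgroup.relIndex_eq_one.mp (Nat.eq_one_of_dvd_coprimes
        ((hp.out.coprime_iff_not_dvd.mpr h2).symm.pow_right j) dvd_rfl hj)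
    set F := W.map π ⊓ Subgroup.centralizer ((K.map π : Subgroup (G ⧸ V)) : Set (G ⧸ V)) with hF
    haveI : (K.map π).Normal := hKn.map π (QuotientGroup.mk'_surjective V)
    have hzF : z ∈ F := by
      refine Subgroup.mem_inf.mpr ⟨hz, ?_⟩
      have : K.map π ≤ Subgroup.centralizer ({z} : Set (G ⧸ V)) := by
        refine (Subgroup.map_mono hKgen).trans ?_
        rw [Subgroup.map_sup]
        refine sup_le ?_ ?_
        · rintro _ ⟨n, hn, rfl⟩
          obtain ⟨w, hw, hwz⟩ := Subgroup.mem_subgroupOf.mp hz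
          refine Subgroup.mem_centralizer_singleton_iff.mpr ?_
          have h4 : π ⁅w, n⁆ = 1 := (QuotientGroup.eq_one_iff _).mpr (hle (Subgroup.commutator_mem_commutator hw hn))
          rw [map_commutatorElement, commutatorElement_eq_one_iff_mul_comm] at h4
          simp only [Subgroup.coe_mk] at hwz
          rw [← hwz]
          exact h4.symm
        · rintro _ ⟨s, hs, rfl⟩
          exact Subgroup.mem_centralizer_singleton_iff.mpr
            (congrArg Subtype.val (hzc ⟨π s, s, (Subgroup.mem_inf.mp hs).1, rfl⟩))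
      intro y hy
      exact Subgroup.mem_centralizer_singleton_iff.mp (this hy)
    haveI hFn : F.Normal := inferInstance
    have hFW : F.comap π ≤ W := by
      refine (Subgroup.comap_mono inf_le_left).trans ?_
      rw [Subgroup.comap_map_eq, hπk, sup_eq_left.mpr hVW.le]
    rcases hmin (F.comap π) (hFn.comap π) (hπk.symm.le.trans (Subgroup.ker_le_comap π F)) hFW with h | h
    · refine hz1 (Subtype.ext ?_)
      obtain ⟨x, rfl⟩ := QuotientGroup.mk'_surjective V z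
      exact (QuotientGroup.eq_one_iff x).mpr (h.le hzF)
    · refine hmoved fun w hw => (QuotientGroup.eq_one_iff _).mp ?_
      show π ⁅w, g⁆ = 1
      rw [map_commutatorElement, commutatorElement_eq_one_iff_mul_comm]
      exact ((Subgroup.mem_inf.mp (h.ge hw : π w ∈ F)).2 (π g) ⟨g, hgV, rfl⟩).symm
  haveI hW1n : W1.Normal := inferInstance
  have hW1sup : W1 ⊔ V = W := (hmin _ (Subgroup.sup_normal _ _) le_sup_right (sup_le hW1W hVW.le)).resolve_left
    fun h => hW1V (le_sup_left.trans h.le)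
  set V1 := W1 ⊓ V with hV1
  haveI hV1n : V1.Normal := inferInstance
  have hV1W1 : V1 < W1 := lt_of_le_of_ne inf_le_left fun he => hW1V (inf_eq_left.mp he)
  have hNV : ⁅V, N⁆ = ⊥ := Subgroup.commutator_eq_bot_iff_le_centralizer.mpr (Subgroup.le_centralizer_iff.mp hNC)
  have hVcomm : ⁅W1, V⁆ = ⊥ := by
    refine le_bot_iff.mp (three_subgroup (N := ⊥) ?_ ?_ ?_ ?_ ?_)
    iterate 3 rw [Subgroup.normalizer_eq_top]; exact le_top
    · rw [Subgroup.commutator_comm N V, hNV, Subgroup.commutator_bot_left]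
    · exact (Subgroup.commutator_mono (Subgroup.commutator_le_left V W) le_rfl).trans hNV.le
  have hirr1 : ∀ X : Subgroup G, X.Normal → V1 ≤ X → X ≤ W1 → X = V1 ∨ X = W1 := by
    intro X hX h1 h2
    haveI := hX
    rcases hmin (X ⊔ V) (Subgroup.sup_normal _ _) le_sup_right (sup_le (h2.trans hW1W) hVW.le) with h | h
    · exact Or.inl (le_antisymm (le_inf h2 (le_sup_left.trans h.le)) h1)
    · refine Or.inr (le_antisymm h2 ?_)
      refine (Subgroup.commutator_mono h.ge le_rfl).trans (commutator_sup_le ?_ ?_ (Subgroup.commutator_le_left X N)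
        (hNV.le.trans bot_le))
      · exact Subgroup.le_normalizer
      · rw [Subgroup.normalizer_eq_top]; exact le_top
  have hW1A : W1 ≤ A := hW1W.trans hWA
  have hV1c : ∀ v ∈ V1, ∀ a ∈ W1, a * v = v * a := fun v hv a ha => commutatorElement_eq_one_iff_mul_comm.mp
    (Subgroup.mem_bot.mp (hVcomm.le (Subgroup.commutator_mem_commutator ha (Subgroup.mem_inf.mp hv).2)))
  have hW1ab : ⁅W1, W1⁆ ≤ V1 := by
    haveI : (⁅W1, W1⁆ : Subgroup G).Normal := inferInstance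
    rcases hirr1 (⁅W1, W1⁆ ⊔ V1) (Subgroup.sup_normal _ _) le_sup_right
      (sup_le (Subgroup.commutator_le_left W1 W1) hV1W1.le) with h | h
    · exact le_sup_left.trans h.le
    · have h0 : ⁅W1, W1⁆ = ⊥ := le_bot_iff.mp ((Subgroup.commutator_mono h.ge le_rfl).trans
        (commutator_sup_le (by rw [Subgroup.normalizer_eq_top]; exact le_top) (by rw [Subgroup.normalizer_eq_top]; exact le_top)
          ((Subgroup.commutator_mono ((Subgroup.commutator_mono hW1A hW1A).trans hA2) hW1A).trans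
            (Subgroup.commutator_eq_bot_iff_le_centralizer.mpr le_rfl).le)
          (Subgroup.commutator_le.mpr fun v hv a ha => Subgroup.mem_bot.mpr
            (commutatorElement_eq_one_iff_mul_comm.mpr (hV1c v hv a ha).symm))))
      rw [h0]; exact bot_le
  -- the radical of the commutator modulo the centralizer of `B`
  set C := Subgroup.centralizer (B : Set G) with hC
  have hcA : ∀ a ∈ W1, ∀ a' ∈ W1, ∀ y ∈ A, y * ⁅a, a'⁆ * y⁻¹ = ⁅a, a'⁆ := fun a ha a' ha' y hy => by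
    rw [hA2 (Subgroup.commutator_mem_commutator (hW1A ha) (hW1A ha')) y hy, mul_inv_cancel_right]
  let Y : Subgroup G :=
    { carrier := {a | a ∈ W1 ∧ ∀ a' ∈ W1, ⁅a, a'⁆ ∈ C}
      one_mem' := ⟨one_mem W1, fun a' _ => by rw [commutatorElement_one_left]; exact one_mem C⟩
      mul_mem' := fun {x y} hx hy => ⟨mul_mem hx.1 hy.1, fun a' ha' => by
        rw [show ⁅x * y, a'⁆ = x * ⁅y, a'⁆ * x⁻¹ * ⁅x, a'⁆ by simp only [commutatorElement_def]; group,
          hcA y hy.1 a' ha' x (hW1A hx.1)]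
        exact mul_mem (hy.2 a' ha') (hx.2 a' ha')⟩
      inv_mem' := fun {x} hx => ⟨inv_mem hx.1, fun a' ha' => by
        rw [show ⁅x⁻¹, a'⁆ = x⁻¹ * ⁅x, a'⁆⁻¹ * x⁻¹⁻¹ by simp only [commutatorElement_def]; group,
          show x⁻¹ * ⁅x, a'⁆⁻¹ * x⁻¹⁻¹ = (x⁻¹ * ⁅x, a'⁆ * x⁻¹⁻¹)⁻¹ by group, hcA x hx.1 a' ha' x⁻¹ (inv_mem (hW1A hx.1))]
        exact inv_mem (hx.2 a' ha')⟩ }
  have hYmem : ∀ a, a ∈ Y ↔ a ∈ W1 ∧ ∀ a' ∈ W1, ⁅a, a'⁆ ∈ C := fun a => Iff.rfl
  have hYW1 : Y ≤ W1 := fun a ha => ((hYmem a).mp ha).1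
  have hV1Y : V1 ≤ Y := fun v hv => (hYmem v).mpr ⟨hV1W1.le hv, fun a ha => by
    rw [commutatorElement_eq_one_iff_mul_comm.mpr (hV1c v hv a ha).symm]; exact one_mem C⟩
  have hBBY : ⁅⁅W1, B⁆, B⁆ ≤ Y := by
    intro x hx
    have hxW : x ∈ W1 := ((Subgroup.commutator_mono (Subgroup.commutator_le_left W1 B) le_rfl).trans
      (Subgroup.commutator_le_left W1 B)) hx
    have hxC : x ∈ C := ((Subgroup.commutator_mono ((Subgroup.commutator_mono hW1A le_rfl).trans hABB) le_rfl).trans hBc) hx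
    refine (hYmem x).mpr ⟨hxW, fun a ha b hb => ?_⟩
    have h1 : ⁅b, a⁆ ∈ B := by
      rw [← commutatorElement_inv]
      exact inv_mem (hABB (Subgroup.commutator_mem_commutator (hW1A ha) hb))
    have hbaA : ⁅b, a⁆ ∈ A := by
      rw [commutatorElement_def]; exact mul_mem (hAn.conj_mem a (hW1A ha) b) (inv_mem (hW1A ha))
    have h2 : b * x * b⁻¹ = x := by rw [hxC b hb, mul_inv_cancel_right]
    have hba : b * a * b⁻¹ = ⁅b, a⁆ * a := by rw [commutatorElement_def]; group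
    have h4 : b * ⁅x, a⁆ * b⁻¹ = ⁅x, a⁆ := by
      calc b * ⁅x, a⁆ * b⁻¹ = ⁅b * x * b⁻¹, b * a * b⁻¹⁆ := by simp only [commutatorElement_def]; group
        _ = ⁅x, ⁅b, a⁆ * a⁆ := by rw [h2, hba]
        _ = ⁅x, ⁅b, a⁆⁆ * (⁅b, a⁆ * ⁅x, a⁆ * ⁅b, a⁆⁻¹) := by simp only [commutatorElement_def]; group
        _ = ⁅x, a⁆ := by
          rw [hcA x hxW a ha _ hbaA, commutatorElement_eq_one_iff_mul_comm.mpr (hxC _ h1).symm, one_mul]
    calc b * ⁅x, a⁆ = b * ⁅x, a⁆ * b⁻¹ * b := by group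
      _ = ⁅x, a⁆ * b := by rw [h4]
  have hYn : ∀ M : Subgroup G, (∀ k ∈ M, ∀ a ∈ W1, ∀ a' ∈ W1, ⁅a, a'⁆ ∈ C → k * ⁅a, a'⁆ * k⁻¹ = ⁅a, a'⁆) →
      M ≤ Subgroup.normalizer (Y : Set G) := by
    intro M hM
    suffices key : ∀ k ∈ M, ∀ a ∈ Y, k * a * k⁻¹ ∈ Y by
      intro k hk
      rw [Subgroup.mem_normalizer_iff]
      exact fun a => ⟨key k hk a, fun ha => by simpa [mul_assoc] using key k⁻¹ (inv_mem hk) _ ha⟩
    intro k hk a ha
    obtain ⟨haA, haC⟩ := (hYmem a).mp ha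
    refine (hYmem _).mpr ⟨hW1n.conj_mem a haA k, fun a' ha' => ?_⟩
    have ha'' : k⁻¹ * a' * k ∈ W1 := by simpa using hW1n.conj_mem a' ha' k⁻¹
    rw [show ⁅k * a * k⁻¹, a'⁆ = k * ⁅a, k⁻¹ * a' * k⁆ * k⁻¹ by simp only [commutatorElement_def]; group,
      hM k hk a haA _ ha'' (haC _ ha'')]
    exact haC _ ha''
  have hBY : B ≤ Subgroup.normalizer (Y : Set G) := hYn B fun b hb a ha a' ha' hcC => by
    rw [hcC b hb, mul_inv_cancel_right]
  have hNY : N ≤ Subgroup.normalizer (Y : Set G) := hYn N fun n hn a ha a' ha' _ => by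
    have h5 : ⁅a, a'⁆ * n = n * ⁅a, a'⁆ :=
      hNC hn _ (Subgroup.mem_inf.mp (hW1ab (Subgroup.commutator_mem_commutator ha ha'))).2
    rw [← h5, mul_inv_cancel_right]
  set H := N ⊔ Zg with hH
  have hgen : W1 ≤ ⨆ X ∈ members V1 W1 H, X :=
    sum_minimal (K := K) hKN le_sup_left (sup_le hNK (Subgroup.zpowers_le.mpr hgV)) hV1W1 hirr1
  have hHY : H ≤ Subgroup.normalizer (Y : Set G) := sup_le hNY ((Subgroup.zpowers_le.mpr hgB).trans hBY)
  obtain ⟨s, ⟨hs1, hs2⟩, hsmax⟩ := (Set.toFinite {s : Set (Subgroup G) | s ⊆ members V1 W1 H ∧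
    (V1 ⊔ ⨆ X ∈ s, X) ⊓ Y ≤ V1}).exists_maximal ⟨∅, Set.empty_subset _, by simp⟩
  set Q := V1 ⊔ ⨆ X ∈ s, X with hQ
  have hQW : Q ≤ W1 := sup_le hV1W1.le (iSup₂_le fun X hX => (hs1 hX).2.1)
  have hnW : ∀ X : Subgroup G, V1 ≤ X → X ≤ W1 → W1 ≤ Subgroup.normalizer (X : Set G) := fun X h1 h2 => by
    rw [Subgroup.le_normalizer_iff_commutator_le_left]
    exact (Subgroup.commutator_mono h2 le_rfl).trans (hW1ab.trans h1)
  have hsup : W1 ≤ Y ⊔ Q := by
    refine hgen.trans (iSup₂_le fun X hX => ?_)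
    by_contra hXn
    have hint : X ⊓ (Y ⊔ Q) = V1 := by
      refine ((hX.2.2.2 _ ?_ (le_inf hX.1.le (le_sup_left.trans le_sup_right)) inf_le_left).resolve_right ?_)
      · refine normalizer_inf_ge hX.2.2.1 (normalizer_sup_ge hHY (normalizer_sup_ge ?_ ?_))
        · rw [Subgroup.normalizer_eq_top]; exact le_top
        · intro h hh
          refine mem_normalizer_iff_cj.mpr ?_
          rw [cj, Subgroup.map_iSup]
          refine iSup_congr fun X' => ?_
          rw [Subgroup.map_iSup]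
          exact iSup_congr fun hX' => mem_normalizer_iff_cj.mp ((hs1 hX').2.2.1 hh)
      · exact fun h => hXn (inf_eq_left.mp h)
    have hins : insert X s ⊆ members V1 W1 H ∧ (V1 ⊔ ⨆ X' ∈ insert X s, X') ⊓ Y ≤ V1 := by
      refine ⟨Set.insert_subset hX hs1, ?_⟩
      rw [iSup_insert, ← sup_assoc, sup_comm V1 X, sup_assoc, ← hQ]
      intro y hy
      obtain ⟨hy1, hy2⟩ := Subgroup.mem_inf.mp hy
      rw [← SetLike.mem_coe, Subgroup.coe_mul_of_left_le_normalizer_right X Q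
        (hX.2.1.trans (hnW Q le_sup_left hQW))] at hy1
      obtain ⟨w, hw, q, hq, rfl⟩ := hy1
      have hwYQ : w ∈ V1 := by
        rw [← hint]
        refine Subgroup.mem_inf.mpr ⟨hw, ?_⟩
        have := mul_mem (Subgroup.mem_sup_left (T := Q) hy2) (inv_mem (Subgroup.mem_sup_right (S := Y) (SetLike.mem_coe.mp hq)))
        rwa [mul_inv_cancel_right] at this
      exact mul_mem hwYQ (hs2 (Subgroup.mem_inf.mpr ⟨hq, by
        have := mul_mem (inv_mem (hV1Y hwYQ)) hy2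
        rwa [inv_mul_cancel_left] at this⟩))
    have hins' := hsmax hins (Set.subset_insert X s) (Set.mem_insert X s)
    exact hXn (((le_iSup₂_of_le X hins' le_rfl : X ≤ ⨆ X' ∈ s, X').trans (le_sup_right : _ ≤ Q)).trans le_sup_right)
  -- commutation with powers of `g` is linear on `W1 / V1`
  set π := QuotientGroup.mk' V1
  have hcom : ∀ a ∈ W1, ∀ b ∈ W1, Commute (π a) (π b) := fun a ha b hb => by
    refine commutatorElement_eq_one_iff_mul_comm.mp ?_
    rw [← map_commutatorElement]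
    exact (QuotientGroup.eq_one_iff _).mpr (hW1ab (Subgroup.commutator_mem_commutator ha hb))
  have hmemW : ∀ a ∈ W1, ∀ y : G, ⁅a, y⁆ ∈ W1 := fun a ha y => by
    rw [commutatorElement_def, show a * y * a⁻¹ * y⁻¹ = a * (y * a⁻¹ * y⁻¹) by group]
    exact mul_mem ha (hW1n.conj_mem _ (inv_mem ha) y)
  have hlin : ∀ a ∈ W1, ∀ b ∈ W1, ∀ y : G, π ⁅a * b, y⁆ = π ⁅a, y⁆ * π ⁅b, y⁆ := fun a ha b hb y => by
    rw [show ⁅a * b, y⁆ = a * ⁅b, y⁆ * a⁻¹ * ⁅a, y⁆ by simp only [commutatorElement_def]; group]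
    simp only [map_mul, map_inv]
    rw [(hcom a ha _ (hmemW b hb y)).eq, mul_inv_cancel_right]
    exact (hcom _ (hmemW b hb y) _ (hmemW a ha y)).eq
  let D : Subgroup G :=
    { carrier := {a | a ∈ W1 ∧ ∀ i j : ℤ, π ⁅⁅a, g ^ i⁆, g ^ j⁆ = 1}
      one_mem' := ⟨one_mem W1, fun i j => by simp⟩
      mul_mem' := fun {a b} ha hb => ⟨mul_mem ha.1 hb.1, fun i j => by
        calc π ⁅⁅a * b, g ^ i⁆, g ^ j⁆ = ⁅π ⁅a * b, g ^ i⁆, π (g ^ j)⁆ := map_commutatorElement _ _ _
          _ = π ⁅⁅a, g ^ i⁆ * ⁅b, g ^ i⁆, g ^ j⁆ := by rw [map_commutatorElement π (⁅a, g ^ i⁆ * ⁅b, g ^ i⁆), hlin a ha.1 b hb.1, map_mul]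
          _ = 1 := by rw [hlin _ (hmemW a ha.1 _) _ (hmemW b hb.1 _), ha.2, hb.2, one_mul]⟩
      inv_mem' := fun {a} ha => ⟨inv_mem ha.1, fun i j => by
        have e : π ⁅a⁻¹, g ^ i⁆ = π ⁅a, g ^ i⁆⁻¹ := by
          rw [map_inv, eq_inv_iff_mul_eq_one, ← hlin _ (inv_mem ha.1) _ ha.1, inv_mul_cancel, commutatorElement_one_left, map_one]
        have h6 : π ⁅⁅a, g ^ i⁆⁻¹, g ^ j⁆ * π ⁅⁅a, g ^ i⁆, g ^ j⁆ = 1 := by
          rw [← hlin _ (inv_mem (hmemW a ha.1 _)) _ (hmemW a ha.1 _), inv_mul_cancel, commutatorElement_one_left, map_one]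
        rw [ha.2, mul_one] at h6
        rw [map_commutatorElement, e, ← map_commutatorElement, h6]⟩ }
  have hDmem : ∀ a, a ∈ D ↔ a ∈ W1 ∧ ∀ i j : ℤ, π ⁅⁅a, g ^ i⁆, g ^ j⁆ = 1 := fun a => Iff.rfl
  have hW1D : W1 ≤ D := by
    refine hsup.trans (sup_le (fun a ha => (hDmem a).mpr ⟨hYW1 ha, fun i j => ?_⟩) ?_)
    · have h7 : ⁅⁅a, g ^ i⁆, g ^ j⁆ ∈ ⁅⁅Y, B⁆, B⁆ := Subgroup.commutator_mem_commutator
        (Subgroup.commutator_mem_commutator ha (zpow_mem hgB i)) (zpow_mem hgB j)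
      rw [hsharp Y (hYW1.trans hW1A) hBY (Subgroup.commutator_le.mpr fun a ha a' ha' => ((hYmem a).mp ha).2 a' (hYW1 ha')),
        Subgroup.mem_bot] at h7
      rw [h7, map_one]
    · refine sup_le (fun v hv => (hDmem v).mpr ⟨hV1W1.le hv, fun i j => ?_⟩) (iSup₂_le fun X hX x hx => ?_)
      · refine (QuotientGroup.eq_one_iff _).mpr (Subgroup.commutator_le_left V1 Zg
          (Subgroup.commutator_mem_commutator (Subgroup.commutator_le_left V1 Zg
            (Subgroup.commutator_mem_commutator hv (zpow_mem (Subgroup.mem_zpowers g) i))) (zpow_mem (Subgroup.mem_zpowers g) j)))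
      · obtain ⟨hX1, hX2, hX3, -⟩ := hs1 hX
        refine (hDmem x).mpr ⟨hX2 hx, fun i j => (QuotientGroup.eq_one_iff _).mpr (hs2 (Subgroup.mem_inf.mpr ⟨?_, ?_⟩))⟩
        · have hXn : Zg ≤ Subgroup.normalizer (X : Set G) := le_sup_right.trans hX3
          exact ((le_iSup₂_of_le X hX le_rfl : X ≤ ⨆ X' ∈ s, X').trans le_sup_right)
            (CfsgLib.IterChief.iter_le_left hXn 2 (Subgroup.commutator_mem_commutator
              (Subgroup.commutator_mem_commutator hx (zpow_mem (Subgroup.mem_zpowers g) i)) (zpow_mem (Subgroup.mem_zpowers g) j)))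
        · exact hBBY (Subgroup.commutator_mem_commutator
            (Subgroup.commutator_mem_commutator (hX2 hx) (zpow_mem hgB i)) (zpow_mem hgB j))
  have hquad1 : ⁅⁅W1, Zg⁆, Zg⁆ ≤ V1 := by
    let E : Subgroup G :=
      { carrier := {c | c ∈ W1 ∧ ∀ j : ℤ, π ⁅c, g ^ j⁆ = 1}
        one_mem' := ⟨one_mem W1, fun j => by simp⟩
        mul_mem' := fun {a b} ha hb => ⟨mul_mem ha.1 hb.1, fun j => by rw [hlin a ha.1 b hb.1, ha.2, hb.2, one_mul]⟩
        inv_mem' := fun {a} ha => ⟨inv_mem ha.1, fun j => by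
          have h8 := hlin _ (inv_mem ha.1) _ ha.1 (g ^ j)
          rw [inv_mul_cancel, commutatorElement_one_left, map_one, ha.2, mul_one] at h8
          exact h8.symm⟩ }
    have hle : ⁅W1, Zg⁆ ≤ E := Subgroup.commutator_le.mpr fun a ha z hz => by
      obtain ⟨i, rfl⟩ := Subgroup.mem_zpowers_iff.mp hz
      exact ⟨hmemW a ha _, fun j => ((hDmem a).mp (hW1D ha)).2 i j⟩
    refine Subgroup.commutator_le.mpr fun c hc z hz => ?_
    obtain ⟨j, rfl⟩ := Subgroup.mem_zpowers_iff.mp hz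
    exact (QuotientGroup.eq_one_iff _).mp ((hle hc).2 j)
  rw [← hW1sup]
  exact (CfsgLib.IterChief.iter_sup_le (X := W1) (V := V) (G0 := Zg) 2).trans
    (sup_le (hquad1.trans inf_le_right) le_rfl)

end CfsgLib.ChiefKernel
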