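import Mathlib
import Cfsg.Agent.Lib.Chars.Induced
import Cfsg.Prelude.Def_OddOrderChar

/-! Virtual characters: integer coordinates, small norms. -/

set_option autoImplicit false

namespace CfsgLib.Virtual

open Cfsg CfsgLib.Chars
open scoped ComplexConjugate

universe u

variable {G : Type u} [Group G] [Fintype G]

theorem ci_add_left (φ φ' ψ : G → ℂ) : classInner (φ + φ') ψ = classInner φ ψ + classInner φ' ψ := by
  simp [classInner, add_mul, Finset.sum_add_distrib, mul_add]

theorem ci_sub_left (φ φ' ψ : G → ℂ) : classInner (φ - φ') ψ = classInner φ ψ - classInner φ' ψ := by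
  simp [classInner, sub_mul, Finset.sum_sub_distrib, mul_sub]

theorem ci_smul_left (c : ℂ) (φ ψ : G → ℂ) : classInner (c • φ) ψ = c * classInner φ ψ := by
  simp [classInner, Finset.mul_sum, mul_assoc, mul_left_comm]

theorem ci_neg_left (φ ψ : G → ℂ) : classInner (-φ) ψ = -classInner φ ψ := by simp [classInner]

theorem ci_zero_left (ψ : G → ℂ) : classInner (0 : G → ℂ) ψ = 0 := by simp [classInner]

theorem ci_sum_left {ι : Type*} (s : Finset ι) (F : ι → G → ℂ) (ψ : G → ℂ) :
    classInner (∑ i ∈ s, F i) ψ = ∑ i ∈ s, classInner (F i) ψ := by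
  induction s using Finset.cons_induction with
  | empty => simp [classInner]
  | cons a s ha ih => rw [Finset.sum_cons, Finset.sum_cons, ci_add_left, ih]

theorem ci_zsmul_left (n : ℤ) (φ ψ : G → ℂ) : classInner (n • φ) ψ = (n : ℂ) * classInner φ ψ := by
  rw [← ci_smul_left, Int.cast_smul_eq_zsmul]

theorem ci_add_right (φ ψ ψ' : G → ℂ) : classInner φ (ψ + ψ') = classInner φ ψ + classInner φ ψ' := by
  simp [classInner, mul_add, Finset.sum_add_distrib]

theorem ci_sub_right (φ ψ ψ' : G → ℂ) : classInner φ (ψ - ψ') = classInner φ ψ - classInner φ ψ' := by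
  simp [classInner, mul_sub, Finset.sum_sub_distrib]

theorem ci_smul_right (c : ℂ) (φ ψ : G → ℂ) : classInner φ (c • ψ) = conj c * classInner φ ψ := by
  simp [classInner, Finset.mul_sum, mul_assoc, mul_left_comm]

theorem ci_neg_right (φ ψ : G → ℂ) : classInner φ (-ψ) = -classInner φ ψ := by simp [classInner]

theorem ci_zero_right (φ : G → ℂ) : classInner φ (0 : G → ℂ) = 0 := by simp [classInner]

theorem ci_sum_right {ι : Type*} (s : Finset ι) (φ : G → ℂ) (F : ι → G → ℂ) :
    classInner φ (∑ i ∈ s, F i) = ∑ i ∈ s, classInner φ (F i) := by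
  induction s using Finset.cons_induction with
  | empty => simp [classInner]
  | cons a s ha ih => rw [Finset.sum_cons, Finset.sum_cons, ci_add_right, ih]

theorem ci_zsmul_right (n : ℤ) (φ ψ : G → ℂ) : classInner φ (n • ψ) = (n : ℂ) * classInner φ ψ := by
  rw [← Int.cast_smul_eq_zsmul ℂ, ci_smul_right, map_intCast]

theorem eq_zero_of_inner_self {f : G → ℂ} (h : classInner f f = 0) : f = 0 := by
  have h1 : ((∑ g : G, Complex.normSq (f g) : ℝ) : ℂ) = 0 := by
    rw [classInner, mul_eq_zero] at h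
    rw [Complex.ofReal_sum, ← h.resolve_left (inv_ne_zero (natCast_card_ne_zero G))]
    exact Finset.sum_congr rfl fun g _ => (Complex.mul_conj (f g)).symm
  funext g
  exact Complex.normSq_eq_zero.1 ((Finset.sum_eq_zero_iff_of_nonneg fun g _ => Complex.normSq_nonneg (f g)).1
    (Complex.ofReal_eq_zero.1 h1) g (Finset.mem_univ g))

theorem genChar_add {φ ψ : G → ℂ} (h : IsGeneralizedCharacter G φ) (h' : IsGeneralizedCharacter G ψ) :
    IsGeneralizedCharacter G (φ + ψ) := by
  obtain ⟨a, b, ha, hb, rfl⟩ := h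
  obtain ⟨c, d, hc, hd, rfl⟩ := h'
  exact ⟨a + c, b + d, IsCharacter.add ha hc, IsCharacter.add hb hd, by abel⟩

theorem genChar_neg {φ : G → ℂ} (h : IsGeneralizedCharacter G φ) : IsGeneralizedCharacter G (-φ) := by
  obtain ⟨a, b, ha, hb, rfl⟩ := h
  exact ⟨b, a, hb, ha, by abel⟩

theorem genChar_of_char {φ : G → ℂ} (h : IsCharacter G φ) : IsGeneralizedCharacter G φ :=
  ⟨φ, 0, h, isCharacter_zero, by simp⟩

theorem genChar_zero : IsGeneralizedCharacter G (0 : G → ℂ) := genChar_of_char isCharacter_zero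

theorem genChar_sub {φ ψ : G → ℂ} (h : IsGeneralizedCharacter G φ) (h' : IsGeneralizedCharacter G ψ) :
    IsGeneralizedCharacter G (φ - ψ) := sub_eq_add_neg φ ψ ▸ genChar_add h (genChar_neg h')

theorem genChar_zsmul {φ : G → ℂ} (h : IsGeneralizedCharacter G φ) (n : ℤ) : IsGeneralizedCharacter G (n • φ) := by
  induction n using Int.induction_on with
  | zero => rw [zero_smul]; exact genChar_zero
  | succ k ih => rw [add_smul, one_smul]; exact genChar_add ih h
  | pred k ih => rw [sub_smul, one_smul]; exact genChar_sub ih h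

theorem genChar_sum {ι : Type*} (s : Finset ι) (F : ι → G → ℂ) (h : ∀ i ∈ s, IsGeneralizedCharacter G (F i)) :
    IsGeneralizedCharacter G (∑ i ∈ s, F i) := by
  induction s using Finset.cons_induction with
  | empty => exact genChar_zero
  | cons a s ha ih =>
    rw [Finset.sum_cons]
    exact genChar_add (h a (Finset.mem_cons_self a s)) (ih fun i hi => h i (Finset.mem_cons_of_mem hi))

omit [Fintype G] in
theorem genChar_classFun {φ : G → ℂ} (h : IsGeneralizedCharacter G φ) : IsClassFunction G φ := by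
  obtain ⟨a, b, ha, hb, rfl⟩ := h
  exact fun x y => by simp only [Pi.sub_apply, IsCharacter.isClassFunction ha x y, IsCharacter.isClassFunction hb x y]

omit [Fintype G] in
theorem genChar_one_real {φ : G → ℂ} (h : IsGeneralizedCharacter G φ) : conj (φ 1) = φ 1 := by
  obtain ⟨a, b, ⟨n, ρ, rfl⟩, ⟨m, σ, rfl⟩, rfl⟩ := h
  simp [Representation.char_one]

/-- The integer coordinates of a virtual character. -/
theorem exists_coord {φ : G → ℂ} (h : IsGeneralizedCharacter G φ) :
    ∃ z : IrrCharacter G → ℤ, (∀ χ : IrrCharacter G, classInner φ (χ : G → ℂ) = (z χ : ℂ)) ∧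
      φ = ∑ χ : IrrCharacter G, (z χ : ℂ) • (χ : G → ℂ) := by
  obtain ⟨α, β, hα, hβ, rfl⟩ := h
  choose m hm using exists_mult hα
  choose k hk using exists_mult hβ
  have hz : ∀ χ : IrrCharacter G, classInner (α - β) (χ : G → ℂ) = (((m χ : ℤ) - (k χ : ℤ) : ℤ) : ℂ) := fun χ => by
    rw [ci_sub_left, hm, hk]; push_cast; rfl
  refine ⟨fun χ => (m χ : ℤ) - (k χ : ℤ), hz, funext fun x => ?_⟩
  rw [classFunction_expand (genChar_classFun ⟨α, β, hα, hβ, rfl⟩) x]
  simp [hz]

theorem inner_eq_sum_coord {φ ψ : G → ℂ} {z w : IrrCharacter G → ℤ}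
    (hz : φ = ∑ χ : IrrCharacter G, (z χ : ℂ) • (χ : G → ℂ))
    (hw : ψ = ∑ χ : IrrCharacter G, (w χ : ℂ) • (χ : G → ℂ)) :
    classInner φ ψ = ((∑ χ : IrrCharacter G, z χ * w χ : ℤ) : ℂ) := by
  classical
  subst hz hw
  rw [ci_sum_left]
  push_cast
  refine Finset.sum_congr rfl fun χ _ => ?_
  rw [ci_smul_left, ci_sum_right, Finset.sum_eq_single χ]
  · rw [ci_smul_right, classInner_irr, if_pos rfl, map_intCast, mul_one]
  · intro b _ hb
    rw [ci_smul_right, classInner_irr, if_neg (Ne.symm hb), mul_zero]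
  · simp

theorem int_inner {φ ψ : G → ℂ} (h : IsGeneralizedCharacter G φ) (h' : IsGeneralizedCharacter G ψ) :
    ∃ n : ℤ, classInner φ ψ = (n : ℂ) := by
  obtain ⟨z, -, hz⟩ := exists_coord h
  obtain ⟨w, -, hw⟩ := exists_coord h'
  exact ⟨_, inner_eq_sum_coord hz hw⟩

theorem int_norm {φ : G → ℂ} (h : IsGeneralizedCharacter G φ) :
    ∃ n : ℕ, classInner φ φ = (n : ℂ) ∧ (n = 0 → φ = 0) := by
  obtain ⟨z, -, hz⟩ := exists_coord h
  have h0 : 0 ≤ ∑ χ : IrrCharacter G, z χ * z χ := Finset.sum_nonneg fun i _ => mul_self_nonneg _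
  have e : classInner φ φ = (((∑ χ : IrrCharacter G, z χ * z χ).toNat : ℕ) : ℂ) := by
    rw [inner_eq_sum_coord hz hz, ← Int.cast_natCast, Int.toNat_of_nonneg h0]
  exact ⟨_, e, fun hn => eq_zero_of_inner_self (by rw [e, hn, Nat.cast_zero])⟩

/-- Norm one. -/
theorem exists_single {φ : G → ℂ} (h : IsGeneralizedCharacter G φ) (hn : classInner φ φ = 1) :
    ∃ (ε : ℂ) (μ : IrrCharacter G), (ε = 1 ∨ ε = -1) ∧ φ = ε • (μ : G → ℂ) := by
  classical
  obtain ⟨z, -, hz⟩ := exists_coord h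
  have hs : ∑ χ : IrrCharacter G, z χ * z χ = 1 := by
    have := inner_eq_sum_coord hz hz
    rw [hn] at this
    exact_mod_cast this.symm
  obtain ⟨μ, hμ⟩ : ∃ μ, z μ ≠ 0 := by
    by_contra hno
    push Not at hno
    simp [hno] at hs
  have hone : z μ * z μ = 1 ∧ ∀ χ, χ ≠ μ → z χ = 0 := by
    rw [← Finset.add_sum_erase _ _ (Finset.mem_univ μ)] at hs
    have h1 : 1 ≤ z μ * z μ := by nlinarith [mul_self_pos.2 hμ]
    have h2 : 0 ≤ ∑ χ ∈ Finset.univ.erase μ, z χ * z χ := Finset.sum_nonneg fun i _ => mul_self_nonneg _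
    exact ⟨by omega, fun χ hχ => mul_self_eq_zero.1 ((Finset.sum_eq_zero_iff_of_nonneg fun i _ => mul_self_nonneg _).1
      (by omega) χ (Finset.mem_erase.2 ⟨hχ, Finset.mem_univ _⟩))⟩
  refine ⟨(z μ : ℂ), μ, ?_, ?_⟩
  · rcases mul_self_eq_one_iff.1 hone.1 with h1 | h1 <;> simp [h1]
  · rw [hz, Finset.sum_eq_single μ]
    · intro χ _ hχ; simp [hone.2 χ hχ]
    · simp

/-- Norm two, degree zero. -/
theorem exists_pair {φ : G → ℂ} (h : IsGeneralizedCharacter G φ) (hn : classInner φ φ = 2) (h1 : φ 1 = 0) :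
    ∃ a b : IrrCharacter G, a ≠ b ∧ φ = (a : G → ℂ) - (b : G → ℂ) := by
  classical
  obtain ⟨z, -, hz⟩ := exists_coord h
  have hs : ∑ χ : IrrCharacter G, z χ * z χ = 2 := by
    have := inner_eq_sum_coord hz hz
    rw [hn] at this
    exact_mod_cast this.symm
  have hne : ∀ χ, z χ * z χ ≠ 2 := fun χ e => by
    have : -2 ≤ z χ ∧ z χ ≤ 2 := ⟨by nlinarith, by nlinarith⟩
    obtain ⟨l, r⟩ := this
    interval_cases z χ <;> simp at e
  obtain ⟨c, hc⟩ : ∃ c, z c ≠ 0 := by
    by_contra hno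
    push Not at hno
    simp [hno] at hs
  obtain ⟨d, hdc, hd⟩ : ∃ d, d ≠ c ∧ z d ≠ 0 := by
    by_contra hno
    push Not at hno
    rw [← Finset.add_sum_erase _ _ (Finset.mem_univ c), Finset.sum_eq_zero (fun χ hχ => by rw [hno χ (Finset.mem_erase.1 hχ).1, zero_mul]), add_zero] at hs
    exact hne c hs
  have hrest : z c * z c = 1 ∧ z d * z d = 1 ∧ ∀ χ, χ ≠ c → χ ≠ d → z χ = 0 := by
    rw [← Finset.add_sum_erase _ _ (Finset.mem_univ c), ← Finset.add_sum_erase _ _ (Finset.mem_erase.2 ⟨hdc, Finset.mem_univ d⟩)] at hs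
    have h3 := mul_self_pos.2 hc
    have h4 := mul_self_pos.2 hd
    have h2 : 0 ≤ ∑ χ ∈ (Finset.univ.erase c).erase d, z χ * z χ := Finset.sum_nonneg fun i _ => mul_self_nonneg _
    exact ⟨by omega, by omega, fun χ hχ hχ' => mul_self_eq_zero.1 ((Finset.sum_eq_zero_iff_of_nonneg fun i _ => mul_self_nonneg _).1
      (by omega) χ (Finset.mem_erase.2 ⟨hχ', Finset.mem_erase.2 ⟨hχ, Finset.mem_univ _⟩⟩))⟩
  obtain ⟨hc1, hd1, hrest⟩ := hrest
  have hfun : φ = (z c : ℂ) • (c : G → ℂ) + (z d : ℂ) • (d : G → ℂ) := by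
    rw [hz, Finset.sum_eq_add c d hdc.symm]
    · intro χ _ hχ; simp [hrest χ hχ.1 hχ.2]
    · simp
    · simp
  have h1' : z c * (charDegree (c : G → ℂ) : ℤ) + z d * (charDegree (d : G → ℂ) : ℤ) = 0 := by
    have := congrFun hfun 1
    rw [h1] at this
    simp only [Pi.add_apply, Pi.smul_apply, smul_eq_mul, irr_apply_one] at this
    exact_mod_cast this.symm
  have hcp := charDegree_pos c
  have hdp := charDegree_pos d
  rcases mul_self_eq_one_iff.1 hc1 with hc2 | hc2 <;> rcases mul_self_eq_one_iff.1 hd1 with hd2 | hd2 <;> rw [hc2, hd2] at h1'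
  · omega
  · exact ⟨c, d, hdc.symm, by rw [hfun, hc2, hd2]; simp [sub_eq_add_neg]⟩
  · exact ⟨d, c, hdc, by rw [hfun, hc2, hd2]; simp [sub_eq_add_neg, add_comm]⟩
  · omega

omit [Fintype G] in
theorem irr_ne_neg (a b : IrrCharacter G) : (a : G → ℂ) ≠ -(b : G → ℂ) := by
  intro h
  have h1 := congrFun h 1
  simp only [Pi.neg_apply, irr_apply_one] at h1
  have ha := charDegree_pos a
  have h2 : ((charDegree (a : G → ℂ) + charDegree (b : G → ℂ) : ℕ) : ℂ) = 0 := by push_cast; linear_combination h1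
  have := Nat.cast_eq_zero.1 h2
  omega

theorem inner_conjFun (φ ψ : G → ℂ) : classInner (conjFun φ) (conjFun ψ) = conj (classInner φ ψ) := by
  simp [classInner, conjFun, map_sum]

end CfsgLib.Virtual
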