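import Mathlib
import Cfsg.Agent.Lib.Virtual
import Cfsg.Prelude.Def_OddOrderChar

/-! Integer spans and linear isometries on them. -/

set_option autoImplicit false

namespace CfsgLib.Coherence

open Cfsg CfsgLib.Chars CfsgLib.Virtual

universe u v

variable {X : Type u}

theorem mem_zspan {S : Set (X → ℂ)} {φ : X → ℂ} (h : φ ∈ S) : φ ∈ zspan S := Submodule.subset_span h

theorem zspan_zero (S : Set (X → ℂ)) : (0 : X → ℂ) ∈ zspan S := Submodule.zero_mem _

theorem zspan_add {S : Set (X → ℂ)} {a b : X → ℂ} (ha : a ∈ zspan S) (hb : b ∈ zspan S) : a + b ∈ zspan S :=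
  Submodule.add_mem _ ha hb

theorem zspan_sub {S : Set (X → ℂ)} {a b : X → ℂ} (ha : a ∈ zspan S) (hb : b ∈ zspan S) : a - b ∈ zspan S :=
  Submodule.sub_mem _ ha hb

theorem zspan_neg {S : Set (X → ℂ)} {a : X → ℂ} (ha : a ∈ zspan S) : -a ∈ zspan S :=
  Submodule.neg_mem _ ha

theorem zspan_zsmul {S : Set (X → ℂ)} {a : X → ℂ} (n : ℤ) (ha : a ∈ zspan S) : n • a ∈ zspan S :=
  Submodule.smul_mem _ n ha

theorem zspan_mono {S T : Set (X → ℂ)} (h : S ⊆ T) : zspan S ⊆ zspan T := Submodule.span_mono h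

theorem zspan_sum {S : Set (X → ℂ)} {ι : Type*} (s : Finset ι) (F : ι → X → ℂ) (h : ∀ i ∈ s, F i ∈ zspan S) :
    (∑ i ∈ s, F i) ∈ zspan S := Submodule.sum_mem _ h

theorem mem_zspanOn_one [One X] {S : Set (X → ℂ)} {α : X → ℂ} :
    α ∈ zspanOn S {1}ᶜ ↔ α ∈ zspan S ∧ α 1 = 0 := by
  simp [zspanOn]

/-- Membership criterion by induction. -/
theorem zspan_induction {S : Set (X → ℂ)} {p : (X → ℂ) → Prop} (h : ∀ x ∈ S, p x) (h0 : p 0)
    (hadd : ∀ x y, x ∈ zspan S → y ∈ zspan S → p x → p y → p (x + y))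
    (hsm : ∀ (n : ℤ) x, x ∈ zspan S → p x → p (n • x)) {a : X → ℂ} (ha : a ∈ zspan S) : p a :=
  Submodule.span_induction (p := fun x _ => p x) h h0 hadd hsm ha

variable {L : Type u} [Group L] [Fintype L] {G : Type v} [Group G] [Fintype G]
  {E : Set (L → ℂ)} {τ : (L → ℂ) → (G → ℂ)}

theorem iso_zero (h : IsLinearIsometryOn E τ) (h0 : (0 : L → ℂ) ∈ E) : τ 0 = 0 := by
  have := h.2.1 0 h0 0
  simpa using this

theorem iso_neg (h : IsLinearIsometryOn E τ) {a : L → ℂ} (ha : a ∈ E) : τ (-a) = -τ a := by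
  have := h.2.1 a ha (-1)
  simpa using this

theorem iso_sub (h : IsLinearIsometryOn E τ) {a b : L → ℂ} (ha : a ∈ E) (hb : -b ∈ E) (hb' : b ∈ E) :
    τ (a - b) = τ a - τ b := by
  rw [sub_eq_add_neg, h.1 a ha (-b) hb, iso_neg h hb', sub_eq_add_neg]

theorem iso_smul (h : IsLinearIsometryOn E τ) {a : L → ℂ} (ha : a ∈ E) (n : ℤ) :
    τ ((n : ℂ) • a) = (n : ℂ) • τ a := by
  rw [Int.cast_smul_eq_zsmul, Int.cast_smul_eq_zsmul]
  exact h.2.1 a ha n

theorem conjFun_one_real {χ : L → ℂ} (h : IsCharacter L χ) : conjFun χ 1 = χ 1 :=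
  genChar_one_real (genChar_of_char h)

theorem irr_char {χ : L → ℂ} (h : IsIrrCharacter L χ) : IsCharacter L χ := IsIrrCharacter.isCharacter h

theorem inner_irr_ne {χ ψ : L → ℂ} (h : IsIrrCharacter L χ) (h' : IsIrrCharacter L ψ) (hne : χ ≠ ψ) :
    classInner χ ψ = 0 := by
  classical
  have := classInner_irr (⟨χ, h⟩ : IrrCharacter L) ⟨ψ, h'⟩
  rwa [if_neg (fun e => hne (congrArg Subtype.val e))] at this

theorem inner_irr_self {χ : L → ℂ} (h : IsIrrCharacter L χ) : classInner χ χ = 1 := by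
  classical
  have := classInner_irr (⟨χ, h⟩ : IrrCharacter L) ⟨χ, h⟩
  rwa [if_pos rfl] at this

/-- Two maps that are `ℤ`-linear on an integer span and agree on the generators agree on it. -/
theorem iso_ext {S : Set (L → ℂ)} {τ τ' : (L → ℂ) → (G → ℂ)} (h : IsLinearIsometryOn (zspan S) τ)
    (h' : IsLinearIsometryOn (zspan S) τ') (he : ∀ x ∈ S, τ x = τ' x) {a : L → ℂ} (ha : a ∈ zspan S) :
    τ a = τ' a := by
  refine zspan_induction (p := fun a => τ a = τ' a) he ?_ ?_ ?_ ha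
  · rw [iso_zero h (zspan_zero S), iso_zero h' (zspan_zero S)]
  · intro x y hx hy ex ey
    rw [h.1 x hx y hy, h'.1 x hx y hy, ex, ey]
  · intro n x hx ex
    rw [h.2.1 x hx n, h'.2.1 x hx n, ex]

/-- Extension of an orthogonal family of images to a linear isometry on the integer span. -/
theorem exists_extension (T : Finset (L → ℂ)) (hT : ∀ x ∈ T, ∀ y ∈ T, x ≠ y → classInner x y = 0)
    (hn : ∀ x ∈ T, classInner x x ≠ 0) (e : (L → ℂ) → (G → ℂ)) (hv : ∀ x ∈ T, IsGeneralizedCharacter G (e x))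
    (he : ∀ x ∈ T, ∀ y ∈ T, classInner (e x) (e y) = classInner x y) :
    ∃ τ' : (L → ℂ) → (G → ℂ), IsLinearIsometryOn (zspan (↑T : Set (L → ℂ))) τ' ∧ ∀ x ∈ T, τ' x = e x := by
  classical
  set τ' : (L → ℂ) → (G → ℂ) := fun α => ∑ x ∈ T, (classInner α x / classInner x x) • e x with hτ'
  have hadd : ∀ a b, τ' (a + b) = τ' a + τ' b := fun a b => by
    simp only [hτ', ci_add_left, add_div, add_smul, Finset.sum_add_distrib]
  have hsm : ∀ (n : ℤ) a, τ' (n • a) = n • τ' a := fun n a => by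
    simp only [hτ', ci_zsmul_left, mul_div_assoc, Finset.smul_sum, mul_smul, Int.cast_smul_eq_zsmul]
  have hx : ∀ x ∈ T, τ' x = e x := fun x hx => by
    simp only [hτ']
    rw [Finset.sum_eq_single x (fun y hy hyx => by rw [hT x hx y hy (Ne.symm hyx), zero_div, zero_smul])
      (fun h => absurd hx h), div_self (hn x hx), one_smul]
  have h0 : τ' 0 = 0 := by simp [hτ', ci_zero_left]
  refine ⟨τ', ⟨fun a _ b _ => hadd a b, fun a _ n => hsm n a, fun a ha b hb => ?_, fun a ha => ?_⟩, hx⟩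
  · refine zspan_induction (p := fun a => classInner (τ' a) (τ' b) = classInner a b) ?_ ?_ ?_ ?_ ha
    · intro x hxT
      refine zspan_induction (p := fun b => classInner (τ' x) (τ' b) = classInner x b) ?_ ?_ ?_ ?_ hb
      · intro y hy
        rw [hx x hxT, hx y hy, he x hxT y hy]
      · rw [h0, ci_zero_right, ci_zero_right]
      · intro u v _ _ hu hv
        rw [hadd, ci_add_right, ci_add_right, hu, hv]
      · intro n u _ hu
        rw [hsm, ci_zsmul_right, ci_zsmul_right, hu]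
    · rw [h0, ci_zero_left, ci_zero_left]
    · intro u v _ _ hu hv
      rw [hadd, ci_add_left, ci_add_left, hu, hv]
    · intro n u _ hu
      rw [hsm, ci_zsmul_left, ci_zsmul_left, hu]
  · refine zspan_induction (p := fun a => IsGeneralizedCharacter G (τ' a)) ?_ ?_ ?_ ?_ ha
    · intro x hxT
      rw [hx x hxT]; exact hv x hxT
    · rw [h0]; exact genChar_zero
    · intro u v _ _ hu hv'
      rw [hadd]; exact genChar_add hu hv'
    · intro n u _ hu
      rw [hsm]; exact genChar_zsmul hu n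

end CfsgLib.Coherence
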