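import Mathlib.GroupTheory.Commutator.Basic
import Mathlib.GroupTheory.Index
import Mathlib.GroupTheory.GroupAction.Quotient
import Mathlib.Algebra.BigOperators.GroupWithZero.Finset
import Cfsg.Agent.Lib.LocalBasic

/-! Averaging over cosets of a subgroup of index prime to p (owner helper5). -/

set_option autoImplicit false

namespace CfsgLib.CoprimeAvg

open scoped commutatorElement IsMulCommutative

variable {H : Type*} [Group H] [Finite H] {p : ℕ} [Fact p.Prime]

theorem avg_fixed {T L Z W : Subgroup H} (hTL : T ≤ L) (hind : (T.relIndex L).Coprime p) (hWZ : W ≤ Z)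
    (hZab : IsMulCommutative ↥Z) (hZp : ∀ a ∈ Z, a ^ p = 1) (hLZ : L ≤ Subgroup.normalizer (Z : Set H))
    (hLW : ⁅Z, L⁆ ≤ W) {z : H} (hz : z ∈ Z) (hzT : ∀ t ∈ T, t * z = z * t) :
    ∃ a ∈ Z, (∀ l ∈ L, l * a = a * l) ∧ ∃ w ∈ W, z = a * w := by
  classical
  haveI := Fintype.ofFinite (↥L ⧸ T.subgroupOf L)
  have hconj : ∀ l ∈ L, ∀ u ∈ Z, l * u * l⁻¹ ∈ Z := fun l hl u hu =>
    (Subgroup.mem_normalizer_iff.mp (hLZ hl) u).mp hu
  let φ : ↥L ⧸ T.subgroupOf L → ↥Z := fun q => Quotient.liftOn' q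
    (fun l => (⟨(l : H) * z * (l : H)⁻¹, hconj l l.2 z hz⟩ : ↥Z))
    (fun a b hab => by
      rw [QuotientGroup.leftRel_apply, Subgroup.mem_subgroupOf] at hab
      apply Subtype.ext
      have h1 := hzT _ hab
      simp only [Subgroup.coe_mul, Subgroup.coe_inv] at h1
      show (a : H) * z * (a : H)⁻¹ = (b : H) * z * (b : H)⁻¹
      calc (a : H) * z * (a : H)⁻¹ = (a : H) * (z * ((a : H)⁻¹ * (b : H))) * (b : H)⁻¹ := by group
        _ = (a : H) * ((a : H)⁻¹ * (b : H) * z) * (b : H)⁻¹ := by rw [h1]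
        _ = (b : H) * z * (b : H)⁻¹ := by group)
  have hφ : ∀ l : ↥L, (φ (QuotientGroup.mk l) : H) = (l : H) * z * (l : H)⁻¹ := fun l => rfl
  set P := ∏ q, φ q with hP
  have hPfix : ∀ l : ↥L, (l : H) * (P : H) * (l : H)⁻¹ = P := by
    intro l
    let c : ↥Z →* ↥Z :=
      { toFun := fun u => ⟨(l : H) * u * (l : H)⁻¹, hconj l l.2 u u.2⟩
        map_one' := by simp
        map_mul' := fun u v => Subtype.ext (by simp [mul_assoc]) }
    have h1 : c P = P := by
      rw [hP, map_prod]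
      conv_rhs => rw [← Equiv.prod_comp (MulAction.toPerm l) φ]
      refine Finset.prod_congr rfl fun q _ => ?_
      induction q using QuotientGroup.induction_on with
      | H a =>
        apply Subtype.ext
        show (l : H) * ((a : H) * z * (a : H)⁻¹) * (l : H)⁻¹ = (φ (l • (QuotientGroup.mk a : ↥L ⧸ T.subgroupOf L)) : H)
        rw [MulAction.Quotient.smul_mk, hφ]
        simp [mul_assoc]
    exact congrArg Subtype.val h1
  set n := Fintype.card (↥L ⧸ T.subgroupOf L) with hn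
  have hPW : ((⟨z, hz⟩ : ↥Z) ^ n)⁻¹ * P ∈ W.subgroupOf Z := by
    rw [hP, hn, ← Finset.card_univ, ← Finset.prod_const, ← Finset.prod_inv_distrib, ← Finset.prod_mul_distrib]
    refine Subgroup.prod_mem _ fun q _ => ?_
    induction q using QuotientGroup.induction_on with
    | H a =>
      rw [Subgroup.mem_subgroupOf]
      show z⁻¹ * (φ (QuotientGroup.mk a) : H) ∈ W
      rw [hφ]
      have := hLW (Subgroup.commutator_mem_commutator (Z.inv_mem hz) a.2)
      rw [commutatorElement_def, inv_inv] at this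
      simpa [mul_assoc] using this
  obtain ⟨m, hm⟩ := exists_pow_eq_self_of_coprime (x := (⟨z, hz⟩ : ↥Z)) (n := n) (by
    refine Nat.Coprime.coprime_dvd_right (orderOf_dvd_of_pow_eq_one (Subtype.ext (hZp z hz))) ?_
    rwa [hn, ← Nat.card_eq_fintype_card])
  refine ⟨(P : H) ^ m, Z.pow_mem P.2 m, fun l hl => ?_, (((P : H) ^ m)⁻¹ * z), ?_, by group⟩
  · have h1 := hPfix ⟨l, hl⟩
    rw [mul_inv_eq_iff_eq_mul] at h1
    exact ((show Commute l (P : H) from h1).pow_right m).eq
  · have h2 := Subgroup.inv_mem _ (Subgroup.pow_mem _ hPW m)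
    rw [mul_pow, inv_pow, hm, mul_inv_rev, inv_inv, Subgroup.mem_subgroupOf] at h2
    simpa using h2

end CfsgLib.CoprimeAvg
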