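import Cfsg.Agent.Lib.PSolvable
import Mathlib.GroupTheory.Nilpotent

/-! The upper `p`-series. -/

set_option autoImplicit false
set_option linter.style.haveILetI false

namespace CfsgLib.PSeries

universe u

variable {G : Type u} [Group G] {p : ℕ}

/-- The terms of the upper `p`-series. -/
abbrev U (p : ℕ) (G : Type u) [Group G] (n : ℕ) : Subgroup G := (Cfsg.upperPSeries p G n).1

theorem zero : U p G 0 = ⊥ := rfl

theorem succ_even {n : ℕ} (hn : Even n) :
    U p G (n + 1) = (Cfsg.pPrimeCore p (G ⧸ U p G n)).comap (QuotientGroup.mk' (U p G n)) := by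
  simp only [U]
  rw [Cfsg.upperPSeries]
  simp [hn]

theorem succ_odd {n : ℕ} (hn : ¬ Even n) :
    U p G (n + 1) = (Cfsg.pCore p (G ⧸ U p G n)).comap (QuotientGroup.mk' (U p G n)) := by
  simp only [U]
  rw [Cfsg.upperPSeries]
  simp [hn]

theorem le_succ (n : ℕ) : U p G n ≤ U p G (n + 1) := by
  intro x hx
  by_cases hn : Even n
  · rw [succ_even hn]; simp [(QuotientGroup.eq_one_iff x).mpr hx]
  · rw [succ_odd hn]; simp [(QuotientGroup.eq_one_iff x).mpr hx]

theorem comap_map_mk (N M : Subgroup G) [N.Normal] (h : N ≤ M) :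
    (M.map (QuotientGroup.mk' N)).comap (QuotientGroup.mk' N) = M := by
  rw [Subgroup.comap_map_eq, QuotientGroup.ker_mk', sup_eq_left.mpr h]

theorem card_map_mk (N M : Subgroup G) [N.Normal] (h : N ≤ M) :
    Nat.card ↥(M.map (QuotientGroup.mk' N)) = N.relIndex M := by
  rw [← Cfsg.Agent.S3798.relIndex_comap_mk, comap_map_mk N M h]

/-- The odd terms are the largest normal subgroups with `p'`-factor over the previous one. -/
theorem le_succ_even [Finite G] {n : ℕ} (hn : Even n) {M : Subgroup G} (hM : M.Normal) (hle : U p G n ≤ M)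
    (hc : ((U p G n).relIndex M).Coprime p) : M ≤ U p G (n + 1) := by
  rw [succ_even hn]
  intro x hx
  exact CfsgLib.Core.le_pPrimeCore (hM.map _ (QuotientGroup.mk'_surjective _))
    (by rw [card_map_mk _ _ hle]; exact hc) ⟨x, hx, rfl⟩

theorem relIndex_succ_even [Finite G] {n : ℕ} (hn : Even n) :
    ((U p G n).relIndex (U p G (n + 1))).Coprime p := by
  rw [succ_even hn, Cfsg.Agent.S3798.relIndex_comap_mk]
  exact CfsgLib.Core.card_pPrimeCore_coprime p

/-- The even terms are the largest normal subgroups with `p`-factor over the previous one. -/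
theorem le_succ_odd [Finite G] {n : ℕ} (hn : ¬ Even n) {M : Subgroup G} (hM : M.Normal) (hle : U p G n ≤ M)
    (hc : ∃ m, (U p G n).relIndex M = p ^ m) : M ≤ U p G (n + 1) := by
  obtain ⟨m, hm⟩ := hc
  rw [succ_odd hn]
  intro x hx
  exact CfsgLib.Core.le_pCore (hM.map _ (QuotientGroup.mk'_surjective _))
    (IsPGroup.of_card (n := m) (by rw [card_map_mk _ _ hle]; exact hm)) ⟨x, hx, rfl⟩

theorem relIndex_succ_odd [Finite G] [Fact p.Prime] {n : ℕ} (hn : ¬ Even n) :
    ∃ m, (U p G n).relIndex (U p G (n + 1)) = p ^ m := by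
  rw [succ_odd hn, Cfsg.Agent.S3798.relIndex_comap_mk]
  exact (CfsgLib.Core.isPGroup_pCore p).exists_card_eq

/-- After an odd term there is no `p'`-core. -/
theorem pPrimeCore_quotient_eq_bot [Finite G] {n : ℕ} (hn : ¬ Even n) :
    Cfsg.pPrimeCore p (G ⧸ U p G n) = ⊥ := by
  obtain ⟨m, rfl⟩ : ∃ m, n = m + 1 := ⟨n - 1, by rcases n with _ | n <;> simp_all⟩
  have hm : Even m := by simpa [Nat.even_add_one] using hn
  set π := QuotientGroup.mk' (U p G (m + 1))
  have hπ : Function.Surjective π := QuotientGroup.mk'_surjective _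
  haveI := CfsgLib.Core.pPrimeCore_characteristic (G := G ⧸ U p G (m + 1)) p
  set B := Cfsg.pPrimeCore p (G ⧸ U p G (m + 1)) with hB
  have hle : U p G (m + 1) ≤ B.comap π := fun x hx => by
    simp [π, (QuotientGroup.eq_one_iff x).mpr hx]
  have h := le_succ_even hm (M := B.comap π) inferInstance ((le_succ m).trans hle) (by
    rw [← Subgroup.relIndex_mul_relIndex _ _ _ (le_succ m) hle]
    refine Nat.Coprime.mul_left (relIndex_succ_even hm) ?_
    rw [Cfsg.Agent.S3798.relIndex_comap_mk]
    exact CfsgLib.Core.card_pPrimeCore_coprime p)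
  rw [eq_bot_iff, ← Subgroup.map_comap_eq_self_of_surjective hπ B]
  rintro _ ⟨x, hx, rfl⟩
  exact Subgroup.mem_bot.mpr ((QuotientGroup.eq_one_iff x).mpr (h hx))

/-- In a `p`-solvable group each `p`-factor of the upper series contains its centraliser. -/
theorem centralizer_factor_le [Finite G] [Fact p.Prime] (h : Cfsg.IsPSolvable p G) {n : ℕ} (hn : ¬ Even n) :
    Subgroup.centralizer ((Cfsg.pCore p (G ⧸ U p G n) : Subgroup _) : Set (G ⧸ U p G n)) ≤
      Cfsg.pCore p (G ⧸ U p G n) :=
  CfsgLib.PSolvable.charP (CfsgLib.PSolvable.map (QuotientGroup.mk' _) (QuotientGroup.mk'_surjective _) h)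
    (pPrimeCore_quotient_eq_bot hn)

theorem relIndex_comap_comap {H : Type*} [Group H] (f : G →* H) (hf : Function.Surjective f) (A B : Subgroup H) :
    (A.comap f).relIndex (B.comap f) = A.relIndex B := by
  rw [Subgroup.relIndex_comap, Subgroup.map_comap_eq_self_of_surjective hf]

/-- The series of `G` over its second term. -/
theorem comap_quotient_two [Finite G] [Fact p.Prime] (n : ℕ) :
    (U p (G ⧸ U p G 2) n).comap (QuotientGroup.mk' (U p G 2)) = U p G (n + 2) := by
  set π := QuotientGroup.mk' (U p G 2)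
  have hπ : Function.Surjective π := QuotientGroup.mk'_surjective _
  induction n with
  | zero => rw [zero, MonoidHom.comap_bot, QuotientGroup.ker_mk']
  | succ n ih =>
    have h2 : U p G 2 ≤ U p G (n + 2 + 1) := by
      clear ih
      induction n with
      | zero => exact le_succ 2
      | succ n ih => exact ih.trans (le_succ _)
    haveI hA : (U p (G ⧸ U p G 2) (n + 1)).Normal := (Cfsg.upperPSeries p _ (n + 1)).2
    haveI hB : (U p G (n + 2 + 1)).Normal := (Cfsg.upperPSeries p _ (n + 2 + 1)).2
    show (U p (G ⧸ U p G 2) (n + 1)).comap π = U p G (n + 2 + 1)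
    have hle : U p G (n + 2) ≤ (U p (G ⧸ U p G 2) (n + 1)).comap π :=
      ih ▸ Subgroup.comap_mono (le_succ n)
    have hcm := comap_map_mk (U p G 2) (U p G (n + 2 + 1)) h2
    have hle' : U p (G ⧸ U p G 2) n ≤ (U p G (n + 2 + 1)).map π := by
      rw [← Subgroup.map_comap_eq_self_of_surjective hπ (U p (G ⧸ U p G 2) n), ih]
      exact Subgroup.map_mono (le_succ _)
    refine le_antisymm ?_ ?_
    · by_cases hn : Even n
      · refine le_succ_even (by simpa [Nat.even_add] using hn) inferInstance hle ?_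
        rw [← ih, relIndex_comap_comap π hπ]
        exact relIndex_succ_even hn
      · refine le_succ_odd (by simpa [Nat.even_add] using hn) inferInstance hle ?_
        rw [← ih, relIndex_comap_comap π hπ]
        exact relIndex_succ_odd hn
    · rw [← hcm]
      refine Subgroup.comap_mono ?_
      by_cases hn : Even n
      · refine le_succ_even hn (hB.map π hπ) hle' ?_
        rw [← relIndex_comap_comap π hπ, ih, hcm]
        exact relIndex_succ_even (by simpa [Nat.even_add] using hn)
      · refine le_succ_odd hn (hB.map π hπ) hle' ?_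
        rw [← relIndex_comap_comap π hπ, ih, hcm]
        exact relIndex_succ_odd (by simpa [Nat.even_add] using hn)

/-- The `p`-length is bounded by the class of a Sylow subgroup. -/
theorem pLength_le_class [hp : Fact p.Prime] (c : ℕ) : ∀ (H : Type u) [Group H] [Finite H],
    Cfsg.IsPSolvable p H → ∀ S : Sylow p H,
    (haveI : Group.IsNilpotent ↥(S : Subgroup H) := S.2.isNilpotent;
      Group.nilpotencyClass ↥(S : Subgroup H) ≤ c) → Cfsg.PLengthLE p c H := by
  induction c with
  | zero =>
    intro H _ _ _ S hc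
    haveI : Group.IsNilpotent ↥(S : Subgroup H) := S.2.isNilpotent
    haveI : Subsingleton ↥(S : Subgroup H) :=
      Group.nilpotencyClass_zero_iff_subsingleton.mp (Nat.le_zero.mp hc)
    have hS : Nat.card ↥(S : Subgroup H) = 1 := Nat.card_unique
    show U p H 1 = ⊤
    refine top_le_iff.mp (le_succ_even (by simp) inferInstance le_top ?_)
    rw [zero, Subgroup.relIndex_bot_left, Subgroup.card_top, ← Subgroup.card_mul_index (S : Subgroup H), hS, one_mul]
    exact (hp.out.coprime_iff_not_dvd.mpr S.not_dvd_index).symm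
  | succ c ih =>
    intro H _ _ hsol S hc
    haveI : Group.IsNilpotent ↥(S : Subgroup H) := S.2.isNilpotent
    have hodd : ¬ Even 1 := by simp
    set π1 := QuotientGroup.mk' (U p H 1)
    have hπ1 : Function.Surjective π1 := QuotientGroup.mk'_surjective _
    have hZ : ∀ z : ↥(S : Subgroup H), z ∈ Subgroup.center ↥(S : Subgroup H) → (z : H) ∈ U p H 2 := by
      intro z hz
      rw [show (2 : ℕ) = 1 + 1 from rfl, succ_odd hodd, Subgroup.mem_comap]
      refine centralizer_factor_le hsol hodd ?_
      intro r hr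
      have hr' : r ∈ ((S.mapSurjective hπ1 : Sylow p (H ⧸ U p H 1)) : Subgroup (H ⧸ U p H 1)) :=
        CfsgLib.Core.pCore_le_sylow _ hr
      rw [Sylow.coe_mapSurjective] at hr'
      obtain ⟨s, hs, rfl⟩ := hr'
      rw [← map_mul, ← map_mul]
      exact congrArg π1 (congrArg Subtype.val (Subgroup.mem_center_iff.mp hz ⟨s, hs⟩))
    set π := QuotientGroup.mk' (U p H 2)
    have hπ : Function.Surjective π := QuotientGroup.mk'_surjective _
    let S2 : Sylow p (H ⧸ U p H 2) := S.mapSurjective hπ
    haveI hS2n : Group.IsNilpotent ↥(S2 : Subgroup (H ⧸ U p H 2)) := S2.2.isNilpotent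
    have hcoe : (S2 : Subgroup (H ⧸ U p H 2)) = (S : Subgroup H).map π := Sylow.coe_mapSurjective _ _
    let f : ↥(S : Subgroup H) →* ↥(S2 : Subgroup (H ⧸ U p H 2)) :=
      (π.comp (S : Subgroup H).subtype).codRestrict _ fun x => by rw [hcoe]; exact ⟨x, x.2, rfl⟩
    let g : ↥(S : Subgroup H) ⧸ Subgroup.center ↥(S : Subgroup H) →* ↥(S2 : Subgroup (H ⧸ U p H 2)) :=
      QuotientGroup.lift _ f fun z hz => Subtype.ext ((QuotientGroup.eq_one_iff (z : H)).mpr (hZ z hz))
    have hg : Function.Surjective g := by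
      rintro ⟨y, hy⟩
      rw [hcoe] at hy
      obtain ⟨x, hx, rfl⟩ := hy
      exact ⟨QuotientGroup.mk ⟨x, hx⟩, rfl⟩
    have h2 := ih (H ⧸ U p H 2) (CfsgLib.PSolvable.map π hπ hsol) S2 (by
      have h3 := Group.nilpotencyClass_le_of_surjective g hg
      rw [Group.nilpotencyClass_quotient_center] at h3
      exact h3.trans (by omega))
    show U p H (2 * (c + 1) + 1) = ⊤
    rw [show 2 * (c + 1) + 1 = (2 * c + 1) + 2 by ring, ← comap_quotient_two,
      show U p (H ⧸ U p H 2) (2 * c + 1) = ⊤ from h2, Subgroup.comap_top]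

end CfsgLib.PSeries
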