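import Cfsg.Agent.Lib.ActionPStable
import Cfsg.Agent.Lib.PSeries
import Cfsg.Agent.Lib.GroupB.AutPGroup
import Cfsg.Agent.Lib.PLocal.SolvablePrimitive
import Cfsg.Agent.S0144
import Cfsg.Agent.Lib.FourAct

/-! Groups of exponent six. -/

set_option autoImplicit false
set_option linter.style.haveILetI false
open scoped commutatorElement

namespace CfsgLib.ExponentSix

universe u

/-- Finite solvable groups are `p`-solvable. -/
theorem isPSolvable_of_isSolvable {G : Type u} [Group G] [Finite G] [hs : Group.IsSolvable G] (p : ℕ) [hp : Fact p.Prime] :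
    Cfsg.IsPSolvable p G := by
  induction hn : Nat.card G using Nat.strong_induction_on generalizing G with
  | _ n ih =>
  rcases subsingleton_or_nontrivial G with hsub | hnt
  · exact ⟨0, fun _ => ⊥, rfl, Subsingleton.elim _ _, monotone_const, fun _ => inferInstance, fun i => i.elim0⟩
  obtain ⟨N, -, ⟨hNn, hN0⟩, hNmin⟩ := exists_minimal_le_of_wellFoundedLT
    (fun N : Subgroup G => N.Normal ∧ N ≠ ⊥) ⊤ ⟨inferInstance, top_ne_bot⟩
  haveI := hNn
  obtain ⟨-, q, d, hq, -, hcard⟩ := CfsgLib.PLocal.minNormal_solvable N hN0 (fun K hK hKN =>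
    or_iff_not_imp_left.mpr fun hK0 => le_antisymm hKN (hNmin ⟨hK, hK0⟩ hKN))
  haveI : Group.IsSolvable (G ⧸ N) := Group.isSolvable_of_surjective (QuotientGroup.mk'_surjective N)
  have hlt : Nat.card (G ⧸ N) < n := by
    rw [← hn, N.card_eq_card_quotient_mul_card_subgroup]
    exact lt_mul_of_one_lt_right Nat.card_pos (N.one_lt_card_iff_ne_bot.mpr hN0)
  obtain ⟨m, H, h0, h1, hm, hHn, hstep⟩ := ih _ hlt (G := G ⧸ N) rfl
  set π := QuotientGroup.mk' N
  refine ⟨m + 1, Fin.cons ⊥ fun i => (H i).comap π, rfl, ?_, ?_, ?_, ?_⟩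
  · rw [← Fin.succ_last, Fin.cons_succ, h1, Subgroup.comap_top]
  · intro i j hij
    induction i using Fin.cases with
    | zero => simp
    | succ i =>
      induction j using Fin.cases with
      | zero => exact absurd hij (by simp [Fin.le_def])
      | succ j =>
        rw [Fin.cons_succ, Fin.cons_succ]
        exact Subgroup.comap_mono (hm (Fin.succ_le_succ_iff.mp hij))
  · intro i
    induction i using Fin.cases with
    | zero => rw [Fin.cons_zero]; infer_instance
    | succ i => rw [Fin.cons_succ]; exact (hHn i).comap π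
  · intro i
    induction i using Fin.cases with
    | zero =>
      rw [Fin.castSucc_zero, Fin.cons_zero, Fin.cons_succ, Subgroup.relIndex_bot_left, h0, MonoidHom.comap_bot,
        QuotientGroup.ker_mk', hcard]
      by_cases hqp : q = p
      · exact Or.inl ⟨d, by rw [hqp]⟩
      · exact Or.inr (((Nat.coprime_primes hq hp.out).mpr hqp).pow_left d)
    | succ i =>
      rw [← Fin.succ_castSucc, Fin.cons_succ, Fin.cons_succ, Subgroup.relIndex_comap,
        Subgroup.map_comap_eq_self_of_surjective (QuotientGroup.mk'_surjective N)]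
      exact hstep i

theorem exponent_two {G : Type u} [Group G] [Finite G] (h : ∀ x : G, x ^ 6 = 1) {p : ℕ} [hp : Fact p.Prime]
    (hp6 : p = 2 ∨ p = 3) (S : Subgroup G) (hS : IsPGroup p S) (x : G) (hx : x ∈ S) : x ^ p = 1 := by
  obtain ⟨k, hk⟩ := IsPGroup.iff_orderOf.mp hS ⟨x, hx⟩
  rw [Subgroup.orderOf_mk] at hk
  refine orderOf_dvd_iff_pow_eq_one.mp ?_
  have h6 : p ^ k ∣ 6 := hk ▸ orderOf_dvd_of_pow_eq_one (h x)
  have : k ≤ 1 := by
    by_contra hk2
    have : p ^ 2 ∣ 6 := (Nat.pow_dvd_pow p (by omega)).trans h6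
    rcases hp6 with rfl | rfl <;> norm_num at this
  rw [hk]
  exact (Nat.pow_dvd_pow p this).trans (pow_one p).dvd

theorem solvable {G : Type u} [Group G] [Finite G] (h : ∀ x : G, x ^ 6 = 1) : Group.IsSolvable G := by
  have hpf : ∀ r : ℕ, r.Prime → r ∣ Nat.card G → r = 2 ∨ r = 3 := fun r hr hd => by
    haveI := Fact.mk hr
    obtain ⟨x, hx⟩ := exists_prime_orderOf_dvd_card' (G := G) r hd
    have h6 : r ∣ 2 * 3 := hx ▸ orderOf_dvd_of_pow_eq_one (h x)
    rcases (Nat.Prime.dvd_mul hr).mp h6 with h' | h'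
    · exact Or.inl ((Nat.prime_dvd_prime_iff_eq hr Nat.prime_two).mp h')
    · exact Or.inr ((Nat.prime_dvd_prime_iff_eq hr Nat.prime_three).mp h')
  refine Cfsg.Agent.S0144.result 2 3 ((Nat.card G).factorization 2) ((Nat.card G).factorization 3) Nat.prime_two
    Nat.prime_three ?_
  conv_lhs => rw [← Nat.prod_factorization_pow_eq_self (Nat.card_pos (α := G)).ne']
  rw [Finsupp.prod_of_support_subset (s := {2, 3}) _ ?_ _ (by simp)]
  · simp
  · intro r hr
    rw [Nat.support_factorization, Nat.mem_primeFactors] at hr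
    simpa using hpf r hr.1 hr.2.1

theorem two_length {G : Type u} [Group G] [Finite G] (h : ∀ x : G, x ^ 6 = 1) : Cfsg.PLengthLE 2 1 G := by
  haveI : Fact (Nat.Prime 2) := ⟨Nat.prime_two⟩
  haveI := solvable h
  obtain ⟨S⟩ : Nonempty (Sylow 2 G) := inferInstance
  refine CfsgLib.PSeries.pLength_le_class 1 G (isPSolvable_of_isSolvable 2) S ?_
  have he : ∀ x : (S : Subgroup G), x * x = 1 := fun x => Subtype.ext (by
    rw [Subgroup.coe_mul, ← sq]; exact exponent_two h (Or.inl rfl) _ S.2 x x.2)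
  haveI : IsMulCommutative (S : Subgroup G) := ⟨⟨fun a b => by
    have h1 := he (a * b)
    rw [mul_eq_one_iff_eq_inv, mul_inv_rev, ← eq_inv_of_mul_eq_one_left (he a), ← eq_inv_of_mul_eq_one_left (he b)] at h1
    exact h1⟩⟩
  letI : CommGroup (S : Subgroup G) := { (inferInstance : Group (S : Subgroup G)) with mul_comm := fun a b => Std.Commutative.comm a b }
  exact CommGroup.nilpotencyClass_le_one

/-- A kernel acting trivially on the Frattini quotient of a `p`-group is a `p`-group modulo the centraliser. -/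
theorem isPGroup_of_trivial {G : Type u} [Group G] [Finite G] {p : ℕ} [hp : Fact p.Prime] {V : Subgroup G} [hV : V.Normal]
    (hVp : IsPGroup p V) (hC : IsPGroup p (Subgroup.centralizer (V : Set G))) {K : Subgroup G}
    (hK : ∀ g ∈ K, ∀ x : V, (MulAut.conjNormal g : MulAut V) x * x⁻¹ ∈ frattini V) : IsPGroup p K := by
  let φ : K →* MulAut V := (MulAut.conjNormal).comp K.subtype
  have h1 := CfsgLib.GroupB.AutPGroup.card_dvd_of_trivial hVp (b := fun i => (Finite.equivFin V).symm i)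
    (by rw [(Finite.equivFin V).symm.surjective.range_eq, Subgroup.closure_univ, top_sup_eq]) φ.range (by
      rintro _ ⟨g, rfl⟩ x
      exact hK g g.2 x)
  obtain ⟨m, hm⟩ := (hVp.to_subgroup (frattini V)).exists_card_eq
  rw [hm, ← pow_mul] at h1
  obtain ⟨k, -, hk⟩ := (Nat.dvd_prime_pow hp.out).mp h1
  intro g
  obtain ⟨j, hj⟩ := (IsPGroup.of_card hk) ⟨φ g, g, rfl⟩
  have hj' : φ (g ^ p ^ j) = 1 := by
    rw [map_pow]; exact congrArg Subtype.val hj
  have hmem : ((g ^ p ^ j : K) : G) ∈ Subgroup.centralizer (V : Set G) := by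
    refine Subgroup.mem_centralizer_iff.mpr fun x hx => ?_
    have := congrArg (fun f : MulAut V => ((f ⟨x, hx⟩ : V) : G)) hj'
    simp only [MulAut.one_apply] at this
    change ((g ^ p ^ j : K) : G) * x * ((g ^ p ^ j : K) : G)⁻¹ = x at this
    exact (mul_inv_eq_iff_eq_mul.mp this).symm
  obtain ⟨i, hi⟩ := hC ⟨_, hmem⟩
  exact ⟨j + i, Subtype.ext (by rw [pow_add, pow_mul]; simpa using congrArg Subtype.val hi)⟩

theorem sylow_le_core {G : Type u} [Group G] [Finite G] (h : ∀ x : G, x ^ 6 = 1) [hs : Group.IsSolvable G]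
    (hred : Cfsg.pPrimeCore 3 G = ⊥) (P : Sylow 3 G) : (P : Subgroup G) ≤ Cfsg.pCore 3 G := by
  haveI : Fact (Nat.Prime 2) := ⟨Nat.prime_two⟩
  haveI : Fact (Nat.Prime 3) := ⟨Nat.prime_three⟩
  set V := Cfsg.pCore 3 G with hVd
  haveI : V.Normal := Cfsg.pCore_normal 3 G
  have hVp : IsPGroup 3 V := CfsgLib.Core.isPGroup_pCore 3
  have hfree : CfsgLib.Dickson.SLFree 3 G := CfsgLib.ActionPStable.slFree_of_abelian (by norm_num) fun T => by
    refine ⟨⟨fun a b => ?_⟩⟩
    have he : ∀ x : (T : Subgroup G), x * x = 1 := fun x => Subtype.ext (by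
      rw [Subgroup.coe_mul, ← sq]; exact exponent_two h (Or.inl rfl) _ T.2 x x.2)
    have h1 := he (a * b)
    rw [mul_eq_one_iff_eq_inv, mul_inv_rev, ← eq_inv_of_mul_eq_one_left (he a), ← eq_inv_of_mul_eq_one_left (he b)] at h1
    exact h1
  have hst := (CfsgLib.ActionPStable.of_slFree (by norm_num) hfree).2.1
  intro g hg
  set N := (frattini ↥V).map V.subtype with hN
  haveI hNn : N.Normal := inferInstance
  -- quadratic action on the Frattini quotient
  have hq : ⁅⁅V, Subgroup.zpowers g⁆, Subgroup.zpowers g⁆ ≤ N := by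
    set π := QuotientGroup.mk' N
    have hπ := QuotientGroup.mk'_surjective N
    haveI : (V.map π).Normal := (inferInstance : V.Normal).map π hπ
    have hQab : ∀ a ∈ V.map π, ∀ b ∈ V.map π, a * b = b * a := by
      rintro _ ⟨a, ha, rfl⟩ _ ⟨b, hb, rfl⟩
      rw [← commutatorElement_eq_one_iff_mul_comm, ← map_commutatorElement]
      exact (QuotientGroup.eq_one_iff _).mpr ⟨⁅(⟨a, ha⟩ : ↥V), (⟨b, hb⟩ : ↥V)⁆, (CfsgLib.FourAct.mem_frattini hVp _ _).1, rfl⟩
    have h3 : ∀ v ∈ V.map π, ⁅⁅v, π g⁆, π g⁆ = 1 := by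
      intro v hv
      have hgv : ∀ w ∈ V.map π, π g * w * (π g)⁻¹ ∈ V.map π := fun w hw => (inferInstance : (V.map π).Normal).conj_mem w hw _
      have hg3 : (π g) ^ 3 = 1 := by rw [← map_pow, exponent_two h (Or.inr rfl) _ P.2 g hg, map_one]
      have hprod : ∀ w ∈ V.map π, (w * π g) ^ 3 = 1 := by
        rintro _ ⟨w, hw, rfl⟩
        rw [← map_mul, ← map_pow]
        have hPV : w * g ∈ (P : Subgroup G) := mul_mem (CfsgLib.Core.pCore_le_sylow P hw) hg
        rw [exponent_two h (Or.inr rfl) _ P.2 _ hPV, map_one]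
      set t := π g with ht
      have hsum : ∀ w ∈ V.map π, w * (t * w * t⁻¹) * (t * (t * w * t⁻¹) * t⁻¹) = 1 := fun w hw => by
        calc w * (t * w * t⁻¹) * (t * (t * w * t⁻¹) * t⁻¹) = (w * t) ^ 3 * (t ^ 3)⁻¹ := by
              simp only [pow_succ, pow_zero, one_mul, mul_inv_rev]; group
          _ = 1 := by rw [hprod w hw, hg3, inv_one, one_mul]
      have hcube : ∀ w ∈ V.map π, w * w * w = 1 := by
        rintro _ ⟨w, hw, rfl⟩
        rw [← map_mul, ← map_mul, show w * w * w = w ^ 3 by simp [pow_succ, mul_assoc],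
          exponent_two h (Or.inr rfl) _ hVp w hw, map_one]
      set a := v with ha
      set b := t * v * t⁻¹ with hb
      set c := t * b * t⁻¹ with hc
      have hbV : b ∈ V.map π := hgv v hv
      have hcV : c ∈ V.map π := hgv b hbV
      have e1 : a * b * c = 1 := hsum v hv
      have ecomm : ⁅v, t⁆ = a * b⁻¹ := by rw [commutatorElement_def, hb, ha]; group
      have e2 : ⁅⁅v, t⁆, t⁆ = a * b⁻¹ * (c * b⁻¹) := by
        rw [ecomm, commutatorElement_def, hc, hb, ha]; group
      rw [e2]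
      have hac := hQab
      calc a * b⁻¹ * (c * b⁻¹) = a * ((b⁻¹ * c) * b⁻¹) := by group
        _ = a * ((c * b⁻¹) * b⁻¹) := by rw [hQab _ (inv_mem hbV) _ hcV]
        _ = a * (c * b) * ((b * b * b))⁻¹ := by group
        _ = a * (b * c) * ((b * b * b))⁻¹ := by rw [hQab _ hcV _ hbV]
        _ = 1 := by rw [← mul_assoc, e1, hcube b hbV, inv_one, one_mul]
    have h4 := CfsgLib.Glauberman.comm_zpowers_eq_bot h3
    have h5 : (⁅⁅V, Subgroup.zpowers g⁆, Subgroup.zpowers g⁆).map π = ⊥ := by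
      rw [Subgroup.map_commutator, Subgroup.map_commutator, MonoidHom.map_zpowers, h4]
    rw [Subgroup.map_eq_bot_iff, QuotientGroup.ker_mk'] at h5
    exact h5
  obtain ⟨D, hDn, hkD, ⟨k, hk⟩, hgD⟩ := hst g hq
  haveI := hDn
  have hC : IsPGroup 3 (Subgroup.centralizer (V : Set G)) :=
    hVp.to_le (CfsgLib.PSolvable.charP (isPSolvable_of_isSolvable 3) hred)
  have hker : IsPGroup 3 (Cfsg.sectionKernel V N) := isPGroup_of_trivial hVp hC fun g hg x => by
    have h1 : (QuotientGroup.mk' N) ((g * x * g⁻¹) * (x : G)⁻¹) = 1 := by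
      have := Subgroup.mem_centralizer_iff.mp hg _ ⟨(x : G), x.2, rfl⟩
      rw [map_mul, map_mul, map_mul, map_inv, map_inv, ← this, mul_inv_cancel_right, mul_inv_cancel]
    obtain ⟨z, hz, hze⟩ := (QuotientGroup.eq_one_iff _).mp h1
    have : z = (MulAut.conjNormal g : MulAut V) x * x⁻¹ := Subtype.ext hze
    exact this ▸ hz
  obtain ⟨a, ha⟩ := hker.exists_card_eq
  have hD : IsPGroup 3 D := IsPGroup.of_card (n := a + k) (by
    rw [pow_add, ← ha, ← hk, ← Subgroup.relIndex_bot_left D, ← Subgroup.relIndex_bot_left (Cfsg.sectionKernel V N),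
      Subgroup.relIndex_mul_relIndex _ _ _ bot_le hkD])
  exact CfsgLib.Core.le_pCore hDn hD hgD

theorem three_length {G : Type u} [Group G] [Finite G] (h : ∀ x : G, x ^ 6 = 1) : Cfsg.PLengthLE 3 1 G := by
  haveI : Fact (Nat.Prime 3) := ⟨Nat.prime_three⟩
  haveI := solvable h
  set N := CfsgLib.PSeries.U 3 G 1 with hN
  haveI : N.Normal := (Cfsg.upperPSeries 3 G 1).2
  set π := QuotientGroup.mk' N
  haveI : Group.IsSolvable (G ⧸ N) := Group.isSolvable_of_surjective (QuotientGroup.mk'_surjective N)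
  obtain ⟨P⟩ : Nonempty (Sylow 3 (G ⧸ N)) := inferInstance
  have hle := sylow_le_core (G := G ⧸ N) (fun x => by
    obtain ⟨y, rfl⟩ := QuotientGroup.mk'_surjective N x
    rw [← map_pow, h, map_one]) (CfsgLib.PSeries.pPrimeCore_quotient_eq_bot (by decide)) P
  have heq : Cfsg.pCore 3 (G ⧸ N) = (P : Subgroup (G ⧸ N)) := le_antisymm (CfsgLib.Core.pCore_le_sylow P) hle
  show CfsgLib.PSeries.U 3 G (2 * 1 + 1) = ⊤
  refine eq_top_iff.mpr (CfsgLib.PSeries.le_succ_even (n := 2) (by decide) inferInstance le_top ?_)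
  rw [CfsgLib.PSeries.succ_odd (n := 1) (by decide), Subgroup.relIndex_top_right,
    Subgroup.index_comap_of_surjective _ (QuotientGroup.mk'_surjective N), Nat.coprime_comm,
    Nat.Prime.coprime_iff_not_dvd Nat.prime_three]
  show ¬ 3 ∣ (Cfsg.pCore 3 (G ⧸ N)).index
  rw [heq]
  exact P.not_dvd_index

end CfsgLib.ExponentSix
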