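import Mathlib
import Cfsg.Prelude.Def_Transfer

/-! Isomorphisms between groups with commutators in a central subgroup of prime order. -/

set_option autoImplicit false
open scoped commutatorElement

namespace CfsgLib.ExtraIso

variable {G : Type*} [Group G] {H : Type*} [Group H] {p : ℕ} [Fact p.Prime]

/-- `C` has centre `⟨z⟩` of order `p` containing all commutators and `p`-th powers. -/
structure Ext (p : ℕ) (z : G) (C : Subgroup G) : Prop where
  mem : z ∈ C
  ord : orderOf z = p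
  central : ∀ a ∈ C, Commute z a
  comm : ∀ a ∈ C, ∀ b ∈ C, ∃ k : ℤ, a * b = z ^ k * (b * a)
  pow : ∀ a ∈ C, ∃ k : ℤ, a ^ p = z ^ k
  center : ∀ a ∈ C, (∀ b ∈ C, Commute a b) → a ∈ Subgroup.zpowers z

/-- There is an isomorphism carrying `z` to `z'`. -/
def Rel (z : G) (C : Subgroup G) (z' : H) (C' : Subgroup H) : Prop :=
  ∃ e : C ≃* C', ∀ hz : z ∈ C, (e ⟨z, hz⟩ : H) = z'

/-- A hyperbolic pair of elements of `C`. -/
structure Pair (z : G) (C : Subgroup G) (x y : G) : Prop where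
  hx : x ∈ C
  hy : y ∈ C
  hxy : x * y = z * (y * x)

/-- The centraliser in `C` of a pair. -/
def rest (C : Subgroup G) (x y : G) : Subgroup G := C ⊓ Subgroup.centralizer {x, y}

theorem mem_rest {C : Subgroup G} {x y g : G} : g ∈ rest C x y ↔ g ∈ C ∧ Commute g x ∧ Commute g y := by
  rw [rest, Subgroup.mem_inf, Subgroup.mem_centralizer_iff]
  constructor
  · exact fun h => ⟨h.1, (h.2 x (Or.inl rfl)).symm, (h.2 y (Or.inr rfl)).symm⟩
  · rintro ⟨h, h1, h2⟩
    refine ⟨h, ?_⟩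
    rintro u (rfl | rfl)
    exacts [h1.symm.eq, h2.symm.eq]

variable {z : G} {C : Subgroup G} {x y : G}

theorem Ext.zmem (h : Ext p z C) (k : ℤ) : z ^ k ∈ C := C.zpow_mem h.mem k

theorem Ext.zcomm (h : Ext p z C) (k : ℤ) {a : G} (ha : a ∈ C) : Commute (z ^ k) a := (h.central a ha).zpow_left k

theorem Pair.semi (hP : Pair z C x y) (h : Ext p z C) (j : ℤ) : x * y ^ j = z ^ j * (y ^ j * x) := by
  have h1 : SemiconjBy x y (z * y) := by show x * y = z * y * x; rw [mul_assoc]; exact hP.hxy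
  have h2 := h1.zpow_right j
  rw [(h.central y hP.hy).mul_zpow] at h2
  rw [← mul_assoc]; exact h2

theorem Pair.semi' (hP : Pair z C x y) (h : Ext p z C) (i : ℤ) : y * x ^ i = z ^ (-i) * (x ^ i * y) := by
  have h1 : SemiconjBy y x (z⁻¹ * x) := by show y * x = z⁻¹ * x * y; rw [mul_assoc, hP.hxy, inv_mul_cancel_left]
  have h2 := h1.zpow_right i
  rw [((h.central x hP.hx).inv_left).mul_zpow, inv_zpow, ← zpow_neg] at h2
  rw [← mul_assoc]; exact h2

/-- Commutation of a normal form with `x`. -/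
theorem Pair.form_x (hP : Pair z C x y) (h : Ext p z C) (a b : ℤ) {d : G} (hd : d ∈ rest C x y) :
    x * (y ^ a * x ^ b * d) = z ^ a * ((y ^ a * x ^ b * d) * x) := by
  obtain ⟨-, hdx, -⟩ := mem_rest.mp hd
  calc x * (y ^ a * x ^ b * d) = x * y ^ a * (x ^ b * d) := by group
    _ = z ^ a * (y ^ a * (x * x ^ b) * d) := by rw [hP.semi h a]; group
    _ = z ^ a * (y ^ a * x ^ b * (x * d)) := by rw [((Commute.refl x).zpow_right b).eq]; group
    _ = _ := by rw [← hdx.eq]; group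

theorem Pair.form_y (hP : Pair z C x y) (h : Ext p z C) (a b : ℤ) {d : G} (hd : d ∈ rest C x y) :
    y * (y ^ a * x ^ b * d) = z ^ (-b) * ((y ^ a * x ^ b * d) * y) := by
  obtain ⟨-, -, hdy⟩ := mem_rest.mp hd
  calc y * (y ^ a * x ^ b * d) = y ^ a * (y * x ^ b) * d := by group
    _ = y ^ a * z ^ (-b) * (x ^ b * y * d) := by rw [hP.semi' h b]; group
    _ = z ^ (-b) * (y ^ a * x ^ b * (y * d)) := by rw [← (h.zcomm (-b) (C.zpow_mem hP.hy a)).eq]; group
    _ = _ := by rw [← hdy.eq]; group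

theorem Ext.zpow_eq_iff (h : Ext p z C) (a b : ℤ) : z ^ a = z ^ b ↔ (p : ℤ) ∣ b - a := by
  rw [zpow_eq_zpow_iff_modEq, h.ord, Int.modEq_iff_dvd]

theorem Pair.decomp (hP : Pair z C x y) (h : Ext p z C) {g : G} (hg : g ∈ C) :
    ∃ a b : ℤ, ∃ d ∈ rest C x y, g = y ^ a * x ^ b * d := by
  obtain ⟨i, hi⟩ := h.comm g hg x hP.hx
  obtain ⟨j, hj⟩ := h.comm g hg y hP.hy
  have c1 : y ^ i * x = z ^ (-i) * (x * y ^ i) := by rw [hP.semi h i, ← mul_assoc, ← zpow_add, neg_add_cancel, zpow_zero, one_mul]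
  have c2 : x ^ (-j) * y = z ^ (-j) * (y * x ^ (-j)) := by
    rw [hP.semi' h (-j), ← mul_assoc, ← zpow_add, neg_neg, neg_add_cancel, zpow_zero, one_mul]
  have e1 : Commute (x ^ (-j) * (y ^ i * g)) x := by
    refine (((Commute.refl x).zpow_left _).mul_left ?_)
    show y ^ i * g * x = x * (y ^ i * g)
    rw [mul_assoc, hi, ← mul_assoc (y ^ i), ← (h.zcomm i (C.zpow_mem hP.hy i)).eq, mul_assoc, ← mul_assoc (y ^ i),
      c1]
    simp only [← mul_assoc]; rw [← zpow_add, add_neg_cancel, zpow_zero, one_mul]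
  have e2 : Commute (x ^ (-j) * (y ^ i * g)) y := by
    show x ^ (-j) * (y ^ i * g) * y = y * (x ^ (-j) * (y ^ i * g))
    calc x ^ (-j) * (y ^ i * g) * y = x ^ (-j) * (y ^ i * z ^ j) * (y * g) := by rw [mul_assoc, mul_assoc, hj]; group
      _ = (x ^ (-j) * z ^ j) * (y ^ i * y) * g := by rw [← (h.zcomm j (C.zpow_mem hP.hy i)).eq]; group
      _ = z ^ j * (x ^ (-j) * y) * y ^ i * g := by
        rw [← (h.zcomm j (C.zpow_mem hP.hx (-j))).eq, ((Commute.refl y).zpow_left i).eq]; group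
      _ = _ := by rw [c2]; group
  refine ⟨-i, j, _, mem_rest.mpr ⟨C.mul_mem (C.zpow_mem hP.hx _) (C.mul_mem (C.zpow_mem hP.hy _) hg), e1, e2⟩, ?_⟩
  group

theorem Pair.pow_mem (hP : Pair z C x y) (h : Ext p z C) (k : ℤ) : z ^ k ∈ rest C x y :=
  mem_rest.mpr ⟨h.zmem k, h.zcomm k hP.hx, h.zcomm k hP.hy⟩

theorem Pair.ext_rest (hP : Pair z C x y) (h : Ext p z C) : Ext p z (rest C x y) := by
  have hle : rest C x y ≤ C := inf_le_left
  refine ⟨?_, h.ord, fun a ha => h.central a (hle ha), fun a ha b hb => h.comm a (hle ha) b (hle hb),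
    fun a ha => h.pow a (hle ha), fun a ha hac => h.center a (hle ha) fun g hg => ?_⟩
  · have := hP.pow_mem h 1; rwa [zpow_one] at this
  · obtain ⟨i, j, d, hd, rfl⟩ := hP.decomp h hg
    obtain ⟨-, hax, hay⟩ := mem_rest.mp ha
    exact ((hay.zpow_right i).mul_right (hax.zpow_right j)).mul_right (hac d hd)

theorem Pair.uniq (hP : Pair z C x y) (h : Ext p z C) {a b a' b' : ℤ} {d d' : G} (hd : d ∈ rest C x y)
    (hd' : d' ∈ rest C x y) (e : y ^ a * x ^ b * d = y ^ a' * x ^ b' * d') :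
    (p : ℤ) ∣ a' - a ∧ (p : ℤ) ∣ b' - b := by
  constructor
  · refine (h.zpow_eq_iff a a').mp ?_
    have h1 := hP.form_x h a b hd
    rw [e, hP.form_x h a' b' hd'] at h1
    exact (mul_right_cancel h1).symm
  · have h1 := hP.form_y h a b hd
    rw [e, hP.form_y h a' b' hd'] at h1
    have := (h.zpow_eq_iff _ _).mp (mul_right_cancel h1).symm
    rw [show -b' - -b = -(b' - b) by ring, dvd_neg] at this
    exact this

theorem Pair.card_eq (hP : Pair z C x y) (h : Ext p z C) : Nat.card C = p * p * Nat.card (rest C x y) := by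
  have hp0 : (0 : ℤ) < p := by exact_mod_cast (Fact.out : p.Prime).pos
  have hmem : ∀ (a b : ℕ) (d : rest C x y), y ^ (a : ℤ) * x ^ (b : ℤ) * (d : G) ∈ C := fun a b d =>
    C.mul_mem (C.mul_mem (C.zpow_mem hP.hy _) (C.zpow_mem hP.hx _)) (inf_le_left (α := Subgroup G) d.2)
  let F : (Fin p × Fin p) × rest C x y → C := fun t => ⟨_, hmem t.1.1 t.1.2 t.2⟩
  have hF : Function.Bijective F := by
    constructor
    · rintro ⟨⟨a, b⟩, d⟩ ⟨⟨a', b'⟩, d'⟩ e
      have e' := congrArg Subtype.val e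
      obtain ⟨ha, hb⟩ := hP.uniq h d.2 d'.2 e'
      replace ha : (p : ℤ) ∣ ((a' : ℕ) : ℤ) - ((a : ℕ) : ℤ) := ha
      replace hb : (p : ℤ) ∣ ((b' : ℕ) : ℤ) - ((b : ℕ) : ℤ) := hb
      have := a.isLt; have := a'.isLt; have := b.isLt; have := b'.isLt
      have ha' : a = a' := Fin.ext (by
        have := Int.eq_zero_of_dvd_of_natAbs_lt_natAbs ha (by omega)
        omega)
      have hb' : b = b' := Fin.ext (by
        have := Int.eq_zero_of_dvd_of_natAbs_lt_natAbs hb (by omega)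
        omega)
      subst ha' hb'
      exact Prod.ext rfl (Subtype.ext (mul_left_cancel e'))
    · rintro ⟨g, hg⟩
      obtain ⟨a, b, d, hd, rfl⟩ := hP.decomp h hg
      obtain ⟨k, hk⟩ := h.pow y hP.hy
      obtain ⟨l, hl⟩ := h.pow x hP.hx
      have key : ∀ (u : G) (m : ℤ), u ^ p = z ^ m → ∀ n : ℤ, u ^ n = u ^ (n % p) * z ^ (m * (n / p)) := by
        intro u m hu n
        conv_lhs => rw [← Int.emod_add_mul_ediv n p, zpow_add, zpow_mul, zpow_natCast, hu, ← zpow_mul]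
      refine ⟨((⟨(a % p).toNat, ?_⟩, ⟨(b % p).toNat, ?_⟩), ⟨z ^ (k * (a / p)) * z ^ (l * (b / p)) * d,
        mul_mem (mul_mem (hP.pow_mem h _) (hP.pow_mem h _)) hd⟩), Subtype.ext ?_⟩
      · have := Int.emod_lt_of_pos a hp0; have := Int.emod_nonneg a hp0.ne'; omega
      · have := Int.emod_lt_of_pos b hp0; have := Int.emod_nonneg b hp0.ne'; omega
      show y ^ (((a % p).toNat : ℕ) : ℤ) * x ^ (((b % p).toNat : ℕ) : ℤ) * (z ^ (k * (a / p)) * z ^ (l * (b / p)) * d) =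
        y ^ a * x ^ b * d
      rw [Int.toNat_of_nonneg (Int.emod_nonneg a hp0.ne'), Int.toNat_of_nonneg (Int.emod_nonneg b hp0.ne'),
        key y k hk a, key x l hl b]
      have := (h.zcomm (k * (a / p)) (C.zpow_mem hP.hx (b % p))).eq
      simp only [mul_assoc]
      rw [← mul_assoc (z ^ (k * (a / p))) (x ^ (b % p)), this, mul_assoc]
  rw [← Nat.card_congr (Equiv.ofBijective F hF), Nat.card_prod, Nat.card_prod, Nat.card_fin]

section
variable {z' : H} {C' : Subgroup H} {x' y' : H}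

/-- Extending an isomorphism of the centralisers of pairs with equal power data. -/
theorem glue [Finite H] (h : Ext p z C) (h' : Ext p z' C') (hP : Pair z C x y) (hP' : Pair z' C' x' y')
    {i j : ℤ} (hx : x ^ p = z ^ i) (hx' : x' ^ p = z' ^ i) (hy : y ^ p = z ^ j) (hy' : y' ^ p = z' ^ j)
    (hR : Rel z (rest C x y) z' (rest C' x' y')) : Rel z C z' C' := by
  obtain ⟨φ, hφ⟩ := hR
  have hzr : z ∈ rest C x y := (hP.ext_rest h).mem
  have hφz : ∀ k : ℤ, (φ ⟨z ^ k, hP.pow_mem h k⟩ : H) = z' ^ k := by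
    intro k
    rw [show (⟨z ^ k, hP.pow_mem h k⟩ : rest C x y) = ⟨z, hzr⟩ ^ k from rfl, map_zpow]
    show ((φ ⟨z, hzr⟩ : H)) ^ k = z' ^ k
    rw [hφ hzr]
  let Γ : Set (G × H) := {e | ∃ d : rest C x y, e = ((d : G), (φ d : H))}
  have hΓz : ∀ k : ℤ, (z ^ k, z' ^ k) ∈ Γ := fun k => ⟨⟨_, hP.pow_mem h k⟩, by rw [hφz k]⟩
  let S : Set (G × H) := {e | ∃ a b : ℤ, ∃ d : rest C x y, e = (y ^ a * x ^ b * (d : G), y' ^ a * x' ^ b * (φ d : H))}
  let M : Subgroup (G × H) := Subgroup.closure ({(x, x'), (y, y')} ∪ Γ)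
  have hz1 : ∀ (k : ℤ) (g : G), g ∈ C → z ^ k * g = g * z ^ k := fun k g hg => (h.zcomm k hg).eq
  have hz1' : ∀ (k : ℤ) (g : H), g ∈ C' → z' ^ k * g = g * z' ^ k := fun k g hg => (h'.zcomm k hg).eq
  have mulY : ∀ n : ℤ, ∀ e ∈ S, ((y, y') : G × H) ^ n * e ∈ S := by
    rintro n _ ⟨a, b, d, rfl⟩
    refine ⟨n + a, b, d, Prod.ext ?_ ?_⟩ <;> simp [zpow_add, mul_assoc]
  have mulX : ∀ n : ℤ, ∀ e ∈ S, ((x, x') : G × H) ^ n * e ∈ S := by
    have one : ∀ e ∈ S, ((x, x') : G × H) * e ∈ S ∧ ((x, x') : G × H)⁻¹ * e ∈ S := by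
      rintro _ ⟨a, b, d, rfl⟩
      refine ⟨⟨a, b + 1, ⟨z ^ a, hP.pow_mem h a⟩ * d, Prod.ext ?_ ?_⟩,
        ⟨a, b - 1, ⟨z ^ (-a), hP.pow_mem h (-a)⟩ * d, Prod.ext ?_ ?_⟩⟩
      · show x * (y ^ a * x ^ b * (d : G)) = y ^ a * x ^ (b + 1) * (z ^ a * (d : G))
        rw [← mul_assoc (y ^ a * x ^ (b + 1)), ← hz1 a _ (C.mul_mem (C.zpow_mem hP.hy a) (C.zpow_mem hP.hx (b + 1))),
          show b + 1 = 1 + b by ring, zpow_add, zpow_one, ← mul_assoc x, ← mul_assoc x, hP.semi h a]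
        group
      · show x' * (y' ^ a * x' ^ b * (φ d : H)) = y' ^ a * x' ^ (b + 1) * (φ (⟨z ^ a, _⟩ * d) : H)
        rw [map_mul, Subgroup.coe_mul, hφz, ← mul_assoc (y' ^ a * x' ^ (b + 1)),
          ← hz1' a _ (C'.mul_mem (C'.zpow_mem hP'.hy a) (C'.zpow_mem hP'.hx (b + 1))),
          show b + 1 = 1 + b by ring, zpow_add, zpow_one, ← mul_assoc x', ← mul_assoc x', hP'.semi h' a]
        group
      · show x⁻¹ * (y ^ a * x ^ b * (d : G)) = y ^ a * x ^ (b - 1) * (z ^ (-a) * (d : G))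
        rw [← mul_assoc (y ^ a * x ^ (b - 1)), ← hz1 (-a) _ (C.mul_mem (C.zpow_mem hP.hy a) (C.zpow_mem hP.hx (b - 1))),
          inv_mul_eq_iff_eq_mul, ← mul_assoc, ← mul_assoc, ← mul_assoc, ← hz1 (-a) _ hP.hx, mul_assoc (z ^ (-a)) x,
          hP.semi h a, show b - 1 = -1 + b by ring, zpow_add]
        group
      · show x'⁻¹ * (y' ^ a * x' ^ b * (φ d : H)) = y' ^ a * x' ^ (b - 1) * (φ (⟨z ^ (-a), _⟩ * d) : H)
        rw [map_mul, Subgroup.coe_mul, hφz, ← mul_assoc (y' ^ a * x' ^ (b - 1)),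
          ← hz1' (-a) _ (C'.mul_mem (C'.zpow_mem hP'.hy a) (C'.zpow_mem hP'.hx (b - 1))),
          inv_mul_eq_iff_eq_mul, ← mul_assoc, ← mul_assoc, ← mul_assoc, ← hz1' (-a) _ hP'.hx, mul_assoc (z' ^ (-a)) x',
          hP'.semi h' a, show b - 1 = -1 + b by ring, zpow_add]
        group
    intro n
    induction n using Int.induction_on with
    | zero => simp
    | succ k ih => intro e he; rw [zpow_add_one, mul_assoc]; exact ih _ (one e he).1
    | pred k ih => intro e he; rw [zpow_sub_one, mul_assoc]; exact ih _ (one e he).2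
  have mulΓ : ∀ g ∈ Γ, ∀ e ∈ S, g * e ∈ S := by
    rintro _ ⟨c, rfl⟩ _ ⟨a, b, d, rfl⟩
    obtain ⟨-, cx, cy⟩ := mem_rest.mp c.2
    obtain ⟨-, cx', cy'⟩ := mem_rest.mp (φ c).2
    refine ⟨a, b, c * d, Prod.ext ?_ ?_⟩
    · show (c : G) * (y ^ a * x ^ b * (d : G)) = y ^ a * x ^ b * ((c : G) * (d : G))
      rw [← mul_assoc, ((cy.zpow_right a).mul_right (cx.zpow_right b)).eq, mul_assoc]
    · show (φ c : H) * (y' ^ a * x' ^ b * (φ d : H)) = y' ^ a * x' ^ b * (φ (c * d) : H)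
      rw [map_mul, Subgroup.coe_mul, ← mul_assoc, ((cy'.zpow_right a).mul_right (cx'.zpow_right b)).eq, mul_assoc]
  have hMS : ∀ e ∈ M, e ∈ S := by
    intro e he
    induction he using Subgroup.closure_induction_left with
    | one => exact ⟨0, 0, 1, Prod.ext (by simp) (by simp)⟩
    | mul_left g hg e _ ih =>
      rcases hg with (rfl | rfl) | hg
      · simpa using mulX 1 e ih
      · simpa using mulY 1 e ih
      · exact mulΓ g hg e ih
    | inv_mul_cancel g hg e _ ih =>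
      rcases hg with (rfl | rfl) | hg
      · simpa using mulX (-1) e ih
      · simpa using mulY (-1) e ih
      · obtain ⟨d, rfl⟩ := hg
        exact mulΓ _ ⟨d⁻¹, by simp⟩ e ih
  have hSM : ∀ e ∈ S, e ∈ M := by
    rintro _ ⟨a, b, d, rfl⟩
    rw [show ((y ^ a * x ^ b * (d : G), y' ^ a * x' ^ b * (φ d : H)) : G × H) =
      (y, y') ^ a * (x, x') ^ b * ((d : G), (φ d : H)) from rfl]
    have hX : ((x, x') : G × H) ∈ M := Subgroup.subset_closure (Or.inl (Or.inl rfl))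
    have hY : ((y, y') : G × H) ∈ M := Subgroup.subset_closure (Or.inl (Or.inr rfl))
    exact mul_mem (mul_mem (zpow_mem hY a) (zpow_mem hX b)) (Subgroup.subset_closure (Or.inr ⟨d, rfl⟩))
  have hfst : ∀ e ∈ M, e.1 = 1 → e.2 = 1 := by
    intro e he he1
    obtain ⟨a, b, d, rfl⟩ := hMS e he
    obtain ⟨ha, hb⟩ := hP.uniq h d.2 (a' := 0) (b' := 0) (d' := 1) (one_mem _) (by simpa using he1)
    rw [zero_sub, dvd_neg] at ha hb
    obtain ⟨a₀, rfl⟩ := ha
    obtain ⟨b₀, rfl⟩ := hb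
    replace he1 : y ^ ((p : ℤ) * a₀) * x ^ ((p : ℤ) * b₀) * (d : G) = 1 := he1
    show y' ^ ((p : ℤ) * a₀) * x' ^ ((p : ℤ) * b₀) * (φ d : H) = 1
    rw [zpow_mul, zpow_mul, zpow_natCast, zpow_natCast, hx, hy, ← zpow_mul, ← zpow_mul] at he1
    rw [zpow_mul, zpow_mul, zpow_natCast, zpow_natCast, hx', hy', ← zpow_mul, ← zpow_mul]
    have : (⟨z ^ (j * a₀), hP.pow_mem h _⟩ * ⟨z ^ (i * b₀), hP.pow_mem h _⟩ * d : rest C x y) = 1 := Subtype.ext he1
    rw [← hφz, ← hφz, ← Subgroup.coe_mul, ← Subgroup.coe_mul, ← map_mul, ← map_mul, this, map_one, Subgroup.coe_one]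
  have hex : ∀ g : C, ∃ w : C', ((g : G), (w : H)) ∈ M := by
    intro g
    obtain ⟨a, b, d, hd, he⟩ := hP.decomp h g.2
    refine ⟨⟨y' ^ a * x' ^ b * (φ ⟨d, hd⟩ : H), C'.mul_mem (C'.mul_mem (C'.zpow_mem hP'.hy _) (C'.zpow_mem hP'.hx _))
      (inf_le_left (α := Subgroup H) (φ ⟨d, hd⟩).2)⟩, hSM _ ⟨a, b, ⟨d, hd⟩, Prod.ext he rfl⟩⟩
  choose f hf using hex
  have huniq : ∀ (g : G) (u v : H), (g, u) ∈ M → (g, v) ∈ M → u = v := by
    intro g u v hu hv
    have := hfst _ (M.mul_mem (M.inv_mem hu) hv) (by simp)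
    simpa [inv_mul_eq_one] using this
  let F : C →* C' := MonoidHom.mk' f fun g g' => Subtype.ext (huniq _ _ _ (hf (g * g')) (M.mul_mem (hf g) (hf g')))
  have hsurj : Function.Surjective F := by
    intro w
    obtain ⟨a, b, d', hd', he⟩ := hP'.decomp h' w.2
    have hd := (φ.symm ⟨d', hd'⟩).2
    refine ⟨⟨y ^ a * x ^ b * (φ.symm ⟨d', hd'⟩ : G), C.mul_mem (C.mul_mem (C.zpow_mem hP.hy _) (C.zpow_mem hP.hx _))
      (inf_le_left (α := Subgroup G) hd)⟩, Subtype.ext (huniq _ _ _ (hf _) (hSM _ ⟨a, b, φ.symm ⟨d', hd'⟩, ?_⟩))⟩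
    rw [MulEquiv.apply_symm_apply, he]
  have hbij : Function.Bijective F := by
    have : Finite C := by
      refine Nat.finite_of_card_ne_zero ?_
      have : Finite C' := inferInstance
      rw [hP.card_eq h, Nat.card_congr φ.toEquiv, ← hP'.card_eq h']
      exact Nat.card_pos.ne'
    refine hsurj.bijective_of_nat_card_le ?_
    rw [hP.card_eq h, hP'.card_eq h', Nat.card_congr φ.toEquiv]
  refine ⟨MulEquiv.ofBijective F hbij, fun hz => huniq _ _ _ (hf ⟨z, hz⟩) ?_⟩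
  have := hSM _ ⟨0, 0, ⟨z, hzr⟩, rfl⟩
  simpa [hφ hzr] using this

theorem rel_of_card_eq_prime [Finite G] [Finite H] (h : Ext p z C) (h' : Ext p z' C') (hc : Nat.card C = p)
    (hc' : Nat.card C' = p) : Rel z C z' C' := by
  have e : Subgroup.zpowers z = C := Subgroup.eq_of_le_of_card_ge (Subgroup.zpowers_le.mpr h.mem)
    (by rw [Nat.card_zpowers, h.ord, hc])
  have e' : Subgroup.zpowers z' = C' := Subgroup.eq_of_le_of_card_ge (Subgroup.zpowers_le.mpr h'.mem)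
    (by rw [Nat.card_zpowers, h'.ord, hc'])
  have hg : ∀ (w : C), w ∈ Subgroup.zpowers (⟨z, h.mem⟩ : C) := by
    rintro ⟨w, hw⟩
    obtain ⟨k, hk⟩ := (e.symm ▸ hw : w ∈ Subgroup.zpowers z)
    exact ⟨k, Subtype.ext hk⟩
  have hg' : ∀ (w : C'), w ∈ Subgroup.zpowers (⟨z', h'.mem⟩ : C') := by
    rintro ⟨w, hw⟩
    obtain ⟨k, hk⟩ := (e'.symm ▸ hw : w ∈ Subgroup.zpowers z')
    exact ⟨k, Subtype.ext hk⟩
  have ho : orderOf (⟨z, h.mem⟩ : C) = orderOf (⟨z', h'.mem⟩ : C') := by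
    rw [Subgroup.orderOf_mk, Subgroup.orderOf_mk, h.ord, h'.ord]
  exact ⟨mulEquivOfOrderOfEq hg hg' ho, fun hz => congrArg Subtype.val (mulEquivOfOrderOfEq_apply_gen hg hg' ho)⟩

end

theorem exists_pair (h : Ext p z C) {x : G} (hx : x ∈ C) (hxz : x ∉ Subgroup.zpowers z) : ∃ y, Pair z C x y := by
  obtain ⟨b, hb, hxb⟩ : ∃ b ∈ C, ¬ Commute x b := by
    by_contra hcon
    push Not at hcon
    exact hxz (h.center x hx hcon)
  obtain ⟨k, hk⟩ := h.comm x hx b hb
  have hk1 : z ^ k ≠ 1 := fun e => hxb (by show x * b = b * x; rw [hk, e, one_mul])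
  have hz1 : z ∈ Subgroup.zpowers (z ^ k) := by
    have hfin : IsOfFinOrder z := orderOf_pos_iff.mp (h.ord ▸ (Fact.out : p.Prime).pos)
    have : Finite (Subgroup.zpowers z) := hfin.finite_zpowers
    have e : Subgroup.zpowers (z ^ k) = Subgroup.zpowers z := by
      refine Subgroup.eq_of_le_of_card_ge (Subgroup.zpowers_le.mpr ⟨k, rfl⟩) ?_
      rw [Nat.card_zpowers, Nat.card_zpowers, h.ord, orderOf_eq_prime (p := p) ?_ hk1]
      rw [← zpow_natCast, ← zpow_mul, mul_comm, zpow_mul, zpow_natCast, ← h.ord, pow_orderOf_eq_one, one_zpow]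
    rw [e]; exact Subgroup.mem_zpowers z
  obtain ⟨m, hm⟩ := hz1
  refine ⟨b ^ m, hx, C.zpow_mem hb m, ?_⟩
  have h1 : SemiconjBy x b (z ^ k * b) := by show x * b = z ^ k * b * x; rw [mul_assoc]; exact hk
  have h2 := h1.zpow_right m
  rw [(h.zcomm k hb).mul_zpow] at h2
  rw [← mul_assoc]
  have hm' : (z ^ k) ^ m = z := hm
  rw [hm'] at h2
  exact h2

theorem card_cases [Finite G] (h : Ext p z C) : Nat.card C = p ∨ ∃ x y, Pair z C x y := by
  by_cases hle : C ≤ Subgroup.zpowers z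
  · left
    rw [le_antisymm hle (Subgroup.zpowers_le.mpr h.mem), Nat.card_zpowers, h.ord]
  · obtain ⟨x, hx, hxz⟩ := SetLike.not_le_iff_exists.mp hle
    exact Or.inr ⟨x, exists_pair h hx hxz⟩

theorem card_rest_lt [Finite G] (h : Ext p z C) (hP : Pair z C x y) : p * p * Nat.card (rest C x y) = Nat.card C ∧
    Nat.card (rest C x y) < Nat.card C ∧ p ≤ Nat.card (rest C x y) := by
  have hp := (Fact.out : p.Prime)
  refine ⟨(hP.card_eq h).symm, ?_, ?_⟩
  · rw [hP.card_eq h]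
    exact lt_mul_of_one_lt_left Nat.card_pos (Nat.one_lt_mul_iff.mpr ⟨hp.pos, hp.pos, Or.inl hp.one_lt⟩)
  · have := Subgroup.card_le_of_le (Subgroup.zpowers_le.mpr (hP.ext_rest h).mem)
    rwa [Nat.card_zpowers, h.ord] at this

/-- Exponent `p`: the order determines the group. -/
theorem rel_exponent [Finite G] [Finite H] {z' : H} : ∀ n : ℕ, ∀ (C : Subgroup G) (C' : Subgroup H), Nat.card C = n →
    Nat.card C' = n → Ext p z C → Ext p z' C' → (∀ a ∈ C, a ^ p = 1) → (∀ a ∈ C', a ^ p = 1) → Rel z C z' C' := by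
  intro n
  induction n using Nat.strong_induction_on with
  | _ n ih =>
  intro C C' hc hc' h h' he he'
  have hp := (Fact.out : p.Prime)
  rcases card_cases h with hC | ⟨x, y, hP⟩ <;> rcases card_cases h' with hC' | ⟨x', y', hP'⟩
  · exact rel_of_card_eq_prime h h' hC hC'
  · exfalso
    obtain ⟨h1, h2, h3⟩ := card_rest_lt h' hP'
    omega
  · exfalso
    obtain ⟨h1, h2, h3⟩ := card_rest_lt h hP
    omega
  · obtain ⟨h1, h2, -⟩ := card_rest_lt h hP
    obtain ⟨h1', -, -⟩ := card_rest_lt h' hP'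
    refine glue h h' hP hP' (i := 0) (j := 0) (by simp [he x hP.hx]) (by simp [he' x' hP'.hx])
      (by simp [he y hP.hy]) (by simp [he' y' hP'.hy]) ?_
    refine ih _ (hc ▸ h2) _ _ rfl ?_ (hP.ext_rest h) (hP'.ext_rest h') (fun a ha => he a (inf_le_left (α := Subgroup G) ha))
      (fun a ha => he' a (inf_le_left (α := Subgroup H) ha))
    exact Nat.eq_of_mul_eq_mul_left (Nat.mul_pos hp.pos hp.pos) (by rw [h1', h1, hc, hc'])

theorem index_coatom {G : Type*} [Group G] [Finite G] {p : ℕ} [Fact p.Prime]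
    (hG : IsPGroup p G) {M : Subgroup G} (hM : IsCoatom M) : M.Normal ∧ M.index = p := by
  haveI := hG.isNilpotent
  have hn : M.Normal :=
    Subgroup.NormalizerCondition.normal_of_coatom M Group.normalizerCondition_of_isNilpotent hM
  refine ⟨hn, ?_⟩
  have hQ : IsPGroup p (G ⧸ M) := hG.to_quotient M
  obtain ⟨n, hn'⟩ := IsPGroup.iff_card.mp hQ
  have hne : Nat.card (G ⧸ M) ≠ 1 := fun h => hM.1 (Subgroup.index_eq_one.mp h)
  have hd : p ∣ Nat.card (G ⧸ M) := by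
    rw [hn']; exact dvd_pow_self p (by rintro rfl; simp [hn'] at hne)
  obtain ⟨x, hx⟩ := exists_prime_orderOf_dvd_card' p hd
  have h2 : M < (Subgroup.zpowers x).comap (QuotientGroup.mk' M) := by
    refine lt_of_le_of_ne ((QuotientGroup.ker_mk' M).symm.le.trans (Subgroup.ker_le_comap _ _)) ?_
    intro he
    have := congrArg (Subgroup.map (QuotientGroup.mk' M)) he
    rw [Subgroup.map_comap_eq_self_of_surjective (QuotientGroup.mk'_surjective M),
      QuotientGroup.map_mk'_self] at this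
    have h1 : orderOf x = 1 := orderOf_eq_one_iff.mpr (Subgroup.zpowers_eq_bot.mp this.symm)
    exact (Fact.out : p.Prime).ne_one (hx.symm.trans h1)
  have h3 := congrArg (Subgroup.map (QuotientGroup.mk' M)) (hM.2 _ h2)
  rw [Subgroup.map_comap_eq_self_of_surjective (QuotientGroup.mk'_surjective M),
    Subgroup.map_top_of_surjective _ (QuotientGroup.mk'_surjective M)] at h3
  have := congrArg (fun H : Subgroup (G ⧸ M) => Nat.card H) h3
  simp only [Nat.card_zpowers, hx, Subgroup.card_top] at this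
  rw [Subgroup.index_eq_card]; exact this.symm

theorem ext_top {P : Type*} [Group P] [Finite P] (hP : Cfsg.IsExtraspecial p P) :
    ∃ z : P, Ext p z (⊤ : Subgroup P) := by
  obtain ⟨⟨hpg, hfr, hcom⟩, hc⟩ := hP
  obtain ⟨⟨z, hz⟩, hzo⟩ := exists_prime_orderOf_dvd_card' (G := Subgroup.center P) p (by rw [hc])
  rw [Subgroup.orderOf_mk] at hzo
  have e : Subgroup.zpowers z = Subgroup.center P := Subgroup.eq_of_le_of_card_ge (Subgroup.zpowers_le.mpr hz)
    (by rw [Nat.card_zpowers, hzo, hc])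
  refine ⟨z, trivial, hzo, fun a _ => (Subgroup.mem_center_iff.mp hz a).symm, fun a _ b _ => ?_, fun a _ => ?_,
    fun a _ ha => e ▸ Subgroup.mem_center_iff.mpr fun g => (ha g trivial).symm⟩
  · have hm : ⁅a, b⁆ ∈ Subgroup.zpowers z := by
      rw [e, ← hcom]; exact Subgroup.commutator_mem_commutator trivial trivial
    obtain ⟨k, hk⟩ := hm
    refine ⟨k, ?_⟩
    rw [show z ^ k = ⁅a, b⁆ from hk, commutatorElement_def]
    group
  · have hm : a ^ p ∈ Subgroup.zpowers z := by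
      rw [e, ← hfr, frattini, Order.radical]
      simp only [Subgroup.mem_iInf]
      intro M hM
      obtain ⟨hn, hi⟩ := index_coatom hpg hM
      exact hi ▸ Subgroup.pow_index_mem M a
    obtain ⟨k, hk⟩ := hm
    exact ⟨k, hk.symm⟩

theorem Rel.nonempty {G : Type*} [Group G] {H : Type*} [Group H] {z : G} {z' : H}
    (h : Rel z (⊤ : Subgroup G) z' (⊤ : Subgroup H)) : Nonempty (G ≃* H) := by
  obtain ⟨e, -⟩ := h
  exact ⟨Subgroup.topEquiv.symm.trans (e.trans Subgroup.topEquiv)⟩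

section two
variable {G : Type*} [Group G] [Finite G] {z : G} {C : Subgroup G}

/-- A pair of involutions. -/
def Hyper (z : G) (C : Subgroup G) : Prop := ∃ x y, Pair z C x y ∧ x ^ 2 = 1 ∧ y ^ 2 = 1

theorem sq_cases (h : Ext 2 z C) {a : G} (ha : a ∈ C) : a ^ 2 = 1 ∨ a ^ 2 = z := by
  obtain ⟨k, hk⟩ := h.pow a ha
  have hz : z ^ (2 : ℤ) = 1 := by
    rw [show (2 : ℤ) = ((2 : ℕ) : ℤ) from rfl, zpow_natCast, ← h.ord, pow_orderOf_eq_one]
  rcases Int.even_or_odd' k with ⟨m, rfl | rfl⟩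
  · left; rw [hk, zpow_mul, hz, one_zpow]
  · right; rw [hk, zpow_add_one, zpow_mul, hz, one_zpow, one_mul]

theorem hyper_of_involution (h : Ext 2 z C) {a : G} (ha : a ∈ C) (haz : a ∉ Subgroup.zpowers z) (h2 : a ^ 2 = 1) :
    Hyper z C := by
  obtain ⟨b, hP⟩ := exists_pair h ha haz
  rcases sq_cases h hP.hy with hb | hb
  · exact ⟨a, b, hP, h2, hb⟩
  have hzz : z * z = 1 := by rw [← pow_two, ← h.ord, pow_orderOf_eq_one]
  rw [pow_two] at h2 hb
  refine ⟨a, a * b, ⟨ha, C.mul_mem ha hP.hy, ?_⟩, by rw [pow_two]; exact h2, ?_⟩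
  · rw [hP.hxy]
    calc a * (z * (b * a)) = z * (a * b * a) := by rw [← mul_assoc a, ← (h.central a ha).eq]; group
      _ = _ := by rw [← hP.hxy]
  · have e : b * a = z * (a * b) := by rw [hP.hxy, ← mul_assoc, hzz, one_mul]
    rw [pow_two]
    calc a * b * (a * b) = a * (b * a) * b := by group
      _ = z * (a * a) * (b * b) := by rw [e, ← mul_assoc a, ← (h.central a ha).eq]; group
      _ = 1 := by rw [h2, hb, mul_one, hzz]

theorem hyper_of_big (h : Ext 2 z C) {x y : G} (hP : Pair z C x y) (hbig : 2 < Nat.card (rest C x y)) :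
    Hyper z C := by
  obtain ⟨u, hu, huz⟩ := SetLike.not_le_iff_exists.mp (show ¬ rest C x y ≤ Subgroup.zpowers z from fun hle => by
    have := Subgroup.card_le_of_le hle
    rw [Nat.card_zpowers, h.ord] at this
    omega)
  obtain ⟨huC, hux, huy⟩ := mem_rest.mp hu
  have hz1 : z ≠ 1 := fun e => by
    have := h.ord; rw [e, orderOf_one] at this; omega
  rcases sq_cases h huC with h1 | h1
  · exact hyper_of_involution h huC huz h1
  rcases sq_cases h hP.hx with h2 | h2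
  · refine hyper_of_involution h hP.hx (fun hx => hz1 ?_) h2
    obtain ⟨k, hk⟩ := hx
    have hc : Commute x y := (show z ^ k = x from hk) ▸ h.zcomm k hP.hy
    have := hP.hxy
    rwa [hc.eq, right_eq_mul] at this
  refine hyper_of_involution h (C.mul_mem hP.hx huC) (fun hm => hz1 ?_) ?_
  · obtain ⟨k, hk⟩ := hm
    have hc : Commute (x * u) y := (show z ^ k = x * u from hk) ▸ h.zcomm k hP.hy
    have e := hc.eq
    rw [mul_assoc, huy.eq, ← mul_assoc, hP.hxy, mul_assoc, mul_assoc] at e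
    rwa [mul_eq_right] at e
  · rw [hux.symm.mul_pow, h1, h2, ← pow_two, ← h.ord, pow_orderOf_eq_one]

theorem small (h : Ext 2 z C) (hn : ¬ Hyper z C) {x y : G} (hP : Pair z C x y) : x ^ 2 = z ∧ y ^ 2 = z := by
  have hz1 : z ≠ 1 := fun e => by
    have := h.ord; rw [e, orderOf_one] at this; omega
  have key : ∀ a b, a ∈ C → b ∈ C → a * b ≠ b * a → a ^ 2 = z := by
    intro a b ha hb hab
    refine (sq_cases h ha).resolve_left fun h2 => hn (hyper_of_involution h ha (fun hm => hab ?_) h2)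
    obtain ⟨k, hk⟩ := hm
    rw [← (show z ^ k = a from hk)]
    exact (h.zcomm k hb).eq
  have hne : x * y ≠ y * x := fun e => hz1 (by
    have := hP.hxy
    rwa [e, right_eq_mul] at this)
  exact ⟨key x y hP.hx hP.hy hne, key y x hP.hy hP.hx (Ne.symm hne)⟩

end two

theorem rel_eight {G : Type*} [Group G] [Finite G] {H : Type*} [Group H] [Finite H] {z : G} {z' : H} {C : Subgroup G}
    {C' : Subgroup H} {x y : G} {x' y' : H} (h : Ext 2 z C) (h' : Ext 2 z' C') (P : Pair z C x y) (P' : Pair z' C' x' y')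
    (c : Nat.card C = 8) (c' : Nat.card C' = 8) (hiff : Hyper z C ↔ Hyper z' C') : Rel z C z' C' := by
  have go : ∀ (a b : G) (a' b' : H) (i : ℤ), Pair z C a b → Pair z' C' a' b' → a ^ 2 = z ^ i → b ^ 2 = z ^ i →
      a' ^ 2 = z' ^ i → b' ^ 2 = z' ^ i → Rel z C z' C' := by
    intro a b a' b' i Q Q' e1 e2 e3 e4
    obtain ⟨q, -, -⟩ := card_rest_lt h Q
    obtain ⟨q', -, -⟩ := card_rest_lt h' Q'
    exact glue h h' Q Q' e1 e3 e2 e4 (rel_of_card_eq_prime (Q.ext_rest h) (Q'.ext_rest h') (by omega) (by omega))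
  by_cases hh : Hyper z C
  · obtain ⟨a, b, Q, s, t⟩ := hh
    obtain ⟨a', b', Q', s', t'⟩ := hiff.mp ⟨a, b, Q, s, t⟩
    exact go a b a' b' 0 Q Q' (by simpa using s) (by simpa using t) (by simpa using s') (by simpa using t')
  · obtain ⟨s, t⟩ := small h hh P
    obtain ⟨s', t'⟩ := small h' (fun e => hh (hiff.mpr e)) P'
    exact go x y x' y' 1 P P' (by simpa using s) (by simpa using t) (by simpa using s') (by simpa using t')

/-- Among three groups of equal order two are isomorphic (`p = 2`). -/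
theorem rel_three {G₁ : Type*} [Group G₁] [Finite G₁] {G₂ : Type*} [Group G₂] [Finite G₂]
    {G₃ : Type*} [Group G₃] [Finite G₃] {z₁ : G₁} {z₂ : G₂} {z₃ : G₃} :
    ∀ n : ℕ, ∀ (C₁ : Subgroup G₁) (C₂ : Subgroup G₂) (C₃ : Subgroup G₃), Nat.card C₁ = n → Nat.card C₂ = n →
      Nat.card C₃ = n → Ext 2 z₁ C₁ → Ext 2 z₂ C₂ → Ext 2 z₃ C₃ →
      Rel z₁ C₁ z₂ C₂ ∨ Rel z₂ C₂ z₃ C₃ ∨ Rel z₁ C₁ z₃ C₃ := by
  intro n
  induction n using Nat.strong_induction_on with
  | _ n ih =>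
  intro C₁ C₂ C₃ c1 c2 c3 h1 h2 h3
  by_cases hn : n = 2
  · exact Or.inl (rel_of_card_eq_prime h1 h2 (c1.trans hn) (c2.trans hn))
  obtain ⟨x₁, y₁, P₁⟩ := (card_cases h1).resolve_left (by omega)
  obtain ⟨x₂, y₂, P₂⟩ := (card_cases h2).resolve_left (by omega)
  obtain ⟨x₃, y₃, P₃⟩ := (card_cases h3).resolve_left (by omega)
  obtain ⟨r1, l1, g1⟩ := card_rest_lt h1 P₁
  obtain ⟨r2, l2, g2⟩ := card_rest_lt h2 P₂
  obtain ⟨r3, l3, g3⟩ := card_rest_lt h3 P₃
  by_cases hbig : 2 < Nat.card (rest C₁ x₁ y₁)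
  · obtain ⟨a₁, b₁, Q₁, s1, t1⟩ := hyper_of_big h1 P₁ hbig
    obtain ⟨a₂, b₂, Q₂, s2, t2⟩ := hyper_of_big h2 P₂ (by omega)
    obtain ⟨a₃, b₃, Q₃, s3, t3⟩ := hyper_of_big h3 P₃ (by omega)
    obtain ⟨q1, m1, -⟩ := card_rest_lt h1 Q₁
    obtain ⟨q2, -, -⟩ := card_rest_lt h2 Q₂
    obtain ⟨q3, -, -⟩ := card_rest_lt h3 Q₃
    rcases ih _ (c1 ▸ m1) (rest C₁ a₁ b₁) (rest C₂ a₂ b₂) (rest C₃ a₃ b₃) rfl (by omega) (by omega)
      (Q₁.ext_rest h1) (Q₂.ext_rest h2) (Q₃.ext_rest h3) with h | h | h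
    · exact Or.inl (glue h1 h2 Q₁ Q₂ (i := 0) (j := 0) (by simpa using s1) (by simpa using s2) (by simpa using t1) (by simpa using t2) h)
    · exact Or.inr (Or.inl (glue h2 h3 Q₂ Q₃ (i := 0) (j := 0) (by simpa using s2) (by simpa using s3) (by simpa using t2) (by simpa using t3) h))
    · exact Or.inr (Or.inr (glue h1 h3 Q₁ Q₃ (i := 0) (j := 0) (by simpa using s1) (by simpa using s3) (by simpa using t1) (by simpa using t3) h))
  · have : Nat.card C₁ = 8 := by omega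
    by_cases e1 : Hyper z₁ C₁ <;> by_cases e2 : Hyper z₂ C₂ <;> by_cases e3 : Hyper z₃ C₃
    all_goals first
      | exact Or.inl (rel_eight h1 h2 P₁ P₂ (by omega) (by omega) (by tauto))
      | exact Or.inr (Or.inl (rel_eight h2 h3 P₂ P₃ (by omega) (by omega) (by tauto)))
      | exact Or.inr (Or.inr (rel_eight h1 h3 P₁ P₃ (by omega) (by omega) (by tauto)))

end CfsgLib.ExtraIso
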