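import Cfsg.Agent.Lib.GenFitting
import Cfsg.Agent.Lib.GroupB.Subnormal

/-! Action of a `p`-subgroup on `F*` when the `p`-core is trivial (owner helper5). -/

set_option autoImplicit false
set_option linter.unusedSectionVars false

namespace CfsgLib.FStarComm

open Cfsg CfsgLib.Components
open scoped commutatorElement IsMulCommutative

variable {G : Type*} [Group G]

theorem pow_mul_inv_mem {N : Subgroup G} {t f : G} (hf : f ∈ Subgroup.normalizer (N : Set G)) (ht : t ∈ N) (n : ℕ) :
    (t * f) ^ n * (f ^ n)⁻¹ ∈ N := by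
  induction n with
  | zero => simp
  | succ n ih =>
    have h2 := (Subgroup.mem_normalizer_iff.mp (pow_mem hf n) t).mp ht
    rw [show (t * f) ^ (n + 1) * (f ^ (n + 1))⁻¹ = (t * f) ^ n * (f ^ n)⁻¹ * (f ^ n * t * (f ^ n)⁻¹) by
      rw [pow_succ, pow_succ]; group]
    exact mul_mem ih h2

theorem mem_of_pow_coprime {N : Subgroup G} {f : G} {n : ℕ} (hco : (orderOf f).Coprime n) (h : f ^ n ∈ N) : f ∈ N := by
  obtain ⟨j, hj⟩ := exists_pow_eq_self_of_coprime hco.symm
  exact hj ▸ pow_mem h j

/-- `⁅A, B⁆` is normalized by `A`. -/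
theorem le_normalizer_comm_left (A B : Subgroup G) : A ≤ Subgroup.normalizer ((⁅A, B⁆ : Subgroup G) : Set G) := by
  have hconj : ∀ a ∈ A, ∀ z ∈ ⁅A, B⁆, a * z * a⁻¹ ∈ ⁅A, B⁆ := by
    intro a ha z hz
    have hle : ⁅A, B⁆.map (MulAut.conj a).toMonoidHom ≤ ⁅A, B⁆ := by
      rw [Subgroup.map_le_iff_le_comap, Subgroup.commutator_le]
      intro l hl c hc
      show a * ⁅l, c⁆ * a⁻¹ ∈ ⁅A, B⁆
      rw [show a * ⁅l, c⁆ * a⁻¹ = ⁅a * l, c⁆ * ⁅a, c⁆⁻¹ by simp only [commutatorElement_def]; group]
      exact mul_mem (Subgroup.commutator_mem_commutator (mul_mem ha hl) hc)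
        (inv_mem (Subgroup.commutator_mem_commutator ha hc))
    exact hle ⟨z, hz, rfl⟩
  intro a ha
  refine Subgroup.mem_normalizer_iff.mpr fun z => ⟨hconj a ha z, fun hz => ?_⟩
  have := hconj a⁻¹ (inv_mem ha) _ hz
  rwa [inv_inv, show a⁻¹ * (a * z * a⁻¹) * a = z by group] at this

theorem le_normalizer_comm_right (A B : Subgroup G) : B ≤ Subgroup.normalizer ((⁅A, B⁆ : Subgroup G) : Set G) := by
  rw [Subgroup.commutator_comm A B]; exact le_normalizer_comm_left B A

variable [Finite G]

theorem component_normal_in_genFitting {L : Subgroup G} (hL : IsComponent L) :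
    generalizedFittingSubgroup G ≤ Subgroup.normalizer (L : Set G) :=
  sup_le (component_normal_in_layer hL) ((CfsgLib.GenFitting.fitting_le_centralizer_layer.trans
    (Subgroup.centralizer_le (component_le_layer hL))).trans (Subgroup.centralizer_le_normalizer _))

theorem fitting_coprime {p : ℕ} [hp : Fact p.Prime] (hO : pCore p G = ⊥) :
    (Nat.card ↥(fittingSubgroup G)).Coprime p := by
  refine Nat.Coprime.symm (hp.out.coprime_iff_not_dvd.mpr fun hd => ?_)
  haveI := CfsgLib.Core.isNilpotent_fittingSubgroup (G := G)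
  haveI := CfsgLib.Core.fittingSubgroup_normal (G := G)
  obtain ⟨P⟩ := (inferInstance : Nonempty (Sylow p ↥(fittingSubgroup G)))
  haveI hPn : (P : Subgroup ↥(fittingSubgroup G)).Normal :=
    (Group.isNilpotent_of_finite_tfae.out 0 3 rfl rfl).mp inferInstance p hp P
  haveI := P.characteristic_of_normal hPn
  have hle : (P : Subgroup ↥(fittingSubgroup G)).map (fittingSubgroup G).subtype ≤ pCore p G :=
    CfsgLib.Core.le_pCore inferInstance (P.2.map _)
  rw [hO, le_bot_iff, Subgroup.map_eq_bot_iff, Subgroup.ker_subtype, le_bot_iff] at hle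
  exact P.ne_bot_of_dvd_card hd hle

/-- A `p`-subgroup of the centralizer of `F*` is trivial. -/
theorem eq_bot_of_centralizes {p : ℕ} [hp : Fact p.Prime] (hO : pCore p G = ⊥) {Y : Subgroup G} (hY : IsPGroup p ↥Y)
    (h : ⁅generalizedFittingSubgroup G, Y⁆ = ⊥) : Y = ⊥ := by
  set X := generalizedFittingSubgroup G
  have hYC : Y ≤ Subgroup.centralizer (X : Set G) :=
    Subgroup.commutator_eq_bot_iff_le_centralizer.mp (by rwa [Subgroup.commutator_comm])
  set C := Subgroup.centralizer (X : Set G)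
  haveI : IsMulCommutative ↥C := ⟨⟨fun a b => Subtype.ext (Subgroup.mem_centralizer_iff.mp b.2 a
    (CfsgLib.GenFitting.centralizer_genFitting_le a.2))⟩⟩
  have hCF : C ≤ fittingSubgroup G := CfsgLib.Core.le_fittingSubgroup inferInstance
    inferInstance
  obtain ⟨k, hk⟩ := IsPGroup.iff_card.mp hY
  refine Subgroup.card_eq_one.mp (Nat.eq_one_of_dvd_coprimes ((fitting_coprime hO).pow_right k)
    (Subgroup.card_dvd_of_le (hYC.trans hCF)) (dvd_of_eq hk))

theorem commutator_subnormal {X Y : Subgroup G} (hX : X.IsSubnormal) (hY : Y ≤ Subgroup.normalizer (X : Set G)) :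
    (⁅X, Y⁆).IsSubnormal :=
  subnormal_of_normalized (Subgroup.le_normalizer_iff_commutator_le_left.mp hY) hX (le_normalizer_comm_left X Y)

/-- `[F*, Y, Y] = [F*, Y]`. -/
theorem comm_comm {p : ℕ} [hp : Fact p.Prime] (hO : pCore p G = ⊥) {Y : Subgroup G} (hY : IsPGroup p ↥Y) :
    ⁅⁅generalizedFittingSubgroup G, Y⁆, Y⁆ = ⁅generalizedFittingSubgroup G, Y⁆ := by
  classical
  set X := generalizedFittingSubgroup G with hX
  haveI hXn : X.Normal := CfsgLib.GenFitting.genFitting_normal
  set M := ⁅X, Y⁆ with hM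
  set N := ⁅M, Y⁆ with hN
  have hMX : M ≤ X := Subgroup.commutator_le_left X Y
  have hMs : M.IsSubnormal := commutator_subnormal (Subgroup.Normal.isSubnormal hXn) (by rw [Subgroup.normalizer_eq_top]; exact le_top)
  have hYM : Y ≤ Subgroup.normalizer (M : Set G) := le_normalizer_comm_right X Y
  have hNM : N ≤ M := Subgroup.le_normalizer_iff_commutator_le_left.mp hYM
  have hMN : M ≤ Subgroup.normalizer (N : Set G) := le_normalizer_comm_left M Y
  have hYN : Y ≤ Subgroup.normalizer (N : Set G) := le_normalizer_comm_right M Y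
  have hNs : N.IsSubnormal := commutator_subnormal hMs hYM
  -- every component in M lies in N
  have hcomp : ∀ L : Subgroup G, IsComponent L → L ≤ M → L ≤ N := by
    intro L hL hLM
    refine (component_cases hL hNs).resolve_right fun hLN => ?_
    have hNc : N ≤ Subgroup.centralizer (L : Set G) :=
      Subgroup.commutator_eq_bot_iff_le_centralizer.mp (by rwa [Subgroup.commutator_comm])
    have hmem : ∀ l ∈ L, ∀ y ∈ Y, ⁅l, y⁆ ∈ N := fun l hl y hy => Subgroup.commutator_mem_commutator (hLM hl) hy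
    have hLy : ∀ y ∈ Y, L.map (MulAut.conj y).toMonoidHom = L := by
      intro y hy
      by_contra hne
      have hc := Subgroup.commutator_eq_bot_iff_le_centralizer.mp (component_comm (component_map_conj hL y) hL hne)
      refine component_not_abelian hL fun l hl => ?_
      have := mul_mem (hNc (hmem l hl y hy)) (hc ⟨l, hl, rfl⟩)
      have e : ⁅l, y⁆ * (MulAut.conj y).toMonoidHom l = l := by
        simp [commutatorElement_def, mul_assoc]
      rwa [e] at this
    have hLY : ⁅L, Y⁆ = ⊥ := by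
      suffices h3 : ⁅⁅L, Y⁆, L⁆ = ⊥ by
        have h4 : ⁅⁅Y, L⁆, L⁆ = ⊥ := by rwa [Subgroup.commutator_comm Y L]
        have h5 := Subgroup.commutator_commutator_eq_bot_of_rotate (H₁ := L) (H₂ := L) (H₃ := Y) h3 h4
        rwa [component_perfect hL] at h5
      refine Subgroup.commutator_eq_bot_iff_le_centralizer.mpr ?_
      rw [Subgroup.commutator_le]
      exact fun l hl y hy => hNc (hmem l hl y hy)
    refine component_not_abelian hL (hLM.trans (Subgroup.commutator_eq_bot_iff_le_centralizer.mp ?_))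
    refine Subgroup.commutator_commutator_eq_bot_of_rotate (H₁ := X) (H₂ := Y) (H₃ := L) ?_ ?_
    · rw [Subgroup.commutator_comm Y L, hLY, Subgroup.commutator_bot_left]
    · refine le_bot_iff.mp ((Subgroup.commutator_mono ?_ le_rfl).trans hLY.le)
      exact Subgroup.le_normalizer_iff_commutator_le_left.mp (component_normal_in_genFitting hL)
  have hlay : (layer ↥M).map M.subtype ≤ N := by
    rw [Subgroup.map_le_iff_le_comap]
    exact sSup_le fun K hK => Subgroup.map_le_iff_le_comap.mp
      (hcomp _ ((component_iff_map hMs K).mp hK) (Subgroup.map_subtype_le _))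
  have hMle : M ≤ N ⊔ (fittingSubgroup G ⊓ M) :=
    (CfsgLib.GenFitting.le_sup_of_subnormal_le_genFitting hMs hMX).trans (sup_le_sup_right hlay _)
  have hF := fitting_coprime (p := p) hO
  set T := N ⊔ Y with hT
  have hfT : fittingSubgroup G ⊓ M ≤ Subgroup.normalizer (T : Set G) := by
    have hle : ∀ f ∈ fittingSubgroup G ⊓ M, ∀ t ∈ T, f * t * f⁻¹ ∈ T := by
      intro f hf t ht
      obtain ⟨hfF, hfM⟩ := Subgroup.mem_inf.mp hf
      have h1 : T.map (MulAut.conj f).toMonoidHom ≤ T := by
        rw [hT, Subgroup.map_sup]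
        refine sup_le ?_ ?_
        · rintro _ ⟨n, hn, rfl⟩
          exact Subgroup.mem_sup_left ((Subgroup.mem_normalizer_iff.mp (hMN hfM) n).mp hn)
        · rintro _ ⟨y, hy, rfl⟩
          show f * y * f⁻¹ ∈ N ⊔ Y
          rw [show f * y * f⁻¹ = ⁅f, y⁆ * y by simp [commutatorElement_def]]
          exact mul_mem (Subgroup.mem_sup_left (Subgroup.commutator_mem_commutator hfM hy)) (Subgroup.mem_sup_right hy)
      exact h1 ⟨t, ht, rfl⟩
    intro f hf
    refine Subgroup.mem_normalizer_iff.mpr fun z => ⟨hle f hf z, fun hz => ?_⟩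
    have := hle f⁻¹ (inv_mem hf) _ hz
    rwa [inv_inv, show f⁻¹ * (f * z * f⁻¹) * f = z by group] at this
  have hMT : M ≤ T := by
    rw [hM, Subgroup.commutator_le]
    intro x hx y hy
    have hw : x * y * x⁻¹ ∈ T ⊔ (fittingSubgroup G ⊓ M) := by
      rw [show x * y * x⁻¹ = ⁅x, y⁆ * y by simp [commutatorElement_def]]
      exact mul_mem ((hMle.trans (sup_le_sup_right le_sup_left _)) (Subgroup.commutator_mem_commutator hx hy))
        (Subgroup.mem_sup_left (Subgroup.mem_sup_right hy))
    rw [← SetLike.mem_coe, Subgroup.coe_mul_of_right_le_normalizer_left _ _ hfT, Set.mem_mul] at hw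
    obtain ⟨t, ht, f, hf, e⟩ := hw
    obtain ⟨k, hk⟩ := hY ⟨y, hy⟩
    have h1 := pow_mul_inv_mem (hfT hf) ht (p ^ k)
    rw [e, conj_pow, show y ^ p ^ k = 1 by simpa using congrArg Subtype.val hk, mul_one, mul_inv_cancel, one_mul,
      inv_mem_iff] at h1
    have hfT' := mem_of_pow_coprime
      ((Nat.Coprime.coprime_dvd_left (Subgroup.orderOf_dvd_natCard _ (Subgroup.mem_inf.mp hf).1) hF).pow_right k) h1
    rw [show ⁅x, y⁆ = t * f * y⁻¹ by rw [e, commutatorElement_def]]
    exact mul_mem (mul_mem ht hfT') (inv_mem (Subgroup.mem_sup_right hy))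
  refine le_antisymm hNM (hMle.trans (sup_le le_rfl fun f hf => ?_))
  obtain ⟨hfF, hfM⟩ := Subgroup.mem_inf.mp hf
  have h1 := hMT hfM
  rw [hT, ← SetLike.mem_coe, Subgroup.coe_mul_of_right_le_normalizer_left _ _ hYN, Set.mem_mul] at h1
  obtain ⟨n, hn, y, hy, e⟩ := h1
  obtain ⟨k, hk⟩ := hY ⟨y, hy⟩
  have h2 := pow_mul_inv_mem (hYN hy) hn (p ^ k)
  rw [e, show y ^ p ^ k = 1 by simpa using congrArg Subtype.val hk, inv_one, mul_one] at h2
  exact mem_of_pow_coprime
    ((Nat.Coprime.coprime_dvd_left (Subgroup.orderOf_dvd_natCard _ hfF) hF).pow_right k) h2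

theorem comm_le_of_subnormal {p : ℕ} [Fact p.Prime] (hO : pCore p G = ⊥) {Y : Subgroup G} (hY : IsPGroup p ↥Y)
    {K : Subgroup G} (hK : K.IsSubnormal) (hYK : Y ≤ K) :
    ⁅generalizedFittingSubgroup G, Y⁆ ≤ (generalizedFittingSubgroup ↥K).map K.subtype := by
  haveI hXn : (generalizedFittingSubgroup G).Normal := CfsgLib.GenFitting.genFitting_normal
  set M := ⁅generalizedFittingSubgroup G, Y⁆ with hM
  have hMs : M.IsSubnormal := commutator_subnormal (Subgroup.Normal.isSubnormal hXn)
    (by rw [Subgroup.normalizer_eq_top]; exact le_top)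
  have hMK : M ≤ K := by
    clear hMs
    induction hK with
    | top => exact le_top
    | step A B hAB _ hn ih =>
      rw [hM, ← comm_comm hO hY]
      refine (Subgroup.commutator_mono (ih (hYK.trans hAB)) hYK).trans ?_
      exact Subgroup.le_normalizer_iff_commutator_le_right.mp ((Subgroup.normal_subgroupOf_iff_le_normalizer hAB).mp hn)
  refine (CfsgLib.GenFitting.le_sup_of_subnormal_le_genFitting hMs (Subgroup.commutator_le_left _ _)).trans (sup_le ?_ ?_)
  · rw [Subgroup.map_le_iff_le_comap]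
    refine sSup_le fun L hL => Subgroup.map_le_iff_le_comap.mp ?_
    have hL' : IsComponent (L.map M.subtype) := (component_iff_map hMs L).mp hL
    have hle : L.map M.subtype ≤ K := (Subgroup.map_subtype_le _).trans hMK
    rw [← subgroupOf_map hle]
    exact Subgroup.map_mono ((component_le_layer (component_subgroupOf hL' hle)).trans le_sup_left)
  · refine le_trans (inf_le_inf_left _ hMK) ?_
    rw [← (CfsgLib.GenFitting.component_le_iff_in hK).2]
    exact Subgroup.map_mono le_sup_right

end CfsgLib.FStarComm
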