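import Mathlib
import Cfsg.Prelude.Def_Transfer
import Cfsg.Agent.Lib.LocalBasic

/-! Focal subgroup tools for the transfer topic. (helper7) -/

set_option autoImplicit false
set_option linter.style.haveILetI false

namespace CfsgLib.FocalTransfer

open scoped commutatorElement

variable {G : Type*} [Group G]

/-- If conjugation between elements of `H` is realised inside `N ≥ H`, the focal subgroup of `H` is in
`⁅H, N⁆`. -/
theorem focal_le_commutator_of_control {H N : Subgroup G}
    (hctl : ∀ x ∈ H, ∀ g : G, g * x * g⁻¹ ∈ H → ∃ n ∈ N, n * x * n⁻¹ = g * x * g⁻¹) :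
    Subgroup.focalSubgroup H ≤ ⁅H, N⁆ := by
  rw [Subgroup.focalSubgroup_def, Subgroup.closure_le]
  rintro _ ⟨hz, x, hx, u, rfl⟩
  have h1 : u * x⁻¹ * u⁻¹ ∈ H := by
    have := H.mul_mem (H.inv_mem hx) hz
    simpa [commutatorElement_def, mul_assoc] using this
  obtain ⟨n, hn, hn'⟩ := hctl x⁻¹ (H.inv_mem hx) u h1
  have : ⁅x, u⁆ = ⁅x, n⁆ := by
    calc ⁅x, u⁆ = x * (u * x⁻¹ * u⁻¹) := by group
      _ = x * (n * x⁻¹ * n⁻¹) := by rw [hn']
      _ = _ := by group
  rw [this]
  exact Subgroup.commutator_mem_commutator hx hn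

theorem focal_mem {H : Subgroup G} {x u : G} (hx : x ∈ H) (h : ⁅x, u⁆ ∈ H) :
    ⁅x, u⁆ ∈ Subgroup.focalSubgroup H :=
  Subgroup.subset_closure ⟨h, x, hx, u, rfl⟩

theorem le_commutator_top (A B : Subgroup G) : ⁅A, B⁆ ≤ commutator G :=
  Subgroup.commutator_mono le_top le_top

/-- An abelian Sylow subgroup: `G' ∩ P = [P, N(P)]`. -/
theorem abelian_sylow [Finite G] {p : ℕ} [Fact p.Prime] (P : Sylow p G)
    (hP : IsMulCommutative ↥(P : Subgroup G)) :
    commutator G ⊓ (P : Subgroup G)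
      = ⁅(P : Subgroup G), Subgroup.normalizer ((P : Subgroup G) : Set G)⁆ := by
  apply le_antisymm
  · rw [Subgroup.commutator_inf_eq_focalSubgroup P]
    refine focal_le_commutator_of_control fun x hx g hg => ?_
    obtain ⟨n, hn, h⟩ := P.conj_eq_normalizer_conj_of_mem x g⁻¹ hx (by rwa [inv_inv])
    rw [inv_inv] at h
    exact ⟨n⁻¹, inv_mem hn, by rw [inv_inv]; exact h.symm⟩
  · exact le_inf (le_commutator_top _ _) (Subgroup.commutator_le.mpr fun a ha b hb => by
      rw [commutatorElement_def, mul_assoc, mul_assoc, ← mul_assoc b]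
      exact (P : Subgroup G).mul_mem ha
        ((Subgroup.mem_normalizer_iff.mp hb a⁻¹).mp ((P : Subgroup G).inv_mem ha)))

/-- When `[G:H]` is prime to `|H : H'|`, the transfer into `H / H*` splits `G` over the focal subgroup. -/
theorem coprime_focal [Finite G] (H : Subgroup G) (h : Nat.Coprime H.index (⁅H, H⁆.relIndex H)) :
    Subgroup.focalSubgroup H = commutator G ⊓ H ∧
      ∃ N : Subgroup G, N.Normal ∧ N ⊓ H = commutator G ⊓ H ∧ N ⊔ H = ⊤ := by
  classical
  open scoped IsMulCommutative in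
  have hcard : Nat.card (↥H ⧸ Subgroup.focalSubgroupOf H) ∣ ⁅H, H⁆.relIndex H := by
    rw [← Subgroup.index_eq_card, Subgroup.focalSubgroupOf_def, ← Subgroup.relIndex]
    exact Subgroup.relIndex_dvd_of_le_left _ (Subgroup.commutator_le_focalSubgroup H)
  have hcop : (Nat.card (↥H ⧸ Subgroup.focalSubgroupOf H)).Coprime H.index :=
    (Nat.Coprime.coprime_dvd_right hcard h).symm
  have hker : (Subgroup.transferFocal H).ker ⊓ H = Subgroup.focalSubgroup H := by
    ext x
    constructor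
    · rintro ⟨hx, hxH⟩
      have h1 : Subgroup.transferFocal H ((⟨x, hxH⟩ : H) : G) = 1 := hx
      rw [Subgroup.transferFocal_eq_pow] at h1
      have h2 : ((⟨x, hxH⟩ : H) : ↥H ⧸ Subgroup.focalSubgroupOf H) = 1 :=
        (powCoprime hcop).injective (by rw [powCoprime_apply, powCoprime_apply, h1, one_pow])
      exact Subgroup.mem_subgroupOf.mp ((QuotientGroup.eq_one_iff (N := Subgroup.focalSubgroupOf H) _).mp h2)
    · intro hx
      refine ⟨?_, Subgroup.focalSubgroup_le H hx⟩
      show Subgroup.transferFocal H ((⟨x, Subgroup.focalSubgroup_le H hx⟩ : H) : G) = 1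
      rw [Subgroup.transferFocal_eq_pow, (QuotientGroup.eq_one_iff (N := Subgroup.focalSubgroupOf H) _).mpr (Subgroup.mem_subgroupOf.mpr hx),
        one_pow]
  have hcomm : commutator G ≤ (Subgroup.transferFocal H).ker :=
    Abelianization.commutator_subset_ker _
  have heq : Subgroup.focalSubgroup H = commutator G ⊓ H :=
    le_antisymm (le_inf (Subgroup.focalSubgroup_le_commutator H) (Subgroup.focalSubgroup_le H))
      (hker ▸ inf_le_inf_right H hcomm)
  refine ⟨heq, (Subgroup.transferFocal H).ker, inferInstance, by rw [hker, heq], ?_⟩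
  rw [eq_top_iff]
  intro g _
  obtain ⟨q, hq⟩ := (powCoprime hcop).surjective (Subgroup.transferFocal H g)
  rw [powCoprime_apply] at hq
  obtain ⟨a, rfl⟩ := QuotientGroup.mk_surjective q
  rw [← Subgroup.transferFocal_eq_pow] at hq
  have : g = g * (a : G)⁻¹ * a := by group
  rw [this]
  refine Subgroup.mul_mem_sup ?_ a.2
  rw [MonoidHom.mem_ker, map_mul, map_inv, hq, mul_inv_cancel]

theorem sylow_coprime_relIndex [Finite G] {p : ℕ} [Fact p.Prime] (P : Sylow p G) :
    Nat.Coprime (P : Subgroup G).index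
      (⁅(P : Subgroup G), (P : Subgroup G)⁆.relIndex (P : Subgroup G)) := by
  refine Nat.Coprime.coprime_dvd_right (Subgroup.relIndex_dvd_card _ _) ?_
  obtain ⟨k, hk⟩ := P.isPGroup'.exists_card_eq
  rw [hk]
  exact Nat.Coprime.pow_right _ (((Fact.out : p.Prime).coprime_iff_not_dvd.mpr P.not_dvd_index).symm)

/-- An abelian Hall subgroup meets `G' ∩ Z(G)` trivially. -/
theorem abelian_hall_inf [Finite G] (H : Subgroup G) (hc : IsMulCommutative H)
    (hHall : Nat.Coprime (Nat.card H) H.index) :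
    H ⊓ commutator G ⊓ Subgroup.center G = ⊥ := by
  open scoped IsMulCommutative in
  rw [eq_bot_iff]
  rintro x ⟨⟨hxH, hxC⟩, hxZ⟩
  have key : ∀ (k : ℕ) (g₀ : G), g₀⁻¹ * x ^ k * g₀ ∈ H → g₀⁻¹ * x ^ k * g₀ = x ^ k := fun k g₀ _ => by
    rw [mul_assoc, ← Subgroup.mem_center_iff.mp (pow_mem hxZ k) g₀, inv_mul_cancel_left]
  open scoped IsMulCommutative in
  have h1 := MonoidHom.transfer_eq_pow (MonoidHom.id H) x key
  open scoped IsMulCommutative in
  have h2 : MonoidHom.transfer (MonoidHom.id H) x = 1 := Abelianization.commutator_subset_ker _ hxC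
  rw [h2] at h1
  have h3 : x ^ H.index = 1 := (congrArg Subtype.val h1).symm
  rw [Subgroup.mem_bot]
  refine orderOf_eq_one_iff.mp (Nat.eq_one_of_dvd_coprimes hHall ?_ (orderOf_dvd_of_pow_eq_one h3))
  exact Subgroup.orderOf_dvd_natCard H hxH

/-- An abelian normal Hall subgroup is `(G' ∩ A) × (Z(G) ∩ A)` and `[A, G] = G' ∩ A`. -/
theorem abelian_normal_hall [Finite G] (A : Subgroup G) [A.Normal] (hc : IsMulCommutative A)
    (hHall : Nat.Coprime (Nat.card A) A.index) :
    ⁅A, (⊤ : Subgroup G)⁆ = commutator G ⊓ A ∧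
      (commutator G ⊓ A) ⊓ (Subgroup.center G ⊓ A) = ⊥ ∧
      (commutator G ⊓ A) ⊔ (Subgroup.center G ⊓ A) = A := by
  classical
  have hfoc : Subgroup.focalSubgroup A = commutator G ⊓ A :=
    (coprime_focal A (Nat.Coprime.coprime_dvd_right (Subgroup.relIndex_dvd_card _ _) hHall.symm)).1
  have h1 : ⁅A, (⊤ : Subgroup G)⁆ = commutator G ⊓ A := by
    refine le_antisymm (le_inf (le_commutator_top _ _) (Subgroup.commutator_le_left A ⊤)) ?_
    rw [← hfoc]
    exact focal_le_commutator_of_control fun x _ g _ => ⟨g, Subgroup.mem_top g, rfl⟩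
  refine ⟨h1, ?_, le_antisymm (sup_le inf_le_right inf_le_right) ?_⟩
  · rw [eq_bot_iff, ← abelian_hall_inf A hc hHall]
    exact fun x hx => ⟨⟨hx.1.2, hx.1.1⟩, hx.2.1⟩
  intro a ha
  haveI := Fintype.ofFinite (G ⧸ A)
  letI : CommGroup A := { (inferInstance : Group A) with mul_comm := hc.is_comm.comm }
  let cj : G → A := fun g => ⟨g * a * g⁻¹, (inferInstance : A.Normal).conj_mem a ha g⟩
  have hwd : ∀ g g' : G, (g : G ⧸ A) = g' → cj g = cj g' := by
    intro g g' e
    obtain ⟨b, hb, rfl⟩ : ∃ b ∈ A, g' = g * b := ⟨g⁻¹ * g', QuotientGroup.eq.mp e, by group⟩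
    apply Subtype.ext
    show g * a * g⁻¹ = g * b * a * (g * b)⁻¹
    have hab : b * a = a * b := congrArg Subtype.val (hc.is_comm.comm (⟨b, hb⟩ : A) ⟨a, ha⟩)
    rw [mul_assoc g b a, hab]
    group
  let c : A := ∏ q : G ⧸ A, cj q.out
  have hcZ : (c : G) ∈ Subgroup.center G := by
    rw [Subgroup.mem_center_iff]
    intro g
    let φ : A →* A := (MulAut.conjNormal g).toMonoidHom
    have hc' : φ c = c := by
      rw [map_prod]
      refine Fintype.prod_equiv (MulAction.toPerm g) _ _ fun q => ?_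
      have e : φ (cj q.out) = cj (g * q.out) := Subtype.ext (by
        show g * (q.out * a * q.out⁻¹) * g⁻¹ = (g * q.out) * a * (g * q.out)⁻¹
        group)
      rw [e]
      refine hwd _ _ ?_
      show ((g * q.out : G) : G ⧸ A) = ((g • q).out : G ⧸ A)
      rw [QuotientGroup.out_eq', ← smul_eq_mul, ← MulAction.Quotient.smul_mk, QuotientGroup.out_eq']
    exact mul_inv_eq_iff_eq_mul.mp (congrArg Subtype.val hc')
  let K : Subgroup A := (commutator G ⊓ A).subgroupOf A
  have hquot : (c : A ⧸ K) = ((⟨a, ha⟩ : A) : A ⧸ K) ^ A.index := by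
    rw [show ((c : A ⧸ K)) = ∏ q : G ⧸ A, ((cj q.out : A) : A ⧸ K) from map_prod (QuotientGroup.mk' K) _ _,
      Finset.prod_congr rfl (fun q _ => ?_), Finset.prod_const, Finset.card_univ, Subgroup.index_eq_card,
      Nat.card_eq_fintype_card]
    refine QuotientGroup.eq.mpr ?_
    show ((cj q.out)⁻¹ * ⟨a, ha⟩ : A).1 ∈ commutator G ⊓ A
    refine ⟨?_, SetLike.coe_mem _⟩
    show (q.out * a * q.out⁻¹)⁻¹ * a ∈ commutator G
    have : (q.out * a * q.out⁻¹)⁻¹ * a = ⁅q.out, a⁻¹⁆ := by group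
    rw [this]
    exact Subgroup.commutator_mem_commutator (Subgroup.mem_top _) (Subgroup.mem_top _)
  have hm : a ^ A.index ∈ (commutator G ⊓ A) ⊔ (Subgroup.center G ⊓ A) := by
    have h2 : (c⁻¹ * ⟨a, ha⟩ ^ A.index : A).1 ∈ commutator G ⊓ A := Subgroup.mem_subgroupOf.mp
      ((QuotientGroup.eq (s := K)).mp (hquot.trans (QuotientGroup.mk_pow K _ _).symm))
    have e : a ^ A.index = ((c⁻¹ * ⟨a, ha⟩ ^ A.index : A).1) * (c : G) := by
      have e' : (⟨a, ha⟩ : A) ^ A.index = c⁻¹ * ⟨a, ha⟩ ^ A.index * c := by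
        rw [mul_comm, mul_inv_cancel_left]
      exact congrArg Subtype.val e'
    rw [e]
    exact Subgroup.mul_mem_sup h2 ⟨hcZ, c.2⟩
  obtain ⟨j, hj⟩ := exists_pow_eq_self_of_coprime
    (Nat.Coprime.coprime_dvd_left (Subgroup.orderOf_dvd_natCard A ha) hHall).symm
  rw [← hj]
  exact Subgroup.pow_mem _ hm j

end CfsgLib.FocalTransfer

namespace CfsgLib.FocalTransfer

variable {G : Type*} [Group G] [Finite G] {p : ℕ} [Fact p.Prime]

theorem npc_of_normalizer_le (P : Sylow p G)
    (h : Subgroup.normalizer ((P : Subgroup G) : Set G) ≤ Subgroup.centralizer ((P : Subgroup G) : Set G)) :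
    Cfsg.HasNormalPComplement p G :=
  ⟨P, (MonoidHom.transferSylow P h).ker, inferInstance, MonoidHom.ker_transferSylow_isComplement' P h⟩

/-- An abelian Sylow `p`-subgroup is central in its normalizer unless some prime `q ≠ p` dividing `|G|`
divides `|P| - p ^ j` for some `p ^ j < |P|`. -/
theorem exists_prime_of_not_central (P : Sylow p G) (hP : IsMulCommutative ↥(P : Subgroup G)) {a : ℕ}
    (ha : Nat.card ↥(P : Subgroup G) = p ^ a)
    (h : ¬ Subgroup.normalizer ((P : Subgroup G) : Set G) ≤ Subgroup.centralizer ((P : Subgroup G) : Set G)) :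
    ∃ q j, q.Prime ∧ q ≠ p ∧ q ∣ Nat.card G ∧ j < a ∧ q ∣ p ^ a - p ^ j := by
  classical
  obtain ⟨n, hn, hnC⟩ := SetLike.not_le_iff_exists.mp h
  set T := (P : Subgroup G)
  -- the conjugation automorphisms of `T`
  let f : ↥(Subgroup.normalizer (T : Set G)) →* MulAut ↥T := T.normalizerMonoidHom
  have hker : ∀ g : ↥(Subgroup.normalizer (T : Set G)), f g = 1 ↔ (g : G) ∈ Subgroup.centralizer (T : Set G) := by
    intro g
    rw [← MonoidHom.mem_ker, Subgroup.normalizerMonoidHom_ker]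
    exact Subgroup.mem_subgroupOf
  have hne : f ⟨n, hn⟩ ≠ 1 := fun e => hnC ((hker _).mp e)
  -- its order is prime to `p`
  have hcop : ¬ p ∣ Nat.card f.range := by
    intro hd
    rw [← Subgroup.index_ker, Subgroup.normalizerMonoidHom_ker] at hd
    have hTC : T ≤ Subgroup.centralizer (T : Set G) := P.le_centralizer
    exact P.not_dvd_index (hd.trans ((Subgroup.relIndex_dvd_of_le_left _ hTC).trans
      (Subgroup.relIndex_dvd_index_of_le Subgroup.le_normalizer)))
  obtain ⟨q, hq, hqd⟩ := Nat.exists_prime_and_dvd (fun e : orderOf (f ⟨n, hn⟩) = 1 => hne (orderOf_eq_one_iff.mp e))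
  have hqr : q ∣ Nat.card f.range := hqd.trans (by
    rw [← Subgroup.orderOf_mk (H := f.range) (f ⟨n, hn⟩) ⟨_, rfl⟩]; exact orderOf_dvd_natCard _)
  haveI := Fact.mk hq
  obtain ⟨σ, hσ⟩ := exists_prime_orderOf_dvd_card' q hqr
  have hqG : q ∣ Nat.card G :=
    hqr.trans ((Subgroup.card_range_dvd f).trans (Subgroup.card_subgroup_dvd_card _))
  have hσ' : orderOf (σ : MulAut ↥T) = q := by rw [Subgroup.orderOf_coe]; exact hσ
  have hz : IsPGroup q ↥(Subgroup.zpowers (σ : MulAut ↥T)) :=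
    IsPGroup.of_card (n := 1) (by rw [Nat.card_zpowers, hσ', pow_one])
  have hmod := hz.card_modEq_card_fixedPoints ↥T
  let F : Subgroup ↥T := FixedPoints.subgroup ↥(Subgroup.zpowers (σ : MulAut ↥T)) ↥T
  obtain ⟨j, hj, hj'⟩ := (Nat.dvd_prime_pow (Fact.out : p.Prime)).mp (ha ▸ Subgroup.card_subgroup_dvd_card F)
  have hfix : Nat.card (MulAction.fixedPoints ↥(Subgroup.zpowers (σ : MulAut ↥T)) ↥T) = Nat.card F := rfl
  have hja : j < a := by
    refine lt_of_le_of_ne hj fun e => ?_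
    subst e
    have hF : F = ⊤ := Subgroup.eq_top_of_card_eq _ (hj'.trans ha.symm)
    have : (σ : MulAut ↥T) = 1 := by
      ext x
      have hx : x ∈ F := hF ▸ Subgroup.mem_top x
      exact congrArg Subtype.val (hx ⟨_, Subgroup.mem_zpowers _⟩)
    rw [this, orderOf_one] at hσ'
    exact hq.one_lt.ne hσ'
  refine ⟨q, j, hq, fun e => hcop (e ▸ hqr), hqG, hja, ?_⟩
  rw [hfix, hj', ha] at hmod
  exact (Nat.modEq_iff_dvd' (Nat.pow_le_pow_right (Fact.out : p.Prime).pos hja.le)).mp hmod.symm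

end CfsgLib.FocalTransfer

namespace CfsgLib.FocalTransfer

variable {G : Type*} [Group G] [Finite G] {p : ℕ} [Fact p.Prime]

/-- An abelian Sylow subgroup `P` is `[P, N(P)] × (P ∩ C(N(P)))`. -/
theorem sylow_decomp (P : Sylow p G) (hP : IsMulCommutative ↥(P : Subgroup G)) :
    ⁅(P : Subgroup G), Subgroup.normalizer ((P : Subgroup G) : Set G)⁆ ⊓
        ((P : Subgroup G) ⊓ Subgroup.centralizer
          (Subgroup.normalizer ((P : Subgroup G) : Set G) : Set G)) = ⊥ ∧
      ⁅(P : Subgroup G), Subgroup.normalizer ((P : Subgroup G) : Set G)⁆ ⊔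
        ((P : Subgroup G) ⊓ Subgroup.centralizer
          (Subgroup.normalizer ((P : Subgroup G) : Set G) : Set G)) = (P : Subgroup G) := by
  set N := Subgroup.normalizer ((P : Subgroup G) : Set G) with hN
  set A := (P : Subgroup G).subgroupOf N with hA
  haveI : A.Normal := Subgroup.normal_in_normalizer
  have hAc : IsMulCommutative ↥A := ⟨⟨fun a b => Subtype.ext (Subtype.ext (congrArg Subtype.val
    (hP.is_comm.comm (⟨a.1.1, a.2⟩ : (P : Subgroup G)) ⟨b.1.1, b.2⟩) : _))⟩⟩
  have hcard : Nat.card ↥A = Nat.card ↥(P : Subgroup G) :=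
    Nat.card_congr (Subgroup.subgroupOfEquivOfLe Subgroup.le_normalizer).toEquiv
  have hHall : Nat.Coprime (Nat.card ↥A) A.index := by
    obtain ⟨k, hk⟩ := P.isPGroup'.exists_card_eq
    rw [hcard, hk]
    exact ((Fact.out : p.Prime).coprime_iff_not_dvd.mpr fun h =>
      P.not_dvd_index (h.trans (Subgroup.relIndex_dvd_index_of_le Subgroup.le_normalizer))).pow_left k
  obtain ⟨h1, h2, h3⟩ := abelian_normal_hall A hAc hHall
  rw [← h1] at h2 h3
  have hAmap : A.map N.subtype = (P : Subgroup G) :=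
    Subgroup.map_subgroupOf_eq_of_le Subgroup.le_normalizer
  have hcomm : (⁅A, (⊤ : Subgroup ↥N)⁆).map N.subtype = ⁅(P : Subgroup G), N⁆ := by
    rw [Subgroup.map_commutator, hAmap, ← MonoidHom.range_eq_map, Subgroup.range_subtype]
  have hcen : (Subgroup.center ↥N ⊓ A).map N.subtype
      = (P : Subgroup G) ⊓ Subgroup.centralizer (N : Set G) := by
    ext x
    constructor
    · rintro ⟨⟨y, hy⟩, ⟨hyc, hyA⟩, rfl⟩
      exact ⟨hyA, Subgroup.mem_centralizer_iff.mpr fun n hn =>
        congrArg Subtype.val (Subgroup.mem_center_iff.mp hyc ⟨n, hn⟩)⟩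
    · rintro ⟨hxP, hxC⟩
      exact ⟨⟨x, Subgroup.le_normalizer hxP⟩, ⟨Subgroup.mem_center_iff.mpr fun n =>
        Subtype.ext (Subgroup.mem_centralizer_iff.mp hxC n n.2), hxP⟩, rfl⟩
  constructor
  · rw [← hcomm, ← hcen, ← Subgroup.map_inf _ _ _ N.subtype_injective, h2, Subgroup.map_bot]
  · rw [← hcomm, ← hcen, ← Subgroup.map_sup, h3, hAmap]

end CfsgLib.FocalTransfer
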