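import Mathlib.GroupTheory.PGroup
import Mathlib.GroupTheory.Perm.Cycle.Type
import Mathlib.GroupTheory.Nilpotent
import Mathlib.GroupTheory.IndexNormal
import Mathlib.GroupTheory.SpecificGroups.Dihedral
import Mathlib.GroupTheory.SpecificGroups.Cyclic
import Mathlib.Tactic

/-! 2-groups with an involution whose centralizer has order 4. -/

namespace CfsgLib.MaximalClass

open Subgroup

universe u

theorem exists_cyclic_index_two : ∀ (N : ℕ) {S : Type u} [Group S] [Finite S], Nat.card S = N →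
    IsPGroup 2 S → 8 ≤ Nat.card S → ∀ x : S, orderOf x = 2 →
    Nat.card (centralizer ({x} : Set S)) = 4 →
    ∃ a : S, 2 * orderOf a = Nat.card S ∧ x ∉ zpowers a := by
  intro N
  induction N using Nat.strong_induction_on with
  | _ N IH =>
  intro S _ _ hN hS h8 x hx hC
  classical
  haveI : Fact (Nat.Prime 2) := ⟨Nat.prime_two⟩
  haveI : Nontrivial S := Finite.one_lt_card_iff_nontrivial.1 (by omega)
  have hx2 : x * x = 1 := by rw [← sq, ← hx, pow_orderOf_eq_one]
  have hx1 : x ≠ 1 := fun h => by simp [h] at hx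
  have hxnc : ∃ g : S, g * x ≠ x * g := by
    by_contra h
    push Not at h
    have htop : centralizer ({x} : Set S) = ⊤ :=
      eq_top_iff.2 fun g _ => mem_centralizer_singleton_iff.2 (h g)
    rw [htop, card_top] at hC
    omega
  haveI := hS.center_nontrivial
  obtain ⟨k, hk, hkc⟩ := (IsPGroup.nontrivial_iff_card (hS.to_subgroup (center S))).1 inferInstance
  obtain ⟨⟨z, hzc⟩, hz⟩ := exists_prime_orderOf_dvd_card' (G := center S) 2
    (by rw [hkc]; exact dvd_pow_self 2 (by omega))
  rw [Subgroup.orderOf_mk] at hz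
  have hz2 : z * z = 1 := by rw [← sq, ← hz, pow_orderOf_eq_one]
  have hz1 : z ≠ 1 := fun h => by simp [h] at hz
  have hzcomm : ∀ g : S, g * z = z * g := mem_center_iff.1 hzc
  have hzx : z ≠ x := fun h => by
    obtain ⟨g, hg⟩ := hxnc
    exact hg (h ▸ hzcomm g)
  set C := centralizer ({x} : Set S)
  have hCset : ∀ c ∈ C, c = 1 ∨ c = x ∨ c = z ∨ c = x * z := by
    have hsub : ({1, x, z, x * z} : Set S) ⊆ (C : Set S) := by
      rintro c (rfl | rfl | rfl | rfl)
      · exact C.one_mem
      · exact mem_centralizer_singleton_iff.2 rfl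
      · exact mem_centralizer_singleton_iff.2 (hzcomm x).symm
      · exact C.mul_mem (mem_centralizer_singleton_iff.2 rfl) (mem_centralizer_singleton_iff.2 (hzcomm x).symm)
    have hxz1 : x * z ≠ 1 := fun h => hzx (by
      rw [eq_inv_of_mul_eq_one_right h, inv_eq_of_mul_eq_one_right hx2])
    have hcard : ({1, x, z, x * z} : Set S).ncard = 4 := by
      rw [Set.ncard_insert_of_notMem (by simp [hx1.symm, hz1.symm, hxz1.symm]),
        Set.ncard_insert_of_notMem (by simp [hzx.symm, hz1]),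
        Set.ncard_insert_of_notMem (by simp [hx1]), Set.ncard_singleton]
    have heq := Set.eq_of_subset_of_ncard_le hsub (by
      rw [hcard, ← Nat.card_coe_set_eq]; exact hC.le)
    intro c hc
    have : c ∈ ({1, x, z, x * z} : Set S) := heq ▸ hc
    simpa using this
  by_cases h16 : Nat.card S = 8
  · obtain ⟨a, ha⟩ : ∃ a : S, a * a ≠ 1 := by
      by_contra h
      push Not at h
      obtain ⟨g, hg⟩ := hxnc
      exact hg (by
        calc g * x = (g * x) * ((x * g) * (x * g)) := by rw [h, mul_one]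
          _ = g * (x * x) * g * (x * g) := by group
          _ = (g * g) * (x * g) := by rw [hx2]; group
          _ = x * g := by rw [h, one_mul])
    obtain ⟨j, hj⟩ := IsPGroup.iff_orderOf.1 hS a
    have hdvd : orderOf a ∣ 2 ^ 3 := by have := orderOf_dvd_natCard a; rwa [h16] at this
    have hjle : j ≤ 3 := by rw [hj] at hdvd; exact (Nat.pow_dvd_pow_iff_le_right (by norm_num)).1 hdvd
    have hj2 : 2 ≤ j := by
      by_contra h
      have : orderOf a ∣ 2 := by rw [hj]; exact dvd_trans (pow_dvd_pow 2 (by omega : j ≤ 1)) (by norm_num)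
      exact ha (by rw [← sq]; exact orderOf_dvd_iff_pow_eq_one.1 this)
    have hj3 : j = 2 := by
      by_contra h
      obtain rfl : j = 3 := by omega
      have htop : zpowers a = ⊤ := eq_top_of_card_eq _ (by rw [Nat.card_zpowers, hj, h16]; norm_num)
      obtain ⟨g, hg⟩ := hxnc
      obtain ⟨i, rfl⟩ := mem_zpowers_iff.1 (htop.symm ▸ mem_top g : g ∈ zpowers a)
      obtain ⟨l, rfl⟩ := mem_zpowers_iff.1 (htop.symm ▸ mem_top x : x ∈ zpowers a)
      exact hg ((Commute.refl a).zpow_zpow i l).eq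
    subst hj3
    refine ⟨a, by rw [hj, h16]; norm_num, fun hmem => ?_⟩
    obtain ⟨g, hg⟩ := hxnc
    have hidx : (zpowers a).index = 2 := by
      have := (zpowers a).card_mul_index
      rw [Nat.card_zpowers, hj, h16] at this
      omega
    haveI := normal_of_index_eq_two hidx
    haveI : IsCyclic (zpowers a) := inferInstance
    have hmem' : g * x * g⁻¹ ∈ zpowers a := Subgroup.Normal.conj_mem inferInstance x hmem g
    have huniq : g * x * g⁻¹ = x := by
      have := Fintype.ofFinite (zpowers a)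
      have h4 := IsCyclic.card_pow_eq_one_le (α := zpowers a) (n := 2) two_pos
      by_contra hne
      have hsub : ({1, ⟨x, hmem⟩, ⟨_, hmem'⟩} : Finset (zpowers a)) ⊆
          Finset.univ.filter fun w => w ^ 2 = 1 := by
        intro w hw
        simp only [Finset.mem_insert, Finset.mem_singleton] at hw
        simp only [Finset.mem_filter, Finset.mem_univ, true_and]
        rcases hw with rfl | rfl | rfl
        · simp
        · exact Subtype.ext (show x ^ 2 = 1 by rw [sq, hx2])
        · exact Subtype.ext (show (g * x * g⁻¹) ^ 2 = 1 by rw [conj_pow, sq, hx2]; group)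
      have h5 := Finset.card_le_card hsub
      rw [Finset.card_insert_of_notMem, Finset.card_pair] at h5
      · omega
      · exact fun h => hne (congrArg Subtype.val h).symm
      · simp only [Finset.mem_insert, Finset.mem_singleton, not_or]
        exact ⟨fun h => hx1 (congrArg Subtype.val h).symm, fun h => hx1 (conj_eq_one_iff.1 (congrArg Subtype.val h).symm)⟩
    exact hg (mul_inv_eq_iff_eq_mul.1 huniq)
  -- the quotient by `z`
  let Z := zpowers z
  haveI : Z.Normal := ⟨fun w hw g => by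
    obtain ⟨i, rfl⟩ := mem_zpowers_iff.1 hw
    rw [((show Commute g z from hzcomm g).zpow_right i).eq, mul_inv_cancel_right]
    exact zpow_mem_zpowers _ _⟩
  let π := QuotientGroup.mk' Z
  have hcardQ : 2 * Nat.card (S ⧸ Z) = Nat.card S := by
    rw [card_eq_card_quotient_mul_card_subgroup Z, Nat.card_zpowers, hz, mul_comm]
  have hπ : ∀ {g h : S}, π g = π h → g = h ∨ g = h * z := by
    intro g h e
    obtain ⟨i, hi⟩ := mem_zpowers_iff.1 (QuotientGroup.eq.1 e.symm)
    rcases Int.even_or_odd i with ⟨m, rfl⟩ | ⟨m, rfl⟩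
    · left
      rw [← two_mul, zpow_mul, show z ^ (2 : ℤ) = 1 by rw [zpow_two, hz2], one_zpow] at hi
      exact (inv_mul_eq_one.1 hi.symm).symm
    · right
      rw [zpow_add, zpow_mul, show z ^ (2 : ℤ) = 1 by rw [zpow_two, hz2], one_zpow, one_mul, zpow_one] at hi
      rw [hi]; group
  have hπz : π z = 1 := (QuotientGroup.eq_one_iff z).2 (mem_zpowers z)
  have hπx1 : π x ≠ 1 := fun h => by
    rcases hπ (h.trans (map_one π).symm) with e | e
    · exact hx1 e
    · exact hzx (by rw [e, one_mul])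
  have hπo : orderOf (π x) = 2 := orderOf_eq_prime (by rw [sq, ← map_mul, hx2, map_one]) hπx1
  let T := (centralizer ({π x} : Set (S ⧸ Z))).comap π
  have hT : ∀ g, g ∈ T ↔ g * x * g⁻¹ = x ∨ g * x * g⁻¹ = x * z := by
    intro g
    rw [mem_comap, mem_centralizer_singleton_iff]
    constructor
    · intro h
      refine hπ ?_
      rw [map_mul, map_mul, map_inv, h, mul_inv_cancel_right]
    · rintro (h | h) <;>
        · have := congrArg π h
          simp only [map_mul, map_inv, hπz, mul_one] at this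
          exact mul_inv_eq_iff_eq_mul.1 this
  have hCT : C ≤ T := fun g hg => (hT g).2 (Or.inl (mul_inv_eq_iff_eq_mul.2 (mem_centralizer_singleton_iff.1 hg)))
  haveI := hS.isNilpotent
  obtain ⟨g₀, hg₀n, hg₀⟩ : ∃ g ∈ normalizer (C : Set S), g ∉ C := by
    refine SetLike.exists_of_lt (Group.normalizerCondition_of_isNilpotent C ?_)
    refine lt_top_iff_ne_top.2 fun h => ?_
    obtain ⟨g, hg⟩ := hxnc
    exact hg (mem_centralizer_singleton_iff.1 (h.symm ▸ mem_top g : g ∈ C))
  have hg₀x : g₀ * x * g₀⁻¹ = x * z := by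
    rcases hCset _ ((mem_normalizer_iff.1 hg₀n x).1 (mem_centralizer_singleton_iff.2 rfl)) with h | h | h | h
    · exact absurd (conj_eq_one_iff.1 h) hx1
    · exact absurd (mem_centralizer_singleton_iff.2 (mul_inv_eq_iff_eq_mul.1 h)) hg₀
    · exfalso; refine hzx ?_
      calc z = g₀⁻¹ * (g₀ * z) := by group
        _ = g₀⁻¹ * (z * g₀) := by rw [hzcomm]
        _ = x := by rw [← h]; group
    · exact h
  have hTcard : Nat.card T = 8 := by
    have hcosets : (T : Set S) ⊆ (C : Set S) ∪ (g₀ * ·) '' (C : Set S) := by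
      intro g hg
      rcases (hT g).1 hg with h | h
      · exact Or.inl (mem_centralizer_singleton_iff.2 (mul_inv_eq_iff_eq_mul.1 h))
      · refine Or.inr ⟨g₀⁻¹ * g, mem_centralizer_singleton_iff.2 ?_, mul_inv_cancel_left _ _⟩
        calc g₀⁻¹ * g * x = g₀⁻¹ * (g * x * g⁻¹) * g := by group
          _ = g₀⁻¹ * (g₀ * x * g₀⁻¹) * g := by rw [h, hg₀x]
          _ = x * (g₀⁻¹ * g) := by group
    have a1 : Nat.card T = (T : Set S).ncard := Nat.card_coe_set_eq _
    have a2 : Nat.card C = (C : Set S).ncard := Nat.card_coe_set_eq _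
    have h1 : Nat.card T ≤ 8 := by
      have := (Set.ncard_le_ncard hcosets (Set.toFinite _)).trans (Set.ncard_union_le _ _)
      have h2 := Set.ncard_image_le (f := (g₀ * ·)) (s := (C : Set S)) (Set.toFinite _)
      omega
    have h2 : Nat.card C < Nat.card T := by
      rw [a1, a2]
      exact Set.ncard_lt_ncard ⟨hCT, fun h => hg₀ (h ((hT g₀).2 (Or.inr hg₀x)))⟩ (Set.toFinite _)
    have h3 : Nat.card C ∣ Nat.card T := card_dvd_of_le hCT
    rw [hC] at h2 h3
    omega
  have hQC : Nat.card (centralizer ({π x} : Set (S ⧸ Z))) = 4 := by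
    have h1 : T.map π = centralizer ({π x} : Set (S ⧸ Z)) :=
      map_comap_eq_self_of_surjective (QuotientGroup.mk'_surjective Z) _
    have h2 := (Z.subgroupOf T).card_mul_index
    have hker : π.ker = Z := QuotientGroup.ker_mk' Z
    have h3 : Z ≤ T := fun w hw => by
      rw [mem_comap, show π w = 1 from (QuotientGroup.eq_one_iff w).2 hw]
      exact one_mem _
    rw [Nat.card_congr (subgroupOfEquivOfLe h3).toEquiv, Nat.card_zpowers, hz, hTcard] at h2
    have h4 : Z.relIndex T = Nat.card (T.map π) := by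
      have := relIndex_ker π (K := T)
      rwa [hker] at this
    rw [← h1, ← h4]
    show (Z.subgroupOf T).index = 4
    omega
  have hQ8 : 8 ≤ Nat.card (S ⧸ Z) := by
    obtain ⟨j, hj⟩ := IsPGroup.iff_card.1 hS
    have : 4 ≤ j := by
      by_contra hlt
      push Not at hlt
      have h2j := Nat.pow_le_pow_right (n := 2) two_pos (show j ≤ 3 by omega)
      rw [hj] at h8 h16
      omega
    have := Nat.pow_le_pow_right (n := 2) two_pos this
    omega
  obtain ⟨q, hqo, hqx⟩ := IH (Nat.card (S ⧸ Z)) (by omega) rfl (hS.to_quotient Z) hQ8 (π x) hπo hQC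
  obtain ⟨a, rfl⟩ := QuotientGroup.mk'_surjective Z q
  refine ⟨a, ?_, fun h => hqx (by obtain ⟨i, hi⟩ := mem_zpowers_iff.1 h; exact ⟨i, by rw [← hi, map_zpow]⟩)⟩
  set m := orderOf (π a)
  have ham : a ^ m = 1 ∨ a ^ m = z := by
    rcases hπ (show π (a ^ m) = π 1 by rw [map_pow, pow_orderOf_eq_one, map_one]) with h | h
    · exact Or.inl h
    · exact Or.inr (by rw [h, one_mul])
  have hdm : m ∣ orderOf a := orderOf_map_dvd π a
  have hd2m : orderOf a ∣ 2 * m := orderOf_dvd_of_pow_eq_one (by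
    rw [mul_comm, pow_mul]
    rcases ham with h | h <;> rw [h]
    · exact one_pow 2
    · rw [sq, hz2])
  obtain ⟨c, hc⟩ := hdm
  have hm0 : 0 < m := orderOf_pos _
  rw [hc, mul_comm 2 m] at hd2m
  rcases (Nat.dvd_prime Nat.prime_two).1 (Nat.dvd_of_mul_dvd_mul_left hm0 hd2m) with rfl | rfl
  swap
  · rw [hc, ← hcardQ, ← hqo]; ring
  exfalso
  rw [mul_one] at hc
  obtain ⟨l, hl⟩ := IsPGroup.iff_orderOf.1 hS a
  rw [hc] at hl
  have hl2 : 2 ≤ l := by
    by_contra h
    have h' : m ≤ 2 := hl ▸ (Nat.pow_le_pow_right (n := 2) two_pos (show l ≤ 1 by omega))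
    omega
  set w := a ^ 2 ^ (l - 1)
  have hidx : (zpowers (π a)).index = 2 := by
    have := (zpowers (π a)).card_mul_index
    rw [Nat.card_zpowers, ← hqo, mul_comm 2] at this
    exact mul_left_cancel₀ hm0.ne' this
  haveI := normal_of_index_eq_two hidx
  obtain ⟨e, he⟩ := mem_powers_iff_mem_zpowers.2
    (Subgroup.Normal.conj_mem inferInstance (π a) (mem_zpowers (π a)) (π x))
  have hxwx : x * w * x⁻¹ = a ^ (e * 2 ^ (l - 1)) := by
    have h := hπ (show π (x * a * x⁻¹) = π (a ^ e) by rw [map_mul, map_mul, map_inv, map_pow]; exact he.symm)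
    show x * a ^ 2 ^ (l - 1) * x⁻¹ = _
    rw [← conj_pow]
    rcases h with h | h
    · rw [h, pow_mul]
    · rw [h, (show Commute (a ^ e) z from hzcomm _).mul_pow, ← pow_mul a,
        show 2 ^ (l - 1) = 2 * 2 ^ (l - 2) by rw [← pow_succ']; congr 1; omega, pow_mul z, sq, hz2,
        one_pow, mul_one]
  have hlw : 2 ^ l = 2 * 2 ^ (l - 1) := by rw [← pow_succ']; congr 1; omega
  have hw1 : w ≠ 1 := fun h => by
    have := Nat.le_of_dvd (Nat.two_pow_pos _) (orderOf_dvd_of_pow_eq_one h)
    rw [hc, hl, hlw] at this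
    have := Nat.two_pow_pos (l - 1)
    omega
  have hw2 : w * w = 1 := by
    show a ^ 2 ^ (l - 1) * a ^ 2 ^ (l - 1) = 1
    rw [← pow_add, ← two_mul, ← hlw, ← hl, ← hc, pow_orderOf_eq_one]
  have hfix : x * w * x⁻¹ = w := by
    rw [hxwx]
    rcases Nat.even_or_odd e with ⟨i, rfl⟩ | ⟨i, rfl⟩
    · exfalso
      have h1 : x * w * x⁻¹ = 1 := by
        rw [hxwx, show (i + i) * 2 ^ (l - 1) = 2 ^ l * i by rw [hlw]; ring, ← hl, ← hc, pow_mul,
          pow_orderOf_eq_one, one_pow]
      exact hw1 (conj_eq_one_iff.1 h1)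
    · rw [show (2 * i + 1) * 2 ^ (l - 1) = 2 ^ l * i + 2 ^ (l - 1) by rw [hlw]; ring, pow_add, ← hl,
        ← hc, pow_mul, pow_orderOf_eq_one, one_pow, one_mul]
  have hwC : w ∈ C := mem_centralizer_singleton_iff.2 (mul_inv_eq_iff_eq_mul.1 hfix).symm
  have hπw : π w ∈ zpowers (π a) := by
    show π (a ^ 2 ^ (l - 1)) ∈ zpowers (π a)
    rw [map_pow]; exact npow_mem_zpowers _ _
  rcases hCset w hwC with h | h | h | h
  · exact hw1 h
  · exact hqx (h ▸ hπw)
  · have hone : π a ^ 2 ^ (l - 1) = 1 := by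
      rw [← map_pow, show a ^ 2 ^ (l - 1) = z from h, hπz]
    have hle : m ≤ 2 ^ (l - 1) := Nat.le_of_dvd (Nat.two_pow_pos _) (orderOf_dvd_of_pow_eq_one hone)
    rw [hl, hlw] at hle
    have := Nat.two_pow_pos (l - 1)
    omega
  · refine hqx ?_
    have : π w = π x := by rw [h, map_mul, hπz, mul_one]
    exact this ▸ hπw

/-- the action of `x` on the cyclic subgroup -/
theorem exists_exponent {S : Type u} [Group S] [Finite S] {x a : S} {n : ℕ} (hx : orderOf x = 2)
    (hC : Nat.card (centralizer ({x} : Set S)) = 4) (ha : orderOf a = 2 ^ n) (hn : 2 ≤ n)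
    (hcard : Nat.card S = 2 * 2 ^ n) (hxa : x ∉ zpowers a) :
    x * a * x⁻¹ = a⁻¹ ∨ (3 ≤ n ∧ x * a * x⁻¹ = a ^ (2 ^ (n - 1) - 1)) := by
  have hx2 : x * x = 1 := by rw [← sq, ← hx, pow_orderOf_eq_one]
  have hidx : (zpowers a).index = 2 := by
    have := (zpowers a).card_mul_index
    rw [Nat.card_zpowers, ha, hcard, mul_comm 2] at this
    exact mul_left_cancel₀ (Nat.two_pow_pos n).ne' this
  haveI := normal_of_index_eq_two hidx
  obtain ⟨e, he⟩ := mem_powers_iff_mem_zpowers.2
    (Subgroup.Normal.conj_mem inferInstance a (mem_zpowers a) x)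
  simp only at he
  have hpow : ∀ j : ℕ, x * a ^ j * x⁻¹ = a ^ (e * j) := fun j => by rw [← conj_pow, ← he, pow_mul]
  have hfix : ∀ j : ℕ, a ^ (e * j) = a ^ j → a ^ (2 * j) = 1 := by
    intro j hj
    have hmem : a ^ j ∈ centralizer ({x} : Set S) :=
      mem_centralizer_singleton_iff.2 (mul_inv_eq_iff_eq_mul.1 ((hpow j).trans hj)).symm
    let K := centralizer ({x} : Set S) ⊓ zpowers a
    have hK : Nat.card K ∣ 2 := by
      have h1 : Nat.card K ∣ 4 := hC ▸ card_dvd_of_le inf_le_left
      have h2 : Nat.card K ≠ 4 := fun h => hxa (by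
        have := eq_of_le_of_card_ge (inf_le_left : K ≤ centralizer ({x} : Set S)) (by rw [hC, h])
        have hxK : x ∈ K := this.symm.le (mem_centralizer_singleton_iff.2 rfl)
        exact hxK.2)
      have := Nat.le_of_dvd (by norm_num) h1
      interval_cases Nat.card K <;> omega
    have := orderOf_dvd_iff_pow_eq_one.1 ((Subgroup.orderOf_dvd_natCard K
      (show a ^ j ∈ K from ⟨hmem, npow_mem_zpowers a j⟩)).trans hK)
    rw [mul_comm, pow_mul]; exact this
  have hee : a ^ (e * e) = a ^ 1 := by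
    rw [← hpow e, show a ^ e = x * a * x⁻¹ from he, pow_one,
      show x * (x * a * x⁻¹) * x⁻¹ = (x * x) * a * (x * x)⁻¹ by group, hx2]
    group
  rw [pow_eq_pow_iff_modEq, ha, ← Int.natCast_modEq_iff, Int.modEq_iff_dvd] at hee
  push_cast at hee
  have hn1 : (2 : ℤ) ^ n = 2 * 2 ^ (n - 1) := by rw [← pow_succ']; congr 1; omega
  have h12 : (2 : ℕ) ^ (n - 1) = 2 * 2 ^ (n - 2) := by rw [← pow_succ']; congr 1; omega
  rcases Nat.even_or_odd e with ⟨i, hi⟩ | ⟨i, hi⟩
  · exfalso
    obtain ⟨c, hc⟩ := hee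
    rw [hn1, hi] at hc
    push_cast at hc
    have : (2 : ℤ) ∣ 1 := ⟨2 ^ (n - 1) * c + 2 * (i : ℤ) * i, by linear_combination hc⟩
    norm_num at this
  have hio : Odd i := by
    rw [← Nat.not_even_iff_odd]
    rintro ⟨k, hk⟩
    -- then `a ^ 2^(n-2)` is fixed but has order four
    have h := hfix (2 ^ (n - 2)) (by
      rw [pow_eq_pow_iff_modEq, ha, show 2 ^ n = 4 * 2 ^ (n - 2) by
        rw [show (4 : ℕ) = 2 ^ 2 by norm_num, ← pow_add]; congr 1; omega, hi, hk]
      exact Nat.ModEq.symm ((Nat.modEq_iff_dvd' (by nlinarith [Nat.two_pow_pos (n - 2)])).2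
        ⟨k, by
          rw [show (2 * (k + k) + 1) * 2 ^ (n - 2) = 4 * 2 ^ (n - 2) * k + 2 ^ (n - 2) by ring,
            Nat.add_sub_cancel]⟩))
    rw [← h12] at h
    have := Nat.le_of_dvd (Nat.two_pow_pos _) (orderOf_dvd_of_pow_eq_one h)
    rw [ha] at this
    exact absurd this (not_le.2 (Nat.pow_lt_pow_right (by norm_num) (by omega)))
  -- hence `e + 1` is divisible by `2^(n-1)`
  have hd1 : (2 : ℤ) ^ (n - 1) ∣ ((e : ℤ) + 1) := by
    obtain ⟨c, hc⟩ := hee
    rw [hn1, hi] at hc
    push_cast at hc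
    have h : (2 : ℤ) ^ (n - 1) ∣ ((e : ℤ) + 1) * i := ⟨-c, by
      rw [hi]; push_cast
      have h2 : (2 : ℤ) * (((2 * (i : ℤ) + 1) + 1) * i) = 2 * (2 ^ (n - 1) * -c) := by
        linear_combination -hc
      exact mul_left_cancel₀ two_ne_zero h2⟩
    refine IsCoprime.dvd_of_dvd_mul_right ?_ h
    refine IsCoprime.pow_left ?_
    obtain ⟨k, hk⟩ := hio
    exact ⟨-k, 1, by rw [hk]; push_cast; ring⟩
  obtain ⟨c, hc⟩ := hd1
  rcases Int.even_or_odd c with ⟨d, hd⟩ | ⟨d, hd⟩
  · left
    rw [← he]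
    apply eq_inv_of_mul_eq_one_left
    rw [← pow_succ, ← orderOf_dvd_iff_pow_eq_one, ha, ← Int.natCast_dvd_natCast]
    exact ⟨d, by push_cast; rw [hn1, hc, hd]; ring⟩
  · right
    have hn3 : 3 ≤ n := by
      by_contra hlt
      obtain rfl : n = 2 := by omega
      obtain ⟨k, hk⟩ := hio
      have : ((2 * (2 * (k : ℤ) + 1) + 1) + 1) = 2 * (2 * d + 1) := by
        rw [← hd, ← show ((2 : ℤ) ^ (2 - 1)) = 2 by norm_num, ← hc, hi, hk]; push_cast; ring
      omega
    refine ⟨hn3, ?_⟩
    rw [← he, pow_eq_pow_iff_modEq, ha, ← Int.natCast_modEq_iff, Nat.cast_sub Nat.one_le_two_pow,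
      Int.modEq_iff_dvd]
    exact ⟨-d, by push_cast; linear_combination (-1 : ℤ) * hc - (2 : ℤ) ^ (n - 1) * hd + d * hn1⟩

/-- `⟨a, x⟩` with `x` inverting `a` is dihedral -/
theorem dihedral_iso {S : Type u} [Group S] [Finite S] {x a : S} {N : ℕ} [NeZero N] (hx2 : x * x = 1)
    (ha : orderOf a = N) (hcard : Nat.card S = 2 * N) (hxa : x ∉ zpowers a)
    (hinv : x * a * x⁻¹ = a⁻¹) : Nonempty (S ≃* DihedralGroup N) := by
  have key : ∀ i j : ZMod N, a ^ (i + j).val = a ^ i.val * a ^ j.val := fun i j => by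
    rw [← pow_add, pow_eq_pow_iff_modEq, ha, ZMod.val_add]
    exact Nat.mod_modEq _ _
  have keyneg : ∀ i j : ZMod N, a ^ (j - i).val = (a ^ i.val)⁻¹ * a ^ j.val := fun i j => by
    rw [eq_inv_mul_iff_mul_eq, ← key, add_sub_cancel]
  have hax : ∀ k : ℕ, a ^ k * x = x * (a ^ k)⁻¹ := fun k => by
    rw [← inv_pow, ← hinv, conj_pow, ← mul_assoc, ← mul_assoc, hx2, one_mul,
      inv_eq_of_mul_eq_one_right hx2]
  let f : DihedralGroup N →* S :=
    { toFun := fun g => match g with
        | DihedralGroup.r i => a ^ i.val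
        | DihedralGroup.sr i => x * a ^ i.val
      map_one' := by
        rw [DihedralGroup.one_def]
        show a ^ (0 : ZMod N).val = 1
        simp
      map_mul' := by
        rintro (i | i) (j | j)
        · show a ^ (i + j).val = a ^ i.val * a ^ j.val
          exact key i j
        · show x * a ^ (j - i).val = a ^ i.val * (x * a ^ j.val)
          rw [keyneg, ← mul_assoc, ← hax, mul_assoc]
        · show x * a ^ (i + j).val = x * a ^ i.val * a ^ j.val
          rw [key, mul_assoc]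
        · show a ^ (j - i).val = x * a ^ i.val * (x * a ^ j.val)
          rw [keyneg, show x * a ^ i.val * (x * a ^ j.val) = x * (a ^ i.val * x) * a ^ j.val by group,
            hax, ← mul_assoc x, hx2, one_mul] }
  refine ⟨(MulEquiv.ofBijective f ((Nat.bijective_iff_injective_and_card f).2 ⟨?_, ?_⟩)).symm⟩
  · rw [← MonoidHom.ker_eq_bot_iff, eq_bot_iff_forall]
    rintro (i | i) hg
    · have h : a ^ i.val = 1 := hg
      have hd := orderOf_dvd_of_pow_eq_one h
      rw [ha] at hd
      have : i = 0 := by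
        rw [← ZMod.natCast_zmod_val i, ZMod.natCast_eq_zero_iff]
        exact hd
      rw [this]; rfl
    · exfalso
      have h : x * a ^ i.val = 1 := hg
      exact hxa (by rw [eq_inv_of_mul_eq_one_left h]; exact inv_mem (npow_mem_zpowers a _))
  · rw [DihedralGroup.nat_card, hcard]

end CfsgLib.MaximalClass
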