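import Cfsg.Prelude.Def_IsolatedElements
import Cfsg.Agent.Lib.LocalBasic

/-! Isolated p-elements (owner helper5). -/

set_option autoImplicit false
set_option linter.unusedSectionVars false

namespace CfsgLib.IsolatedP

open CfsgLib.LocalBasic
open scoped commutatorElement

variable {G : Type*} [Group G] [Finite G] {p : ℕ} [hp : Fact p.Prime]

/-- An isolated element is central in every p-group containing it. -/
theorem central_of_mem {x : G} (hiso : Cfsg.IsIsolated x) {R : Subgroup G} (hR : IsPGroup p ↥R) (hx : x ∈ R) :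
    ∀ r ∈ R, r * x = x * r := by
  set C := R ⊓ Subgroup.centralizer ({x} : Set G) with hC
  have heq : C = R := by
    refine eq_of_normalizer_inf_le hR inf_le_left ?_
    rintro g ⟨hgR, hgn⟩
    refine ⟨hgR, Subgroup.mem_centralizer_singleton_iff.mpr ?_⟩
    have h1 : g * x * g⁻¹ ∈ C :=
      (Subgroup.mem_normalizer_iff.mp hgn x).mp ⟨hx, Subgroup.mem_centralizer_singleton_iff.mpr rfl⟩
    have h2 := hiso g (Subgroup.mem_centralizer_singleton_iff.mp h1.2).symm
    calc g * x = g * x * g⁻¹ * g := by group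
      _ = x * g := by rw [h2]
  intro r hr
  rw [← heq] at hr
  exact Subgroup.mem_centralizer_singleton_iff.mp hr.2

theorem eq_of_mem {x g : G} (hiso : Cfsg.IsIsolated x) {R : Subgroup G} (hR : IsPGroup p ↥R) (hx : x ∈ R)
    (hg : g * x * g⁻¹ ∈ R) : g * x * g⁻¹ = x :=
  hiso g (central_of_mem hiso hR hx _ hg).symm

theorem normalizer_le_centralizer {x : G} (hiso : Cfsg.IsIsolated x) {R : Subgroup G} (hR : IsPGroup p ↥R)
    (hx : x ∈ R) : Subgroup.normalizer (R : Set G) ≤ Subgroup.centralizer ({x} : Set G) := by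
  intro n hn
  have h2 := eq_of_mem hiso hR hx ((Subgroup.mem_normalizer_iff.mp hn x).mp hx)
  rw [Subgroup.mem_centralizer_singleton_iff]
  calc n * x = n * x * n⁻¹ * n := by group
    _ = x * n := by rw [h2]

omit [Finite G] in
theorem isPGroup_zpowers {x : G} (hx : ∃ k : ℕ, orderOf x = p ^ k) : IsPGroup p ↥(Subgroup.zpowers x) := by
  obtain ⟨k, hk⟩ := hx
  exact isPGroup_zpowers_of_pow_eq_one (k := k) (by rw [← hk, pow_orderOf_eq_one])

/-- A power of an isolated element is the only conjugate of itself in a Sylow subgroup containing the element. -/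
theorem pow_eq_of_mem {x : G} (hiso : Cfsg.IsIsolated x) (hx : ∃ k : ℕ, orderOf x = p ^ k) (P : Sylow p G)
    (hxP : x ∈ (P : Subgroup G)) {y : G} (hy : y ∈ Subgroup.zpowers x) {g : G}
    (hg : g * y * g⁻¹ ∈ (P : Subgroup G)) : g * y * g⁻¹ = y := by
  set y' := g * y * g⁻¹ with hy'
  set C := Subgroup.centralizer ({y'} : Set G) with hC
  have hxC : x ∈ C := Subgroup.mem_centralizer_singleton_iff.mpr (central_of_mem hiso P.2 hxP y' hg).symm
  set x' := g * x * g⁻¹ with hx'
  have hx'C : x' ∈ C := by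
    rw [hC, Subgroup.mem_centralizer_singleton_iff, hx', hy']
    obtain ⟨i, rfl⟩ := Subgroup.mem_zpowers_iff.mp hy
    calc g * x * g⁻¹ * (g * x ^ i * g⁻¹) = g * (x * x ^ i) * g⁻¹ := by group
      _ = g * (x ^ i * x) * g⁻¹ := by rw [← zpow_one_add, ← zpow_add_one, add_comm]
      _ = g * x ^ i * g⁻¹ * (g * x * g⁻¹) := by group
  obtain ⟨Q, hQ⟩ := ((isPGroup_zpowers hx).comap_subtype (K := C)).exists_le_sylow
  have hpx' : IsPGroup p ↥(Subgroup.zpowers x') := by
    refine isPGroup_zpowers (p := p) ?_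
    obtain ⟨k, hk⟩ := hx
    exact ⟨k, by rw [← hk]; exact MulEquiv.orderOf_eq (MulAut.conj g) x⟩
  obtain ⟨c, -, hc⟩ := exists_conj_le_sylow Q (M := ⊤) le_top (hpx'.comap_subtype (K := C)) le_top
  have h1 : (⟨x, hxC⟩ : ↥C) ∈ (Q : Subgroup ↥C) := hQ (Subgroup.mem_subgroupOf.mpr (Subgroup.mem_zpowers x))
  have h2 : (c : G) * x' * (c : G)⁻¹ ∈ (Q : Subgroup ↥C).map C.subtype :=
    ⟨_, hc ⟨x', hx'C⟩ (Subgroup.mem_subgroupOf.mpr (Subgroup.mem_zpowers x')), by simp⟩
  have e : (c : G) * x' * (c : G)⁻¹ = ((c : G) * g) * x * ((c : G) * g)⁻¹ := by rw [hx']; group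
  rw [e] at h2
  have h3 := eq_of_mem hiso (Q.2.map C.subtype) ⟨⟨x, hxC⟩, h1, rfl⟩ h2
  have h4 : ((c : G) * g) * y * ((c : G) * g)⁻¹ = y := by
    obtain ⟨i, rfl⟩ := Subgroup.mem_zpowers_iff.mp hy
    rw [← conj_zpow, h3]
  have h5 : (c : G) * y' * (c : G)⁻¹ = y' := by
    have : (c : G) * y' = y' * (c : G) := Subgroup.mem_centralizer_singleton_iff.mp c.2
    rw [this, mul_inv_cancel_right]
  rw [← h5, hy']
  calc (c : G) * (g * y * g⁻¹) * (c : G)⁻¹ = ((c : G) * g) * y * ((c : G) * g)⁻¹ := by group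
    _ = y := h4

end CfsgLib.IsolatedP
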