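import Cfsg.Agent.Lib.KInfStable

/-! Control of strong fusion by the K-infinity subgroups (owner helper5). -/

set_option autoImplicit false

universe u

namespace CfsgLib.KInfStable

open Cfsg CfsgLib.SectionReduce

variable {G : Type u} [Group G] [Finite G] {p : ℕ} [hp : Fact p.Prime]

theorem stable_equiv {Q Q' : Type u} [Group Q] [Group Q'] [Finite Q] [Finite Q'] (e : Q ≃* Q')
    (h : IsNormalizerPStable p Q) : IsNormalizerPStable p Q' := by
  intro P hP g hg hq
  set P0 := P.comap e.toMonoidHom with hP0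
  have hmapP : P0.map e.toMonoidHom = P := Subgroup.map_comap_eq_self_of_surjective e.surjective _
  set g0 := e.symm g
  have hg0e : e g0 = g := e.apply_symm_apply g
  have hN : (Subgroup.normalizer (P : Set Q')).comap e.toMonoidHom = Subgroup.normalizer (P0 : Set Q) :=
    Subgroup.comap_normalizer_eq_of_surjective P e.surjective
  have hg0 : g0 ∈ Subgroup.normalizer (P0 : Set Q) := by
    rw [← hN, Subgroup.mem_comap, MulEquiv.toMonoidHom_eq_coe, MonoidHom.coe_coe, hg0e]; exact hg
  have hq0 : ⁅⁅P0, Subgroup.zpowers g0⁆, Subgroup.zpowers g0⁆ = ⊥ := by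
    apply Subgroup.map_injective (f := e.toMonoidHom) e.injective
    rw [Subgroup.map_bot, Subgroup.map_commutator, Subgroup.map_commutator, hmapP, MonoidHom.map_zpowers,
      MulEquiv.toMonoidHom_eq_coe, MonoidHom.coe_coe, hg0e, hq]
  have h1 := h P0 (hP.comap_of_injective e.toMonoidHom e.injective) g0 hg0 hq0
  let eN : ↥(Subgroup.normalizer (P0 : Set Q)) ≃* ↥(Subgroup.normalizer (P : Set Q')) :=
    (e.subgroupMap _).trans (MulEquiv.subgroupCongr (by
      rw [← hN]; exact Subgroup.map_comap_eq_self_of_surjective e.surjective _))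
  have hval : ∀ x, (eN x : Q') = e x := fun x => rfl
  have hC : ((Subgroup.centralizer (P0 : Set Q)).subgroupOf (Subgroup.normalizer (P0 : Set Q))).map eN.toMonoidHom =
      (Subgroup.centralizer (P : Set Q')).subgroupOf (Subgroup.normalizer (P : Set Q')) := by
    ext y
    constructor
    · rintro ⟨x, hx, rfl⟩
      intro z hz
      obtain ⟨w, hw, rfl⟩ := hmapP.ge hz
      show e w * (eN x : Q') = (eN x : Q') * e w
      rw [hval, ← map_mul, ← map_mul]
      exact congrArg e (hx w hw)
    · intro hy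
      refine ⟨eN.symm y, fun w hw => e.injective ?_, eN.apply_symm_apply y⟩
      rw [map_mul, map_mul]
      have := hy (e w) (hmapP.le ⟨w, hw, rfl⟩)
      rwa [← eN.apply_symm_apply y] at this
  let eQ := QuotientGroup.congr ((Subgroup.centralizer (P0 : Set Q)).subgroupOf (Subgroup.normalizer (P0 : Set Q)))
    ((Subgroup.centralizer (P : Set Q')).subgroupOf (Subgroup.normalizer (P : Set Q'))) eN hC
  rw [← CfsgLib.Core.pCore_map_equiv eQ p]
  refine ⟨_, h1, ?_⟩
  show (QuotientGroup.mk (eN ⟨g0, hg0⟩) : _) = _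
  exact congrArg _ (Subtype.ext hg0e)

/-- The frozen hypothesis in section form. -/
theorem stable_sec (hst : ∀ (K R : Subgroup G) [(R.subgroupOf K).Normal], IsNormalizerPStable p (↥K ⧸ R.subgroupOf K))
    (Q : Type u) [Group Q] [Finite Q] (hQ : Sec G Q) : IsNormalizerPStable p Q := by
  obtain ⟨K, R, hR, ⟨e⟩⟩ := hQ.exists_pair
  exact stable_equiv e (hst K R)

/-- Either K-infinity subgroup controls strong fusion in every section of a group with stable sections. -/
theorem controls_all (hst : ∀ (Q : Type u) [Group Q] [Finite Q], Sec G Q → IsNormalizerPStable p Q)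
    {W : ∀ (X : Type u) [Group X], Subgroup X} (hW : IsCharPFunctor.{u} p W)
    (hn : ∀ (Q : Type u) [Group Q] [Finite Q], Sec G Q → CfsgLib.CharP.HasCharP p Q → ∀ T : Sylow p Q,
      (inducedFunctor W (T : Subgroup Q)).Normal)
    (Q : Type u) [Group Q] [Finite Q] (hQ : Sec G Q) (T : Sylow p Q) :
    ControlsStrongFusion p (inducedFunctor W (T : Subgroup Q)) := by
  have h𝓦 : ∀ V ∈ ({W} : Set (∀ (X : Type u) [Group X], Subgroup X)), IsCharPFunctor.{u} p V := by
    rintro V rfl; exact hW
  refine controlsStrongFusion_of_single hW (fusion_all h𝓦 (G := G) (fun Q' _ _ hQ' hc _ => ?_) Q hQ) T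
  obtain ⟨T'⟩ := (inferInstance : Nonempty (Sylow p Q'))
  refine fusion_of_factor h𝓦 (Set.mem_singleton W) (Set.mem_singleton W) T' fun x => ⟨x, ?_, 1, one_mem _, (mul_one x).symm⟩
  rw [Subgroup.normalizer_eq_top_iff.mpr (hn Q' hQ' hc T')]; trivial

theorem lower_controls (hst : ∀ (Q : Type u) [Group Q] [Finite Q], Sec G Q → IsNormalizerPStable p Q)
    (Q : Type u) [Group Q] [Finite Q] (hQ : Sec G Q) (T : Sylow p Q) :
    ControlsStrongFusion p (inducedFunctor kInfLower (T : Subgroup Q)) :=
  controls_all hst charP_lower (fun Q' _ _ hQ' hc T' =>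
    (kInf_normal _ Q' rfl hc (fun X _ _ hX => hst X (hQ'.trans hX)) T').1) Q hQ T

theorem upper_controls (hst : ∀ (Q : Type u) [Group Q] [Finite Q], Sec G Q → IsNormalizerPStable p Q)
    (Q : Type u) [Group Q] [Finite Q] (hQ : Sec G Q) (T : Sylow p Q) :
    ControlsStrongFusion p (inducedFunctor kInfUpper (T : Subgroup Q)) :=
  controls_all hst charP_upper (fun Q' _ _ hQ' hc T' =>
    (kInf_normal _ Q' rfl hc (fun X _ _ hX => hst X (hQ'.trans hX)) T').2) Q hQ T

end CfsgLib.KInfStable
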