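import Cfsg.Agent.Lib.KInfControl
import Cfsg.Agent.Lib.IterChief
import Cfsg.Agent.Lib.ChiefKernel
import Cfsg.Agent.Lib.TransferCritical
import Cfsg.Agent.S0093

/-! Elements of low degree when a K-infinity subgroup is not normal (owner helper5). -/

set_option autoImplicit false

universe u

namespace CfsgLib.KInfDegree

open Cfsg CfsgLib.LocalBasic CfsgLib.SectionReduce CfsgLib.KInfStable
open scoped commutatorElement

variable {G : Type u} [Group G] [Finite G] {p : ℕ} [hp : Fact p.Prime] (S : Sylow p G)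

/-- An element outside `O_p(G)` that is cubic on `A` modulo its centre and quadratic on the centre; it is either
quadratic modulo the centre, or lies in a subgroup acting sharply on `A`. -/
theorem exists_element (A : Subgroup G) [A.Normal] (hAR : A ≤ pCore p G) (hA2 : ⁅A, A⁆ ≤ Subgroup.centralizer (A : Set G))
    (hA3 : ⁅pCore p G, A⁆ ≤ A ⊓ Subgroup.centralizer (A : Set G))
    (hK : ¬ (inducedFunctor kInfLower (S : Subgroup G)).Normal ∨ ¬ (inducedFunctor kInfUpper (S : Subgroup G)).Normal) :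
    ∃ g : G, g ∈ (S : Subgroup G) ∧ g ∉ pCore p G ∧
      iterCommutator A (Subgroup.zpowers g) 3 ≤ A ⊓ Subgroup.centralizer (A : Set G) ∧
      ⁅⁅A ⊓ Subgroup.centralizer (A : Set G), Subgroup.zpowers g⁆, Subgroup.zpowers g⁆ = ⊥ ∧
      (⁅⁅A, Subgroup.zpowers g⁆, Subgroup.zpowers g⁆ ≤ A ⊓ Subgroup.centralizer (A : Set G) ∨
        ∃ B : Subgroup G, g ∈ B ∧ ⁅A, B⁆ ≤ B ∧ ⁅B, B⁆ ≤ Subgroup.centralizer (B : Set G) ∧
          CfsgLib.ChiefKernel.Sharp A B) := by
  classical
  set R := pCore p G with hRdef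
  haveI hRn : R.Normal := by
    have := CfsgLib.Core.pCore_characteristic (G := G) p
    infer_instance
  have hRS : R ≤ (S : Subgroup G) := CfsgLib.Core.pCore_le_sylow S
  have hAS : A ≤ (S : Subgroup G) := hAR.trans hRS
  set Z := A ⊓ Subgroup.centralizer (A : Set G) with hZ
  set R' := R.subgroupOf (S : Subgroup G) with hR'
  set A' := A.subgroupOf (S : Subgroup G) with hA'
  set ι := (S : Subgroup G).subtype with hι
  have hιA : A'.map ι = A := Subgroup.map_subgroupOf_eq_of_le hAS
  haveI hA'n : A'.Normal := inferInstance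
  set Z' := A' ⊓ Subgroup.centralizer (A' : Set ↥(S : Subgroup G)) with hZ'
  have hιZ : Z'.map ι = Z := by rw [hZ', CfsgLib.KInf.map_centre, hιA]
  by_contra hcon
  -- it is enough to find a member outside `R` with the two commutator conditions
  have hfin : ∀ B : Subgroup ↥(S : Subgroup G), ¬ B ≤ R' → ⁅⁅⁅A', B⁆, B⁆, B⁆ ≤ Z' → ⁅⁅Z', B⁆, B⁆ = ⊥ →
      (⁅⁅A', B⁆, B⁆ ≤ Z' ∨ ⁅A', B⁆ ≤ B ∧ B ∈ classTwoSubgroups ↥(S : Subgroup G) ∧ CfsgLib.ChiefKernel.Sharp A (B.map ι)) →
      False := by
    intro B hB h3 h2 halt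
    obtain ⟨g, hgB, hgR⟩ := SetLike.not_le_iff_exists.mp hB
    have hz : Subgroup.zpowers (g : G) ≤ B.map ι := Subgroup.zpowers_le.mpr ⟨g, hgB, rfl⟩
    refine hcon ⟨g, g.2, hgR, ?_, ?_, halt.imp (fun h => ?_) fun h => ⟨B.map ι, ⟨g, hgB, rfl⟩, ?_, ?_, h.2.2⟩⟩
    · show ⁅⁅⁅A, Subgroup.zpowers (g : G)⁆, Subgroup.zpowers (g : G)⁆, Subgroup.zpowers (g : G)⁆ ≤ Z
      rw [← hιZ, ← hιA]
      refine (Subgroup.commutator_mono (Subgroup.commutator_mono (Subgroup.commutator_mono le_rfl hz) hz) hz).trans ?_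
      rw [← Subgroup.map_commutator, ← Subgroup.map_commutator, ← Subgroup.map_commutator]
      exact Subgroup.map_mono h3
    · rw [eq_bot_iff, ← hιZ]
      refine (Subgroup.commutator_mono (Subgroup.commutator_mono le_rfl hz) hz).trans ?_
      rw [← Subgroup.map_commutator, ← Subgroup.map_commutator, h2, Subgroup.map_bot]
    · rw [← hιZ, ← hιA]
      refine (Subgroup.commutator_mono (Subgroup.commutator_mono le_rfl hz) hz).trans ?_
      rw [← Subgroup.map_commutator, ← Subgroup.map_commutator]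
      exact Subgroup.map_mono h
    · rw [← hιA, ← Subgroup.map_commutator]
      exact Subgroup.map_mono h.1
    · exact (CfsgLib.KInf.map_classTwo B).mpr h.2.1
  have hAR' : ∀ {B : Subgroup ↥(S : Subgroup G)}, B ≤ R' → ⁅A', B⁆ ≤ Z' := fun {B} h => by
    rw [← Subgroup.map_le_map_iff_of_injective (S : Subgroup G).subtype_injective, Subgroup.map_commutator, hιA, hιZ,
      Subgroup.commutator_comm]
    exact (Subgroup.commutator_mono ((Subgroup.map_mono h).trans (Subgroup.map_subgroupOf_eq_of_le hRS).le) le_rfl).trans hA3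
  have hA'2 : A' ∈ classTwoSubgroups ↥(S : Subgroup G) := (CfsgLib.KInf.map_classTwo A').mp (by rw [hιA]; exact hA2)
  haveI hZ'n : Z'.Normal := inferInstance
  have hZ'ab : IsMulCommutative ↥Z' :=
    ⟨⟨fun a b => Subtype.ext (((Subgroup.mem_inf.mp b.2).2) (a : ↥(S : Subgroup G)) (Subgroup.mem_inf.mp a.2).1)⟩⟩
  have hZ'2 : ⁅Z', Z'⁆ = ⊥ := Subgroup.commutator_self_eq_bot_iff.mpr hZ'ab
  have hA0 : A' ∈ kLowerStarFamily (⊤ : Subgroup ↥(S : Subgroup G)) := by
    refine ⟨hA'2, le_top.trans (Subgroup.normalizer_eq_top A').ge, fun X hX _ hXn h1 h2 => ?_⟩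
    by_contra hno
    have hXR : ¬ X ≤ R' := fun h => hno (hAR' h)
    suffices hAXX : ⁅⁅A', X⁆, X⁆ ≤ Z' from
      hfin X hXR ((Subgroup.commutator_mono hAXX le_rfl).trans (Subgroup.commutator_le_left Z' X)) h2 (Or.inl hAXX)
    -- `⁅A', X, X⁆` is central in `A'`
    refine le_inf ((Subgroup.commutator_mono (Subgroup.commutator_le_left A' X) le_rfl).trans (Subgroup.commutator_le_left A' X)) ?_
    refine (Subgroup.commutator_mono (?_ : ⁅A', X⁆ ≤ X) le_rfl).trans ?_
    · rw [Subgroup.commutator_comm, ← Subgroup.le_normalizer_iff_commutator_le_left]; exact hXn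
    · exact Subgroup.commutator_eq_bot_iff_le_centralizer.mp (by rw [Subgroup.commutator_comm]; exact h1)
  have hAev : ∀ k, A' ≤ kSeqEven ↥(S : Subgroup G) k := fun k =>
    (le_sSup hA0 : A' ≤ kSeqEven _ 0).trans (CfsgLib.KInf.even_monotone (Nat.zero_le k))
  have heven : ∀ k, kSeqEven ↥(S : Subgroup G) k ≤ R' := by
    intro k
    induction k using Nat.strong_induction_on with
    | _ m ih =>
      refine sSup_le fun B hB => ?_
      by_contra hBR
      have hAQ : A' ≤ kSeqOdd ↥(S : Subgroup G) m := by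
        cases m with
        | zero => exact le_top
        | succ k => exact le_sSup ⟨hA'2, hAR' (ih k (Nat.lt_succ_self k))⟩
      have hABB : ⁅A', B⁆ ≤ B := by
        rw [Subgroup.commutator_comm, ← Subgroup.le_normalizer_iff_commutator_le_left]; exact hAQ.trans hB.2.1
      have h3 : ⁅⁅⁅A', B⁆, B⁆, B⁆ ≤ Z' := by
        refine le_trans (le_of_eq ?_) bot_le
        exact Subgroup.commutator_eq_bot_iff_le_centralizer.mpr ((Subgroup.commutator_mono hABB le_rfl).trans hB.1)
      have h2 : ⁅⁅Z', B⁆, B⁆ = ⊥ := by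
        refine Subgroup.commutator_eq_bot_iff_le_centralizer.mpr ?_
        rw [Subgroup.commutator_comm]
        refine (hB.2.2 Z' (CfsgLib.KInf.classTwo_of_abelian hZ'ab) (inf_le_left.trans hAQ)
          (le_top.trans (Subgroup.normalizer_eq_top Z').ge) ?_ ?_).trans inf_le_right
        · rw [hZ'2, Subgroup.commutator_bot_right]
        · exact le_bot_iff.mp ((Subgroup.commutator_mono (Subgroup.commutator_le_right _ Z') le_rfl).trans hZ'2.le)
      set ZB := B ⊓ Subgroup.centralizer (B : Set ↥(S : Subgroup G)) with hZB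
      by_cases hZR : ZB ≤ R'
      swap
      · refine hfin ZB hZR
          ((Subgroup.commutator_mono (Subgroup.commutator_mono (Subgroup.commutator_mono le_rfl inf_le_left) inf_le_left) inf_le_left).trans h3)
          (le_bot_iff.mp ((Subgroup.commutator_mono (Subgroup.commutator_mono le_rfl inf_le_left) inf_le_left).trans h2.le)) (Or.inl ?_)
        refine (Subgroup.commutator_mono ((Subgroup.commutator_mono le_rfl inf_le_left).trans hABB) inf_le_right).trans (le_trans ?_ bot_le)
        rw [Subgroup.commutator_comm]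
        exact (Subgroup.commutator_eq_bot_iff_le_centralizer.mpr le_rfl).le
      refine hfin B hBR h3 h2 (Or.inr ⟨hABB, hB.1, fun X hXA hBX hXc => ?_⟩)
      set X' := X.subgroupOf (S : Subgroup G) with hX'
      have hιX : X'.map ι = X := Subgroup.map_subgroupOf_eq_of_le (hXA.trans hAS)
      have hXA' : X' ≤ A' := Subgroup.comap_mono hXA
      have hinj := Subgroup.map_injective (f := ι) (S : Subgroup G).subtype_injective
      have hBX' : B ≤ Subgroup.normalizer (X' : Set ↥(S : Subgroup G)) := fun b hb =>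
        Subgroup.le_normalizer_comap ι (hBX ⟨b, hb, rfl⟩)
      have hX2 : X' ∈ classTwoSubgroups ↥(S : Subgroup G) :=
        (Subgroup.commutator_mono hXA' hXA').trans (hA'2.trans (Subgroup.centralizer_le (SetLike.coe_subset_coe.mpr hXA')))
      have hBXX : ⁅B, ⁅X', X'⁆⁆ = ⊥ := hinj (by
        rw [Subgroup.map_commutator, Subgroup.map_commutator, Subgroup.map_bot, hιX, Subgroup.commutator_comm]
        exact Subgroup.commutator_eq_bot_iff_le_centralizer.mpr hXc)
      have hZXX : ⁅⁅ZB, X'⁆, X'⁆ = ⊥ := by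
        refine Subgroup.commutator_eq_bot_iff_le_centralizer.mpr ?_
        rw [Subgroup.commutator_comm]
        exact ((Subgroup.commutator_mono hXA' le_rfl).trans (hAR' hZR)).trans
          (inf_le_right.trans (Subgroup.centralizer_le (SetLike.coe_subset_coe.mpr hXA')))
      have h4 : ⁅⁅X', B⁆, B⁆ = ⊥ := by
        refine Subgroup.commutator_eq_bot_iff_le_centralizer.mpr ?_
        rw [Subgroup.commutator_comm]
        exact (hB.2.2 X' hX2 (hXA'.trans hAQ) hBX' hBXX hZXX).trans inf_le_right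
      have h5 := congrArg (Subgroup.map ι) h4
      rwa [Subgroup.map_commutator, Subgroup.map_commutator, hιX, Subgroup.map_bot] at h5
  have hterms : ∀ n, kSeqEven ↥(S : Subgroup G) n ≤ R' ∧ kSeqOdd ↥(S : Subgroup G) (n + 1) ≤ R' := fun n =>
    ⟨heven n, sSup_le fun B hB => by
      by_contra hBR
      have h1 : ⁅⁅A', B⁆, B⁆ = ⊥ := by
        refine Subgroup.commutator_eq_bot_iff_le_centralizer.mpr ?_
        rw [Subgroup.commutator_comm]
        exact ((Subgroup.commutator_mono le_rfl (hAev n)).trans hB.2).trans inf_le_right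
      refine hfin B hBR ?_ (le_bot_iff.mp ((Subgroup.commutator_mono (Subgroup.commutator_mono inf_le_left le_rfl) le_rfl).trans h1.le))
        (Or.inl (h1.le.trans bot_le))
      rw [h1, Subgroup.commutator_bot_left]; exact bot_le⟩
  obtain ⟨h1, h2⟩ := normal_of_terms_le S hterms
  exact hK.elim (fun h => h h1) (fun h => h h2)

/-- A critical subgroup of `O_p(G)`, inside `G`. -/
theorem exists_critical : ∃ A : Subgroup G, A.Normal ∧ A ≤ pCore p G ∧ ⁅A, A⁆ ≤ Subgroup.centralizer (A : Set G) ∧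
    ⁅pCore p G, A⁆ ≤ A ⊓ Subgroup.centralizer (A : Set G) ∧ pCore p G ⊓ Subgroup.centralizer (A : Set G) ≤ A := by
  set R := pCore p G
  haveI hRn : R.Normal := by
    have := CfsgLib.Core.pCore_characteristic (G := G) p
    infer_instance
  obtain ⟨H, hH, -, h2, h3⟩ := Cfsg.Agent.S0093.result (P := ↥R) (CfsgLib.Core.isPGroup_pCore p)
  haveI := hH
  have h2' : ⁅R, H.map R.subtype⁆ ≤ H.map R.subtype ⊓ Subgroup.centralizer ((H.map R.subtype : Subgroup G) : Set G) := by
    rw [Subgroup.commutator_comm]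
    have h := Subgroup.map_mono (f := R.subtype) h2
    rw [Subgroup.map_commutator, ← MonoidHom.range_eq_map, Subgroup.range_subtype, CfsgLib.KInf.map_centre] at h
    exact h
  refine ⟨H.map R.subtype, inferInstance, Subgroup.map_subtype_le H,
    ((Subgroup.commutator_mono (Subgroup.map_subtype_le H) le_rfl).trans h2').trans inf_le_right, h2', ?_⟩
  intro x hx
  obtain ⟨hxR, hxC⟩ := Subgroup.mem_inf.mp hx
  exact ⟨⟨x, hxR⟩, h3 (fun y hy => Subtype.ext (hxC y ⟨y, hy, rfl⟩)), rfl⟩

/-- Degree bounds on the chief factors from the bounds on a critical subgroup. -/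
theorem low_degree_of {A : Subgroup G} [A.Normal] (hAR : A ≤ pCore p G)
    (hA3 : ⁅pCore p G, A⁆ ≤ A ⊓ Subgroup.centralizer (A : Set G))
    (hA4 : pCore p G ⊓ Subgroup.centralizer (A : Set G) ≤ A) {g : G}
    (h3 : iterCommutator A (Subgroup.zpowers g) 3 ≤ A ⊓ Subgroup.centralizer (A : Set G))
    (h2 : ⁅⁅A ⊓ Subgroup.centralizer (A : Set G), Subgroup.zpowers g⁆, Subgroup.zpowers g⁆ = ⊥) :
    (∀ U V : Subgroup G, IsChiefFactor U V → U ≤ pCore p G → iterCommutator U (Subgroup.zpowers g) 4 ≤ V) ∧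
      ⁅⁅pCore p G ⊓ Subgroup.centralizer (pCore p G : Set G), Subgroup.zpowers g⁆, Subgroup.zpowers g⁆ = ⊥ := by
  haveI hRn : (pCore p G).Normal := by
    have := CfsgLib.Core.pCore_characteristic (G := G) p
    infer_instance
  refine ⟨fun U V hUV hU => ?_, ?_⟩
  · refine CfsgLib.IterChief.iter_chief_le (CfsgLib.Core.isPGroup_pCore p) hAR hA3 hA4 g 3 2 (by omega) (fun U V hUV hU => ?_)
      (fun U V _ hU => (CfsgLib.IterChief.iter_mono hU 2).trans (h2.le.trans bot_le)) U V hUV ‹_›
    -- a factor below `A`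
    obtain ⟨U', V', ⟨hVU, hU'n, hV'n, hch⟩, hU', hV', hsup, hmax⟩ := CfsgLib.IterChief.exists_reduced hUV
    haveI := hUV.2.2.1
    haveI := hU'n
    refine (CfsgLib.IterChief.iter_mono hsup _).trans ((CfsgLib.IterChief.iter_sup_le _).trans (sup_le ?_ le_rfl))
    refine le_trans ?_ hV'
    rcases em (U' ≤ A ⊓ Subgroup.centralizer (A : Set G)) with h | h
    · exact (CfsgLib.IterChief.iter_le_of_le (CfsgLib.IterChief.normalizes_of_normal _ U') (show 2 ≤ 3 by omega)).trans
        ((CfsgLib.IterChief.iter_mono h 2).trans (h2.le.trans bot_le))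
    · exact (le_inf (CfsgLib.IterChief.iter_le_left (CfsgLib.IterChief.normalizes_of_normal _ U') 3)
        ((CfsgLib.IterChief.iter_mono (hU'.trans hU) 3).trans h3)).trans
        (hmax _ inferInstance inf_le_left fun e => h (inf_eq_left.mp e))
  · refine le_bot_iff.mp ((Subgroup.commutator_mono (Subgroup.commutator_mono ?_ le_rfl) le_rfl).trans h2.le)
    have hle : pCore p G ⊓ Subgroup.centralizer (pCore p G : Set G) ≤ Subgroup.centralizer (A : Set G) :=
      inf_le_right.trans (Subgroup.centralizer_le (SetLike.coe_subset_coe.mpr hAR))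
    exact le_inf ((le_inf inf_le_left hle).trans hA4) hle

/-- The degree statement. -/
theorem exists_low_degree
    (hK : ¬ (inducedFunctor kInfLower (S : Subgroup G)).Normal ∨ ¬ (inducedFunctor kInfUpper (S : Subgroup G)).Normal) :
    ∃ g : G, g ∈ (S : Subgroup G) ∧ g ∉ pCore p G ∧
      (∀ U V : Subgroup G, IsChiefFactor U V → U ≤ pCore p G → iterCommutator U (Subgroup.zpowers g) 4 ≤ V) ∧
      ⁅⁅pCore p G ⊓ Subgroup.centralizer (pCore p G : Set G), Subgroup.zpowers g⁆, Subgroup.zpowers g⁆ = ⊥ := by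
  obtain ⟨A, hAn, hAR, hA2, hA3, hA4⟩ := exists_critical (G := G) (p := p)
  haveI := hAn
  haveI hRn : (pCore p G).Normal := by
    have := CfsgLib.Core.pCore_characteristic (G := G) p
    infer_instance
  obtain ⟨g, hgS, hgR, h3, h2, -⟩ := exists_element S A hAR hA2 hA3 hK
  exact ⟨g, hgS, hgR, low_degree_of hAR hA3 hA4 h3 h2⟩

theorem iterCommutator_le_pred {U V : Subgroup G} (hV : IsChiefFactor U V) (g : G) (hp5 : 5 ≤ p)
    (h : iterCommutator U (Subgroup.zpowers g) 4 ≤ V) : iterCommutator U (Subgroup.zpowers g) (p - 1) ≤ V :=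
  haveI := hV.2.1
  (CfsgLib.IterChief.iter_le_of_le (CfsgLib.IterChief.normalizes_of_normal _ U) (by omega)).trans h

open CfsgLib.ConjFamily in
/-- For `p ≥ 5` both K-infinity subgroups control transfer in every section. -/
theorem transfer (hp5 : 5 ≤ p) {W : ∀ (X : Type u) [Group X], Subgroup X} (hW : IsCharPFunctor.{u} p W)
    (hKW : ∀ (H : Type u) [Group H] [Finite H] (T : Sylow p H), ¬ (inducedFunctor W (T : Subgroup H)).Normal →
      ¬ (inducedFunctor kInfLower (T : Subgroup H)).Normal ∨ ¬ (inducedFunctor kInfUpper (T : Subgroup H)).Normal)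
    (Q : Type u) [Group Q] [Finite Q] (hQ : Sec G Q) : CtlT {W} p Q := by
  have h𝓦 : ∀ V ∈ ({W} : Set (∀ (X : Type u) [Group X], Subgroup X)), IsCharPFunctor.{u} p V := by
    rintro V rfl; exact hW
  refine transfer_all h𝓦 (G := G) (fun H _ _ _ hc hsec => ?_) Q hQ
  obtain ⟨T⟩ := (inferInstance : Nonempty (Sylow p H))
  by_cases hn : (inducedFunctor (G := H) W (T : Subgroup H)).Normal
  · refine transfer_top T _ ?_
    rw [transD_single, Subgroup.normalizer_eq_top_iff.mpr hn]
  by_contra hcon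
  obtain ⟨g, hgT, hgR, hg, -⟩ := exists_low_degree T (hKW H T hn)
  obtain ⟨-, -, -, h4⟩ := CfsgLib.TransferCritical.critical h𝓦 T (Set.singleton_nonempty W)
    (fun M hM => hsec _ (Sec.subgroup M) (card_subgroup_lt hM))
    (fun N _ hN => hsec _ (Sec.quotient N) (card_quotient_lt hN)) hcon _ _ rfl rfl
  obtain ⟨U, V, hUV, hU, hbad⟩ := h4 g hgT hgR
  exact hbad (iterCommutator_le_pred hUV g hp5 (hg U V hUV hU))

theorem transfer_lower (hp5 : 5 ≤ p) (Q : Type u) [Group Q] [Finite Q] (hQ : Sec G Q) : CtlT {kInfLower} p Q :=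
  transfer (G := G) hp5 charP_lower (fun _ _ _ _ h => Or.inl h) Q hQ

theorem transfer_upper (hp5 : 5 ≤ p) (Q : Type u) [Group Q] [Finite Q] (hQ : Sec G Q) : CtlT {kInfUpper} p Q :=
  transfer (G := G) hp5 charP_upper (fun _ _ _ _ h => Or.inr h) Q hQ

open CfsgLib.ConjFamily in
/-- The equality at a given Sylow subgroup. -/
theorem inf_commutator_eq {W : ∀ (X : Type u) [Group X], Subgroup X} (hW : IsCharPFunctor.{u} p W)
    (h : CtlT {W} p G) :
    (S : Subgroup G) ⊓ commutator G = (S : Subgroup G) ⊓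
      ⁅Subgroup.normalizer ((inducedFunctor W (S : Subgroup G) : Subgroup G) : Set G),
        Subgroup.normalizer ((inducedFunctor W (S : Subgroup G) : Subgroup G) : Set G)⁆ := by
  have h𝓦 : ∀ V ∈ ({W} : Set (∀ (X : Type u) [Group X], Subgroup X)), IsCharPFunctor.{u} p V := by
    rintro V rfl; exact hW
  have hle := transfer_in_of_family _ (fam_conjugacy h𝓦) le_top S.2 (not_dvd_relIndex S le_top) h
  simp only [Set.image_singleton, iSup_singleton, top_inf_eq] at hle
  rw [commutator_def]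
  exact le_antisymm hle (inf_le_inf_left _ (Subgroup.commutator_mono le_top le_top))

end CfsgLib.KInfDegree
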