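import Cfsg.Agent.Lib.KInf
import Cfsg.Agent.Lib.SectionControl
import Cfsg.Agent.Lib.CharPLocal
import Cfsg.Agent.Lib.Glauberman.Core
import Cfsg.Agent.S1979
import Cfsg.Agent.S1978

/-! The K-infinity subgroups in `p`-stable groups of characteristic `p` (owner helper5). -/

set_option autoImplicit false

universe u

namespace CfsgLib.KInfStable

open Cfsg CfsgLib.Fusion CfsgLib.LocalBasic CfsgLib.CharP CfsgLib.SectionReduce
open scoped commutatorElement

/-! ### Isomorphism invariance -/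

section Iso

variable {P R : Type*} [Group P] [Group R] (e : P ≃* R)

theorem map_centre_equiv (B : Subgroup P) :
    (B ⊓ Subgroup.centralizer (B : Set P)).map e.toMonoidHom =
      B.map e.toMonoidHom ⊓ Subgroup.centralizer ((B.map e.toMonoidHom : Subgroup R) : Set R) := by
  ext x
  constructor
  · rintro ⟨y, ⟨hy, hc⟩, rfl⟩
    refine ⟨⟨y, hy, rfl⟩, ?_⟩
    rintro _ ⟨z, hz, rfl⟩
    rw [← map_mul, ← map_mul, hc z hz]
  · rintro ⟨⟨y, hy, rfl⟩, hc⟩
    refine ⟨y, ⟨hy, fun z hz => e.injective ?_⟩, rfl⟩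
    have := hc _ ⟨z, hz, rfl⟩
    rwa [← map_mul, ← map_mul] at this

theorem classTwo_map {B : Subgroup P} (hB : B ∈ classTwoSubgroups P) : B.map e.toMonoidHom ∈ classTwoSubgroups R := by
  show ⁅B.map e.toMonoidHom, B.map e.toMonoidHom⁆ ≤ _
  rw [← Subgroup.map_commutator]
  rintro _ ⟨c, hc, rfl⟩ _ ⟨b, hb, rfl⟩
  rw [← map_mul, ← map_mul, hB hc b hb]

theorem normalizes_map {A B : Subgroup P} (h : A ≤ Subgroup.normalizer (B : Set P)) :
    A.map e.toMonoidHom ≤ Subgroup.normalizer ((B.map e.toMonoidHom : Subgroup R) : Set R) :=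
  (Subgroup.map_mono h).trans (Subgroup.le_normalizer_map _)

theorem map_symm_map (B : Subgroup P) : (B.map e.toMonoidHom).map e.symm.toMonoidHom = B := by
  rw [Subgroup.map_map]; convert Subgroup.map_id B; ext x; simp

theorem map_map_symm (B : Subgroup R) : (B.map e.symm.toMonoidHom).map e.toMonoidHom = B := by
  rw [Subgroup.map_map]; convert Subgroup.map_id B; ext x; simp

theorem upper_map {Q B : Subgroup P} (hB : B ∈ kUpperStarFamily Q) :
    B.map e.toMonoidHom ∈ kUpperStarFamily (Q.map e.toMonoidHom) := by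
  refine ⟨classTwo_map e hB.1, ?_⟩
  rw [← Subgroup.map_commutator, ← map_centre_equiv]
  exact Subgroup.map_mono hB.2

theorem lower_map {Q B : Subgroup P} (hB : B ∈ kLowerStarFamily Q) :
    B.map e.toMonoidHom ∈ kLowerStarFamily (Q.map e.toMonoidHom) := by
  refine ⟨classTwo_map e hB.1, normalizes_map e hB.2.1, fun A hA hAQ hn h1 h2 => ?_⟩
  obtain ⟨A, rfl⟩ : ∃ A' : Subgroup P, A'.map e.toMonoidHom = A := ⟨_, map_map_symm e A⟩
  have hinj := Subgroup.map_injective (f := e.toMonoidHom) e.injective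
  have hA' : A ∈ classTwoSubgroups P := by
    have := classTwo_map e.symm hA
    rwa [map_symm_map] at this
  have hn' : B ≤ Subgroup.normalizer (A : Set P) := by
    have := normalizes_map e.symm hn
    rwa [map_symm_map, map_symm_map] at this
  have := hB.2.2 A hA' ((Subgroup.map_le_map_iff_of_injective e.injective).mp hAQ) hn'
    (hinj (by rw [Subgroup.map_commutator, Subgroup.map_commutator, h1, Subgroup.map_bot]))
    (hinj (by rw [Subgroup.map_commutator, Subgroup.map_commutator, map_centre_equiv, h2, Subgroup.map_bot]))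
  rw [← Subgroup.map_commutator, ← map_centre_equiv]
  exact Subgroup.map_mono this

theorem sSup_map (𝒜 : Set (Subgroup P)) (𝒜' : Set (Subgroup R))
    (h : ∀ B ∈ 𝒜, B.map e.toMonoidHom ∈ 𝒜') (h' : ∀ B ∈ 𝒜', B.map e.symm.toMonoidHom ∈ 𝒜) :
    (sSup 𝒜).map e.toMonoidHom = sSup 𝒜' := by
  rw [(Subgroup.gc_map_comap e.toMonoidHom).l_sSup]
  refine le_antisymm (iSup₂_le fun B hB => le_sSup (h B hB)) (sSup_le fun B hB => ?_)
  exact le_iSup₂_of_le _ (h' B hB) (map_map_symm e B).ge

theorem even_map_of_odd {n : ℕ} (h : (kSeqOdd P n).map e.toMonoidHom = kSeqOdd R n) :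
    (kSeqEven P n).map e.toMonoidHom = kSeqEven R n :=
  sSup_map e _ _ (fun _ hB => h ▸ lower_map e hB) fun _ hB => by
    have := lower_map e.symm hB
    rwa [← h, map_symm_map] at this

theorem odd_map : ∀ n, (kSeqOdd P n).map e.toMonoidHom = kSeqOdd R n
  | 0 => Subgroup.map_top_of_surjective _ e.surjective
  | n + 1 => by
    have h := even_map_of_odd e (odd_map n)
    exact sSup_map e _ _ (fun _ hB => by
      have := upper_map e hB
      change _ ∈ kUpperStarFamily ((kSeqEven P n).map e.toMonoidHom) at this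
      rwa [h] at this) fun _ hB => by
      have := upper_map e.symm hB
      change _ ∈ kUpperStarFamily ((kSeqEven R n).map e.symm.toMonoidHom) at this
      rwa [← h, map_symm_map] at this

theorem lower_equiv : (kInfLower P).map e.toMonoidHom = kInfLower R := by
  rw [kInfLower, kInfLower, Subgroup.map_iSup]
  exact iSup_congr fun n => even_map_of_odd e (odd_map e n)

theorem upper_equiv : (kInfUpper P).map e.toMonoidHom = kInfUpper R := by
  refine le_antisymm (le_iInf fun n => ?_) fun y hy => ?_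
  · rw [← odd_map e n]
    exact Subgroup.map_mono (iInf_le _ n)
  · refine ⟨e.symm y, Subgroup.mem_iInf.mpr fun n => ?_, e.apply_symm_apply y⟩
    rw [← odd_map e.symm n]
    exact ⟨y, Subgroup.mem_iInf.mp hy n, rfl⟩

end Iso

theorem center_ne_bot {p : ℕ} [Fact p.Prime] {Q : Type u} [Group Q] [Finite Q] (hQ : IsPGroup p Q) [Nontrivial Q] :
    Subgroup.center Q ≠ ⊥ := by
  haveI := hQ.center_nontrivial
  exact (Subgroup.nontrivial_iff_ne_bot _).mp inferInstance

theorem charP_lower {p : ℕ} [Fact p.Prime] : IsCharPFunctor.{u} p kInfLower := by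
  refine ⟨fun Q _ _ hQ hne h => center_ne_bot hQ ?_, fun Q R _ _ _ _ φ => lower_equiv φ⟩
  obtain ⟨h1, h2, -, -⟩ := Cfsg.Agent.S1978.result hQ
  exact le_bot_iff.mp (h ▸ h2.trans h1)

theorem charP_upper {p : ℕ} [Fact p.Prime] : IsCharPFunctor.{u} p kInfUpper := by
  refine ⟨fun Q _ _ hQ hne h => center_ne_bot hQ ?_, fun Q R _ _ _ _ φ => upper_equiv φ⟩
  obtain ⟨-, -, h1, h2⟩ := Cfsg.Agent.S1978.result hQ
  exact le_bot_iff.mp (h ▸ h2.trans h1)

/-! ### The stable case -/

variable {G : Type u} [Group G] [Finite G] {p : ℕ} [hp : Fact p.Prime]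

/-- In a stable group a `p`-element acting quadratically on a minimal normal `p`-subgroup centralises it. -/
theorem centralizes_of_quad (hst : IsNormalizerPStable p G) {U : Subgroup G} [hU : U.Normal] (hUp : IsPGroup p ↥U)
    (hUmin : ∀ N : Subgroup G, N.Normal → N ≤ U → N = ⊥ ∨ N = U) {b : G}
    (hq : ⁅⁅U, Subgroup.zpowers b⁆, Subgroup.zpowers b⁆ = ⊥) : b ∈ Subgroup.centralizer (U : Set G) := by
  rcases eq_or_ne U ⊥ with hU0 | hU0
  · rw [hU0]; intro y hy; rw [Subgroup.mem_bot.mp hy]; simp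
  set N := Subgroup.normalizer (U : Set G) with hN
  have hNtop : ∀ x : G, x ∈ N := fun x => by rw [hN, Subgroup.normalizer_eq_top]; trivial
  have h1 := hst U hUp b (hNtop b) hq
  set q := QuotientGroup.mk' ((Subgroup.centralizer (U : Set G)).subgroupOf N) with hqdef
  let f : G →* ↥N ⧸ (Subgroup.centralizer (U : Set G)).subgroupOf N :=
    q.comp (MonoidHom.codRestrict (MonoidHom.id G) N hNtop)
  have hf : Function.Surjective f := fun z => by
    obtain ⟨x, rfl⟩ := QuotientGroup.mk'_surjective _ z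
    exact ⟨x, rfl⟩
  set E := Cfsg.pCore p (↥N ⧸ (Subgroup.centralizer (U : Set G)).subgroupOf N)
  haveI hEn : E.Normal := by
    have := CfsgLib.Core.pCore_characteristic (G := ↥N ⧸ (Subgroup.centralizer (U : Set G)).subgroupOf N) p
    infer_instance
  set O := E.comap f with hO
  have hbO : b ∈ O := h1
  have hker : ∀ c : G, f c = 1 → c ∈ Subgroup.centralizer (U : Set G) := fun c hc => by
    exact Subgroup.mem_subgroupOf.mp ((QuotientGroup.eq_one_iff (N := (Subgroup.centralizer (U : Set G)).subgroupOf N) _).mp hc)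
  -- every element of `O` is an element of a fixed `p`-subgroup times a centralising element
  obtain ⟨T⟩ := (inferInstance : Nonempty (Sylow p ↥O))
  let g : ↥O →* ↥E := (f.comp O.subtype).codRestrict E fun x => x.2
  have hg : Function.Surjective g := fun y => by
    obtain ⟨x, hx⟩ := hf y
    exact ⟨⟨x, show f x ∈ E by rw [hx]; exact y.2⟩, Subtype.ext hx⟩
  have hgT : (T : Subgroup ↥O).map g = ⊤ := by
    rw [← Subgroup.index_eq_one]
    obtain ⟨j, hj⟩ := IsPGroup.iff_card.mp (CfsgLib.Core.isPGroup_pCore (G := ↥N ⧸ (Subgroup.centralizer (U : Set G)).subgroupOf N) p)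
    exact Nat.eq_one_of_dvd_coprimes (Nat.Coprime.pow_left j (hp.out.coprime_iff_not_dvd.mpr T.not_dvd_index))
      (hj ▸ Subgroup.index_dvd_card _) (Subgroup.index_map_dvd _ hg)
  set P0 := (T : Subgroup ↥O).map O.subtype
  haveI : U.Normal := hU
  set J := P0 ⊔ U
  have hJ : IsPGroup p ↥J := IsPGroup.to_sup_of_normal_right (T.2.map _) hUp
  have hne := CfsgLib.CharPLocal.normal_inf_center hJ (N := U.subgroupOf J) inferInstance (by
    rw [Ne, Subgroup.subgroupOf_eq_bot, disjoint_iff, inf_eq_left.mpr (le_sup_right : U ≤ J)]; exact hU0)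
  obtain ⟨⟨⟨z, hzJ⟩, hz⟩, hz1⟩ := (Subgroup.ne_bot_iff_exists_ne_one).mp hne
  obtain ⟨hzU, hzC⟩ := Subgroup.mem_inf.mp hz
  have hzfix : ∀ x ∈ O, x * z = z * x := by
    intro x hx
    obtain ⟨t, ht, hte⟩ : g ⟨x, hx⟩ ∈ (T : Subgroup ↥O).map g := hgT ▸ Subgroup.mem_top _
    have hc : (t : G)⁻¹ * x ∈ Subgroup.centralizer (U : Set G) := hker _ (by
      have h := congrArg Subtype.val hte
      change f (t : G) = f x at h
      rw [map_mul, map_inv, h, inv_mul_cancel])
    have h2 : (t : G) * z = z * (t : G) := congrArg Subtype.val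
      (Subgroup.mem_center_iff.mp hzC ⟨(t : G), Subgroup.mem_sup_left ⟨t, ht, rfl⟩⟩)
    calc x * z = (t : G) * (((t : G)⁻¹ * x) * z) := by group
      _ = (t : G) * (z * ((t : G)⁻¹ * x)) := by rw [← hc z (Subgroup.mem_subgroupOf.mp hzU)]
      _ = ((t : G) * z) * ((t : G)⁻¹ * x) := by group
      _ = z * x := by rw [h2]; group
  haveI hOn : O.Normal := Subgroup.Normal.comap hEn f
  rcases hUmin (U ⊓ Subgroup.centralizer (O : Set G)) inferInstance inf_le_left with h | h
  · exfalso
    refine hz1 (Subtype.ext (Subtype.ext ?_))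
    show z = 1
    rw [← Subgroup.mem_bot (G := G), ← h]
    exact ⟨Subgroup.mem_subgroupOf.mp hzU, hzfix⟩
  · intro u hu
    exact (((h.ge hu : u ∈ U ⊓ Subgroup.centralizer (O : Set G)).2) b hbO).symm

/-- Quadratic action on a chief factor of a subgroup is trivial. -/
theorem quad_trivial (hst : ∀ (Q : Type u) [Group Q] [Finite Q], Sec G Q → IsNormalizerPStable p Q)
    {H V W : Subgroup G} (hVW : V ≤ W) (hWH : W ≤ H) (hWp : IsPGroup p ↥W)
    (hVn : H ≤ Subgroup.normalizer (V : Set G)) (hWn : H ≤ Subgroup.normalizer (W : Set G))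
    (hmin : ∀ N : Subgroup G, H ≤ Subgroup.normalizer (N : Set G) → V ≤ N → N ≤ W → N = V ∨ N = W)
    {b : G} (hb : b ∈ H) (hq : ∀ w ∈ W, ∀ i j : ℤ, ⁅⁅w, b ^ i⁆, b ^ j⁆ ∈ V) : ∀ w ∈ W, ⁅w, b⁆ ∈ V := by
  haveI : (V.subgroupOf H).Normal := (Subgroup.normal_subgroupOf_iff_le_normalizer (hVW.trans hWH)).mpr hVn
  haveI : (W.subgroupOf H).Normal := (Subgroup.normal_subgroupOf_iff_le_normalizer hWH).mpr hWn
  set π := QuotientGroup.mk' (V.subgroupOf H)
  have hπ : Function.Surjective π := QuotientGroup.mk'_surjective _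
  set U := (W.subgroupOf H).map π
  haveI hUn : U.Normal := Subgroup.Normal.map inferInstance π hπ
  have hUp : IsPGroup p ↥U := (hWp.comap_subtype (K := H)).map π
  have hUmin : ∀ N : Subgroup (↥H ⧸ V.subgroupOf H), N.Normal → N ≤ U → N = ⊥ ∨ N = U := by
    intro N hN hNU
    have hVN : V.subgroupOf H ≤ N.comap π := fun x hx => by
      rw [Subgroup.mem_comap, show π x = 1 from (QuotientGroup.eq_one_iff x).mpr hx]
      exact one_mem N
    have hNW : N.comap π ≤ W.subgroupOf H := by
      intro x hx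
      obtain ⟨w, hw, hwe⟩ := hNU hx
      have h1 : w⁻¹ * x ∈ V.subgroupOf H := QuotientGroup.eq.mp hwe
      have := mul_mem hw (Subgroup.comap_mono hVW h1 : w⁻¹ * x ∈ W.subgroupOf H)
      rwa [mul_inv_cancel_left] at this
    have hn' : H ≤ Subgroup.normalizer (((N.comap π).map H.subtype : Subgroup G) : Set G) := by
      haveI := hN.comap π
      refine le_trans ?_ (Subgroup.le_normalizer_map H.subtype)
      rw [Subgroup.normalizer_eq_top, ← MonoidHom.range_eq_map, Subgroup.range_subtype]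
    rcases hmin _ hn' (fun v hv => ⟨⟨v, hWH (hVW hv)⟩, hVN hv, rfl⟩)
      (by rintro _ ⟨x, hx, rfl⟩; exact hNW hx) with h | h
    · left
      rw [eq_bot_iff]
      intro z hz
      obtain ⟨x, rfl⟩ := hπ z
      have : (x : G) ∈ V := h ▸ ⟨x, hz, rfl⟩
      exact Subgroup.mem_bot.mpr ((QuotientGroup.eq_one_iff x).mpr this)
    · right
      refine le_antisymm hNU ?_
      rintro _ ⟨x, hx, rfl⟩
      obtain ⟨y, hy, hye⟩ : (x : G) ∈ (N.comap π).map H.subtype := h ▸ hx
      exact Subtype.ext hye ▸ hy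
  have hsec : Sec G (↥H ⧸ V.subgroupOf H) := Sec.mk_pair H V
  have hc := centralizes_of_quad (hst _ hsec) hUp hUmin (b := π ⟨b, hb⟩) (by
    rw [Subgroup.commutator_eq_bot_iff_le_centralizer, Subgroup.commutator_le]
    rintro _ ⟨w, hw, rfl⟩ _ ⟨i, rfl⟩ _ ⟨j, rfl⟩
    dsimp only
    have h1 : π ⁅⁅w, (⟨b, hb⟩ : ↥H) ^ i⁆, (⟨b, hb⟩ : ↥H) ^ j⁆ = 1 := by
      refine (QuotientGroup.eq_one_iff _).mpr (Subgroup.mem_subgroupOf.mpr ?_)
      simp only [commutatorElement_def]
      push_cast
      have := hq (w : G) hw i j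
      simpa [commutatorElement_def] using this
    rw [map_commutatorElement, map_commutatorElement, map_zpow, map_zpow, commutatorElement_eq_one_iff_mul_comm] at h1
    exact h1.symm)
  intro w hw
  have h2 : π ⁅(⟨w, hWH hw⟩ : ↥H), ⟨b, hb⟩⁆ = 1 := by
    rw [map_commutatorElement, commutatorElement_eq_one_iff_mul_comm]
    exact hc _ ⟨⟨w, hWH hw⟩, hw, rfl⟩
  exact Subgroup.mem_subgroupOf.mp ((QuotientGroup.eq_one_iff _).mp h2)

/-- Inside an abelian factor `A / Z` below an irreducible one, every group between `N` and `G` acts semisimply. -/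
theorem sum_minimal {N H Z A : Subgroup G} [hNn : N.Normal] (hNH : N ≤ H) (hN : IsPGroup p (G ⧸ N))
    [hZn : Z.Normal] [hAn : A.Normal] (hirr : ∀ X : Subgroup G, X.Normal → Z ≤ X → X ≤ A → X = Z ∨ X = A) (hZA : Z < A) :
    A ≤ ⨆ W ∈ {W : Subgroup G | Z < W ∧ W ≤ A ∧ H ≤ Subgroup.normalizer (W : Set G) ∧
      ∀ X : Subgroup G, H ≤ Subgroup.normalizer (X : Set G) → Z ≤ X → X ≤ W → X = Z ∨ X = W}, W := by
  suffices h : ∀ (m : ℕ) (H : Subgroup G), N ≤ H → Nat.card G < Nat.card ↥H + m →
      A ≤ ⨆ W ∈ {W : Subgroup G | Z < W ∧ W ≤ A ∧ H ≤ Subgroup.normalizer (W : Set G) ∧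
        ∀ X : Subgroup G, H ≤ Subgroup.normalizer (X : Set G) → Z ≤ X → X ≤ W → X = Z ∨ X = W}, W from
    h (Nat.card G + 1) H hNH (by omega)
  intro m
  induction m with
  | zero => intro H _ hm; have := Subgroup.card_le_card_group H; omega
  | succ m ih =>
    intro H hNH hm
    rcases eq_or_ne H ⊤ with rfl | hH
    · exact le_iSup₂_of_le A ⟨hZA, le_rfl, le_top.trans (Subgroup.normalizer_eq_top A).ge,
        fun X hX h1 h2 => hirr X (Subgroup.normalizer_eq_top_iff.mp (top_le_iff.mp hX)) h1 h2⟩ le_rfl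
    set H' := Subgroup.normalizer (H : Set G)
    have hlt : H < H' := by
      refine lt_of_le_of_ne Subgroup.le_normalizer fun he => hH ?_
      haveI := hN.isNilpotent
      set π := QuotientGroup.mk' N
      have hc : (H.map π).comap π = H := by
        rw [Subgroup.comap_map_eq, QuotientGroup.ker_mk', sup_eq_left.mpr hNH]
      have h1 : Subgroup.normalizer ((H.map π : Subgroup (G ⧸ N)) : Set (G ⧸ N)) = H.map π := by
        refine le_antisymm (fun z hz => ?_) Subgroup.le_normalizer
        obtain ⟨x, rfl⟩ := QuotientGroup.mk'_surjective N z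
        refine ⟨x, ?_, rfl⟩
        rw [SetLike.mem_coe, he]
        show x ∈ Subgroup.normalizer (H : Set G)
        rw [← hc, ← Subgroup.comap_normalizer_eq_of_surjective _ (QuotientGroup.mk'_surjective N)]
        exact hz
      have h2 : H.map π = ⊤ := by
        by_contra hne
        exact (Group.normalizerCondition_of_isNilpotent (G := G ⧸ N) _ (lt_top_iff_ne_top.mpr hne)).ne h1.symm
      rw [← hc, h2, Subgroup.comap_top]
    have hcard : Nat.card ↥H < Nat.card ↥H' :=
      lt_of_le_of_ne (Subgroup.card_le_of_le hlt.le) fun he => hlt.ne (Subgroup.eq_of_le_of_card_ge hlt.le he.ge)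
    refine (ih H' (hNH.trans hlt.le) (by omega)).trans (iSup₂_le fun W hW => ?_)
    obtain ⟨hZW, hWA, hWn, hWmin⟩ := hW
    obtain ⟨W0, ⟨hW0a, hW0b, hW0c⟩, hW0min⟩ := (Set.toFinite {X : Subgroup G | Z < X ∧ X ≤ W ∧
      H ≤ Subgroup.normalizer (X : Set G)}).exists_minimal ⟨W, hZW, le_rfl, hlt.le.trans hWn⟩
    set Wc := ⨆ x ∈ H', cj x W0 with hWc
    have hcjZ : ∀ x, cj x Z = Z := fun x => mem_normalizer_iff_cj.mp (by rw [Subgroup.normalizer_eq_top]; trivial)
    have hle : Wc ≤ W := iSup₂_le fun x hx => (cj_mono x hW0b).trans (mem_normalizer_iff_cj.mp (hWn hx)).le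
    have hn : H' ≤ Subgroup.normalizer (Wc : Set G) := by
      intro y hy
      refine mem_normalizer_iff_cj.mpr (Subgroup.eq_of_le_of_card_ge ?_ (card_cj y Wc).ge)
      rw [cj, hWc, Subgroup.map_iSup]
      refine iSup_le fun x => ?_
      rw [Subgroup.map_iSup]
      exact iSup_le fun hx => le_iSup₂_of_le (y * x) (mul_mem hy hx) (cj_mul y x W0).ge
    have hZWc : Z < Wc := hW0a.trans_le (le_iSup₂_of_le 1 (one_mem _) (cj_one W0).ge)
    rcases hWmin Wc hn hZWc.le hle with h | h
    · exact absurd h.symm hZWc.ne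
    rw [← h]
    refine iSup₂_le fun x hx => le_iSup₂_of_le (cj x W0) ?_ le_rfl
    have hxn : ∀ X : Subgroup G, H ≤ Subgroup.normalizer (X : Set G) → ∀ y, y ∈ H' →
        H ≤ Subgroup.normalizer ((cj y X : Subgroup G) : Set G) := fun X hX y hy => by
      rw [← cj_normalizer]
      exact (mem_normalizer_iff_cj.mp hy).ge.trans (cj_mono y hX)
    refine ⟨lt_of_le_of_ne ((hcjZ x).ge.trans (cj_mono x hW0a.le)) fun he => hW0a.ne ?_,
      (le_iSup₂_of_le x hx le_rfl : cj x W0 ≤ Wc).trans (hle.trans hWA), hxn W0 hW0c x hx, fun X hX h1 h2 => ?_⟩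
    · rw [← cj_inv_cj x W0, ← he, hcjZ]
    · rcases eq_or_ne (cj x⁻¹ X) Z with h3 | h3
      · left; rw [← hcjZ x, ← h3, ← cj_mul, mul_inv_cancel, cj_one]
      · right
        have h4 : cj x⁻¹ X ≤ W0 := (cj_mono _ h2).trans (cj_inv_cj x W0).le
        have h5 : Z < cj x⁻¹ X := lt_of_le_of_ne ((hcjZ x⁻¹).ge.trans (cj_mono _ h1)) (Ne.symm h3)
        have h6 := le_antisymm h4 (hW0min ⟨h5, h4.trans hW0b, hxn X hX x⁻¹ (inv_mem hx)⟩ h4)
        rw [← h6, ← cj_mul, mul_inv_cancel, cj_one]

/-- The closure of the elements of order prime to `p`. -/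
def pResGen (p : ℕ) (G : Type*) [Group G] : Subgroup G := Subgroup.closure {x : G | (orderOf x).Coprime p}

theorem pResGen_normal : (pResGen p G).Normal := by
  rw [← Subgroup.normalizer_eq_top_iff, eq_top_iff]
  intro g _
  refine mem_normalizer_iff_cj.mpr (Subgroup.eq_of_le_of_card_ge ?_ (card_cj g _).ge)
  rw [cj, pResGen, MonoidHom.map_closure, Subgroup.closure_le]
  rintro _ ⟨x, hx, rfl⟩
  refine Subgroup.subset_closure ?_
  show (orderOf ((MulAut.conj g).toMonoidHom x)).Coprime p
  rw [orderOf_injective _ (MulAut.conj g).injective]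
  exact hx

theorem isPGroup_quotient_pResGen [(pResGen p G).Normal] : IsPGroup p (G ⧸ pResGen p G) := by
  refine isPGroup_of_coprime_elements fun z hz => ?_
  obtain ⟨x, rfl⟩ := QuotientGroup.mk'_surjective _ z
  obtain ⟨a, b, -, -, hab, ⟨k, hk⟩, hb⟩ := CfsgLib.ThompsonNPC.exists_mul_parts p x
  set q := QuotientGroup.mk' (pResGen p G)
  have h1 : q b = 1 := (QuotientGroup.eq_one_iff b).mpr (Subgroup.subset_closure hb)
  have h2 : q x = q a := by rw [← hab, map_mul, h1, mul_one]
  refine orderOf_eq_one_iff.mp (Nat.eq_one_of_dvd_coprimes (hz.pow_right k) dvd_rfl ?_)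
  rw [h2]
  exact orderOf_dvd_iff_pow_eq_one.mpr (by rw [← map_pow, hk, map_one])

/-- Elements of order prime to `p` that stabilise `A > C_A(N) > 1` centralise `A`. -/
theorem le_centralizer_pResGen {A : Subgroup G} (hA : IsPGroup p ↥A) (hAn : A.Normal)
    (h : ⁅A, pResGen p G⁆ ≤ Subgroup.centralizer (pResGen p G : Set G)) :
    A ≤ Subgroup.centralizer (pResGen p G : Set G) := by
  intro a ha
  have key : pResGen p G ≤ Subgroup.centralizer ({a} : Set G) := by
    refine (Subgroup.closure_le _).mpr fun n hn => ?_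
    have hnN : n ∈ pResGen p G := Subgroup.subset_closure hn
    have h1 : ⁅n, a⁆ ∈ Subgroup.centralizer (pResGen p G : Set G) := by
      rw [← commutatorElement_inv]
      exact inv_mem (h (Subgroup.commutator_mem_commutator ha hnN))
    have h2 : ⁅n, a⁆ ∈ A := by
      rw [commutatorElement_def]; exact mul_mem (hAn.conj_mem a ha n) (inv_mem ha)
    obtain ⟨j, hj⟩ := hA ⟨_, h2⟩
    have h3 := commute_of_commutator_fixed (h1 n hnN) (j := j) (by simpa using congrArg Subtype.val hj) hn
    exact Subgroup.mem_centralizer_singleton_iff.mpr h3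
  exact fun n hn => Subgroup.mem_centralizer_singleton_iff.mp (key hn)

variable (S : Sylow p G)

/-- If a K-infinity subgroup lies in `O_p(G)` term by term it is normal. -/
theorem normal_of_terms_le
    (h : ∀ n, kSeqEven ↥(S : Subgroup G) n ≤ (pCore p G).subgroupOf (S : Subgroup G) ∧
      kSeqOdd ↥(S : Subgroup G) (n + 1) ≤ (pCore p G).subgroupOf (S : Subgroup G)) :
    (inducedFunctor kInfLower (S : Subgroup G)).Normal ∧ (inducedFunctor kInfUpper (S : Subgroup G)).Normal := by
  set R := pCore p G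
  haveI hRn : R.Normal := by
    have := CfsgLib.Core.pCore_characteristic (G := G) p
    infer_instance
  have hRS : R ≤ (S : Subgroup G) := CfsgLib.Core.pCore_le_sylow S
  set Q := R.subgroupOf (S : Subgroup G) with hQ
  obtain ⟨h1, h2⟩ := Cfsg.Agent.S1979.result S.2 Q h
  have hmap : Q.map (S : Subgroup G).subtype = R := Subgroup.map_subgroupOf_eq_of_le hRS
  have hRp : IsPGroup p ↥R := CfsgLib.Core.isPGroup_pCore p
  have key : ∀ W : ∀ (X : Type u) [Group X], Subgroup X, IsCharPFunctor.{u} p W →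
      (W ↥Q).map Q.subtype = W ↥(S : Subgroup G) → (inducedFunctor W (S : Subgroup G)).Normal := by
    intro W hW he
    have h3 : inducedFunctor W (S : Subgroup G) = inducedFunctor W R := by
      show (W ↥(S : Subgroup G)).map (S : Subgroup G).subtype = _
      rw [← he]
      have h4 := iF_map (G := ↥(S : Subgroup G)) hW (S : Subgroup G).subtype (P := Q)
        (hRp.comap_subtype) (Subgroup.subtype_injective _).injOn
      rw [hmap] at h4
      exact h4
    rw [h3]
    refine Subgroup.normalizer_eq_top_iff.mp (top_le_iff.mp ?_)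
    rw [← Subgroup.normalizer_eq_top (H := R)]
    exact normalizer_le_functor (iF_conjugacy hW) hRp
  exact ⟨key kInfLower charP_lower h1, key kInfUpper charP_upper h2⟩

set_option maxHeartbeats 1000000 in
/-- The step of the induction. -/
theorem not_all (hc : HasCharP p G) (hst : ∀ (Q : Type u) [Group Q] [Finite Q], Sec G Q → IsNormalizerPStable p Q)
    (M : Subgroup G) (hM : M ≠ ⊤) (hmax : ∀ H : Subgroup G, (S : Subgroup G) ≤ H → H ≠ ⊤ → H ≤ M) :
    ∀ n, kSeqEven ↥(S : Subgroup G) n ≤ (pCore p G).subgroupOf (S : Subgroup G) ∧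
      kSeqOdd ↥(S : Subgroup G) (n + 1) ≤ (pCore p G).subgroupOf (S : Subgroup G) := by
  classical
  set R := pCore p G with hRdef
  haveI hRn : R.Normal := by
    have := CfsgLib.Core.pCore_characteristic (G := G) p
    infer_instance
  have hRS : R ≤ (S : Subgroup G) := CfsgLib.Core.pCore_le_sylow S
  have hRp : IsPGroup p ↥R := CfsgLib.Core.isPGroup_pCore p
  -- a normal subgroup with a `p`-element outside `R` covers `G` modulo `S`
  have hD : ∀ D : Subgroup G, D.Normal → ∀ b ∈ D, b ∈ (S : Subgroup G) → b ∉ R → D ⊔ (S : Subgroup G) = ⊤ := by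
    intro D hDn b hbD hbS hbR
    by_contra hne
    have hle := hmax _ le_sup_right hne
    set P := (S : Subgroup G) ⊓ D
    have hNP : Subgroup.normalizer (P : Set G) ≠ ⊤ := fun he =>
      hbR (CfsgLib.Core.le_pCore (Subgroup.normalizer_eq_top_iff.mp he) (S.2.to_le inf_le_left) (Subgroup.mem_inf.mpr ⟨hbS, hbD⟩))
    have hNM : Subgroup.normalizer (P : Set G) ≤ M :=
      hmax _ (normalizer_inf_ge Subgroup.le_normalizer (by rw [Subgroup.normalizer_eq_top]; exact le_top)) hNP
    refine hM (eq_top_iff.mpr fun g _ => ?_)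
    have hi : ¬ p ∣ P.relIndex D := sylow_inf_normal (not_dvd_relIndex S le_top) le_top le_top
      (by rw [Subgroup.normalizer_eq_top])
    obtain ⟨d, hd, hdle⟩ := exists_conj_le (S.2.to_le inf_le_left : IsPGroup p ↥P) hi
      (Y := cj g P) ((S.2.to_le inf_le_left : IsPGroup p ↥P).map _)
      ((cj_mono g inf_le_right).trans (mem_normalizer_iff_cj.mp (by rw [Subgroup.normalizer_eq_top]; trivial)).le)
    have hdg : d * g ∈ Subgroup.normalizer (P : Set G) :=
      mem_normalizer_iff_cj.mpr (Subgroup.eq_of_le_of_card_ge (by rw [cj_mul]; exact hdle) (card_cj _ _).ge)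
    have := mul_mem (inv_mem (hle (Subgroup.mem_sup_left hd))) (hNM hdg)
    rwa [inv_mul_cancel_left] at this
  haveI hNn : (pResGen p G).Normal := pResGen_normal
  set N := pResGen p G with hN
  by_contra hcon
  -- some member of a family is outside `R`
  have hSR : ¬ (S : Subgroup G) ≤ R := fun h => hcon fun n =>
    ⟨fun x _ => Subgroup.mem_subgroupOf.mpr (h x.2), fun x _ => Subgroup.mem_subgroupOf.mpr (h x.2)⟩
  have hND : ∀ D : Subgroup G, D.Normal → ∀ b ∈ D, b ∈ (S : Subgroup G) → b ∉ R → N ≤ D := by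
    intro D hDn b hbD hbS hbR
    haveI := hDn
    refine (Subgroup.closure_le _).mpr fun x hx => ?_
    obtain ⟨d, hd, s, hs, hds⟩ := Subgroup.mem_sup_of_normal_left.mp ((hD D hDn b hbD hbS hbR).ge (Subgroup.mem_top x))
    set q := QuotientGroup.mk' D
    obtain ⟨j, hj⟩ := S.2 ⟨s, hs⟩
    refine (QuotientGroup.eq_one_iff x).mp (orderOf_eq_one_iff.mp
      (Nat.eq_one_of_dvd_coprimes (Nat.Coprime.pow_right j hx) (orderOf_map_dvd q x) ?_))
    rw [← hds]
    show orderOf (q (d * s)) ∣ p ^ j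
    rw [map_mul, show q d = 1 from (QuotientGroup.eq_one_iff d).mpr hd, one_mul]
    exact orderOf_dvd_iff_pow_eq_one.mpr (by rw [← map_pow, show s ^ p ^ j = 1 by simpa using congrArg Subtype.val hj, map_one])
  -- a minimal normal subgroup of `R` not centralised by `N`
  obtain ⟨A, ⟨hAn, hAR, hAN⟩, hAmin⟩ := (Set.toFinite {A : Subgroup G | A.Normal ∧ A ≤ R ∧
      ¬ A ≤ Subgroup.centralizer (N : Set G)}).exists_minimal ⟨R, hRn, le_rfl, fun h => by
    -- otherwise `G` is a `p`-group
    have h1 : N ≤ R := (Subgroup.le_centralizer_iff.mp h).trans hc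
    have h2 : IsPGroup p G := isPGroup_of_coprime_elements fun x hx => by
      obtain ⟨j, hj⟩ := hRp ⟨x, h1 (Subgroup.subset_closure hx)⟩
      exact orderOf_eq_one_iff.mp (Nat.eq_one_of_dvd_coprimes (hx.pow_right j) dvd_rfl
        (orderOf_dvd_iff_pow_eq_one.mpr (by simpa using congrArg Subtype.val hj)))
    exact hSR ((le_top : (S : Subgroup G) ≤ ⊤).trans (CfsgLib.Core.le_pCore inferInstance (h2.to_subgroup _)))⟩
  haveI := hAn
  have hAS : A ≤ (S : Subgroup G) := hAR.trans hRS
  have hAp : IsPGroup p ↥A := hRp.to_le hAR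
  set Z := A ⊓ Subgroup.centralizer (N : Set G) with hZ
  haveI hZn : Z.Normal := inferInstance
  have hprop : ∀ X : Subgroup G, X.Normal → X ≤ A → X ≠ A → X ≤ Z := fun X hX hXA hne => le_inf hXA (by
    by_contra h
    exact hne (le_antisymm hXA (hAmin ⟨hX, hXA.trans hAR, h⟩ hXA)))
  have hZA : Z < A := lt_of_le_of_ne inf_le_left fun he => hAN (he ▸ inf_le_right)
  have hirr : ∀ X : Subgroup G, X.Normal → Z ≤ X → X ≤ A → X = Z ∨ X = A := fun X hX h1 h2 => by
    rcases eq_or_ne X A with h | h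
    · exact Or.inr h
    · exact Or.inl (le_antisymm (hprop X hX h2 h) h1)
  have hAN' : ⁅A, N⁆ = A := by
    by_contra h
    exact hAN (le_centralizer_pResGen hAp hAn ((hprop _ inferInstance (Subgroup.commutator_le_left A N) h).trans inf_le_right))
  have hAA : ⁅A, A⁆ ≤ Z := hprop _ inferInstance (Subgroup.commutator_le_left A A)
    (CfsgLib.Glauberman.commutator_lt_of_isPGroup hAp (fun h => hAN (h ▸ bot_le))).ne
  have hAR' : ⁅A, R⁆ ≤ Z := by
    refine hprop _ inferInstance (Subgroup.commutator_le_left A R) fun he => ?_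
    -- `A = [A, R]` is impossible in the nilpotent group `R`
    haveI : Group.IsNilpotent ↥R := hRp.isNilpotent
    obtain ⟨m, hm⟩ := (Subgroup.isNilpotent_iff_lowerCentralSeries R).mp inferInstance
    have hle : ∀ i, A ≤ R.lowerCentralSeries i := by
      intro i
      induction i with
      | zero => exact hAR
      | succ i ih =>
        rw [Subgroup.lowerCentralSeries_succ]
        exact he.ge.trans (Subgroup.commutator_mono ih le_rfl)
    exact hAN ((hle m).trans (hm.le.trans bot_le))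
  have hZC : Z ≤ Subgroup.centralizer (A : Set G) := by
    rw [Subgroup.le_centralizer_iff]
    refine le_trans hAN'.ge ?_
    rw [← Subgroup.commutator_eq_bot_iff_le_centralizer, eq_bot_iff]
    refine three_subgroup (N := ⊥) ?_ ?_ ?_ ?_ ?_
    iterate 3 rw [Subgroup.normalizer_eq_top]; exact le_top
    · rw [show ⁅N, Z⁆ = ⊥ from Subgroup.commutator_eq_bot_iff_le_centralizer.mpr (Subgroup.le_centralizer_iff.mp inf_le_right),
        Subgroup.commutator_bot_left]
    · rw [show ⁅⁅Z, A⁆, N⁆ = ⊥ from Subgroup.commutator_eq_bot_iff_le_centralizer.mpr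
        ((Subgroup.commutator_le_left Z A).trans inf_le_right)]
  have hZA' : A ⊓ Subgroup.centralizer (A : Set G) = Z ∨ ⁅A, A⁆ = ⊥ := by
    rcases hirr (A ⊓ Subgroup.centralizer (A : Set G)) inferInstance (le_inf inf_le_left hZC) inf_le_left with h | h
    · exact Or.inl h
    · exact Or.inr (Subgroup.commutator_eq_bot_iff_le_centralizer.mpr (h.ge.trans inf_le_right))
  -- quadratic action on `A / Z` of an element of `S` outside `R` is impossible
  have hquad : ∀ B : Subgroup G, B ≤ (S : Subgroup G) → ¬ B ≤ R → ¬ ⁅⁅A, B⁆, B⁆ ≤ Z := by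
    intro B hBS hBR hq
    obtain ⟨b, hbB, hbR⟩ := SetLike.not_le_iff_exists.mp hBR
    let D : Subgroup G :=
      { carrier := {g | ∀ a ∈ A, ⁅a, g⁆ ∈ Z}
        one_mem' := fun a _ => by simp
        mul_mem' := fun {g h} hg hh a ha => by
          rw [show ⁅a, g * h⁆ = ⁅a, g⁆ * (g * ⁅a, h⁆ * g⁻¹) by simp only [commutatorElement_def]; group]
          exact mul_mem (hg a ha) (hZn.conj_mem _ (hh a ha) g)
        inv_mem' := fun {g} hg a ha => by
          rw [show ⁅a, g⁻¹⁆ = g⁻¹ * ⁅a, g⁆⁻¹ * g by simp only [commutatorElement_def]; group]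
          simpa using hZn.conj_mem _ (inv_mem (hg a ha)) g⁻¹ }
    haveI hDn : D.Normal := ⟨fun g hg x a ha => by
      rw [show ⁅a, x * g * x⁻¹⁆ = x * ⁅x⁻¹ * a * x, g⁆ * x⁻¹ by simp only [commutatorElement_def]; group]
      exact hZn.conj_mem _ (hg _ (by simpa using hAn.conj_mem a ha x⁻¹)) x⟩
    have hbD : b ∈ D := fun a ha => quad_trivial hst hZA.le (le_top : A ≤ ⊤) hAp
      (by rw [Subgroup.normalizer_eq_top]) (by rw [Subgroup.normalizer_eq_top])
      (fun X hX h1 h2 => hirr X (Subgroup.normalizer_eq_top_iff.mp (top_le_iff.mp hX)) h1 h2) trivial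
      (fun w hw i j => hq (Subgroup.commutator_mem_commutator
        (Subgroup.commutator_mem_commutator hw (zpow_mem hbB i)) (zpow_mem hbB j))) a ha
    have h1 : ⁅A, N⁆ ≤ Z := Subgroup.commutator_le.mpr fun a ha n hn => hND D hDn b hbD (hBS hbB) hbR hn a ha
    exact hZA.not_ge (hAN'.ge.trans h1)
  -- transport to `↥S`
  set A' := A.subgroupOf (S : Subgroup G) with hA'
  set R' := R.subgroupOf (S : Subgroup G) with hR'
  set ι := (S : Subgroup G).subtype with hι
  have hιA : A'.map ι = A := Subgroup.map_subgroupOf_eq_of_le hAS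
  have hιle : ∀ {B : Subgroup ↥(S : Subgroup G)}, ¬ B ≤ R' → ¬ B.map ι ≤ R := fun {B} h h' =>
    h fun x hx => Subgroup.mem_subgroupOf.mpr (h' ⟨x, hx, rfl⟩)
  have hAR2 : ∀ {B : Subgroup ↥(S : Subgroup G)}, B ≤ R' → ⁅A, B.map ι⁆ ≤ Z := fun {B} h =>
    (Subgroup.commutator_mono le_rfl ((Subgroup.map_mono h).trans (Subgroup.map_subgroupOf_eq_of_le hRS).le)).trans hAR'
  haveI hA'n : A'.Normal := inferInstance
  have hA'2 : A' ∈ classTwoSubgroups ↥(S : Subgroup G) := fun x hx y hy => Subtype.ext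
    ((hAA.trans hZC) (show (x : G) ∈ ⁅A, A⁆ by
      have := Subgroup.mem_map_of_mem ι hx
      rwa [Subgroup.map_commutator, hιA] at this) (y : G) hy)
  have hnorm : ∀ B : Subgroup ↥(S : Subgroup G), B ≤ Subgroup.normalizer (A' : Set ↥(S : Subgroup G)) := fun B => by
    rw [Subgroup.normalizer_eq_top]; exact le_top
  have hmapc : ∀ X Y : Subgroup ↥(S : Subgroup G), (⁅X, Y⁆ : Subgroup _).map ι = ⁅X.map ι, Y.map ι⁆ :=
    fun X Y => Subgroup.map_commutator X Y ι
  have hcentre : ∀ X : Subgroup ↥(S : Subgroup G), (X ⊓ Subgroup.centralizer (X : Set ↥(S : Subgroup G))).map ι =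
      X.map ι ⊓ Subgroup.centralizer ((X.map ι : Subgroup G) : Set G) := fun X => CfsgLib.KInf.map_centre X
  -- `A'` is in the first lower family
  have hA0 : A' ∈ kLowerStarFamily (⊤ : Subgroup ↥(S : Subgroup G)) := by
    refine ⟨hA'2, fun x _ => by rw [Subgroup.normalizer_eq_top]; trivial, fun X hX _ hXn h1 h2 => ?_⟩
    rcases hZA' with hZeq | hab
    swap
    · -- `A` abelian
      refine le_inf (Subgroup.commutator_le_left A' X) ((Subgroup.commutator_le_left A' X).trans ?_)
      rw [← Subgroup.commutator_eq_bot_iff_le_centralizer]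
      apply Subgroup.map_injective (S : Subgroup G).subtype_injective
      rw [Subgroup.map_bot, hmapc, hιA, hab]
    by_contra hno
    have hXR : ¬ X ≤ R' := fun hle => hno fun x hx => by
      have hx1 : (x : G) ∈ Z := hAR2 hle (by
        rw [← hιA, ← hmapc]; exact Subgroup.mem_map_of_mem ι hx)
      exact ⟨Subgroup.commutator_le_left A' X hx, fun y hy => Subtype.ext (hZC hx1 (y : G) hy)⟩
    refine hquad (X.map ι) (Subgroup.map_subtype_le X) (hιle hXR) ?_
    rw [← hιA, ← hmapc, ← hmapc, ← hZeq, ← hιA, ← hcentre]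
    refine Subgroup.map_mono (le_inf ((Subgroup.commutator_mono (Subgroup.commutator_le_left A' X) le_rfl).trans
      (Subgroup.commutator_le_left A' X)) ?_)
    refine (Subgroup.commutator_mono (?_ : ⁅A', X⁆ ≤ X) le_rfl).trans ?_
    · rw [Subgroup.commutator_comm, ← Subgroup.le_normalizer_iff_commutator_le_left]; exact hXn
    · exact Subgroup.commutator_eq_bot_iff_le_centralizer.mp (by rw [Subgroup.commutator_comm]; exact h1)
  have hAev : ∀ k, A' ≤ kSeqEven ↥(S : Subgroup G) k := fun k =>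
    (le_sSup hA0 : A' ≤ kSeqEven _ 0).trans (CfsgLib.KInf.even_monotone (Nat.zero_le k))
  -- all even terms lie in `R`
  have heven : ∀ k, kSeqEven ↥(S : Subgroup G) k ≤ R' := by
    intro k
    induction k using Nat.strong_induction_on with
    | _ m ih =>
      refine sSup_le fun B hB => ?_
      by_contra hBR
      have hAQ : A' ≤ kSeqOdd ↥(S : Subgroup G) m := by
        cases m with
        | zero => exact le_top
        | succ k =>
          refine le_sSup ⟨hA'2, le_inf (Subgroup.commutator_le_left A' _) ?_⟩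
          intro x hx
          have hx1 : (x : G) ∈ Z := hAR2 (ih k (Nat.lt_succ_self k)) (by
            rw [← hιA, ← hmapc]; exact Subgroup.mem_map_of_mem ι hx)
          exact fun y hy => Subtype.ext (hZC hx1 (y : G) hy)
      set B0 := B.map ι with hB0
      have hB0S : B0 ≤ (S : Subgroup G) := Subgroup.map_subtype_le B
      have hB0R : ¬ B0 ≤ R := hιle hBR
      set ZB := B ⊓ Subgroup.centralizer (B : Set ↥(S : Subgroup G)) with hZB
      have hABn : A' ≤ Subgroup.normalizer (B : Set ↥(S : Subgroup G)) := hAQ.trans hB.2.1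
      have hABB : ⁅A', B⁆ ≤ B := by
        rw [Subgroup.commutator_comm, ← Subgroup.le_normalizer_iff_commutator_le_left]; exact hABn
      by_cases hZBR : ZB ≤ R'
      swap
      · refine hquad (ZB.map ι) (Subgroup.map_subtype_le _) (hιle hZBR) (le_trans ?_ bot_le)
        rw [← hιA, ← hmapc, ← hmapc, show ⁅⁅A', ZB⁆, ZB⁆ = ⊥ from ?_, Subgroup.map_bot]
        refine Subgroup.commutator_eq_bot_iff_le_centralizer.mpr
          (le_trans ?_ (Subgroup.centralizer_le (SetLike.coe_subset_coe.mpr (inf_le_left : ZB ≤ B))))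
        rw [Subgroup.commutator_comm]
        exact (Subgroup.le_normalizer_iff_commutator_le_left.mp (CfsgLib.KInf.normalizer_center_ge hABn)).trans inf_le_right
      have hcond : ⁅⁅ZB, A'⁆, A'⁆ = ⊥ := by
        apply Subgroup.map_injective (S : Subgroup G).subtype_injective
        rw [Subgroup.map_bot, hmapc, hmapc, hιA, eq_bot_iff]
        refine (Subgroup.commutator_mono (?_ : ⁅ZB.map ι, A⁆ ≤ Z) le_rfl).trans (le_of_eq ?_)
        · rw [Subgroup.commutator_comm]; exact hAR2 hZBR
        · exact Subgroup.commutator_eq_bot_iff_le_centralizer.mpr hZC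
      by_cases hBA : ⁅B, ⁅A', A'⁆⁆ = ⊥
      · refine hquad B0 hB0S hB0R (le_trans ?_ bot_le)
        rw [← hιA, ← hmapc, ← hmapc, show ⁅⁅A', B⁆, B⁆ = ⊥ from ?_, Subgroup.map_bot]
        refine Subgroup.commutator_eq_bot_iff_le_centralizer.mpr ?_
        rw [Subgroup.commutator_comm]
        exact (hB.2.2 A' hA'2 hAQ (hnorm B) hBA hcond).trans inf_le_right
      -- the remaining case
      have hBc : ⁅B0, B0⁆ ≤ Subgroup.centralizer (B0 : Set G) := (CfsgLib.KInf.map_classTwo B).mpr hB.1
      have hAB0 : ⁅A, B0⁆ ≤ B0 := by rw [← hιA, hB0, ← hmapc]; exact Subgroup.map_mono hABB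
      have hBA' : ¬ ⁅A, A⁆ ≤ Subgroup.centralizer (B0 : Set G) := fun h => hBA (by
        apply Subgroup.map_injective (S : Subgroup G).subtype_injective
        rw [Subgroup.map_bot, hmapc, hmapc, hιA]
        rw [Subgroup.commutator_comm]
        exact Subgroup.commutator_eq_bot_iff_le_centralizer.mpr h)
      refine hBA' ?_
      set C := Subgroup.centralizer (B0 : Set G) with hC
      have hcA : ∀ a ∈ A, ∀ a' ∈ A, ∀ y ∈ A, y * ⁅a, a'⁆ * y⁻¹ = ⁅a, a'⁆ := fun a ha a' ha' y hy => by
        rw [hZC (hAA (Subgroup.commutator_mem_commutator ha ha')) y hy, mul_inv_cancel_right]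
      let Y : Subgroup G :=
        { carrier := {a | a ∈ A ∧ ∀ a' ∈ A, ⁅a, a'⁆ ∈ C}
          one_mem' := ⟨one_mem A, fun a' _ => by simp⟩
          mul_mem' := fun {x y} hx hy => ⟨mul_mem hx.1 hy.1, fun a' ha' => by
            rw [show ⁅x * y, a'⁆ = x * ⁅y, a'⁆ * x⁻¹ * ⁅x, a'⁆ by simp only [commutatorElement_def]; group,
              hcA y hy.1 a' ha' x hx.1]
            exact mul_mem (hy.2 a' ha') (hx.2 a' ha')⟩
          inv_mem' := fun {x} hx => ⟨inv_mem hx.1, fun a' ha' => by
            rw [show ⁅x⁻¹, a'⁆ = x⁻¹ * ⁅x, a'⁆⁻¹ * x⁻¹⁻¹ by simp only [commutatorElement_def]; group,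
              show x⁻¹ * ⁅x, a'⁆⁻¹ * x⁻¹⁻¹ = (x⁻¹ * ⁅x, a'⁆ * x⁻¹⁻¹)⁻¹ by group, hcA x hx.1 a' ha' x⁻¹ (inv_mem hx.1)]
            exact inv_mem (hx.2 a' ha')⟩ }
      have hYmem : ∀ a, a ∈ Y ↔ a ∈ A ∧ ∀ a' ∈ A, ⁅a, a'⁆ ∈ C := fun a => Iff.rfl
      have hABB' : ⁅⁅A, B0⁆, B0⁆ ≤ Y := by
        intro x hx
        have hxA : x ∈ A := ((Subgroup.commutator_mono (Subgroup.commutator_le_left A B0) le_rfl).trans
          (Subgroup.commutator_le_left A B0)) hx
        have hxC : x ∈ C := ((Subgroup.commutator_mono hAB0 le_rfl).trans hBc) hx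
        refine (hYmem x).mpr ⟨hxA, fun a ha b hb => ?_⟩
        -- `b` fixes `⁅x, a⁆`
        have h1 : ⁅b, a⁆ ∈ B0 := by
          rw [← commutatorElement_inv]
          exact inv_mem (hAB0 (Subgroup.commutator_mem_commutator ha hb))
        have h2 : b * x * b⁻¹ = x := by rw [hxC b hb, mul_inv_cancel_right]
        have h3 : ⁅b, a⁆ * x * ⁅b, a⁆⁻¹ = x := by rw [hxC _ h1, mul_inv_cancel_right]
        have hba : b * a * b⁻¹ = ⁅b, a⁆ * a := by rw [commutatorElement_def]; group
        have h4 : b * ⁅x, a⁆ * b⁻¹ = ⁅x, a⁆ := by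
          have hbaA : ⁅b, a⁆ ∈ A := by rw [commutatorElement_def]; exact mul_mem (hAn.conj_mem a ha b) (inv_mem ha)
          calc b * ⁅x, a⁆ * b⁻¹ = ⁅b * x * b⁻¹, b * a * b⁻¹⁆ := by simp only [commutatorElement_def]; group
            _ = ⁅x, ⁅b, a⁆ * a⁆ := by rw [h2, hba]
            _ = ⁅x, ⁅b, a⁆⁆ * (⁅b, a⁆ * ⁅x, a⁆ * ⁅b, a⁆⁻¹) := by simp only [commutatorElement_def]; group
            _ = ⁅x, a⁆ := by
              rw [hcA x hxA a ha _ hbaA, commutatorElement_eq_one_iff_mul_comm.mpr (hxC _ h1).symm, one_mul]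
        calc b * ⁅x, a⁆ = b * ⁅x, a⁆ * b⁻¹ * b := by group
          _ = ⁅x, a⁆ * b := by rw [h4]
      have hZY : Z ≤ Y := fun z hz => (hYmem z).mpr ⟨hZA.le hz, fun a ha => by
        rw [commutatorElement_eq_one_iff_mul_comm.mpr (hZC hz a ha).symm]; exact one_mem C⟩
      set H := N ⊔ B0 ⊔ A with hH
      have hYN : H ≤ Subgroup.normalizer (Y : Set G) := by
        suffices key : ∀ K : Subgroup G, (∀ k ∈ K, ∀ a ∈ A, ∀ a' ∈ A, ⁅a, a'⁆ ∈ C → k * ⁅a, a'⁆ * k⁻¹ = ⁅a, a'⁆) →
            K ≤ Subgroup.normalizer (Y : Set G) by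
          refine sup_le (sup_le (key N ?_) (key B0 ?_)) (key A fun k hk a ha a' ha' _ => hcA a ha a' ha' k hk)
          · intro n hn a ha a' ha' _
            have := (hAA.trans inf_le_right) (Subgroup.commutator_mem_commutator ha ha') n hn
            rw [this, mul_inv_cancel_right]
          · intro b hb a ha a' ha' hcC
            rw [hcC b hb, mul_inv_cancel_right]
        intro K hK
        suffices key : ∀ k ∈ K, ∀ a ∈ Y, k * a * k⁻¹ ∈ Y by
          intro k hk
          rw [Subgroup.mem_normalizer_iff]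
          exact fun a => ⟨key k hk a, fun ha => by simpa [mul_assoc] using key k⁻¹ (inv_mem hk) _ ha⟩
        intro k hk a ha
        obtain ⟨haA, haC⟩ := (hYmem a).mp ha
        refine (hYmem _).mpr ⟨hAn.conj_mem a haA k, fun a' ha' => ?_⟩
        have ha'' : k⁻¹ * a' * k ∈ A := by simpa using hAn.conj_mem a' ha' k⁻¹
        rw [show ⁅k * a * k⁻¹, a'⁆ = k * ⁅a, k⁻¹ * a' * k⁆ * k⁻¹ by simp only [commutatorElement_def]; group,
          hK k hk a haA _ ha'' (haC _ ha'')]
        exact haC _ ha''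
      set 𝒲 := {W : Subgroup G | Z < W ∧ W ≤ A ∧ H ≤ Subgroup.normalizer (W : Set G) ∧
        ∀ X : Subgroup G, H ≤ Subgroup.normalizer (X : Set G) → Z ≤ X → X ≤ W → X = Z ∨ X = W} with h𝒲
      have hgen : A ≤ ⨆ W ∈ 𝒲, W :=
        sum_minimal (le_sup_left.trans le_sup_left) isPGroup_quotient_pResGen hirr hZA
      -- a largest sum of minimal members meeting `Y` in `Z`
      obtain ⟨s, ⟨hs1, hs2⟩, hsmax⟩ := (Set.toFinite {s : Set (Subgroup G) | s ⊆ 𝒲 ∧
        (Z ⊔ ⨆ W ∈ s, W) ⊓ Y ≤ Z}).exists_maximal ⟨∅, Set.empty_subset _, by simp⟩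
      set Q := Z ⊔ ⨆ W ∈ s, W with hQ
      have hQA : Q ≤ A := sup_le hZA.le (iSup₂_le fun W hW => (hs1 hW).2.1)
      have hnA : ∀ X : Subgroup G, Z ≤ X → X ≤ A → A ≤ Subgroup.normalizer (X : Set G) := fun X h1 h2 => by
        rw [Subgroup.le_normalizer_iff_commutator_le_left]
        exact (Subgroup.commutator_mono h2 le_rfl).trans (hAA.trans h1)
      have hYA : Y ≤ A := fun a ha => ((hYmem a).mp ha).1
      have hsup : A ≤ Y ⊔ Q := by
        refine hgen.trans (iSup₂_le fun W hW => ?_)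
        by_contra hWn
        have hint : W ⊓ (Y ⊔ Q) = Z := by
          refine ((hW.2.2.2 _ ?_ (le_inf hW.1.le (le_sup_left.trans le_sup_right)) inf_le_left).resolve_right ?_)
          · refine normalizer_inf_ge hW.2.2.1 (normalizer_sup_ge hYN (normalizer_sup_ge ?_ ?_))
            · rw [Subgroup.normalizer_eq_top]; exact le_top
            · intro h hh
              refine mem_normalizer_iff_cj.mpr ?_
              rw [cj, Subgroup.map_iSup]
              refine iSup_congr fun W => ?_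
              rw [Subgroup.map_iSup]
              exact iSup_congr fun hW => mem_normalizer_iff_cj.mp ((hs1 hW).2.2.1 hh)
          · exact fun h => hWn (inf_eq_left.mp h)
        have hins : insert W s ⊆ 𝒲 ∧ (Z ⊔ ⨆ V ∈ insert W s, V) ⊓ Y ≤ Z := by
          refine ⟨Set.insert_subset hW hs1, ?_⟩
          rw [iSup_insert, ← sup_assoc, sup_comm Z W, sup_assoc, ← hQ]
          intro y hy
          obtain ⟨hy1, hy2⟩ := Subgroup.mem_inf.mp hy
          rw [← SetLike.mem_coe, Subgroup.coe_mul_of_left_le_normalizer_right W Q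
            (hW.2.1.trans (hnA Q le_sup_left hQA))] at hy1
          obtain ⟨w, hw, q, hq, rfl⟩ := hy1
          have hwYQ : w ∈ Z := by
            rw [← hint]
            refine Subgroup.mem_inf.mpr ⟨hw, ?_⟩
            have := mul_mem (Subgroup.mem_sup_left (T := Q) hy2) (inv_mem (Subgroup.mem_sup_right (S := Y) (SetLike.mem_coe.mp hq)))
            rwa [mul_inv_cancel_right] at this
          exact mul_mem hwYQ (hs2 (Subgroup.mem_inf.mpr ⟨hq, by
            have := mul_mem (inv_mem (hZY hwYQ)) hy2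
            rwa [inv_mul_cancel_left] at this⟩))
        have hins' := hsmax hins (Set.subset_insert W s) (Set.mem_insert W s)
        exact hWn (((le_iSup₂_of_le W hins' le_rfl : W ≤ ⨆ V ∈ s, V).trans (le_sup_right : _ ≤ Q)).trans le_sup_right)
      -- `B0` centralises `Q / Z`
      have hQB : ∀ b ∈ B0, ∀ a ∈ Q, ⁅a, b⁆ ∈ Z := by
        intro b hb
        let D : Subgroup G :=
          { carrier := {a | a ∈ A ∧ ⁅a, b⁆ ∈ Z}
            one_mem' := ⟨one_mem A, by simp⟩
            mul_mem' := fun {x y} hx hy => ⟨mul_mem hx.1 hy.1, by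
              rw [show ⁅x * y, b⁆ = x * ⁅y, b⁆ * x⁻¹ * ⁅x, b⁆ by simp only [commutatorElement_def]; group]
              exact mul_mem (hZn.conj_mem _ hy.2 x) hx.2⟩
            inv_mem' := fun {x} hx => ⟨inv_mem hx.1, by
              rw [show ⁅x⁻¹, b⁆ = x⁻¹ * ⁅x, b⁆⁻¹ * x⁻¹⁻¹ by simp only [commutatorElement_def]; group]
              exact hZn.conj_mem _ (inv_mem hx.2) x⁻¹⟩ }
        suffices hle : Q ≤ D from fun a ha => (hle ha).2
        refine sup_le (fun z hz => ⟨hZA.le hz, ?_⟩) (iSup₂_le fun W hW w hw => ⟨(hs1 hW).2.1 hw, ?_⟩)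
        · rw [commutatorElement_def, show z * b * z⁻¹ * b⁻¹ = z * (b * z⁻¹ * b⁻¹) by group]
          exact mul_mem hz (hZn.conj_mem _ (inv_mem hz) b)
        · obtain ⟨hW1, hW2, hW3, hW4⟩ := hs1 hW
          refine quad_trivial hst hW1.le (hW2.trans le_sup_right) (hAp.to_le hW2)
            (by rw [Subgroup.normalizer_eq_top]; exact le_top) hW3 hW4
            (Subgroup.mem_sup_left (Subgroup.mem_sup_right hb)) (fun x hx i j => ?_) w hw
          have hbW : ∀ k : ℤ, ∀ y ∈ W, ⁅y, b ^ k⁆ ∈ W := fun k y hy => by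
            rw [commutatorElement_def, show y * b ^ k * y⁻¹ * (b ^ k)⁻¹ = y * (b ^ k * y⁻¹ * (b ^ k)⁻¹) by group]
            exact mul_mem hy ((Subgroup.mem_normalizer_iff.mp (hW3 (Subgroup.mem_sup_left
              (Subgroup.mem_sup_right (zpow_mem hb k)))) _).mp (inv_mem hy))
          refine hs2 (Subgroup.mem_inf.mpr ⟨?_, ?_⟩)
          · exact (le_iSup₂_of_le W hW le_rfl : W ≤ ⨆ V ∈ s, V).trans le_sup_right (hbW j _ (hbW i x hx))
          · exact hABB' (Subgroup.commutator_mem_commutator (Subgroup.commutator_mem_commutator (hW2 hx) (zpow_mem hb i)) (zpow_mem hb j))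
      -- so `B0` centralises `⁅A, A⁆`
      refine Subgroup.commutator_le.mpr fun a ha a' ha' => ?_
      have hprod : ∀ x ∈ A, ∃ y ∈ Y, ∃ q ∈ Q, y * q = x := by
        intro x hx
        have := hsup hx
        rw [← SetLike.mem_coe, Subgroup.coe_mul_of_left_le_normalizer_right Y Q (hYA.trans (hnA Q le_sup_left hQA))] at this
        obtain ⟨y, hy, q, hq, e⟩ := this
        exact ⟨y, hy, q, hq, e⟩
      obtain ⟨y, hy, q, hq, rfl⟩ := hprod a ha
      obtain ⟨y', hy', q', hq', rfl⟩ := hprod a' ha'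
      obtain ⟨hyA, hyC⟩ := (hYmem y).mp hy
      obtain ⟨hyA', hyC'⟩ := (hYmem y').mp hy'
      rw [show ⁅y * q, y' * q'⁆ = y * ⁅q, y' * q'⁆ * y⁻¹ * ⁅y, y' * q'⁆ by simp only [commutatorElement_def]; group,
        hcA q (hQA hq) _ (mul_mem hyA' (hQA hq')) y hyA,
        show ⁅q, y' * q'⁆ = ⁅q, y'⁆ * (y' * ⁅q, q'⁆ * y'⁻¹) by simp only [commutatorElement_def]; group,
        hcA q (hQA hq) q' (hQA hq') y' hyA']
      refine mul_mem (mul_mem ?_ ?_) (hyC _ (mul_mem hyA' (hQA hq')))
      · rw [← commutatorElement_inv]; exact inv_mem (hyC' q (hQA hq))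
      · intro b hb
        obtain ⟨z, hz, e⟩ : ∃ z ∈ Z, b * q * b⁻¹ = q * z := ⟨q⁻¹ * (b * q * b⁻¹), by
          have := inv_mem (hQB b hb q hq)
          have h2 := hZn.conj_mem _ this q⁻¹
          convert h2 using 1
          simp only [commutatorElement_def]; group, by group⟩
        obtain ⟨z', hz', e'⟩ : ∃ z ∈ Z, b * q' * b⁻¹ = q' * z := ⟨q'⁻¹ * (b * q' * b⁻¹), by
          have := inv_mem (hQB b hb q' hq')
          have h2 := hZn.conj_mem _ this q'⁻¹
          convert h2 using 1
          simp only [commutatorElement_def]; group, by group⟩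
        have hzc : ∀ z ∈ Z, ∀ x ∈ A, x * z = z * x := fun z hz x hx => hZC hz x hx
        have h4 : b * ⁅q, q'⁆ * b⁻¹ = ⁅q, q'⁆ := by
          calc b * ⁅q, q'⁆ * b⁻¹ = ⁅b * q * b⁻¹, b * q' * b⁻¹⁆ := by simp only [commutatorElement_def]; group
            _ = ⁅q * z, q' * z'⁆ := by rw [e, e']
            _ = q * ⁅z, q' * z'⁆ * q⁻¹ * ⁅q, q' * z'⁆ := by simp only [commutatorElement_def]; group
            _ = ⁅q, q'⁆ * (q' * ⁅q, z'⁆ * q'⁻¹) := by
              rw [commutatorElement_eq_one_iff_mul_comm.mpr (hzc z hz _ (mul_mem (hQA hq') (hZA.le hz'))).symm]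
              simp only [commutatorElement_def]; group
            _ = ⁅q, q'⁆ := by
              rw [commutatorElement_eq_one_iff_mul_comm.mpr (hzc z' hz' q (hQA hq))]
              group
        calc b * ⁅q, q'⁆ = b * ⁅q, q'⁆ * b⁻¹ * b := by group
          _ = ⁅q, q'⁆ * b := by rw [h4]
  refine hcon fun n => ⟨heven n, sSup_le fun B hB => ?_⟩
  by_contra hBR
  refine hquad (B.map ι) (Subgroup.map_subtype_le B) (hιle hBR) (le_trans ?_ bot_le)
  rw [← hιA, ← hmapc, ← hmapc, show ⁅⁅A', B⁆, B⁆ = ⊥ from ?_, Subgroup.map_bot]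
  refine Subgroup.commutator_eq_bot_iff_le_centralizer.mpr ?_
  rw [Subgroup.commutator_comm]
  exact ((Subgroup.commutator_mono le_rfl (hAev n)).trans hB.2).trans inf_le_right

/-- Both K-infinity subgroups of a Sylow subgroup are normal in a `p`-stable group of characteristic `p`. -/
theorem kInf_normal : ∀ (n : ℕ) (G : Type u) [Group G] [Finite G], Nat.card G = n → HasCharP p G →
    (∀ (Q : Type u) [Group Q] [Finite Q], Sec G Q → IsNormalizerPStable p Q) → ∀ S : Sylow p G,
    (inducedFunctor kInfLower (S : Subgroup G)).Normal ∧ (inducedFunctor kInfUpper (S : Subgroup G)).Normal := by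
  intro n
  induction n using Nat.strong_induction_on with
  | _ n ih =>
    intro G _ _ hn hc hst S
    have hsub : ∀ H : Subgroup G, (S : Subgroup G) ≤ H → H ≠ ⊤ →
        H ≤ Subgroup.normalizer (inducedFunctor kInfLower (S : Subgroup G) : Set G) ∧
        H ≤ Subgroup.normalizer (inducedFunctor kInfUpper (S : Subgroup G) : Set G) := by
      intro H hSH hH
      haveI : (pCore p G).Normal := by
        have := CfsgLib.Core.pCore_characteristic (G := G) p
        infer_instance
      have hR : (pCore p G).subgroupOf H ≤ pCore p ↥H :=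
        CfsgLib.Core.le_pCore inferInstance (CfsgLib.Core.isPGroup_pCore p).comap_subtype
      have hcH : HasCharP p ↥H := fun x hx => hR (Subgroup.mem_subgroupOf.mpr (hc fun y hy => by
        have := hx ⟨y, hSH (CfsgLib.Core.pCore_le_sylow S hy)⟩ (hR (Subgroup.mem_subgroupOf.mpr hy))
        exact congrArg Subtype.val this))
      obtain ⟨h1, h2⟩ := ih _ (hn ▸ card_subgroup_lt hH) ↥H rfl hcH
        (fun Q _ _ hQ => hst Q ((Sec.subgroup H).trans hQ)) (S.subtype hSH)
      have key : ∀ W : ∀ (X : Type u) [Group X], Subgroup X, IsCharPFunctor.{u} p W →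
          (inducedFunctor (G := ↥H) W (S.subtype hSH : Subgroup ↥H)).Normal →
          H ≤ Subgroup.normalizer (inducedFunctor W (S : Subgroup G) : Set G) := by
        intro W hW hWn
        have e := iF_map (G := ↥H) hW H.subtype (P := (S.subtype hSH : Subgroup ↥H)) (S.subtype hSH).2
          H.subtype_injective.injOn
        rw [Sylow.coe_subtype, Subgroup.subgroupOf_map_subtype, inf_of_le_left hSH] at e
        rw [← e]
        refine le_trans ?_ (Subgroup.le_normalizer_map _)
        rw [← Sylow.coe_subtype (h := hSH), Subgroup.normalizer_eq_top_iff.mpr hWn, ← MonoidHom.range_eq_map, Subgroup.range_subtype]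
      exact ⟨key _ charP_lower h1, key _ charP_upper h2⟩
    constructor
    · by_contra hno
      exact hno (normal_of_terms_le S (not_all S hc hst _ (fun he => hno (Subgroup.normalizer_eq_top_iff.mp he))
        fun H h1 h2 => (hsub H h1 h2).1)).1
    · by_contra hno
      exact hno (normal_of_terms_le S (not_all S hc hst _ (fun he => hno (Subgroup.normalizer_eq_top_iff.mp he))
        fun H h1 h2 => (hsub H h1 h2).2)).2

end CfsgLib.KInfStable
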