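import Cfsg.Agent.Lib.PReduced
import Cfsg.Agent.Lib.PCoreOf
import Cfsg.Agent.Lib.CharP
import Cfsg.Agent.Lib.Thompson.PClosed

/-! More on p-reduced subgroups: closures, Frattini factorisation, subnormal subgroups (owner helper5). -/

set_option autoImplicit false
set_option linter.unusedSectionVars false

namespace CfsgLib.PReduced2

open CfsgLib.LocalBasic CfsgLib.PReduced CfsgLib.PCoreOf
open scoped commutatorElement

variable {G : Type*} [Group G] [Finite G] {p : ℕ} [hp : Fact p.Prime]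

theorem pmod_of_coprime {N C : Subgroup G} (h : ∀ x ∈ N, (orderOf x).Coprime p → x ∈ C) : PMod p N C := by
  intro x hx
  obtain ⟨k, m, hm, hxm⟩ := Nat.exists_eq_pow_mul_and_not_dvd (orderOf_pos x).ne' p hp.out.ne_one
  refine ⟨k, h _ (N.pow_mem hx _) ?_⟩
  rw [orderOf_pow' x (pow_ne_zero k hp.out.ne_zero), hxm, Nat.gcd_mul_right_left,
    Nat.mul_div_cancel_left _ (pow_pos hp.out.pos k)]
  exact (hp.out.coprime_iff_not_dvd.mpr hm).symm

theorem relIndex_inf_coprime (T : Sylow p G) {N : Subgroup G} (hn : (T : Subgroup G) ≤ Subgroup.normalizer (N : Set G)) :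
    (((T : Subgroup G) ⊓ N).relIndex N).Coprime p := by
  obtain ⟨P, hP⟩ := exists_sylow_inf T hn
  rw [Subgroup.relIndex, ← hP]
  exact (hp.out.coprime_iff_not_dvd.mpr P.not_dvd_index).symm

theorem le_of_sylow_coprime (T : Sylow p G) {N C : Subgroup G} (hn : (T : Subgroup G) ≤ Subgroup.normalizer (N : Set G))
    (h1 : (T : Subgroup G) ⊓ N ≤ C) (h2 : ∀ x ∈ N, (orderOf x).Coprime p → x ∈ C) : N ≤ C := by
  obtain ⟨P, hP⟩ := exists_sylow_inf T hn
  have hne : (C.subgroupOf N).index = 1 := by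
    by_contra hne
    obtain ⟨q, hq, hqd⟩ := Nat.exists_prime_and_dvd hne
    haveI := Fact.mk hq
    by_cases hqp : q = p
    · subst hqp
      exact P.not_dvd_index (hqd.trans (Subgroup.index_dvd_of_le (by rw [hP]; exact Subgroup.comap_mono h1)))
    · obtain ⟨R⟩ := (inferInstance : Nonempty (Sylow q ↥N))
      refine R.not_dvd_index (hqd.trans (Subgroup.index_dvd_of_le fun u hu => ?_))
      refine Subgroup.mem_subgroupOf.mpr (h2 _ u.2 ?_)
      rw [Subgroup.orderOf_coe]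
      obtain ⟨k, hk⟩ := IsPGroup.iff_orderOf.mp R.2 ⟨u, hu⟩
      rw [Subgroup.orderOf_mk] at hk
      rw [hk]; exact ((Nat.coprime_primes hq hp.out).mpr hqp).pow_left k
  exact Subgroup.subgroupOf_eq_top.mp (Subgroup.index_eq_one.mp hne)

/-- Frattini argument inside `M`. -/
theorem frattini_inf (T : Sylow p G) {M C : Subgroup G} (hM : M ≤ Subgroup.normalizer (C : Set G))
    (hTM : (T : Subgroup G) ≤ M) {g : G} (hg : g ∈ M) :
    ∃ a ∈ M ⊓ Subgroup.normalizer (((T : Subgroup G) ⊓ C : Subgroup G) : Set G), ∃ c ∈ M ⊓ C, g = a * c := by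
  set P0 := (T : Subgroup G) ⊓ C with hP0
  have hn : (T : Subgroup G) ≤ Subgroup.normalizer ((M ⊓ C : Subgroup G) : Set G) :=
    normalizer_inf_ge (hTM.trans Subgroup.le_normalizer) (hTM.trans hM)
  obtain ⟨P, hP⟩ := exists_sylow_inf T hn
  have hPeq : (P : Subgroup ↥(M ⊓ C : Subgroup G)) = P0.subgroupOf (M ⊓ C) := by
    rw [hP, hP0, ← inf_assoc, inf_eq_left.mpr hTM]
  have hR0 : P0.map (MulAut.conj g⁻¹).toMonoidHom ≤ M ⊓ C := by
    rintro _ ⟨x, hx, rfl⟩
    have hgn := Subgroup.inv_mem _ (Subgroup.mem_inf.mpr ⟨Subgroup.le_normalizer hg, hM hg⟩)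
    exact ⟨(Subgroup.mem_normalizer_iff.mp hgn.1 x).mp (hTM hx.1), (Subgroup.mem_normalizer_iff.mp hgn.2 x).mp hx.2⟩
  obtain ⟨R, hR⟩ := (((T.2.to_le inf_le_left).map (MulAut.conj g⁻¹).toMonoidHom).comap_subtype
    (H := P0.map (MulAut.conj g⁻¹).toMonoidHom) (K := M ⊓ C)).exists_le_sylow
  obtain ⟨c, hc⟩ := MulAction.exists_smul_eq ↥(M ⊓ C : Subgroup G) R P
  refine ⟨g * (c : G)⁻¹, ⟨M.mul_mem hg (M.inv_mem c.2.1), ?_⟩, c, c.2, by group⟩
  refine (Subgroup.inv_mem_iff _).mp ?_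
  rw [mul_inv_rev, inv_inv]
  refine mem_normalizer_of_conj_map_eq (Subgroup.eq_of_le_of_card_ge ?_
    (Subgroup.card_map_of_injective (MulEquiv.injective _)).ge)
  rintro _ ⟨x, hx, rfl⟩
  have h0 : (MulAut.conj g⁻¹).toMonoidHom x ∈ P0.map (MulAut.conj g⁻¹).toMonoidHom := ⟨x, hx, rfl⟩
  have h2 : c * ⟨_, hR0 h0⟩ * c⁻¹ ∈ (P : Subgroup ↥(M ⊓ C : Subgroup G)) := by
    rw [← hc]
    exact ⟨⟨_, hR0 h0⟩, hR (Subgroup.mem_subgroupOf.mpr h0), rfl⟩
  rw [hPeq, Subgroup.mem_subgroupOf] at h2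
  show (c : G) * g⁻¹ * x * ((c : G) * g⁻¹)⁻¹ ∈ P0
  convert h2 using 1
  simp [mul_assoc]

/-- The closure of the conjugates of `X` under `L`. -/
def conjClosure (L X : Subgroup G) : Subgroup G :=
  Subgroup.closure {y : G | ∃ l ∈ L, ∃ x ∈ X, y = l * x * l⁻¹}

theorem le_conjClosure (L X : Subgroup G) : X ≤ conjClosure L X := fun x hx =>
  Subgroup.subset_closure ⟨1, L.one_mem, x, hx, by group⟩

theorem le_normalizer_conjClosure (L X : Subgroup G) :
    L ≤ Subgroup.normalizer ((conjClosure L X : Subgroup G) : Set G) := by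
  intro s hs
  refine mem_normalizer_of_conj_map_eq (Subgroup.eq_of_le_of_card_ge ?_
    (Subgroup.card_map_of_injective (MulEquiv.injective _)).ge)
  rw [conjClosure, MonoidHom.map_closure]
  refine Subgroup.closure_mono ?_
  rintro _ ⟨_, ⟨l, hl, x, hx, rfl⟩, rfl⟩
  exact ⟨s * l, L.mul_mem hs hl, x, hx, by simp [mul_assoc]⟩

theorem conjClosure_le {L X Y : Subgroup G} (hX : X ≤ Y) (hL : L ≤ Subgroup.normalizer (Y : Set G)) :
    conjClosure L X ≤ Y := (Subgroup.closure_le _).mpr (by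
  rintro _ ⟨l, hl, x, hx, rfl⟩
  exact (Subgroup.mem_normalizer_iff.mp (hL hl) x).mp (hX hx))

theorem conjClosure_top (X : Subgroup G) : conjClosure ⊤ X = Subgroup.normalClosure (X : Set G) := by
  refine le_antisymm (conjClosure_le Subgroup.subset_normalClosure ?_) ?_
  · rw [Subgroup.normalizer_eq_top (Subgroup.normalClosure (X : Set G))]
  · haveI : (conjClosure ⊤ X).Normal :=
      Subgroup.normalizer_eq_top_iff.mp (eq_top_iff.mpr (le_normalizer_conjClosure ⊤ X))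
    exact Subgroup.normalClosure_le_normal (le_conjClosure _ _)

theorem omega_pcoreOf_normalized (L : Subgroup G) :
    L ≤ Subgroup.normalizer ((omegaZ p (Cfsg.pCoreOf p L) : Subgroup G) : Set G) := by
  intro l hl
  refine mem_normalizer_of_conj_map_eq ?_
  rw [omegaZ_map, conj_map_eq_of_mem_normalizer (le_normalizer_pcoreOf L hl)]

theorem omegaZ_elementary (X : Subgroup G) : Cfsg.IsElementaryAbelian p (omegaZ p X) :=
  ⟨Subgroup.le_centralizer_iff_isMulCommutative.mp ((omegaZ_le X).trans (inf_le_right.trans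
    (Subgroup.centralizer_le (SetLike.coe_subset_coe.mpr ((omegaZ_le X).trans inf_le_left))))),
    fun _ ha => (mem_omegaZ.mp ha).2⟩

theorem elementary_of_le {X V : Subgroup G} (hV : Cfsg.IsElementaryAbelian p V) (h : X ≤ V) :
    Cfsg.IsElementaryAbelian p X :=
  ⟨Subgroup.le_centralizer_iff_isMulCommutative.mp (h.trans ((Subgroup.le_centralizer_iff_isMulCommutative.mpr hV.1).trans
    (Subgroup.centralizer_le (SetLike.coe_subset_coe.mpr h)))), fun a ha => hV.2 a (h ha)⟩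

theorem commute_of_elementary {V : Subgroup G} (hV : Cfsg.IsElementaryAbelian p V) {a b : G} (ha : a ∈ V) (hb : b ∈ V) :
    a * b = b * a := ((Subgroup.le_centralizer_iff_isMulCommutative.mpr hV.1) hb a ha)

theorem mem_pcoreOf_of_centralizes {L : Subgroup G} (hL : Subgroup.centralizer (Cfsg.pCore p ↥L : Set ↥L) ≤ Cfsg.pCore p ↥L)
    {x : G} (hx : x ∈ L) (hc : ∀ o ∈ Cfsg.pCoreOf p L, o * x = x * o) : x ∈ Cfsg.pCoreOf p L :=
  ⟨⟨x, hx⟩, hL (fun o ho => Subtype.ext (hc o ⟨o, ho, rfl⟩)), rfl⟩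

theorem pcoreOf_le_sylow (T : Sylow p G) {L : Subgroup G} (hTL : (T : Subgroup G) ≤ L) :
    Cfsg.pCoreOf p L ≤ (T : Subgroup G) := by
  rintro _ ⟨x, hx, rfl⟩
  have := CfsgLib.Core.pCore_le_sylow (T.subtype hTL) hx
  rwa [Sylow.coe_subtype, Subgroup.mem_subgroupOf] at this

theorem largestOf_le_sylow (T : Sylow p G) {L : Subgroup G} (hTL : (T : Subgroup G) ≤ L) :
    Cfsg.largestPReducedOf p L ≤ (T : Subgroup G) :=
  ((largestOf_le_omega L).trans ((omegaZ_le _).trans inf_le_left)).trans (pcoreOf_le_sylow T hTL)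

/-- The conjugate closure of a p-reduced subgroup of an overgroup of a Sylow subgroup is p-reduced. -/
theorem reduced_conjClosure (T : Sylow p G) {L R X : Subgroup G} (hTR : (T : Subgroup G) ≤ R) (hRL : R ≤ L)
    (hL : Subgroup.centralizer (Cfsg.pCore p ↥L : Set ↥L) ≤ Cfsg.pCore p ↥L) (hXR : X ≤ R)
    (hX : Cfsg.IsPReducedNormal p (X.subgroupOf R)) :
    conjClosure L X ≤ L ∧ Cfsg.IsPReducedNormal p ((conjClosure L X).subgroupOf L) := by
  obtain ⟨hRX, hel, hred⟩ := (reduced_subgroupOf_iff hXR).mp hX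
  have hOR : Cfsg.pCoreOf p L ≤ Cfsg.pCoreOf p R :=
    le_pcoreOf ((pcoreOf_le_sylow T (hTR.trans hRL)).trans hTR) (hRL.trans (le_normalizer_pcoreOf L))
      (isPGroup_pcoreOf L)
  have hXO : X ≤ omegaZ p (Cfsg.pCoreOf p L) := by
    intro x hx
    have hc : ∀ o ∈ Cfsg.pCoreOf p R, o * x = x * o := by
      intro o ho
      exact ((hred _ (pcoreOf_le R) (le_normalizer_pcoreOf R) (pmod_of_isPGroup (isPGroup_pcoreOf R)) ho) x hx).symm
    have hcL : ∀ o ∈ Cfsg.pCoreOf p L, o * x = x * o := fun o ho => hc o (hOR ho)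
    exact mem_omegaZ.mpr ⟨⟨mem_pcoreOf_of_centralizes hL (hRL (hXR hx)) hcL, hcL⟩, hel.2 x hx⟩
  have hV : conjClosure L X ≤ omegaZ p (Cfsg.pCoreOf p L) := conjClosure_le hXO (omega_pcoreOf_normalized L)
  have hWL : conjClosure L X ≤ L := hV.trans ((omegaZ_le _).trans (inf_le_left.trans (pcoreOf_le L)))
  refine ⟨hWL, (reduced_subgroupOf_iff hWL).mpr ⟨le_normalizer_conjClosure L X,
    elementary_of_le (omegaZ_elementary _) hV, fun N hNL hLN hN => ?_⟩⟩
  have hXW := Subgroup.centralizer_le (SetLike.coe_subset_coe.mpr (le_conjClosure L X))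
  have hNX : N ≤ Subgroup.centralizer (X : Set G) := by
    refine le_of_sylow_coprime T ((hTR.trans hRL).trans hLN) ?_ fun x hx hc => hXW (mem_of_pmod hN hx hc)
    refine le_trans ?_ (hred (N ⊓ R) inf_le_right (normalizer_inf_ge (hRL.trans hLN) Subgroup.le_normalizer) ?_)
    · exact le_inf inf_le_right (inf_le_left.trans hTR)
    · intro x hx
      obtain ⟨k, hk⟩ := hN x hx.1
      exact ⟨k, hXW hk⟩
  intro n hn
  rw [Subgroup.mem_centralizer_iff]
  intro w hw
  refine (Subgroup.mem_centralizer_singleton_iff.mp ((Subgroup.closure_le _).mpr ?_ hw :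
    w ∈ Subgroup.centralizer ({n} : Set G)))
  rintro _ ⟨l, hl, x, hx, rfl⟩
  refine Subgroup.mem_centralizer_singleton_iff.mpr ?_
  have h1 : l⁻¹ * n * l ∈ N := by
    simpa using (Subgroup.mem_normalizer_iff.mp (Subgroup.inv_mem _ (hLN hl)) n).mp hn
  have h2 := hNX h1 x hx
  calc l * x * l⁻¹ * n = l * (x * (l⁻¹ * n * l)) * l⁻¹ := by group
    _ = l * (l⁻¹ * n * l * x) * l⁻¹ := by rw [h2]
    _ = n * (l * x * l⁻¹) := by group

theorem conjClosure_le_largestOf (T : Sylow p G) {L R X : Subgroup G} (hTR : (T : Subgroup G) ≤ R) (hRL : R ≤ L)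
    (hL : Subgroup.centralizer (Cfsg.pCore p ↥L : Set ↥L) ≤ Cfsg.pCore p ↥L) (hXR : X ≤ R)
    (hX : Cfsg.IsPReducedNormal p (X.subgroupOf R)) : X ≤ Cfsg.largestPReducedOf p L :=
  (le_conjClosure L X).trans (le_largestOf (reduced_conjClosure T hTR hRL hL hXR hX).1
    (reduced_conjClosure T hTR hRL hL hXR hX).2)

theorem centralizer_le_normalizer_self (Y : Subgroup G) :
    Subgroup.centralizer (Y : Set G) ≤ Subgroup.normalizer (Y : Set G) := fun c hc =>
  mem_normalizer_of_conj_map_eq (Subgroup.eq_of_le_of_card_ge (by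
    rintro _ ⟨y, hy, rfl⟩
    show c * y * c⁻¹ ∈ Y
    rwa [← hc y hy, mul_inv_cancel_right]) (Subgroup.card_map_of_injective (MulEquiv.injective _)).ge)

/-- `L = N_L(T₀) C_L(Y)`, `O_p(N_L(T₀)) = T₀` and `Y = Ω₁Z(T₀)`. -/
theorem largest_structure (T : Sylow p G) {L : Subgroup G} (hTL : (T : Subgroup G) ≤ L)
    (hL : Subgroup.centralizer (Cfsg.pCore p ↥L : Set ↥L) ≤ Cfsg.pCore p ↥L) {T₀ : Subgroup G}
    (hT₀ : T₀ = (T : Subgroup G) ⊓ Subgroup.centralizer ((Cfsg.largestPReducedOf p L : Subgroup G) : Set G)) :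
    (∀ g ∈ L, ∃ a ∈ L ⊓ Subgroup.normalizer (T₀ : Set G),
      ∃ c ∈ L ⊓ Subgroup.centralizer ((Cfsg.largestPReducedOf p L : Subgroup G) : Set G), g = a * c) ∧
    Cfsg.pCoreOf p (L ⊓ Subgroup.normalizer (T₀ : Set G)) = T₀ ∧
    Cfsg.largestPReducedOf p L = omegaZ p T₀ := by
  subst hT₀
  set Y := Cfsg.largestPReducedOf p L with hY
  set C := Subgroup.centralizer ((Y : Subgroup G) : Set G) with hC
  set T₀ := (T : Subgroup G) ⊓ C with hT₀
  obtain ⟨hLY, hel, hred⟩ := largestOf_spec (p := p) L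
  have hLC : L ≤ Subgroup.normalizer (C : Set G) := normalizer_centralizer_ge hLY
  have hfr : ∀ g ∈ L, ∃ a ∈ L ⊓ Subgroup.normalizer (T₀ : Set G), ∃ c ∈ L ⊓ C, g = a * c :=
    fun g hg => frattini_inf T hLC hTL hg
  set Ls := L ⊓ Subgroup.normalizer (T₀ : Set G) with hLs
  have hTLs : (T : Subgroup G) ≤ Ls :=
    le_inf hTL (normalizer_inf_ge Subgroup.le_normalizer (hTL.trans hLC))
  have hT₀Ls : T₀ ≤ Ls := inf_le_left.trans hTLs
  have hext : ∀ N : Subgroup G, N ≤ Ls → Ls ≤ Subgroup.normalizer (N : Set G) → PMod p N C → N ≤ C := by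
    intro N hNL hLN hN
    refine le_trans le_sup_left (hred (N ⊔ L ⊓ C) (sup_le (hNL.trans inf_le_left) inf_le_left) ?_ ?_ |>.trans le_rfl)
    · intro g hg
      obtain ⟨a, ha, c, hc, rfl⟩ := hfr g hg
      refine Subgroup.mul_mem _ ?_ (Subgroup.le_normalizer (Subgroup.mem_sup_right hc))
      exact normalizer_sup_ge hLN (inf_le_left.trans (normalizer_inf_ge Subgroup.le_normalizer hLC)) ha
    · refine pmod_of_coprime fun x hx hco => ?_
      have hn : N ≤ Subgroup.normalizer ((L ⊓ C : Subgroup G) : Set G) :=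
        (hNL.trans inf_le_left).trans (normalizer_inf_ge Subgroup.le_normalizer hLC)
      rw [← SetLike.mem_coe, Subgroup.coe_mul_of_left_le_normalizer_right _ _ hn, Set.mem_mul] at hx
      obtain ⟨n, hn1, c, hc, rfl⟩ := hx
      obtain ⟨k, hk⟩ := hN n hn1
      have hpow : (n * c) ^ p ^ k ∈ C := by
        have hnC : n ∈ Subgroup.normalizer (C : Set G) := hLC (hNL hn1).1
        have : ∀ i : ℕ, (n ^ i)⁻¹ * (n * c) ^ i ∈ C := by
          intro i
          induction i with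
          | zero => simp
          | succ i ih =>
            have e : (n ^ (i + 1))⁻¹ * (n * c) ^ (i + 1) = n⁻¹ * ((n ^ i)⁻¹ * (n * c) ^ i) * n * c := by
              rw [pow_succ, pow_succ]; group
            rw [e]
            exact C.mul_mem ((Subgroup.mem_normalizer_iff''.mp hnC _).mp ih) hc.2
        have := C.mul_mem hk (this (p ^ k))
        rwa [mul_inv_cancel_left] at this
      obtain ⟨m, hm⟩ := exists_pow_eq_self_of_coprime ((hco.pow_right k).symm)
      rw [← hm]; exact C.pow_mem hpow m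
  have hYT₀ : Y ≤ T₀ := le_inf (largestOf_le_sylow T hTL) (Subgroup.le_centralizer_iff_isMulCommutative.mpr hel.1)
  refine ⟨hfr, le_antisymm ?_ ?_, le_antisymm ?_ ?_⟩
  · exact le_inf (pcoreOf_le_sylow T hTLs)
      (hext _ (pcoreOf_le _) (le_normalizer_pcoreOf _) (pmod_of_isPGroup (isPGroup_pcoreOf _)))
  · exact le_pcoreOf hT₀Ls inf_le_right (T.2.to_le inf_le_left)
  · exact fun y hy => mem_omegaZ.mpr ⟨⟨hYT₀ hy, fun t ht => ((ht.2 : t ∈ C) y hy).symm⟩, hel.2 y hy⟩
  · have hWle : omegaZ p T₀ ≤ Ls := (omegaZ_le _).trans (inf_le_left.trans hT₀Ls)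
    refine conjClosure_le_largestOf T hTLs inf_le_left hL hWle ((reduced_subgroupOf_iff hWle).mpr ⟨?_, omegaZ_elementary _, ?_⟩)
    · intro l hl
      refine mem_normalizer_of_conj_map_eq ?_
      rw [omegaZ_map, conj_map_eq_of_mem_normalizer hl.2]
    · intro N hNL hLN hN
      have hYW : Y ≤ omegaZ p T₀ := fun y hy =>
        mem_omegaZ.mpr ⟨⟨hYT₀ hy, fun t ht => ((ht.2 : t ∈ C) y hy).symm⟩, hel.2 y hy⟩
      have hNC : N ≤ C := hext N hNL hLN fun x hx => by
        obtain ⟨k, hk⟩ := hN x hx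
        exact ⟨k, Subgroup.centralizer_le (SetLike.coe_subset_coe.mpr hYW) hk⟩
      refine le_of_sylow_coprime T (hTLs.trans hLN) (fun x hx w hw => ?_) fun x hx hc => mem_of_pmod hN hx hc
      exact (((omegaZ_le _) hw).2 x ⟨hx.1, hNC hx.2⟩).symm

end CfsgLib.PReduced2
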