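import Cfsg.Agent.Lib.AvgHom
import Cfsg.Agent.Lib.PReduced2
import Cfsg.Agent.Lib.CharP
import Cfsg.Agent.Lib.GroupB.Subnormal

/-! Kieler's lemma (owner helper5). -/

set_option autoImplicit false
set_option linter.unusedSectionVars false

namespace CfsgLib.Kieler

open CfsgLib.LocalBasic CfsgLib.PCoreOf CfsgLib.PReduced CfsgLib.PReduced2

variable {G : Type*} [Group G] [Finite G] {p : ℕ} [hp : Fact p.Prime]

theorem relIndex_subnormal_coprime (T : Sylow p G) {L : Subgroup G} (hL : L.IsSubnormal) :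
    (((T : Subgroup G) ⊓ L).relIndex L).Coprime p := by
  rw [inf_comm]
  exact ((Fact.out : p.Prime).coprime_iff_not_dvd.mpr T.not_dvd_index).symm.coprime_dvd_left
    (CfsgLib.GroupB.Subnormal.relIndex_dvd_index hL _)

theorem pcoreOf_le_pCore {L : Subgroup G} (hL : L.IsSubnormal) : Cfsg.pCoreOf p L ≤ Cfsg.pCore p G :=
  CfsgLib.Core.isPGroup_subnormal_le_pCore
    ((Cfsg.pCore_normal p ↥L).isSubnormal.trans' hL) (isPGroup_pcoreOf L)

theorem omegaZ_inf_le (T : Sylow p G) (hG : CfsgLib.CharP.HasCharP p G) {L : Subgroup G} (hL : L.IsSubnormal) :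
    omegaZ p ((T : Subgroup G) ⊓ L) ≤ omegaZ p (Cfsg.pCoreOf p L) := by
  intro x hx
  obtain ⟨⟨hxS, hxc⟩, hxp⟩ := mem_omegaZ.mp hx
  have hOS : Cfsg.pCoreOf p L ≤ (T : Subgroup G) ⊓ L :=
    le_inf ((pcoreOf_le_pCore hL).trans (CfsgLib.Core.pCore_le_sylow T)) (pcoreOf_le L)
  have hxO := mem_pcoreOf_of_centralizes (CfsgLib.CharP.charP_of_subnormal hG hL) hxS.2 fun o ho => hxc o (hOS ho)
  exact mem_omegaZ.mpr ⟨⟨hxO, fun o ho => hxc o (hOS ho)⟩, hxp⟩

/-- One step of Kieler's lemma. -/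
theorem kieler_step (T : Sylow p G) (hG : CfsgLib.CharP.HasCharP p G) {K L : Subgroup G} (hK : K.IsSubnormal)
    (hL : L.IsSubnormal) (hLK : L ≤ K) (hn : K ≤ Subgroup.normalizer (L : Set G)) :
    L ⊓ Subgroup.centralizer ((omegaZ p ((T : Subgroup G) ⊓ K) : Subgroup G) : Set G) =
      L ⊓ Subgroup.centralizer ((omegaZ p ((T : Subgroup G) ⊓ L) : Subgroup G) : Set G) := by
  set S := (T : Subgroup G) ⊓ K with hS
  set S₀ := (T : Subgroup G) ⊓ L with hS₀
  have hSL : S ≤ Subgroup.normalizer (L : Set G) := inf_le_right.trans hn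
  have hSS₀ : S ≤ Subgroup.normalizer (S₀ : Set G) :=
    normalizer_inf_ge (inf_le_left.trans Subgroup.le_normalizer) hSL
  have hS₀S : S₀ ≤ S := inf_le_inf_left _ hLK
  have hSp : IsPGroup p ↥S := T.2.to_le inf_le_left
  have hOL : Cfsg.pCoreOf p L ≤ S₀ :=
    le_inf ((pcoreOf_le_pCore hL).trans (CfsgLib.Core.pCore_le_sylow T)) (pcoreOf_le L)
  have hOK : Cfsg.pCoreOf p K ≤ S :=
    le_inf ((pcoreOf_le_pCore hK).trans (CfsgLib.Core.pCore_le_sylow T)) (pcoreOf_le K)
  have hKOL : K ≤ Subgroup.normalizer ((omegaZ p (Cfsg.pCoreOf p L) : Subgroup G) : Set G) := by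
    intro k hk
    refine mem_normalizer_of_conj_map_eq ?_
    rw [omegaZ_map, conj_map_eq_of_mem_normalizer (normalizer_le_pcoreOf L (hn hk))]
  have hnorm : ∀ {X Y : Subgroup G}, X ≤ Subgroup.normalizer (Y : Set G) →
      X ≤ Subgroup.normalizer ((omegaZ p Y : Subgroup G) : Set G) := by
    intro X Y h x hx
    refine mem_normalizer_of_conj_map_eq ?_
    rw [omegaZ_map, conj_map_eq_of_mem_normalizer (h hx)]
  have hind : ∀ R : Subgroup G, S₀ ≤ R → R ≤ L → (S₀.relIndex R).Coprime p := fun R h1 h2 =>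
    (relIndex_subnormal_coprime T hL).coprime_dvd_left
      ⟨R.relIndex L, (Subgroup.relIndex_mul_relIndex S₀ R L h1 h2).symm⟩
  apply le_antisymm
  · set R := L ⊓ Subgroup.centralizer ((omegaZ p S : Subgroup G) : Set G) with hR
    have h0R : S₀ ≤ R := le_inf inf_le_right (fun x hx y hy => ((omegaZ_le S hy).2 x (hS₀S hx)).symm)
    have key := CfsgLib.AvgHom.fixed_le (M := omegaZ p (Cfsg.pCoreOf p L)) h0R (hind R h0R inf_le_left)
      (omegaZ_elementary _) ((inf_le_left.trans hLK).trans hKOL) hSp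
      (normalizer_inf_ge hSL (normalizer_centralizer_ge (hnorm Subgroup.le_normalizer))) hSS₀
      (inf_le_right.trans hKOL) (fun z hz _ hzS => ?_)
    · refine le_inf inf_le_left (Subgroup.le_centralizer_iff.mpr (le_trans ?_ key))
      exact le_inf (omegaZ_inf_le T hG hL) ((omegaZ_le _).trans inf_le_right)
    · have hzO := omegaZ_le _ hz.1
      refine (Subgroup.le_centralizer_iff.mp (inf_le_right : R ≤ _)) (mem_omegaZ.mpr ⟨⟨hS₀S (hOL hzO.1), hzS⟩, ?_⟩)
      exact (mem_omegaZ.mp hz.1).2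
  · set R := L ⊓ Subgroup.centralizer ((omegaZ p S₀ : Subgroup G) : Set G) with hR
    have h0R : S₀ ≤ R := le_inf inf_le_right (fun x hx y hy => ((omegaZ_le S₀ hy).2 x hx).symm)
    have key := CfsgLib.AvgHom.fixed_le (M := omegaZ p (Cfsg.pCoreOf p K)) h0R (hind R h0R inf_le_left)
      (omegaZ_elementary _) ((inf_le_left.trans hLK).trans (omega_pcoreOf_normalized K)) hSp
      (normalizer_inf_ge hSL (normalizer_centralizer_ge (hnorm hSS₀))) hSS₀
      (inf_le_right.trans (omega_pcoreOf_normalized K)) (fun z hz hzW hzS => ?_)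
    · refine le_inf inf_le_left (Subgroup.le_centralizer_iff.mpr (le_trans ?_ key))
      exact le_inf (omegaZ_inf_le T hG hK) ((omegaZ_le _).trans (inf_le_right.trans (Subgroup.centralizer_le hS₀S)))
    · have hWL : ⁅omegaZ p (Cfsg.pCoreOf p K), R⁆ ≤ L := by
        rw [Subgroup.commutator_le]
        intro m hm r hr
        have hmK : m ∈ K := pcoreOf_le K (omegaZ_le _ hm).1
        exact L.mul_mem ((Subgroup.mem_normalizer_iff.mp (hn hmK) r).mp hr.1) (L.inv_mem hr.1)
      have hzL : z ∈ L := by simpa using L.inv_mem (hWL hzW)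
      refine (Subgroup.le_centralizer_iff.mp (inf_le_right : R ≤ _)) (mem_omegaZ.mpr ⟨⟨?_, hz.2⟩, (mem_omegaZ.mp hz.1).2⟩)
      exact ⟨(hOK (omegaZ_le _ hz.1).1).1, hzL⟩

theorem kieler (T : Sylow p G) (hG : CfsgLib.CharP.HasCharP p G) {L : Subgroup G} (hL : L.IsSubnormal) :
    L ⊓ Subgroup.centralizer ((omegaZ p (T : Subgroup G) : Subgroup G) : Set G) =
      L ⊓ Subgroup.centralizer ((omegaZ p ((T : Subgroup G) ⊓ L) : Subgroup G) : Set G) := by
  induction hL with
  | top => rw [inf_top_eq]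
  | step A B hle hB hN ih =>
    have hn := (Subgroup.normal_subgroupOf_iff_le_normalizer hle).mp hN
    rw [← kieler_step T hG hB (Subgroup.IsSubnormal.step A B hle hB hN) hle hn]
    conv_lhs => rw [← inf_eq_left.mpr hle, inf_assoc, ih]
    rw [← inf_assoc, inf_eq_left.mpr hle]

end CfsgLib.Kieler
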