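import Mathlib
import Cfsg.Agent.Lib.MaximalClass
import Cfsg.Agent.Lib.PStep

/-! 2-groups of maximal nilpotency class. (helper7) -/

set_option autoImplicit false
set_option linter.style.haveILetI false

namespace CfsgLib.MaximalClassTwo

open Subgroup
open scoped commutatorElement

universe u

theorem normalOfLeCenter {X : Type u} [Group X] {Z : Subgroup X} (h : Z ≤ Subgroup.center X) : Z.Normal :=
  ⟨fun z hz g => by rwa [mem_center_iff.mp (h hz) g, mul_inv_cancel_right]⟩

theorem class_congr {X Y : Type u} [Group X] [Group Y] [Group.IsNilpotent X] [Group.IsNilpotent Y] (e : X ≃* Y) :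
    Group.nilpotencyClass X = Group.nilpotencyClass Y :=
  le_antisymm (Group.nilpotencyClass_le_of_surjective e.symm.toMonoidHom e.symm.surjective)
    (Group.nilpotencyClass_le_of_surjective e.toMonoidHom e.surjective)

theorem commutator_le_coatom {p : ℕ} [Fact p.Prime] {X : Type u} [Group X] [Finite X] (hX : IsPGroup p X)
    {M : Subgroup X} (hM : IsCoatom M) : commutator X ≤ M := by
  haveI : Group.IsNilpotent X := hX.isNilpotent
  haveI : M.Normal := NormalizerCondition.normal_of_coatom M Group.normalizerCondition_of_isNilpotent hM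
  rw [← Subgroup.Normal.quotient_commutative_iff_commutator_le]
  haveI hne : Nontrivial (X ⧸ M) := by
    by_contra h
    rw [not_nontrivial_iff_subsingleton] at h
    exact hM.1 (eq_top_iff.mpr fun y _ => (QuotientGroup.eq_one_iff y).mp (Subsingleton.elim _ _))
  haveI := (hX.to_quotient M).center_nontrivial
  have hZ : ((Subgroup.center (X ⧸ M)).comap (QuotientGroup.mk' M)) = ⊤ := by
    refine hM.2 _ (lt_of_le_of_ne ((QuotientGroup.ker_mk' M).ge.trans (Subgroup.ker_le_comap _ _)) fun e => ?_)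
    have h1 := congrArg (Subgroup.map (QuotientGroup.mk' M)) e
    rw [Subgroup.map_comap_eq_self_of_surjective (QuotientGroup.mk'_surjective M),
      (Subgroup.map_eq_bot_iff _).mpr (QuotientGroup.ker_mk' M).ge] at h1
    exact (Subgroup.nontrivial_iff_ne_bot _).mp inferInstance h1.symm
  refine ⟨⟨fun a b => ?_⟩⟩
  obtain ⟨g, rfl⟩ := QuotientGroup.mk'_surjective M b
  exact (Subgroup.mem_center_iff.mp (Subgroup.mem_comap.mp (hZ.ge (Subgroup.mem_top g))) a)

/-- The commutator quotient of a nonabelian finite `p`-group is not cyclic. -/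
theorem sq_dvd_commutator_index {p : ℕ} [Fact p.Prime] {X : Type u} [Group X] [Finite X] (hX : IsPGroup p X)
    {a b : X} (hab : a * b ≠ b * a) : p ^ 2 ∣ (commutator X).index := by
  have hp : p.Prime := Fact.out
  obtain ⟨k, hk⟩ := (hX.to_quotient (commutator X)).exists_card_eq
  rw [Subgroup.index_eq_card, hk]
  by_contra hcon
  have hk1 : k ≤ 1 := by
    by_contra
    exact hcon (pow_dvd_pow p (by omega))
  haveI : IsCyclic (X ⧸ commutator X) := by
    rcases Nat.le_one_iff_eq_zero_or_eq_one.mp hk1 with rfl | rfl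
    · haveI : Subsingleton (X ⧸ commutator X) := (Nat.card_eq_one_iff_unique.mp (by rw [hk, pow_zero])).1
      exact isCyclic_of_subsingleton
    · exact isCyclic_of_prime_card (by rw [hk, pow_one])
  obtain ⟨g, hg⟩ := IsCyclic.exists_generator (α := X ⧸ commutator X)
  obtain ⟨x, rfl⟩ := QuotientGroup.mk'_surjective _ g
  have hsup : zpowers x ⊔ commutator X = ⊤ := by
    rw [eq_top_iff]
    intro y _
    obtain ⟨i, hi⟩ := mem_zpowers_iff.mp (hg (QuotientGroup.mk' _ y))
    rw [← map_zpow] at hi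
    have : (x ^ i)⁻¹ * y ∈ commutator X := QuotientGroup.eq.mp hi
    rw [← mul_inv_cancel_left (x ^ i) y]
    exact mul_mem_sup (zpow_mem (mem_zpowers x) i) this
  have htop : zpowers x = ⊤ := by
    by_contra hne
    obtain ⟨M, hM, hle⟩ := (eq_top_or_exists_le_coatom (zpowers x)).resolve_left hne
    exact hM.1 (eq_top_iff.mpr (hsup ▸ sup_le hle (commutator_le_coatom hX hM)))
  obtain ⟨i, rfl⟩ := mem_zpowers_iff.mp (htop.ge (mem_top a))
  obtain ⟨j, rfl⟩ := mem_zpowers_iff.mp (htop.ge (mem_top b))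
  exact hab (((Commute.refl x).zpow_zpow i j).eq)

/-- A `p`-group of order `p ^ n` has class at most `n - 1`, with a gap if the centre is large. -/
theorem class_le {p : ℕ} [Fact p.Prime] (n : ℕ) : ∀ (X : Type u) [Group X] [Finite X], Nat.card X = p ^ n →
    2 ≤ n → Group.nilpotencyClass X ≤ n - 1 := by
  induction n using Nat.strong_induction_on with
  | _ n ih =>
  intro X _ _ hX hn
  have hp : p.Prime := Fact.out
  have hXp : IsPGroup p X := IsPGroup.of_card hX
  haveI : Group.IsNilpotent X := hXp.isNilpotent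
  by_cases hab : IsMulCommutative X
  · exact (Group.IsNilpotent.nilpotencyClass_le_one_iff.mpr hab).trans (by omega)
  obtain ⟨m, hm⟩ := (hXp.to_quotient (Subgroup.center X)).exists_card_eq
  have hmn : m < n := by
    haveI : Nontrivial X := Finite.one_lt_card_iff_nontrivial.mp
      (by rw [hX]; exact Nat.one_lt_pow (by omega) hp.one_lt)
    haveI := hXp.center_nontrivial
    have h := Subgroup.card_eq_card_quotient_mul_card_subgroup (Subgroup.center X)
    rw [hX, hm] at h
    refine (Nat.pow_lt_pow_iff_right hp.one_lt).mp ?_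
    rw [h]
    exact lt_mul_of_one_lt_right (pow_pos hp.pos m) Finite.one_lt_card
  have hm2 : 2 ≤ m := by
    by_contra hcon
    refine hab ⟨⟨fun a b => ?_⟩⟩
    haveI : IsCyclic (X ⧸ Subgroup.center X) := by
      rcases Nat.le_one_iff_eq_zero_or_eq_one.mp (by omega : m ≤ 1) with rfl | rfl
      · haveI : Subsingleton (X ⧸ Subgroup.center X) :=
          (Nat.card_eq_one_iff_unique.mp (by rw [hm, pow_zero])).1
        exact isCyclic_of_subsingleton
      · exact isCyclic_of_prime_card (by rw [hm, pow_one])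
    exact commutative_of_cyclic_center_quotient (QuotientGroup.mk' (Subgroup.center X))
      (QuotientGroup.ker_mk' _).le a b
  have h := ih m hmn (X ⧸ Subgroup.center X) hm hm2
  rw [Group.nilpotencyClass_quotient_center] at h
  omega

theorem not_comm {X : Type u} [Group X] [Group.IsNilpotent X] (h : 2 ≤ Group.nilpotencyClass X) :
    ∃ a b : X, a * b ≠ b * a := by
  by_contra hcon
  push Not at hcon
  have := Group.IsNilpotent.nilpotencyClass_le_one_iff.mpr (⟨⟨hcon⟩⟩ : IsMulCommutative X)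
  omega

/-- The structure of a maximal class 2-group over an abelian subgroup of index two. -/
theorem structure_of_cyclic_quotient {X : Type u} [Group X] [Finite X] {n : ℕ} (hn : 3 ≤ n) (hX : Nat.card X = 2 ^ n)
    (C Z₀ : Subgroup X) (hC : C.index = 2) (c : X) (hc : c ∈ C) (hZ₀ : Z₀ ≤ Subgroup.center X)
    (hgen : C ≤ Z₀ ⊔ zpowers c) (hZ₀C : Z₀ ≤ C) (hab : ∃ a b : X, a * b ≠ b * a)
    (h : Nat.card ↥(Subgroup.center X) = 2 ∨ (commutator X).index = 4) :
    (commutator X).index = 4 ∧ Nat.card ↥(Subgroup.center X) = 2 ∧ (4 ≤ n → IsCyclic ↥C) ∧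
      ∀ x ∉ C, x * c * x⁻¹ * c ∈ Subgroup.center X ∧ x * x ∈ Subgroup.center X := by
  have hXp : IsPGroup 2 X := IsPGroup.of_card hX
  have hCab : ∀ a ∈ C, ∀ b ∈ C, a * b = b * a := by
    intro a ha b hb
    obtain ⟨z, hz, u, hu, rfl⟩ := mem_sup_of_normal_left (hs := normalOfLeCenter hZ₀) |>.mp (hgen ha)
    obtain ⟨z', hz', u', hu', rfl⟩ := mem_sup_of_normal_left (hs := normalOfLeCenter hZ₀) |>.mp (hgen hb)
    obtain ⟨i, rfl⟩ := mem_zpowers_iff.mp hu
    obtain ⟨j, rfl⟩ := mem_zpowers_iff.mp hu'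
    have hzc : ∀ w, Commute z w := fun w => (mem_center_iff.mp (hZ₀ hz) w).symm
    have hzc' : ∀ w, Commute z' w := fun w => (mem_center_iff.mp (hZ₀ hz') w).symm
    exact ((hzc _).mul_left ((hzc' (c ^ i)).symm.mul_right ((Commute.refl c).zpow_zpow i j))).eq
  haveI hCn : C.Normal := Subgroup.normal_of_index_eq_two hC
  have hZC : Subgroup.center X ≤ C := by
    intro z hz
    by_contra hzC
    obtain ⟨a, b, hne⟩ := hab
    refine hne ?_
    have hdec : ∀ w : X, ∃ u ∈ C, w = u ∨ w = u * z := by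
      intro w
      by_cases hw : w ∈ C
      · exact ⟨w, hw, Or.inl rfl⟩
      · exact ⟨w * z⁻¹, (mul_mem_iff_of_index_two hC).mpr (iff_of_false hw (fun e => hzC (inv_mem_iff.mp e))),
          Or.inr (inv_mul_cancel_right w z).symm⟩
    have hzw : ∀ w, Commute z w := fun w => (mem_center_iff.mp hz w).symm
    obtain ⟨u, hu, hau⟩ := hdec a
    obtain ⟨v, hv, hbv⟩ := hdec b
    have huv : Commute u v := hCab u hu v hv
    rcases hau with rfl | rfl <;> rcases hbv with rfl | rfl
    · exact huv.eq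
    · exact (huv.mul_right (hzw _).symm).eq
    · exact (huv.mul_left (hzw _)).eq
    · exact ((huv.mul_right (hzw _).symm).mul_left (hzw _)).eq
  have hcardC : Nat.card ↥C = 2 ^ (n - 1) := by
    have := C.card_mul_index
    rw [hC, hX, show n = n - 1 + 1 by omega, pow_succ] at this
    exact Nat.eq_of_mul_eq_mul_right two_pos (by rw [this]; try simp)
  obtain ⟨x₀, hx₀⟩ := SetLike.exists_not_mem_of_ne_top C (fun e => by rw [e, index_top] at hC; omega) rfl
  -- commutation with an outside element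
  have hconj : ∀ x, ∀ a ∈ C, x * a * x⁻¹ ∈ C := fun x a ha => hCn.conj_mem a ha x
  let d : ↥C →* ↥C := MonoidHom.mk' (fun a => ⟨x₀ * a * x₀⁻¹ * (a : X)⁻¹, mul_mem (hconj x₀ a a.2) (inv_mem a.2)⟩)
    (fun a b => Subtype.ext (by
      show x₀ * ((a : X) * b) * x₀⁻¹ * ((a : X) * b)⁻¹
        = x₀ * a * x₀⁻¹ * (a : X)⁻¹ * (x₀ * b * x₀⁻¹ * (b : X)⁻¹)
      have h1 := hCab _ (mul_mem (hconj x₀ b b.2) (inv_mem b.2)) (a : X)⁻¹ (inv_mem a.2)
      rw [mul_assoc (x₀ * (a : X) * x₀⁻¹), ← h1]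
      group))
  set R := d.range.map C.subtype with hR
  have hout : ∀ x ∉ C, ∀ a ∈ C, x * a * x⁻¹ = x₀ * a * x₀⁻¹ := by
    intro x hx a ha
    have hu : x₀⁻¹ * x ∈ C := (mul_mem_iff_of_index_two hC).mpr (iff_of_false (fun e => hx₀ (inv_mem_iff.mp e)) hx)
    calc x * a * x⁻¹ = x₀ * ((x₀⁻¹ * x) * a * (x₀⁻¹ * x)⁻¹) * x₀⁻¹ := by group
      _ = x₀ * a * x₀⁻¹ := by rw [hCab _ hu a ha, mul_inv_cancel_right]
  have hfix : ∀ a ∈ C, x₀ * a * x₀⁻¹ = a → a ∈ Subgroup.center X := by
    intro a ha e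
    refine mem_center_iff.mpr fun x => ?_
    by_cases hx : x ∈ C
    · exact hCab x hx a ha
    · exact mul_inv_eq_iff_eq_mul.mp ((hout x hx a ha).trans e)
  have hker : Nat.card ↥d.ker = Nat.card ↥(Subgroup.center X) := by
    refine Nat.card_congr ⟨fun a => ⟨(a.1 : X), hfix _ a.1.2 (mul_inv_eq_one.mp (congrArg Subtype.val a.2))⟩,
      fun z => ⟨⟨z, hZC z.2⟩, Subtype.ext (by
        show x₀ * (z : X) * x₀⁻¹ * (z : X)⁻¹ = 1
        rw [mem_center_iff.mp z.2, mul_inv_cancel_right, mul_inv_cancel])⟩, fun _ => rfl, fun _ => rfl⟩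
  have hRcard : Nat.card ↥R * Nat.card ↥(Subgroup.center X) = 2 ^ (n - 1) := by
    rw [hR, card_map_of_injective C.subtype_injective, ← index_ker, ← hker, mul_comm, card_mul_index, hcardC]
  have hRn : R.Normal := by
    constructor
    rintro _ ⟨_, ⟨a, rfl⟩, rfl⟩ g
    refine ⟨_, ⟨⟨g * a * g⁻¹, hconj g a a.2⟩, rfl⟩, ?_⟩
    show x₀ * (g * a * g⁻¹) * x₀⁻¹ * (g * a * g⁻¹)⁻¹ = g * (x₀ * a * x₀⁻¹ * (a : X)⁻¹) * g⁻¹
    by_cases hg : g ∈ C
    · rw [hCab g hg a a.2, mul_inv_cancel_right,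
        hCab g hg _ (mul_mem (hconj x₀ a a.2) (inv_mem a.2)), mul_inv_cancel_right]
    · rw [hout g hg a a.2, hout g hg _ (mul_mem (hconj x₀ a a.2) (inv_mem a.2))]
      group
  have hcommR : commutator X ≤ R := by
    haveI := hRn
    rw [← Subgroup.Normal.quotient_commutative_iff_commutator_le]
    set π := QuotientGroup.mk' R
    have hcx : ∀ a ∈ C, Commute (π x₀) (π a) := fun a ha => by
      have h1 : π (x₀ * a * x₀⁻¹ * a⁻¹) = 1 := (QuotientGroup.eq_one_iff _).mpr ⟨_, ⟨⟨a, ha⟩, rfl⟩, rfl⟩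
      simp only [map_mul, map_inv] at h1
      exact mul_inv_eq_iff_eq_mul.mp (mul_inv_eq_one.mp h1)
    have hgenX : ∀ w, ∃ a ∈ C, ∃ e : ℕ, w = a * x₀ ^ e := by
      intro w
      by_cases hw : w ∈ C
      · exact ⟨w, hw, 0, by simp⟩
      · exact ⟨w * x₀⁻¹, (mul_mem_iff_of_index_two hC).mpr (iff_of_false hw (fun e => hx₀ (inv_mem_iff.mp e))),
          1, by simp⟩
    refine ⟨⟨fun u v => ?_⟩⟩
    obtain ⟨u, rfl⟩ := QuotientGroup.mk'_surjective R u
    obtain ⟨v, rfl⟩ := QuotientGroup.mk'_surjective R v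
    obtain ⟨a, ha, e, rfl⟩ := hgenX u
    obtain ⟨b, hb, e', rfl⟩ := hgenX v
    rw [map_mul, map_mul, map_pow, map_pow]
    have hab' : Commute (π a) (π b) := by
      show π a * π b = π b * π a
      rw [← map_mul, ← map_mul, hCab a ha b hb]
    exact ((hab'.mul_right ((hcx a ha).symm.pow_right e')).mul_left
      (((hcx b hb).pow_left e).mul_right ((Commute.refl (π x₀)).pow_pow e e'))).eq
  have hRcomm : R ≤ commutator X := by
    rintro _ ⟨_, ⟨a, rfl⟩, rfl⟩
    show x₀ * a * x₀⁻¹ * (a : X)⁻¹ ∈ commutator X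
    exact commutator_mem_commutator (mem_top x₀) (mem_top (a : X))
  have hXR : R = commutator X := le_antisymm hRcomm hcommR
  have hidx := (commutator X).card_mul_index
  rw [hX, ← hXR] at hidx
  have hn2 : (2 : ℕ) ^ n = 2 ^ (n - 1) * 2 := by rw [← pow_succ]; congr 1; omega
  have hRpos : 0 < Nat.card ↥R := Nat.card_pos
  have hZ2 : Nat.card ↥(Subgroup.center X) = 2 := by
    rcases h with h | h
    · exact h
    · rw [← hXR] at h
      rw [h, hn2, ← hRcard] at hidx
      exact Nat.eq_of_mul_eq_mul_left hRpos (by linarith)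
  have hidx4 : (commutator X).index = 4 := by
    rw [hn2, ← hRcard, hZ2] at hidx
    rw [← hXR]
    exact Nat.eq_of_mul_eq_mul_left hRpos (by linarith)
  have hxx : ∀ x ∉ C, x * c * x⁻¹ * c ∈ Subgroup.center X ∧ x * x ∈ Subgroup.center X := by
    intro x hx
    have h2 : x * x ∈ C := (mul_mem_iff_of_index_two hC).mpr Iff.rfl
    constructor
    · refine hfix _ (mul_mem (hconj x c hc) hc) ?_
      rw [hout x hx c hc]
      have h3 : x₀ * x₀ ∈ C := (mul_mem_iff_of_index_two hC).mpr Iff.rfl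
      have h4 := hCab _ h3 c hc
      calc x₀ * (x₀ * c * x₀⁻¹ * c) * x₀⁻¹ = (x₀ * x₀) * c * (x₀ * x₀)⁻¹ * (x₀ * c * x₀⁻¹) := by group
        _ = c * (x₀ * c * x₀⁻¹) := by rw [h4, mul_inv_cancel_right]
        _ = x₀ * c * x₀⁻¹ * c := hCab _ hc _ (hconj x₀ c hc)
    · refine hfix _ h2 ?_
      rw [← hout x hx _ h2]
      group
  refine ⟨hidx4, hZ2, fun h4 => ?_, hxx⟩
  -- for order at least 16 the subgroup is cyclic
  by_cases hZc : Subgroup.center X ≤ zpowers c
  · refine Subgroup.isCyclic_iff_exists_zpowers_eq_top _ |>.mpr ⟨c, ?_⟩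
    exact le_antisymm (zpowers_le.mpr hc) (hgen.trans (sup_le (hZ₀.trans hZc) le_rfl))
  exfalso
  have hR1 : R = zpowers ((d ⟨c, hc⟩ : ↥C) : X) := by
    refine le_antisymm ?_ (zpowers_le.mpr ⟨_, ⟨⟨c, hc⟩, rfl⟩, rfl⟩)
    rintro _ ⟨_, ⟨⟨a, ha⟩, rfl⟩, rfl⟩
    obtain ⟨z, hz, u, hu, rfl⟩ := mem_sup_of_normal_left (hs := normalOfLeCenter hZ₀) |>.mp (hgen ha)
    obtain ⟨i, rfl⟩ := mem_zpowers_iff.mp hu
    refine mem_zpowers_iff.mpr ⟨i, ?_⟩
    have e : (⟨z * c ^ i, ha⟩ : ↥C) = ⟨z, hZ₀C hz⟩ * ⟨c, hc⟩ ^ i := rfl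
    have e1 : d ⟨z, hZ₀C hz⟩ = 1 := Subtype.ext (by
      show x₀ * z * x₀⁻¹ * z⁻¹ = 1
      rw [mem_center_iff.mp (hZ₀ hz), mul_inv_cancel_right, mul_inv_cancel])
    rw [e, map_mul, map_zpow, e1, one_mul]
    rfl
  obtain ⟨hzc, -⟩ := hxx x₀ hx₀
  set z := x₀ * c * x₀⁻¹ * c with hz
  have hdc : ((d ⟨c, hc⟩ : ↥C) : X) = z * (c⁻¹) ^ 2 := by
    show x₀ * c * x₀⁻¹ * c⁻¹ = _
    rw [hz, pow_two]
    group
  have hc2 : c ^ 2 ^ (n - 2) = 1 := by
    have hlt : Nat.card ↥(zpowers c) < Nat.card ↥C := by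
      refine lt_of_le_of_ne (card_le_of_le (zpowers_le.mpr hc)) fun e => hZc ?_
      rw [eq_of_le_of_card_ge (zpowers_le.mpr hc) e.ge]
      exact hZC
    obtain ⟨k, hk, hk'⟩ := (Nat.dvd_prime_pow Nat.prime_two).mp (hcardC ▸ card_dvd_of_le (zpowers_le.mpr hc))
    rw [hk', hcardC] at hlt
    have := (Nat.pow_lt_pow_iff_right (by norm_num : 1 < 2)).mp hlt
    rw [← orderOf_dvd_iff_pow_eq_one, ← Nat.card_zpowers, hk']
    exact pow_dvd_pow 2 (by omega)
  have hpow : (z * (c⁻¹) ^ 2) ^ 2 ^ (n - 3) = 1 := by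
    have hcz : Commute z (c⁻¹ ^ 2) := (mem_center_iff.mp hzc _).symm
    rw [hcz.mul_pow, ← pow_mul, ← pow_succ', show n - 3 + 1 = n - 2 by omega, inv_pow, hc2, inv_one, mul_one,
      ← orderOf_dvd_iff_pow_eq_one]
    exact (Subgroup.orderOf_dvd_natCard _ hzc).trans (hZ2.dvd.trans (dvd_pow_self 2 (show n - 3 ≠ 0 by omega)))
  have h5 : Nat.card ↥R ∣ 2 ^ (n - 3) := by
    rw [hR1, Nat.card_zpowers, hdc]
    exact orderOf_dvd_of_pow_eq_one hpow
  have h6 := Nat.le_of_dvd (pow_pos two_pos _) h5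
  rw [hZ2, show n - 1 = n - 3 + 2 by omega, pow_add] at hRcard
  nlinarith [Nat.two_pow_pos (n - 3)]

theorem exists_order_four {X : Type u} [Group X] [Finite X] (hX : Nat.card X = 8) (hab : ∃ a b : X, a * b ≠ b * a) :
    ∃ c : X, orderOf c = 4 := by
  by_contra hcon
  push Not at hcon
  obtain ⟨a, b, hne⟩ := hab
  refine hne ?_
  have h2 : ∀ g : X, g * g = 1 := by
    intro g
    obtain ⟨k, hk, hk'⟩ := (Nat.dvd_prime_pow Nat.prime_two).mp (show orderOf g ∣ 2 ^ 3 by rw [show (2:ℕ)^3 = 8 from rfl, ← hX]; exact orderOf_dvd_natCard g)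
    have h8 : k ≠ 3 := by
      rintro rfl
      refine hcon (g ^ 2) ?_
      rw [orderOf_pow, hk']
      rfl
    have h4 : k ≠ 2 := fun e => hcon g (by rw [hk', e]; rfl)
    rw [← pow_two, ← orderOf_dvd_iff_pow_eq_one, hk']
    exact (pow_dvd_pow 2 (show k ≤ 1 by omega)).trans (pow_one 2).dvd
  have hinv : ∀ g : X, g⁻¹ = g := fun g => inv_eq_of_mul_eq_one_right (h2 g)
  calc a * b = (a * b)⁻¹ := (hinv _).symm
    _ = b * a := by rw [mul_inv_rev, hinv, hinv]

/-- Maximal class is equivalent to a commutator quotient of order four; such a group has a cyclic subgroup of index two. -/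
theorem main (n : ℕ) : ∀ (X : Type u) [Group X] [Finite X], 3 ≤ n → Nat.card X = 2 ^ n →
    (Group.nilpotencyClass X = n - 1 ∨ (commutator X).index = 4) →
    Group.nilpotencyClass X = n - 1 ∧ (commutator X).index = 4 ∧ Nat.card ↥(Subgroup.center X) = 2 ∧
      ∃ c : X, (zpowers c).index = 2 ∧
        ∀ x ∉ zpowers c, x * c * x⁻¹ * c ∈ Subgroup.center X ∧ x * x ∈ Subgroup.center X := by
  induction n using Nat.strong_induction_on with
  | _ n ih =>
  intro X _ _ hn hX hyp
  have hXp : IsPGroup 2 X := IsPGroup.of_card hX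
  haveI : Group.IsNilpotent X := hXp.isNilpotent
  haveI : Nontrivial X := Finite.one_lt_card_iff_nontrivial.mp
    (by rw [hX]; exact Nat.one_lt_pow (by omega) one_lt_two)
  have hab : ∃ a b : X, a * b ≠ b * a := by
    by_contra hcon
    push Not at hcon
    rcases hyp with h | h
    · have := Group.IsNilpotent.nilpotencyClass_le_one_iff.mpr (⟨⟨hcon⟩⟩ : IsMulCommutative X)
      omega
    · have hb : commutator X = ⊥ := by
        rw [eq_bot_iff, commutator_def, commutator_le]
        exact fun a _ b _ => mem_bot.mpr (commutatorElement_eq_one_iff_commute.mpr (hcon a b))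
      rw [hb, index_bot, hX] at h
      exact absurd (Nat.pow_right_injective le_rfl (h.trans (by norm_num : (4:ℕ) = 2 ^ 2))) (by omega)
  -- the centre has order two in the maximal class case
  have hcentre : Group.nilpotencyClass X = n - 1 → Nat.card ↥(Subgroup.center X) = 2 := by
    intro h
    obtain ⟨m, hm⟩ := (hXp.to_quotient (Subgroup.center X)).exists_card_eq
    have hcl := Group.nilpotencyClass_quotient_center (G := X)
    rw [h] at hcl
    have h2 : 2 ≤ m := by
      by_contra hcon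
      obtain ⟨a, b, hne⟩ := hab
      refine hne ?_
      haveI : IsCyclic (X ⧸ Subgroup.center X) := by
        rcases Nat.le_one_iff_eq_zero_or_eq_one.mp (by omega : m ≤ 1) with rfl | rfl
        · haveI : Subsingleton (X ⧸ Subgroup.center X) :=
            (Nat.card_eq_one_iff_unique.mp (by rw [hm, pow_zero])).1
          exact isCyclic_of_subsingleton
        · exact isCyclic_of_prime_card (by rw [hm, pow_one])
      exact commutative_of_cyclic_center_quotient (QuotientGroup.mk' (Subgroup.center X))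
        (QuotientGroup.ker_mk' _).le a b
    have h3 := class_le m (X ⧸ Subgroup.center X) hm h2
    have h := Subgroup.card_eq_card_quotient_mul_card_subgroup (Subgroup.center X)
    rw [hX, hm] at h
    obtain ⟨j, hj⟩ := (hXp.to_subgroup (Subgroup.center X)).exists_card_eq
    haveI := hXp.center_nontrivial
    have hj0 : j ≠ 0 := fun e => absurd (hj.trans (by rw [e, pow_zero])) Finite.one_lt_card.ne'
    rw [hj, ← pow_add] at h
    have := Nat.pow_right_injective le_rfl h
    rw [hj, show j = 1 by omega, pow_one]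
  rcases hn.eq_or_lt with rfl | hn4
  · -- order eight
    obtain ⟨c, hc⟩ := exists_order_four (by rw [hX]; rfl) hab
    have hidx : (zpowers c).index = 2 := by
      have := (zpowers c).card_mul_index
      rw [Nat.card_zpowers, hc, hX] at this
      omega
    have hyp' : Nat.card ↥(Subgroup.center X) = 2 ∨ (commutator X).index = 4 := hyp.imp hcentre id
    obtain ⟨h4, hZ, -, hx⟩ := structure_of_cyclic_quotient le_rfl hX (zpowers c) ⊥ hidx c (mem_zpowers c)
      bot_le le_sup_right bot_le hab hyp'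
    have hu : Group.nilpotencyClass X ≤ 2 := class_le 3 X hX (by norm_num)
    have hl : 2 ≤ Group.nilpotencyClass X := by
      by_contra hcon
      obtain ⟨a, b, hne⟩ := hab
      exact hne ((Group.IsNilpotent.nilpotencyClass_le_one_iff.mp (by omega)).is_comm.comm a b)
    exact ⟨le_antisymm hu hl, h4, hZ, c, hidx, hx⟩
  -- a central subgroup of order two in the commutator subgroup
  have hne : commutator X ≠ ⊥ := fun e => by
    obtain ⟨a, b, hne⟩ := hab
    exact hne (commutatorElement_eq_one_iff_commute.mp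
      (mem_bot.mp (e ▸ commutator_mem_commutator (mem_top a) (mem_top b))))
  obtain ⟨w, hw, hw2⟩ : ∃ w ∈ commutator X ⊓ Subgroup.center X, orderOf w = 2 := by
    have hne' : commutator X ⊓ Subgroup.center X ≠ ⊥ := by
      exact CfsgLib.PStep.normal_inf_center_ne_bot hXp inferInstance hne
    haveI : Nontrivial ↥(commutator X ⊓ Subgroup.center X) := (nontrivial_iff_ne_bot _).mpr hne'
    obtain ⟨k, hk0, hk⟩ := (hXp.to_subgroup (commutator X ⊓ Subgroup.center X)).nontrivial_iff_card.mp inferInstance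
    obtain ⟨⟨w, hw⟩, hw2⟩ := exists_prime_orderOf_dvd_card' 2 (hk ▸ dvd_pow_self 2 hk0.ne')
    exact ⟨w, hw, by rwa [Subgroup.orderOf_mk] at hw2⟩
  set Z₀ := zpowers w with hZ₀def
  have hZ₀Z : Z₀ ≤ Subgroup.center X := zpowers_le.mpr hw.2
  haveI : Z₀.Normal := normalOfLeCenter hZ₀Z
  set π := QuotientGroup.mk' Z₀ with hπ
  have hcardQ : Nat.card (X ⧸ Z₀) = 2 ^ (n - 1) := by
    have h := Subgroup.card_eq_card_quotient_mul_card_subgroup Z₀
    rw [hX, hZ₀def, Nat.card_zpowers, hw2, show n = n - 1 + 1 by omega, pow_succ] at h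
    exact (Nat.eq_of_mul_eq_mul_right two_pos h).symm
  have hypQ : Group.nilpotencyClass (X ⧸ Z₀) = n - 1 - 1 ∨ (commutator (X ⧸ Z₀)).index = 4 := by
    rcases hyp with h | h
    · left
      have hZeq : Z₀ = Subgroup.center X := eq_of_le_of_card_ge hZ₀Z
        (by rw [hcentre h, hZ₀def, Nat.card_zpowers, hw2])
      have := Group.nilpotencyClass_quotient_center (G := X)
      rw [h] at this
      rw [← this]
      exact (class_congr (QuotientGroup.quotientMulEquivOfEq hZeq))
    · right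
      rw [show commutator (X ⧸ Z₀) = (commutator X).map π by
        rw [commutator_def, commutator_def, map_commutator, map_top_of_surjective π (QuotientGroup.mk'_surjective Z₀)],
        index_map_eq _ (QuotientGroup.mk'_surjective Z₀)
        ((QuotientGroup.ker_mk' Z₀).le.trans (zpowers_le.mpr hw.1))]
      exact h
  obtain ⟨hcl, h4, -, cq, hcq, -⟩ := ih (n - 1) (by omega) (X ⧸ Z₀) (by omega) hcardQ hypQ
  obtain ⟨c, rfl⟩ := QuotientGroup.mk'_surjective Z₀ cq
  set C := (zpowers (π c)).comap π with hCdef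
  have hCidx : C.index = 2 := by
    rw [hCdef, index_comap_of_surjective _ (QuotientGroup.mk'_surjective Z₀)]
    exact hcq
  have hgen : C ≤ Z₀ ⊔ zpowers c := by
    intro y hy
    obtain ⟨i, hi⟩ := mem_zpowers_iff.mp hy
    rw [← map_zpow] at hi
    have : (c ^ i)⁻¹ * y ∈ Z₀ := QuotientGroup.eq.mp hi
    rw [← mul_inv_cancel_left (c ^ i) y]
    exact mul_mem (mem_sup_right (zpow_mem (mem_zpowers c) i)) (mem_sup_left this)
  have hcC : c ∈ C := mem_zpowers _
  obtain ⟨h4', hZ, hcyc, -⟩ := structure_of_cyclic_quotient hn hX C Z₀ hCidx c hcC hZ₀Z hgen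
    ((QuotientGroup.ker_mk' Z₀).ge.trans (ker_le_comap _ _)) hab (hyp.imp hcentre id)
  obtain ⟨c', hc'⟩ := (Subgroup.isCyclic_iff_exists_zpowers_eq_top _).mp (hcyc hn4)
  obtain ⟨-, -, -, hx⟩ := structure_of_cyclic_quotient hn hX (zpowers c') ⊥ (hc' ▸ hCidx) c' (mem_zpowers c')
    bot_le le_sup_right bot_le hab (Or.inl hZ)
  refine ⟨?_, h4', hZ, c', hc' ▸ hCidx, hx⟩
  have hZeq : Z₀ = Subgroup.center X := eq_of_le_of_card_ge hZ₀Z (by rw [hZ, hZ₀def, Nat.card_zpowers, hw2])
  have := Group.nilpotencyClass_quotient_center (G := X)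
  rw [← class_congr (QuotientGroup.quotientMulEquivOfEq hZeq), hcl] at this
  omega

end CfsgLib.MaximalClassTwo
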