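import Cfsg.Agent.Lib.MaximalClassTwo
import Cfsg.Agent.Lib.MaximalClass
import Cfsg.Agent.Lib.UniqueOrderP

/-! The isomorphism types of 2-groups of maximal class (owner helper1). -/

set_option autoImplicit false

universe u

namespace CfsgLib.MaximalClassTwoIso

open Subgroup

/-- A 2-group of order at least eight with commutator quotient of order four is dihedral, semidihedral or
generalized quaternion. -/
theorem classify {X : Type u} [Group X] [Finite X] {n : ℕ} (hn : 3 ≤ n) (hX : Nat.card X = 2 ^ n)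
    (hidx : (commutator X).index = 4) :
    (∃ k : ℕ, Nonempty (X ≃* DihedralGroup (2 ^ (k + 2)))) ∨
      (∃ k : ℕ, Nat.card X = 2 ^ (k + 4) ∧ ∃ a b : X, orderOf a = 2 ^ (k + 3) ∧ orderOf b = 2 ∧
        b * a * b⁻¹ = a ^ (2 ^ (k + 2) - 1)) ∨
      (∃ k : ℕ, Nonempty (X ≃* QuaternionGroup (2 ^ (k + 1)))) := by
  obtain ⟨-, -, hZ2, c, hc2, hout⟩ := CfsgLib.MaximalClassTwo.main n X hn hX (Or.inr hidx)
  have hcard : Nat.card X = 2 * orderOf c := by
    rw [← (zpowers c).card_mul_index, hc2, Nat.card_zpowers, mul_comm]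
  have hoc : orderOf c = 2 ^ (n - 1) := by
    have h := hcard
    rw [hX, show n = n - 1 + 1 by omega, pow_succ'] at h
    omega
  obtain ⟨x, hx⟩ : ∃ x : X, x ∉ zpowers c := by
    by_contra! h
    have h1 : zpowers c = ⊤ := eq_top_iff.mpr fun g _ => h g
    rw [h1, index_top] at hc2
    omega
  have hcenc : c ∉ Subgroup.center X := by
    intro h
    have h1 : orderOf c ∣ 2 := hZ2 ▸ Subgroup.orderOf_dvd_natCard _ h
    rw [hoc] at h1
    have h2 := Nat.le_of_dvd (by norm_num) h1
    have h3 : 2 ^ 2 ≤ 2 ^ (n - 1) := Nat.pow_le_pow_right (by norm_num) (by omega)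
    omega
  have hncomm : ∀ g : X, g ∉ zpowers c → g * c ≠ c * g := by
    intro g hg h
    apply hcenc
    have hle : zpowers c ≤ Subgroup.centralizer ({c} : Set X) :=
      zpowers_le.mpr (Subgroup.mem_centralizer_singleton_iff.mpr rfl)
    have hgc : g ∈ Subgroup.centralizer ({c} : Set X) := Subgroup.mem_centralizer_singleton_iff.mpr h
    have hd := index_dvd_of_le hle
    rw [hc2] at hd
    rcases (Nat.dvd_prime Nat.prime_two).mp hd with h1 | h1
    · rw [Subgroup.mem_center_iff]
      intro y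
      exact Subgroup.mem_centralizer_singleton_iff.mp ((index_eq_one.mp h1).ge (mem_top y))
    · exfalso
      have h2 : Subgroup.centralizer ({c} : Set X) = zpowers c := by
        refine (Subgroup.eq_of_le_of_card_ge hle (le_of_eq ?_)).symm
        have e1 := (zpowers c).card_mul_index
        have e2 := (Subgroup.centralizer ({c} : Set X)).card_mul_index
        rw [hc2] at e1
        rw [h1] at e2
        omega
      exact hg (h2 ▸ hgc)
  set w := c ^ 2 ^ (n - 2) with hw
  have hww : w * w = 1 := by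
    rw [hw, ← pow_add, ← two_mul, ← pow_succ', show n - 2 + 1 = n - 1 by omega, ← hoc, pow_orderOf_eq_one]
  have hw1 : w ≠ 1 := by
    intro h
    have h1 := Nat.le_of_dvd (Nat.two_pow_pos _) (orderOf_dvd_of_pow_eq_one h)
    rw [hoc] at h1
    have h2 : 2 ^ (n - 2) < 2 ^ (n - 1) := Nat.pow_lt_pow_right (by norm_num) (by omega)
    omega
  -- the elements of order dividing two of the cyclic subgroup
  have htor : ∀ z ∈ zpowers c, z * z = 1 → z = 1 ∨ z = w := by
    intro z hz hzz
    obtain ⟨i, rfl⟩ := mem_powers_iff_mem_zpowers.mpr hz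
    simp only at hzz ⊢
    rw [← pow_add, ← two_mul, ← orderOf_dvd_iff_pow_eq_one, hoc, show n - 1 = n - 2 + 1 by omega, pow_succ',
      Nat.mul_dvd_mul_iff_left (by norm_num : 0 < 2)] at hzz
    obtain ⟨t, rfl⟩ := hzz
    rw [pow_mul, ← hw]
    rcases Nat.even_or_odd t with ⟨s, rfl⟩ | ⟨s, rfl⟩
    · left; rw [← two_mul, pow_mul, pow_two, hww, one_pow]
    · right; rw [pow_succ, pow_mul, pow_two, hww, one_pow, one_mul]
  have hcen : ∀ z ∈ Subgroup.center X, z = 1 ∨ z = w := by
    intro z hz
    have hzc : z ∈ zpowers c := by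
      by_contra hzc
      exact hncomm z hzc (Subgroup.mem_center_iff.mp hz c).symm
    refine htor z hzc ?_
    have h1 : orderOf z ∣ 2 := hZ2 ▸ Subgroup.orderOf_dvd_natCard _ hz
    rw [← pow_two]
    exact orderOf_dvd_iff_pow_eq_one.mp h1
  obtain ⟨hxc, hxx⟩ := hout x hx
  rcases hcen _ hxc with hinv | hsd
  · -- `x` inverts `c`
    have hinv' : x * c * x⁻¹ = c⁻¹ := eq_inv_of_mul_eq_one_left hinv
    rcases hcen _ hxx with h1 | h1
    · left
      haveI : NeZero (2 ^ (n - 1)) := ⟨pow_ne_zero _ two_ne_zero⟩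
      obtain ⟨e⟩ := CfsgLib.MaximalClass.dihedral_iso h1 hoc (by rw [hcard, hoc]) hx hinv'
      exact ⟨n - 3, by rw [show n - 3 + 2 = n - 1 by omega]; exact ⟨e⟩⟩
    · right; right
      have hsq : ∀ g : X, g ∉ zpowers c → g * g ≠ 1 := by
        intro g hg hgg
        have hmem : x⁻¹ * g ∈ zpowers c :=
          (Subgroup.mul_mem_iff_of_index_two hc2).mpr
            (iff_of_false (fun h => hx (by simpa using (zpowers c).inv_mem h)) hg)
        obtain ⟨i, hi⟩ := Subgroup.mem_zpowers_iff.mp hmem
        have hg' : g = x * c ^ i := by rw [hi, mul_inv_cancel_left]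
        apply hw1
        rw [← h1, ← hgg, hg']
        calc x * x = (c ^ i)⁻¹ * (x * x) * c ^ i := by
              have hcm : Commute (c ^ i) (x * x) := Subgroup.mem_center_iff.mp hxx (c ^ i)
              rw [mul_assoc, ← hcm.eq, inv_mul_cancel_left]
          _ = (x * c ^ i * x⁻¹) * (x * x) * c ^ i := by
              rw [← inv_zpow, ← hinv', conj_zpow]
          _ = x * c ^ i * (x * c ^ i) := by group
      have hu : CfsgLib.UniqueOrderP.Uniq 2 X := by
        intro a b ha hb
        have hmem : ∀ g : X, orderOf g = 2 → g = w := by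
          intro g hg
          have hgg : g * g = 1 := by rw [← pow_two, ← hg, pow_orderOf_eq_one]
          have hgc : g ∈ zpowers c := by
            by_contra h
            exact hsq g h hgg
          rcases htor g hgc hgg with h | h
          · rw [h, orderOf_one] at hg
            omega
          · exact h
        rw [hmem a ha, hmem b hb]
        exact mem_zpowers w
      haveI : Fact (Nat.Prime 2) := ⟨Nat.prime_two⟩
      rcases CfsgLib.UniqueOrderP.cyclic_or_quaternion (IsPGroup.of_card hX) hu with hcyc | ⟨-, k, ⟨e⟩⟩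
      · exact absurd (IsCyclic.commGroup.mul_comm x c) (hncomm x hx)
      · haveI : NeZero (2 ^ k) := ⟨pow_ne_zero _ two_ne_zero⟩
        have h4 : 2 ^ n = 2 ^ (k + 2) := by
          rw [← hX, Nat.card_congr e.toEquiv, Nat.card_eq_fintype_card, QuaternionGroup.card, pow_add]
          ring
        have hk := Nat.pow_right_injective le_rfl h4
        exact ⟨k - 1, by rw [show k - 1 + 1 = k by omega]; exact ⟨e⟩⟩
  · -- semidihedral
    right; left
    have hpow : x * c * x⁻¹ = c ^ (2 ^ (n - 2) - 1) := by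
      have h3 : x * c * x⁻¹ = w * c⁻¹ := eq_mul_inv_of_mul_eq hsd
      rw [h3, hw]
      have h4 : 2 ^ (n - 2) = 2 ^ (n - 2) - 1 + 1 := (Nat.sub_add_cancel Nat.one_le_two_pow).symm
      conv_lhs => rw [h4, pow_succ, mul_inv_cancel_right]
    have hn4 : 4 ≤ n := by
      by_contra hlt
      have h3 : n = 3 := by omega
      subst h3
      rw [show (2 : ℕ) ^ (3 - 2) - 1 = 1 from rfl, pow_one] at hpow
      exact hncomm x hx (mul_inv_eq_iff_eq_mul.mp hpow)
    obtain ⟨b, hb, hbb, hbc⟩ : ∃ b : X, b ∉ zpowers c ∧ b * b = 1 ∧ b * c * b⁻¹ = c ^ (2 ^ (n - 2) - 1) := by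
      rcases hcen _ hxx with h1 | h1
      · exact ⟨x, hx, h1, hpow⟩
      · refine ⟨x * c, fun h => hx (((zpowers c).mul_mem_cancel_right (mem_zpowers c)).mp h), ?_, ?_⟩
        · calc x * c * (x * c) = (x * c * x⁻¹) * (x * x) * c := by group
            _ = c ^ (2 ^ (n - 2) - 1) * w * c := by rw [hpow, h1]
            _ = c ^ (2 ^ (n - 2) - 1) * c * w := by rw [mul_assoc, mul_assoc, hw, (Commute.pow_self c _).eq]
            _ = 1 := by rw [← pow_succ, Nat.sub_add_cancel Nat.one_le_two_pow, ← hw, hww]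
        · rw [← hpow]; group
    refine ⟨n - 4, by rw [hX]; congr 1; omega, c, b, ?_, ?_, ?_⟩
    · rw [hoc]; congr 1; omega
    · haveI : Fact (Nat.Prime 2) := ⟨Nat.prime_two⟩
      exact orderOf_eq_prime (by rw [pow_two, hbb]) (fun h => hb (h ▸ (zpowers c).one_mem))
    · rw [hbc]; congr 3; omega

end CfsgLib.MaximalClassTwoIso
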