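import Mathlib.GroupTheory.Sylow
import Mathlib.GroupTheory.PGroup
import Mathlib.GroupTheory.Transfer
import Mathlib.GroupTheory.IndexNormal
import Mathlib.Tactic
import Cfsg.Prelude.Def_Transfer

/-! Burnside complements for abelian Sylow 2-subgroups with few involutions. -/

namespace CfsgLib.ModularTwoGroup

variable {G : Type*} [Group G] [Finite G]

theorem eq_one_of_odd {e : G} {r : ℕ} (hr : Odd r) (h2 : e * e = 1) (he : e ^ r = 1) : e = 1 := by
  obtain ⟨m, rfl⟩ := hr
  rw [pow_succ, pow_mul, sq, h2, one_pow, one_mul] at he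
  exact he

/-- an element of odd order fixing all involutions of an abelian 2-group it normalises, centralises it -/
theorem commute_of_fix_involutions {A : Subgroup G} (hA : IsPGroup 2 A)
    (hab : ∀ x ∈ A, ∀ x' ∈ A, x * x' = x' * x) {y : G} (hy : Odd (orderOf y))
    (hyA : ∀ x ∈ A, y * x * y⁻¹ ∈ A) (hfix : ∀ e ∈ A, e * e = 1 → y * e * y⁻¹ = e) :
    ∀ x ∈ A, y * x = x * y := by
  suffices h : ∀ k : ℕ, ∀ x ∈ A, x ^ 2 ^ k = 1 → y * x * y⁻¹ = x by
    intro x hx
    obtain ⟨k, hk⟩ := hA ⟨x, hx⟩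
    exact mul_inv_eq_iff_eq_mul.1 (h k x hx (congrArg Subtype.val hk))
  intro k
  induction k with
  | zero => intro x hx h; rw [pow_zero, pow_one] at h; rw [h]; group
  | succ k ih =>
    intro x hx h
    set e := x⁻¹ * (y * x * y⁻¹) with he
    have heA : e ∈ A := A.mul_mem (A.inv_mem hx) (hyA x hx)
    have hsq : y * (x * x) * y⁻¹ = x * x :=
      ih _ (A.mul_mem hx hx) (by rw [← sq, ← pow_mul, ← pow_succ']; exact h)
    have hsq' : (y * x * y⁻¹) * (y * x * y⁻¹) = x * x := by
      rw [show (y * x * y⁻¹) * (y * x * y⁻¹) = y * (x * x) * y⁻¹ by group, hsq]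
    have he2 : e * e = 1 := by
      calc e * e = x⁻¹ * ((y * x * y⁻¹) * x⁻¹) * (y * x * y⁻¹) := by rw [he]; group
        _ = x⁻¹ * (x⁻¹ * (y * x * y⁻¹)) * (y * x * y⁻¹) := by
            rw [hab _ (hyA x hx) _ (A.inv_mem hx)]
        _ = x⁻¹ * x⁻¹ * ((y * x * y⁻¹) * (y * x * y⁻¹)) := by group
        _ = 1 := by rw [hsq']; group
    have hpow : ∀ m : ℕ, y ^ m * x * (y ^ m)⁻¹ = x * e ^ m := by
      intro m
      induction m with
      | zero => simp
      | succ m ihm =>
        have hem : y * e ^ m * y⁻¹ = e ^ m := by rw [← conj_pow, hfix e heA he2]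
        calc y ^ (m + 1) * x * (y ^ (m + 1))⁻¹ = y * (y ^ m * x * (y ^ m)⁻¹) * y⁻¹ := by
              rw [pow_succ']; group
          _ = (y * x * y⁻¹) * (y * e ^ m * y⁻¹) := by rw [ihm]; group
          _ = x * e ^ (m + 1) := by
            have hx' : y * x * y⁻¹ = x * e := by rw [he]; group
            rw [hem, pow_succ', hx', mul_assoc]
    have hr := hpow (orderOf y)
    rw [pow_orderOf_eq_one, one_mul, inv_one, mul_one] at hr
    have he1 := eq_one_of_odd hy he2 (mul_left_cancel (a := x) (by rw [← hr, mul_one]))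
    exact (inv_mul_eq_one.1 he1).symm

/-- abelian Sylow 2-subgroup in which odd normalising elements fix all involutions: normal complement -/
theorem complement_of_fix (P : Sylow 2 G)
    (hab : ∀ x ∈ (P : Subgroup G), ∀ x' ∈ (P : Subgroup G), x * x' = x' * x)
    (hfix : ∀ y : G, Odd (orderOf y) → (∀ x ∈ (P : Subgroup G), y * x * y⁻¹ ∈ (P : Subgroup G)) →
      ∀ e ∈ (P : Subgroup G), e * e = 1 → y * e * y⁻¹ = e) :
    ∃ K : Subgroup G, K.IsComplement' (P : Subgroup G) ∧
      ∀ g : G, g ∈ K ↔ Odd (orderOf g) := by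
  have hN : Subgroup.normalizer (P : Set G) ≤ Subgroup.centralizer (P : Set G) := by
    intro h hh
    obtain ⟨m, r, hodd, hm⟩ := Nat.exists_eq_two_pow_mul_odd (orderOf_pos h).ne'
    have hy : h ^ 2 ^ m ∈ Subgroup.centralizer (P : Set G) := by
      have hn : h ^ 2 ^ m ∈ Subgroup.normalizer (P : Set G) := Subgroup.pow_mem _ hh _
      have ho : Odd (orderOf (h ^ 2 ^ m)) := by
        rw [orderOf_pow, hm, Nat.gcd_eq_right (Dvd.intro r rfl), Nat.mul_div_cancel_left _ (Nat.two_pow_pos m)]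
        exact hodd
      have hc : ∀ x ∈ (P : Subgroup G), h ^ 2 ^ m * x * (h ^ 2 ^ m)⁻¹ ∈ (P : Subgroup G) :=
        fun x hx => (Subgroup.mem_normalizer_iff.1 hn x).1 hx
      exact Subgroup.mem_centralizer_iff.2 fun x hx =>
        (commute_of_fix_involutions P.isPGroup' hab ho hc (hfix _ ho hc) x hx).symm
    have hr' : h ^ r ∈ Subgroup.centralizer (P : Set G) := by
      have hz : IsPGroup 2 (Subgroup.zpowers (h ^ r)) := by
        refine IsPGroup.of_card_dvd_pow (n := m) ?_
        rw [Nat.card_zpowers]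
        exact orderOf_dvd_of_pow_eq_one (by rw [← pow_mul, mul_comm, ← hm, pow_orderOf_eq_one])
      have hsup := hz.to_sup_of_normal_right' P.isPGroup'
        (Subgroup.zpowers_le.2 (Subgroup.pow_mem _ hh r))
      have := P.3 hsup le_sup_right
      have hmem : h ^ r ∈ (P : Subgroup G) := by
        rw [← this]; exact Subgroup.mem_sup_left (Subgroup.mem_zpowers _)
      exact Subgroup.mem_centralizer_iff.2 fun x hx => hab x hx _ hmem
    have hcop : Nat.Coprime (2 ^ m) r := Nat.Coprime.pow_left m (Nat.coprime_two_left.2 hodd)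
    have hbez := Nat.gcd_eq_gcd_ab (2 ^ m) r
    rw [hcop.gcd_eq_one] at hbez
    have : h = (h ^ 2 ^ m) ^ Nat.gcdA (2 ^ m) r * (h ^ r) ^ Nat.gcdB (2 ^ m) r := by
      rw [← zpow_natCast h (2 ^ m), ← zpow_natCast h r, ← zpow_mul, ← zpow_mul, ← zpow_add, ← hbez,
        Nat.cast_one, zpow_one]
    rw [this]
    exact Subgroup.mul_mem _ (Subgroup.zpow_mem _ hy _) (Subgroup.zpow_mem _ hr' _)
  refine ⟨(MonoidHom.transferSylow P hN).ker, MonoidHom.ker_transferSylow_isComplement' P hN, fun g => ⟨fun hg => ?_, fun hg => ?_⟩⟩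
  · have hcard : Nat.card (MonoidHom.transferSylow P hN).ker = (P : Subgroup G).index :=
      (MonoidHom.ker_transferSylow_isComplement' P hN).index_eq_card.symm
    have hd := Subgroup.orderOf_dvd_natCard _ hg
    rw [hcard] at hd
    refine Odd.of_dvd_nat ?_ hd
    rw [← Nat.not_even_iff_odd, even_iff_two_dvd]
    exact P.not_dvd_index
  · rw [MonoidHom.mem_ker]
    obtain ⟨k, hk⟩ := P.isPGroup' (MonoidHom.transferSylow P hN g)
    have h1 := orderOf_dvd_of_pow_eq_one hk
    have h2 := orderOf_map_dvd (MonoidHom.transferSylow P hN) g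
    exact orderOf_eq_one_iff.1 (Nat.eq_one_of_dvd_coprimes
      (Nat.Coprime.pow_left k (Nat.coprime_two_left.2 hg)) h1 h2)

/-- a normal complement of an index-two subgroup's Sylow is one for the group -/
theorem hasNormalPComplement_of_index_two (S : Sylow 2 G) {H : Subgroup G} (hH : H.index = 2)
    {K : Subgroup G} (hKH : K ≤ H) (hK : ∀ g ∈ H, g ∈ K ↔ Odd (orderOf g))
    (hcard : Nat.card K = (S : Subgroup G).index) : Cfsg.HasNormalPComplement 2 G := by
  haveI := Subgroup.normal_of_index_eq_two hH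
  refine ⟨S, K, ⟨fun k hk g => ?_⟩, ?_⟩
  · have hmem : g * k * g⁻¹ ∈ H := Subgroup.Normal.conj_mem inferInstance k (hKH hk) g
    rw [hK _ hmem]
    have := (hK _ (hKH hk)).1 hk
    rwa [← MulAut.conj_apply, MulEquiv.orderOf_eq]
  · refine Subgroup.isComplement'_of_coprime ?_ ?_
    · rw [hcard, mul_comm]; exact (S : Subgroup G).card_mul_index
    · rw [hcard]
      obtain ⟨k, hk⟩ := IsPGroup.iff_card.1 S.isPGroup'
      rw [hk]
      exact Nat.Coprime.pow_right k (Nat.prime_two.coprime_iff_not_dvd.2 S.not_dvd_index).symm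

end CfsgLib.ModularTwoGroup
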