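import Cfsg.Agent.Lib.Glauberman.Norm
import Cfsg.Agent.Lib.Glauberman.FunctorPower

/-! Central elements fixed by the normalizer of a functor value, from quadratic elements, by norms (owner helper5;
the norm computation follows `Glauberman.Norm` of helper6). -/

set_option autoImplicit false
set_option linter.unusedSectionVars false
set_option linter.style.haveILetI false

namespace CfsgLib.NormCenter

open CfsgLib.ThompsonNPC CfsgLib.Fusion CfsgLib.Glauberman
open scoped commutatorElement IsMulCommutative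

universe u

variable {p : ℕ} [hp : Fact p.Prime]

/-- Central elements in `O_p` fixed by the normalizer of the functor value are central, for odd `p`. -/
theorem mem_center_of_quadratic (hp2 : p ≠ 2) (W : ∀ (Q : Type u) [Group Q], Subgroup Q)
    (hW2 : ∀ (Q R : Type u) [Group Q] [Group R] [Finite Q], IsPGroup p Q → ∀ φ : Q ≃* R, (W Q).map φ.toMonoidHom = W R)
    (hq : ∀ (G : Type u) [Group G] [Finite G] (P : Sylow p G), ¬ (ind W (P : Subgroup G)).Normal →
      ∃ g : G, g ∈ (P : Subgroup G) ∧ g ∉ Cfsg.pCore p G ∧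
        ⁅⁅Subgroup.center ↥(Cfsg.pCore p G) |>.map (Cfsg.pCore p G).subtype, Subgroup.zpowers g⁆, Subgroup.zpowers g⁆ = ⊥) :
    ∀ (n : ℕ) (m : ℕ) (G : Type u) [Group G] [Finite G], Nat.card G = n → ∀ (P : Sylow p G) (z : G), orderOf z = m →
      z ∈ Cfsg.pCore p G → (∀ s ∈ (P : Subgroup G), s * z = z * s) →
      (∀ x ∈ Subgroup.normalizer (ind W (P : Subgroup G) : Set G), x * z = z * x) → z ∈ Subgroup.center G := by
  intro n
  induction n using Nat.strong_induction_on with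
  | _ n ihn =>
  intro m
  induction m using Nat.strong_induction_on with
  | _ m ihm =>
  intro G _ _ hn P z hm hzQ hzP hzN
  classical
  rcases eq_or_ne z 1 with rfl | hz1
  · exact one_mem _
  set Q := Cfsg.pCore p G
  haveI hQn : Q.Normal := Cfsg.pCore_normal p G
  have hQP : Q ≤ (P : Subgroup G) := CfsgLib.Core.pCore_le_sylow P
  obtain ⟨l, hl⟩ : ∃ l, orderOf z = p ^ l := by
    obtain ⟨l, hl⟩ := IsPGroup.iff_orderOf.mp (CfsgLib.Core.isPGroup_pCore p) (⟨z, hzQ⟩ : ↥Q)
    exact ⟨l, by rwa [Subgroup.orderOf_mk] at hl⟩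
  have hl0 : l ≠ 0 := fun h => hz1 (orderOf_eq_one_iff.mp (by rw [hl, h, pow_zero]))
  have hzp : z ^ p ∈ Subgroup.center G := by
    refine ihm _ ?_ G hn P (z ^ p) rfl (pow_mem hzQ p)
      (fun s hs => ((show Commute s z from hzP s hs).pow_right p).eq)
      (fun x hx => ((show Commute x z from hzN x hx).pow_right p).eq)
    rw [← hm, orderOf_pow' _ hp.out.ne_zero, hl, Nat.gcd_eq_right (dvd_pow_self p hl0)]
    exact Nat.div_lt_self (Nat.pow_pos hp.out.pos) hp.out.one_lt
  set V := Subgroup.normalClosure ({z} : Set G)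
  haveI : V.Normal := Subgroup.normalClosure_normal
  have hzV : z ∈ V := Subgroup.subset_normalClosure rfl
  have hconjV : ∀ g : G, ∀ q ∈ Q, q * (g * z * g⁻¹) = g * z * g⁻¹ * q := fun g q hq => by
    have h := hzP _ (hQP (hQn.conj_mem' q hq g))
    calc q * (g * z * g⁻¹) = g * ((g⁻¹ * q * g) * z) * g⁻¹ := by group
      _ = g * (z * (g⁻¹ * q * g)) * g⁻¹ := by rw [h]
      _ = _ := by group
  have hVc : ∀ v ∈ V, ∀ q ∈ Q, q * v = v * q := by
    have hle : V ≤ Subgroup.centralizer (Q : Set G) := by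
      refine (Subgroup.closure_le _).mpr fun x hx => ?_
      obtain ⟨y, hy, hyx⟩ := Group.mem_conjugatesOfSet_iff.mp hx
      obtain ⟨g, rfl⟩ := isConj_iff.mp hyx
      rw [Set.mem_singleton_iff.mp hy]
      exact Subgroup.mem_centralizer_iff.mpr (hconjV g)
    exact fun v hv q hq => Subgroup.mem_centralizer_iff.mp (hle hv) q hq
  have hVQ : V ≤ Q := Subgroup.normalClosure_le_normal (Set.singleton_subset_iff.mpr hzQ)
  haveI : IsMulCommutative ↥V := ⟨⟨fun x y => Subtype.ext (hVc y y.2 x (hVQ x.2))⟩⟩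
  set K := Subgroup.centralizer (V : Set G)
  have hKz : ∀ x ∈ K, x * z = z * x := fun x hx => (Subgroup.mem_centralizer_iff.mp hx z hzV).symm
  -- proper subgroups over `P` fix `z`
  have hsub : ∀ M : Subgroup G, M ≠ ⊤ → (P : Subgroup G) ≤ M → ∀ x ∈ M, x * z = z * x := by
    intro M hMtop hPM
    have hQM : Q ≤ M := hQP.trans hPM
    let PM : Sylow p ↥M := P.subtype hPM
    have hWM : (ind W (PM : Subgroup ↥M)).map M.subtype = ind W (P : Subgroup G) := by
      rw [ind_map W hW2 _ PM.2 M.subtype M.subtype_injective]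
      exact congrArg (ind W) (Subgroup.map_subgroupOf_eq_of_le hPM)
    have hcen : (⟨z, hQM hzQ⟩ : ↥M) ∈ Subgroup.center ↥M := by
      refine ihn (Nat.card ↥M) ?_ _ ↥M rfl PM ⟨z, hQM hzQ⟩ rfl ?_ (fun s hs => Subtype.ext (hzP s hs)) fun x hx => ?_
      · rw [← hn]
        exact lt_of_le_of_ne (Subgroup.card_le_card_group M) fun h0 => hMtop ((Subgroup.card_eq_iff_eq_top M).mp h0)
      · exact CfsgLib.Core.le_pCore (N := Q.subgroupOf M) inferInstance
          (CfsgLib.Core.isPGroup_pCore p).comap_subtype (Subgroup.mem_subgroupOf.mpr hzQ)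
      · refine Subtype.ext (hzN x ?_)
        rw [← hWM]
        exact Subgroup.le_normalizer_map M.subtype ⟨x, hx, rfl⟩
    exact fun x hx => congrArg Subtype.val (Subgroup.mem_center_iff.mp hcen ⟨x, hx⟩)
  by_cases hWn : (ind W (P : Subgroup G)).Normal
  · exact Subgroup.mem_center_iff.mpr fun x => hzN x (by rw [Subgroup.normalizer_eq_top_iff.mpr hWn]; trivial)
  obtain ⟨g, hgP, hgQ, hquad⟩ := hq G P hWn
  set R := (P : Subgroup G) ⊓ K with hR
  by_cases hRQ : ¬ R ≤ Q
  · -- Frattini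
    have hidx : ¬ p ∣ R.relIndex K :=
      sylow_inf_normal (H := ⊤) (by rw [Subgroup.relIndex_top_right]; exact P.not_dvd_index) le_top le_top
        (by rw [Subgroup.normalizer_eq_top_iff.mpr inferInstance])
    let RK : Sylow p ↥K := ((P.2.to_le inf_le_left : IsPGroup p ↥R).comap_subtype).toSylow hidx
    have hfr : Subgroup.normalizer (((RK : Subgroup ↥K).map K.subtype : Subgroup G) : Set G) ⊔ K = ⊤ :=
      Sylow.normalizer_sup_eq_top RK
    rw [show (RK : Subgroup ↥K).map K.subtype = R from Subgroup.map_subgroupOf_eq_of_le inf_le_right] at hfr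
    have hPR : (P : Subgroup G) ≤ Subgroup.normalizer (R : Set G) := fun s hs =>
      Subgroup.mem_normalizer_fintype fun r hr => Subgroup.mem_inf.mpr
        ⟨mul_mem (mul_mem hs hr.1) (inv_mem hs), (inferInstance : K.Normal).conj_mem r hr.2 s⟩
    have hne : Subgroup.normalizer (R : Set G) ≠ ⊤ := fun h0 =>
      hRQ (CfsgLib.Core.le_pCore (Subgroup.normalizer_eq_top_iff.mp h0) (P.2.to_le inf_le_left))
    refine Subgroup.mem_center_iff.mpr fun x => ?_
    obtain ⟨u, hu, k, hk, rfl⟩ := Subgroup.mem_sup_of_normal_right.mp (hfr.ge (Subgroup.mem_top x))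
    exact (show Commute u z from hsub _ hne hPR u hu).mul_left (hKz k hk) |>.eq
  push Not at hRQ
  have hVP : V ≤ (P : Subgroup G) := hVQ.trans hQP
  set A := Subgroup.zpowers g
  have hAP : A ≤ (P : Subgroup G) := Subgroup.zpowers_le.mpr hgP
  have hAK : ¬ A ≤ K := fun h => hgQ (hRQ (Subgroup.mem_inf.mpr ⟨hgP, h (Subgroup.mem_zpowers g)⟩))
  have hquadV : ⁅⁅V, A⁆, A⁆ = ⊥ := by
    refine le_bot_iff.mp ((Subgroup.commutator_mono (Subgroup.commutator_mono ?_ le_rfl) le_rfl).trans hquad.le)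
    intro v hv
    exact ⟨⟨v, hVQ hv⟩, Subgroup.mem_center_iff.mpr fun q => Subtype.ext (hVc v hv q q.2), rfl⟩
  -- normal `p`-subgroups act trivially
  have hO : ∀ R : Subgroup G, R.Normal → (∀ r ∈ R, r * z = z * r) → R ≤ K := fun R hR h => by
    refine Subgroup.le_centralizer_iff.mp ?_
    exact Subgroup.normalClosure_le_normal (Set.singleton_subset_iff.mpr (Subgroup.mem_centralizer_iff.mpr h))
  -- a good subgroup
  obtain ⟨B, hBg, hBP, hBK⟩ : ∃ B, NormGood p V B ∧ B ≤ (P : Subgroup G) ∧ ¬ B ≤ K :=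
    ⟨A, normGood_quadratic hp2 hquadV, hAP, hAK⟩
  -- the group generated by the good subgroups of `P`
  set 𝒟 := {B : Subgroup G | NormGood p V B ∧ B ≤ (P : Subgroup G)}
  set D := sSup 𝒟
  have hDP : D ≤ (P : Subgroup G) := sSup_le fun B hB => hB.2
  have hDn : ∀ g : G, (∀ B ∈ 𝒟, B.map (MulAut.conj g).toMonoidHom ≤ (P : Subgroup G)) →
      g ∈ Subgroup.normalizer (D : Set G) := by
    intro g hg
    have hle : D.map (MulAut.conj g).toMonoidHom ≤ D := by
      rw [Subgroup.map_le_iff_le_comap]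
      exact sSup_le fun B hB => Subgroup.map_le_iff_le_comap.mp (le_sSup ⟨normGood_conj hB.1 g, hg B hB⟩)
    exact mem_normalizer_of_conj_map_eq (Subgroup.eq_of_le_of_card_ge hle
      (by rw [Subgroup.card_map_of_injective (MulAut.conj g).injective]))
  set N := Subgroup.normalizer (D : Set G)
  have hPN : (P : Subgroup G) ≤ N := fun s hs => hDn s fun B hB => by
    rintro _ ⟨b, hb, rfl⟩
    exact mul_mem (mul_mem hs (hB.2 hb)) (inv_mem hs)
  have hNtop : N ≠ ⊤ := fun h => hBK ((le_sSup (show B ∈ 𝒟 from ⟨hBg, hBP⟩)).trans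
    (hO D (Subgroup.normalizer_eq_top_iff.mp h) fun r hr => hzP r (hDP hr)))
  -- elements of `N` fix `z`
  have hNz : ∀ x ∈ N, x * z = z * x := hsub N hNtop hPN
  -- other conjugates are moved by some good subgroup
  let M : Subgroup G := Subgroup.centralizer ({z} : Set G)
  have hMz : ∀ x, x ∈ M ↔ z * x = x * z := fun x => by simp [M, Subgroup.mem_centralizer_iff]
  have hPM : (P : Subgroup G) ≤ M := fun s hs => (hMz s).mpr (hzP s hs).symm
  have hmoved : ∀ g : G, g * z * g⁻¹ ≠ z →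
      ∃ B ∈ 𝒟, ∃ b ∈ B, b * (g * z * g⁻¹) ≠ g * z * g⁻¹ * b := by
    intro g hg
    by_contra h
    push Not at h
    have hDM : D.map (MulAut.conj g⁻¹).toMonoidHom ≤ M := by
      rw [Subgroup.map_le_iff_le_comap]
      refine sSup_le fun B hB b hb => (hMz _).mpr ?_
      have := h B hB b hb
      show z * (g⁻¹ * b * g⁻¹⁻¹) = g⁻¹ * b * g⁻¹⁻¹ * z
      calc z * (g⁻¹ * b * g⁻¹⁻¹) = g⁻¹ * (g * z * g⁻¹ * b) * g := by group
        _ = g⁻¹ * (b * (g * z * g⁻¹)) * g := by rw [this]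
        _ = _ := by group
    obtain ⟨m, hm, hmle⟩ : ∃ m ∈ M, (D.map (MulAut.conj g⁻¹).toMonoidHom).map (MulAut.conj m).toMonoidHom ≤ P := by
      obtain ⟨R, hR⟩ := (((P.2.to_le hDP).map (MulAut.conj g⁻¹).toMonoidHom).comap_subtype (K := M)).exists_le_sylow
      obtain ⟨m, hm⟩ := MulAction.exists_smul_eq ↥M R (P.subtype hPM)
      refine ⟨m, m.2, ?_⟩
      rintro _ ⟨x, hx, rfl⟩
      have hxR : (⟨x, hDM hx⟩ : ↥M) ∈ (R : Subgroup ↥M) := hR hx
      have h1 : m * ⟨x, hDM hx⟩ * m⁻¹ ∈ ((m • R : Sylow p ↥M) : Subgroup ↥M) := by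
        rw [Sylow.coe_subgroup_smul]
        exact ⟨_, hxR, rfl⟩
      rw [hm] at h1
      exact h1
    have hmg : (m * g⁻¹) ∈ N := hDn _ fun B hB => by
      rw [← map_conj_mul]
      exact (Subgroup.map_mono (Subgroup.map_mono (le_sSup hB))).trans hmle
    have h2 := hNz _ hmg
    have h3 : g⁻¹ * z = z * g⁻¹ := by
      have h4 := (hMz m).mp hm
      calc g⁻¹ * z = m⁻¹ * (m * g⁻¹ * z) := by group
        _ = m⁻¹ * (z * m) * g⁻¹ := by rw [h2]; group
        _ = z * g⁻¹ := by rw [h4]; group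
    exact hg (by rw [mul_assoc, ← h3, mul_inv_cancel_left])
  -- the product of all conjugates
  letI : MulAction G ↥V := MulAction.compHom ↥V (MulAut.conjNormal : G →* MulAut ↥V)
  have hsmul : ∀ (g : G) (v : ↥V), g • v = MulAut.conjNormal g v := fun _ _ => rfl
  set z₀ : ↥V := ⟨z, hzV⟩
  let X := MulAction.orbit G z₀
  haveI : Fintype ↥X := Fintype.ofFinite _
  set Tot : ↥V := ∏ x : ↥X, (x : ↥V)
  have hTot : ∀ g : G, MulAut.conjNormal g Tot = Tot := fun g => by
    rw [map_prod]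
    exact Fintype.prod_equiv (MulAction.toPerm g) _ (fun x : ↥X => (x : ↥V)) fun x => rfl
  have hpow : ∀ v : ↥V, ((v ^ p : ↥V) : G) ∈ Subgroup.center G := by
    suffices h : V ≤ ((Subgroup.center G).comap (V.subtype.comp (powMonoidHom p))).map V.subtype from fun v => by
      obtain ⟨w, hw, hwv⟩ := h v.2
      rw [← Subtype.ext (hwv : (w : G) = v)]
      exact hw
    refine (Subgroup.closure_le _).mpr fun x hx => ?_
    obtain ⟨y, hy, hyx⟩ := Group.mem_conjugatesOfSet_iff.mp hx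
    obtain ⟨g, rfl⟩ := isConj_iff.mp hyx
    rw [Set.mem_singleton_iff.mp hy]
    refine ⟨⟨g * z * g⁻¹, Subgroup.subset_closure (by rwa [Set.mem_singleton_iff.mp hy] at hx)⟩, ?_, rfl⟩
    show (g * z * g⁻¹) ^ p ∈ Subgroup.center G
    rw [conj_pow]
    exact (inferInstance : (Subgroup.center G).Normal).conj_mem _ hzp g
  -- orbits of `P`
  let e := MulAction.selfEquivSigmaOrbitsQuotientStabilizer ↥(P : Subgroup G) ↥X
  letI : Fintype (Quotient (MulAction.orbitRel ↥(P : Subgroup G) ↥X)) := Fintype.ofFinite _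
  letI : ∀ ω : Quotient (MulAction.orbitRel ↥(P : Subgroup G) ↥X),
      Fintype (↥(P : Subgroup G) ⧸ MulAction.stabilizer ↥(P : Subgroup G) ω.out) := fun _ => Fintype.ofFinite _
  set x₀ : ↥X := ⟨z₀, MulAction.mem_orbit_self _⟩
  set ω₀ : Quotient (MulAction.orbitRel ↥(P : Subgroup G) ↥X) := Quotient.mk'' x₀
  set f : Quotient (MulAction.orbitRel ↥(P : Subgroup G) ↥X) → ↥V := fun ω =>
    ∏ q : ↥(P : Subgroup G) ⧸ MulAction.stabilizer ↥(P : Subgroup G) ω.out, MulAut.conjNormal (q.out : G) (ω.out : ↥V)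
  have hTot' : Tot = ∏ ω, f ω := by
    rw [show Tot = ∏ y, ((e.symm y : ↥X) : ↥V) from (e.symm.prod_comp (fun x : ↥X => (x : ↥V))).symm,
      Fintype.prod_sigma]
    refine Finset.prod_congr rfl fun ω _ => Finset.prod_congr rfl fun q _ => ?_
    conv_lhs => rw [← QuotientGroup.out_eq' q]
    rfl
  have hfix₀ : ∀ s : ↥(P : Subgroup G), s • x₀ = x₀ := fun s => Subtype.ext (Subtype.ext (by
    show (s : G) * z * (s : G)⁻¹ = z
    rw [hzP s s.2, mul_inv_cancel_right]))
  have hf₀ : f ω₀ = z₀ := by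
    have hout : ω₀.out = x₀ := by
      obtain ⟨s, hs⟩ := MulAction.mem_orbit_iff.mp (Quotient.exact' (Quotient.out_eq' ω₀))
      exact hs.symm.trans (hfix₀ s)
    have hst : MulAction.stabilizer ↥(P : Subgroup G) ω₀.out = ⊤ := by
      rw [hout]; exact eq_top_iff.mpr fun s _ => hfix₀ s
    haveI : Subsingleton (↥(P : Subgroup G) ⧸ MulAction.stabilizer ↥(P : Subgroup G) ω₀.out) :=
      ⟨fun q q' => Quotient.inductionOn₂' q q' fun u v => QuotientGroup.eq.mpr (hst ▸ Subgroup.mem_top _)⟩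
    show ∏ q, _ = z₀
    rw [Fintype.prod_subsingleton _ (QuotientGroup.mk 1 : ↥(P : Subgroup G) ⧸ MulAction.stabilizer ↥(P : Subgroup G) ω₀.out), hout]
    exact congrArg (fun x : ↥X => (x : ↥V)) (hfix₀ _)
  have hfne : ∀ ω, ω ≠ ω₀ → ∃ v : ↥V, f ω = v ^ p := by
    intro ω hω
    set x := ω.out with hx
    have hne : (x : ↥V) ≠ z₀ := fun h => hω (by
      rw [← Quotient.out_eq' ω]
      exact congrArg Quotient.mk'' (Subtype.ext h))
    obtain ⟨g, hg⟩ := MulAction.mem_orbit_iff.mp x.2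
    have hxg : ((x : ↥V) : G) = g * z * g⁻¹ := by rw [← hg]; rfl
    obtain ⟨B', hB', b, hb, hbne⟩ := hmoved g (fun h => hne (Subtype.ext (hxg.trans h)))
    set H := (MulAction.stabilizer ↥(P : Subgroup G) x).map (P : Subgroup G).subtype
    have hHeq : H.subgroupOf (P : Subgroup G) = MulAction.stabilizer ↥(P : Subgroup G) x :=
      Subgroup.comap_map_eq_self_of_injective (P : Subgroup G).subtype_injective _
    have hHx : ∀ h ∈ H, MulAut.conjNormal h (x : ↥V) = x := by
      rintro _ ⟨s, hs, rfl⟩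
      exact congrArg Subtype.val (MulAction.mem_stabilizer_iff.mp hs)
    have hB'H : ¬ B' ≤ H := fun h => hbne (by
      have h1 := conjNormal_eq_self_iff.mp (hHx b (h hb))
      rwa [hxg] at h1)
    letI : Fintype (↥(P : Subgroup G) ⧸ H.subgroupOf (P : Subgroup G)) := Fintype.ofFinite _
    obtain ⟨v, hv⟩ := exists_pow_prod (V := V) P.2 _ H rfl (Subgroup.map_subtype_le _) (x : ↥V) hHx ⟨B', hB'.1, hB'.2, hB'H⟩
    refine ⟨v, ?_⟩
    rw [← hv]
    have hgen : ∀ (S' : Subgroup ↥(P : Subgroup G)) [Fintype (↥(P : Subgroup G) ⧸ S')],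
        S' = MulAction.stabilizer ↥(P : Subgroup G) x →
        f ω = ∏ q : ↥(P : Subgroup G) ⧸ S', MulAut.conjNormal (q.out : G) (x : ↥V) := by
      intro S' _ hS'
      subst hS'
      exact Finset.prod_congr (Finset.ext fun _ => by simp) fun _ _ => rfl
    exact hgen _ hHeq
  have hrest : ((∏ ω ∈ Finset.univ.erase ω₀, f ω : ↥V) : G) ∈ Subgroup.center G := by
    refine (Subgroup.prod_mem ((Subgroup.center G).comap V.subtype) fun ω hω => ?_ :
      (∏ ω ∈ Finset.univ.erase ω₀, f ω) ∈ (Subgroup.center G).comap V.subtype)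
    obtain ⟨v, hv⟩ := hfne ω (Finset.ne_of_mem_erase hω)
    rw [hv]; exact hpow v
  rw [← Finset.mul_prod_erase _ _ (Finset.mem_univ ω₀), hf₀] at hTot'
  refine Subgroup.mem_center_iff.mpr fun g => ?_
  have h1 := hTot g
  rw [hTot', map_mul] at h1
  have h2 : MulAut.conjNormal g (∏ ω ∈ Finset.univ.erase ω₀, f ω) = ∏ ω ∈ Finset.univ.erase ω₀, f ω :=
    conjNormal_eq_self_iff.mpr (Subgroup.mem_center_iff.mp hrest g)
  rw [h2] at h1
  exact conjNormal_eq_self_iff.mp (mul_right_cancel h1)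

end CfsgLib.NormCenter
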