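import Cfsg.Agent.Lib.OddStable
import Cfsg.Prelude.Def_OddOrderLocal
import Cfsg.Agent.S1467

/-! Consequences of stability in solvable groups of odd order; Puig's series. (owner helper5) -/

set_option autoImplicit false
set_option linter.style.haveILetI false
open scoped commutatorElement

namespace CfsgLib.OddQuad

variable {G : Type*} [Group G] [Finite G] {p : ℕ} [hp : Fact p.Prime]

/-- elements acting quadratically on a normal p-subgroup -/
theorem mem_pCore_quot [Group.IsSolvable G] (hp2 : p ≠ 2) (hodd : Odd (Nat.card G)) (V : Subgroup G) [V.Normal]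
    (hV : IsPGroup p ↥V) {a : G} (ha : ∀ v ∈ V, ⁅⁅v, a⁆, a⁆ = 1) :
    (QuotientGroup.mk a : G ⧸ Subgroup.centralizer (V : Set G)) ∈ Cfsg.pCore p (G ⧸ Subgroup.centralizer (V : Set G)) :=
  CfsgLib.OddStable.stable hp2 hodd V hV a ha

/-- an element of an abelian subgroup normalized by `V` is quadratic on `V` -/
theorem quad_of_abelian (V B : Subgroup G) [IsMulCommutative ↥B] (hn : V ≤ Subgroup.normalizer (B : Set G))
    {a : G} (ha : a ∈ B) : ∀ v ∈ V, ⁅⁅v, a⁆, a⁆ = 1 := by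
  intro v hv
  have h1 : ⁅v, a⁆ ∈ B := by
    rw [commutatorElement_def]
    exact mul_mem ((Subgroup.mem_normalizer_iff.mp (hn hv) a).mp ha) (inv_mem ha)
  rw [commutatorElement_eq_one_iff_mul_comm]
  exact congrArg Subtype.val (mul_comm' (⟨_, h1⟩ : B) ⟨a, ha⟩)

/-- a solvable group without normal p'-subgroup is constrained -/
theorem centralizer_pCore_le [Group.IsSolvable G] (hO : Cfsg.pPrimeCore p G = ⊥) :
    Subgroup.centralizer (Cfsg.pCore p G : Set G) ≤ Cfsg.pCore p G := by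
  have hF : Cfsg.fittingSubgroup G = Cfsg.pCore p G := by
    refine le_antisymm ?_ (CfsgLib.Core.pCore_le_fittingSubgroup hp.out)
    rw [CfsgLib.Core.fittingSubgroup_eq_iSup_pCore]
    refine iSup_le fun ⟨q, hq⟩ => ?_
    haveI := Fact.mk hq
    show Cfsg.pCore q G ≤ Cfsg.pCore p G
    rcases eq_or_ne q p with rfl | hqp
    · exact le_rfl
    refine le_trans ?_ (hO.le.trans bot_le)
    refine CfsgLib.Core.le_pPrimeCore (Cfsg.pCore_normal q G) ?_
    obtain ⟨j, hj⟩ := (CfsgLib.Core.isPGroup_pCore (G := G) q).exists_card_eq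
    rw [hj]; exact ((Nat.coprime_primes hq hp.out).mpr hqp).pow_left j
  intro g hg
  rw [← hF] at hg ⊢
  exact CfsgLib.GenFitting.solvableRadical_inf_centralizer_le ⟨(le_sSup (⟨inferInstance, inferInstance⟩ :
    (⊤ : Subgroup G).Normal ∧ Group.IsSolvable ↥(⊤ : Subgroup G)) : ⊤ ≤ Cfsg.solvableRadical G)
    (Subgroup.mem_top g), hg⟩

/-- the preimage of the p-core of `G / C` is a p-group when `C` is one -/
theorem comap_pCore_le (C : Subgroup G) [C.Normal] (hC : IsPGroup p ↥C) :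
    (Cfsg.pCore p (G ⧸ C)).comap (QuotientGroup.mk' C) ≤ Cfsg.pCore p G :=
  CfsgLib.Core.le_pCore ((Cfsg.pCore_normal p _).comap _)
    ((CfsgLib.Core.isPGroup_pCore p).comap_of_ker_isPGroup _ (by rw [QuotientGroup.ker_mk']; exact hC))

theorem le_pCore_of_abelian [Group.IsSolvable G] (hp2 : p ≠ 2) (hodd : Odd (Nat.card G)) (P : Subgroup G) [P.Normal]
    (hP : IsPGroup p ↥P) (hc : IsPGroup p ↥(Subgroup.centralizer (P : Set G))) (B : Subgroup G)
    [IsMulCommutative ↥B] (hn : P ≤ Subgroup.normalizer (B : Set G)) : B ≤ Cfsg.pCore p G := fun _ ha =>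
  comap_pCore_le _ hc (mem_pCore_quot hp2 hodd P hP (quad_of_abelian P B hn ha))

/-- centralizer of a normal p-subgroup containing its centralizer in the p-core -/
theorem isPGroup_centralizer [Group.IsSolvable G] (hO : Cfsg.pPrimeCore p G = ⊥) (P : Subgroup G) [P.Normal]
    (hPc : Cfsg.pCore p G ⊓ Subgroup.centralizer (P : Set G) ≤ P) :
    IsPGroup p ↥(Subgroup.centralizer (P : Set G)) := by
  set C := Subgroup.centralizer (P : Set G)
  have hOC : Cfsg.pPrimeCore p ↥C = ⊥ := by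
    have h1 := CfsgLib.Core.pPrimeCore_subgroup_map_le p C
    rw [hO, le_bot_iff, Subgroup.map_eq_bot_iff_of_injective _ C.subtype_injective] at h1
    exact h1
  have hcen : Cfsg.pCore p ↥C ≤ Subgroup.center ↥C := by
    intro x hx
    have h1 : (x : G) ∈ Cfsg.pCore p G := CfsgLib.Core.pCore_subgroup_map_le p C ⟨x, hx, rfl⟩
    have h2 : (x : G) ∈ P := hPc ⟨h1, x.2⟩
    exact Subgroup.mem_center_iff.mpr fun g => Subtype.ext (Subgroup.mem_centralizer_iff.mp g.2 _ h2).symm
  have htop : (⊤ : Subgroup ↥C) ≤ Cfsg.pCore p ↥C := fun g _ => centralizer_pCore_le hOC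
    (Subgroup.mem_centralizer_iff.mpr fun x hx => (Subgroup.mem_center_iff.mp (hcen hx) g).symm)
  exact ((CfsgLib.Core.isPGroup_pCore p).to_le htop).of_equiv Subgroup.topEquiv

/-! ### Puig's series relative to a subgroup -/

/-- Puig's series of a subgroup, inside the whole group -/
def puigIn (S : Subgroup G) (n : ℕ) : Subgroup G := (Cfsg.puigSeq ↥S n).map S.subtype

theorem puigIn_le (S : Subgroup G) (n : ℕ) : puigIn S n ≤ S := Subgroup.map_subtype_le _

theorem puigIn_zero (S : Subgroup G) : puigIn S 0 = ⊥ := Subgroup.map_bot _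

theorem puigIn_one (S : Subgroup G) : puigIn S 1 = S := by
  show (Cfsg.puigSeq ↥S 1).map S.subtype = S
  rw [(Cfsg.Agent.S1467.result (G := ↥S)).2.1, ← MonoidHom.range_eq_map, Subgroup.range_subtype]

theorem le_puigIn_succ {S A : Subgroup G} {n : ℕ} (hA : A ≤ S) (hAc : IsMulCommutative ↥A)
    (hn : puigIn S n ≤ Subgroup.normalizer (A : Set G)) : A ≤ puigIn S (n + 1) := by
  rw [← Subgroup.map_subgroupOf_eq_of_le hA]
  refine Subgroup.map_mono (le_sSup ⟨?_, fun x hx => ?_⟩)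
  · refine ⟨⟨fun a b => ?_⟩⟩
    have h := congrArg Subtype.val (hAc.is_comm.comm (⟨((a : ↥S) : G), a.2⟩ : A) ⟨((b : ↥S) : G), b.2⟩)
    exact Subtype.ext (Subtype.ext h)
  · refine Subgroup.mem_normalizer_iff.mpr fun y => ?_
    exact Subgroup.mem_normalizer_iff.mp (hn ⟨x, hx, rfl⟩) (y : G)

theorem puigIn_succ_le {S X : Subgroup G} {n : ℕ}
    (h : ∀ A : Subgroup G, A ≤ S → IsMulCommutative ↥A → puigIn S n ≤ Subgroup.normalizer (A : Set G) → A ≤ X) :
    puigIn S (n + 1) ≤ X := by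
  rw [puigIn, Subgroup.map_le_iff_le_comap]
  refine sSup_le fun A ⟨hAc, hAn⟩ => Subgroup.map_le_iff_le_comap.mp (h _ (Subgroup.map_subtype_le A) inferInstance ?_)
  intro g hg
  obtain ⟨x, hx, rfl⟩ := hg
  refine Subgroup.mem_normalizer_fintype ?_
  rintro _ ⟨a, ha, rfl⟩
  exact ⟨x * a * x⁻¹, (Subgroup.mem_normalizer_iff.mp (hAn hx) a).mp ha, rfl⟩

/-- the two limits, inside the whole group -/
theorem limit (S : Subgroup G) : ∃ k, ∀ n, k ≤ n →
    puigIn S (2 * n) = (Cfsg.puigLower ↥S).map S.subtype ∧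
    puigIn S (2 * n + 1) = (Cfsg.puigSubgroup ↥S).map S.subtype := by
  obtain ⟨k, hk⟩ := (Cfsg.Agent.S1467.result (G := ↥S)).2.2.2.1
  exact ⟨k, fun n hn => ⟨congrArg (Subgroup.map S.subtype) (hk n hn).1, congrArg (Subgroup.map S.subtype) (hk n hn).2⟩⟩

theorem limit₂ (S T : Subgroup G) : ∃ k,
    (∀ n, k ≤ n → puigIn S (2 * n) = (Cfsg.puigLower ↥S).map S.subtype ∧
      puigIn S (2 * n + 1) = (Cfsg.puigSubgroup ↥S).map S.subtype) ∧
    (∀ n, k ≤ n → puigIn T (2 * n) = (Cfsg.puigLower ↥T).map T.subtype ∧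
      puigIn T (2 * n + 1) = (Cfsg.puigSubgroup ↥T).map T.subtype) := by
  obtain ⟨a, ha⟩ := limit S
  obtain ⟨b, hb⟩ := limit T
  exact ⟨max a b, fun n hn => ha n ((le_max_left a b).trans hn), fun n hn => hb n ((le_max_right a b).trans hn)⟩

theorem lower_le_subgroup (S : Subgroup G) : (Cfsg.puigLower ↥S).map S.subtype ≤ (Cfsg.puigSubgroup ↥S).map S.subtype :=
  Subgroup.map_mono (Cfsg.Agent.S1467.result (G := ↥S)).2.2.2.2.1

end CfsgLib.OddQuad
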