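import Cfsg.Agent.Lib.Glauberman.Stable
import Cfsg.Agent.Lib.PStep
import Cfsg.Agent.Lib.GenFitting

/-! Solvable groups of odd order are p-stable for odd p. (owner helper5)

The algebra spanned by two square-zero operators carries an anti-involution inverting the group they
generate, so traces are central; hence nilpotent p'-subgroups of such a group are abelian. -/

set_option autoImplicit false
set_option linter.style.haveILetI false
open scoped commutatorElement

namespace CfsgLib.OddStable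

section Ring

variable {R : Type*} [Ring R] {A B : R}

/-- the scalars for the pair -/
def IsScalar (A B : R) (c : R) : Prop := c * A = A * c ∧ c * B = B * c

/-- the quaternion-like span, together with the anti-involution -/
def Good (A B : R) (x y : R) : Prop :=
  ∃ c0 c1 c2 c3 : R, IsScalar A B c0 ∧ IsScalar A B c1 ∧ IsScalar A B c2 ∧ IsScalar A B c3 ∧
    x = c0 + c1 * A + c2 * B + c3 * (A * B) ∧ y = c0 - c1 * A - c2 * B + c3 * (B * A)

theorem IsScalar.add {c d : R} (hc : IsScalar A B c) (hd : IsScalar A B d) : IsScalar A B (c + d) :=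
  ⟨by rw [add_mul, mul_add, hc.1, hd.1], by rw [add_mul, mul_add, hc.2, hd.2]⟩

theorem IsScalar.sub {c d : R} (hc : IsScalar A B c) (hd : IsScalar A B d) : IsScalar A B (c - d) :=
  ⟨by rw [sub_mul, mul_sub, hc.1, hd.1], by rw [sub_mul, mul_sub, hc.2, hd.2]⟩

theorem IsScalar.mul {c d : R} (hc : IsScalar A B c) (hd : IsScalar A B d) : IsScalar A B (c * d) :=
  ⟨by rw [mul_assoc, hd.1, ← mul_assoc, hc.1, mul_assoc], by rw [mul_assoc, hd.2, ← mul_assoc, hc.2, mul_assoc]⟩

theorem scalar_T (hA : A * A = 0) (hB : B * B = 0) : IsScalar A B (A * B + B * A) := by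
  constructor
  · rw [add_mul, mul_add, mul_assoc B A A, hA, mul_zero, add_zero, ← mul_assoc A A B, hA, zero_mul, zero_add,
      mul_assoc]
  · rw [add_mul, mul_add, mul_assoc A B B, hB, mul_zero, zero_add, ← mul_assoc B B A, hB, zero_mul, add_zero,
      mul_assoc]

theorem IsScalar.one : IsScalar A B (1 : R) := ⟨by rw [one_mul, mul_one], by rw [one_mul, mul_one]⟩

theorem IsScalar.zero : IsScalar A B (0 : R) := ⟨by rw [zero_mul, mul_zero], by rw [zero_mul, mul_zero]⟩

theorem Good.one : Good A B (1 : R) 1 :=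
  ⟨1, 0, 0, 0, IsScalar.one, IsScalar.zero, IsScalar.zero, IsScalar.zero, by simp, by simp⟩

/-- multiplication by `1 + A` on the left -/
theorem Good.mul_A (hA : A * A = 0) {x y : R} (h : Good A B x y) : Good A B ((1 + A) * x) (y * (1 - A)) := by
  obtain ⟨c0, c1, c2, c3, h0, h1, h2, h3, rfl, rfl⟩ := h
  refine ⟨c0, c1 + c0, c2, c3 + c2, h0, h1.add h0, h2, h3.add h2, ?_, ?_⟩
  · have l1 : A * (c1 * A) = 0 := by rw [← mul_assoc, ← h1.1, mul_assoc, hA, mul_zero]
    have l2 : A * (c2 * B) = c2 * (A * B) := by rw [← mul_assoc, ← h2.1, mul_assoc]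
    have l3 : A * (c3 * (A * B)) = 0 := by
      rw [← mul_assoc, ← h3.1, mul_assoc, ← mul_assoc A A B, hA, zero_mul, mul_zero]
    rw [add_mul 1 A, one_mul, mul_add A, mul_add A, mul_add A, l1, l2, l3, ← h0.1, add_mul, add_mul]
    abel
  · have r1 : c1 * A * A = 0 := by rw [mul_assoc, hA, mul_zero]
    have r3 : c3 * (B * A) * A = 0 := by rw [mul_assoc, mul_assoc B A A, hA, mul_zero, mul_zero]
    rw [mul_sub, mul_one, add_mul, sub_mul, sub_mul, r1, r3, mul_assoc c2 B A, add_mul, add_mul]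
    abel

/-- multiplication by `1 + B` on the left -/
theorem Good.mul_B (hA : A * A = 0) (hB : B * B = 0) {x y : R} (h : Good A B x y) :
    Good A B ((1 + B) * x) (y * (1 - B)) := by
  obtain ⟨c0, c1, c2, c3, h0, h1, h2, h3, rfl, rfl⟩ := h
  obtain ⟨T, hT⟩ : ∃ T, A * B + B * A = T := ⟨_, rfl⟩
  have hTs : IsScalar A B T := hT ▸ scalar_T hA hB
  have hBA : B * A = T - A * B := by rw [← hT]; abel
  have hAB : A * B = T - B * A := by rw [← hT]; abel
  refine ⟨c0 + c1 * T, c1, c2 + c0 + c3 * T, c3 - c1, h0.add (h1.mul hTs), h1, (h2.add h0).add (h3.mul hTs),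
    h3.sub h1, ?_, ?_⟩
  · have l1 : B * (c1 * A) = c1 * T - c1 * (A * B) := by rw [← mul_assoc, ← h1.2, mul_assoc, hBA, mul_sub]
    have l2 : B * (c2 * B) = 0 := by rw [← mul_assoc, ← h2.2, mul_assoc, hB, mul_zero]
    have l3 : B * (c3 * (A * B)) = c3 * T * B := by
      rw [← mul_assoc, ← h3.2, mul_assoc, ← mul_assoc B A B, hBA, sub_mul, mul_assoc A B B, hB, mul_zero, sub_zero,
        mul_assoc]
    rw [add_mul 1 B, one_mul, mul_add B, mul_add B, mul_add B, l1, l2, l3, ← h0.2, add_mul, add_mul, sub_mul]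
    abel
  · have r1 : c1 * A * B = c1 * T - c1 * (B * A) := by rw [mul_assoc, hAB, mul_sub]
    have r2 : c2 * B * B = 0 := by rw [mul_assoc, hB, mul_zero]
    have r3 : c3 * (B * A) * B = c3 * T * B := by
      rw [mul_assoc, hBA, sub_mul, mul_assoc A B B, hB, mul_zero, sub_zero, mul_assoc]
    rw [mul_sub, mul_one, add_mul, sub_mul, sub_mul, r1, r2, r3, add_mul, add_mul, sub_mul]
    abel

/-- the trace commutes with the two generators -/
theorem Good.trace (hA : A * A = 0) (hB : B * B = 0) {x y : R} (h : Good A B x y) : IsScalar A B (x + y) := by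
  obtain ⟨c0, c1, c2, c3, h0, h1, h2, h3, rfl, rfl⟩ := h
  have e : c0 + c1 * A + c2 * B + c3 * (A * B) + (c0 - c1 * A - c2 * B + c3 * (B * A)) =
      c0 + c0 + c3 * (A * B + B * A) := by rw [mul_add]; abel
  rw [e]
  exact (h0.add h0).add (h3.mul (scalar_T hA hB))

theorem pow_one_add (hA : A * A = 0) (n : ℕ) : (1 + A) ^ n = 1 + (n : R) * A := by
  induction n with
  | zero => simp
  | succ n ih =>
    have e : (1 + (n : R) * A) * (1 + A) = 1 + ((n : R) + 1) * A := by
      rw [add_mul, one_mul, mul_add, mul_one, mul_assoc, hA, mul_zero, add_zero, add_mul, one_mul]; abel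
    rw [pow_succ, ih, e, Nat.cast_succ]

end Ring

section Group

variable {H : Type*} [Group H] [Finite H] {R : Type*} [Ring R] {p : ℕ} [hp : Fact p.Prime]

/-- a trace scalar commutes with the whole group -/
theorem commute_trace (σ : H →* R) {A B : R} (hA : A * A = 0) (hB : B * B = 0) {a b : H} (ha : σ a = 1 + A)
    (hb : σ b = 1 + B) {g h : H} (hg : g ∈ Subgroup.closure ({a, b} : Set H))
    (hh : h ∈ Subgroup.closure ({a, b} : Set H)) : Commute (σ g + σ g⁻¹) (σ h) := by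
  have hia : σ a⁻¹ = 1 - A := by
    have h1 : (1 - A) * σ a = 1 := by
      rw [ha, show (1 - A) * (1 + A) = 1 - A * A by rw [sub_mul, one_mul, mul_add, mul_one]; abel, hA, sub_zero]
    calc σ a⁻¹ = ((1 - A) * σ a) * σ a⁻¹ := by rw [h1, one_mul]
      _ = 1 - A := by rw [mul_assoc, ← map_mul, mul_inv_cancel, map_one, mul_one]
  have hib : σ b⁻¹ = 1 - B := by
    have h1 : (1 - B) * σ b = 1 := by
      rw [hb, show (1 - B) * (1 + B) = 1 - B * B by rw [sub_mul, one_mul, mul_add, mul_one]; abel, hB, sub_zero]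
    calc σ b⁻¹ = ((1 - B) * σ b) * σ b⁻¹ := by rw [h1, one_mul]
      _ = 1 - B := by rw [mul_assoc, ← map_mul, mul_inv_cancel, map_one, mul_one]
  have hmon : ∀ x ∈ Submonoid.closure ({a, b} : Set H), Good A B (σ x) (σ x⁻¹) ∧
      ∀ c : R, IsScalar A B c → Commute c (σ x) := by
    intro x hx
    induction hx using Submonoid.closure_induction_left with
    | one => exact ⟨by rw [inv_one, map_one]; exact Good.one, fun c _ => by rw [map_one]; exact Commute.one_right c⟩
    | mul_left y hy x _ ih =>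
      rcases hy with rfl | rfl
      · refine ⟨by rw [map_mul, mul_inv_rev, map_mul, ha, hia]; exact ih.1.mul_A hA, fun c hc => ?_⟩
        rw [map_mul, ha]
        exact ((Commute.one_right c).add_right hc.1).mul_right (ih.2 c hc)
      · refine ⟨by rw [map_mul, mul_inv_rev, map_mul, hb, hib]; exact ih.1.mul_B hA hB, fun c hc => ?_⟩
        rw [map_mul, hb]
        exact ((Commute.one_right c).add_right hc.2).mul_right (ih.2 c hc)
  have hcl : ∀ x ∈ Subgroup.closure ({a, b} : Set H), x ∈ Submonoid.closure ({a, b} : Set H) := fun x hx => by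
    rwa [← Subgroup.mem_toSubmonoid, Subgroup.closure_toSubmonoid_of_finite] at hx
  exact (hmon h (hcl h hh)).2 _ ((hmon g (hcl g hg)).1.trace hA hB)

/-- nilpotent parts of order prime to `2p` of a group generated by two quadratic elements are abelian -/
theorem abelian_of_qgroup (σ : H →* R) (hσ : Function.Injective σ) (hR : (p : R) = 0) (hp2 : p ≠ 2) {A B : R}
    (hA : A * A = 0) (hB : B * B = 0) {a b : H} (ha : σ a = 1 + A) (hb : σ b = 1 + B) {q : ℕ} [Fact q.Prime]
    (hq2 : q ≠ 2) (hqp : q ≠ p) (Q : Subgroup H) (hQ : IsPGroup q ↥Q)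
    (hle : Q ≤ Subgroup.closure ({a, b} : Set H)) : ∀ x ∈ Q, ∀ y ∈ Q, x * y = y * x := by
  by_contra hne
  push Not at hne
  obtain ⟨x0, hx0, y0, hy0, hne0⟩ := hne
  set Z : Subgroup ↥Q := Subgroup.center ↥Q
  have hlt : Z < ⊤ := lt_top_iff_ne_top.mpr fun e => hne0 (congrArg Subtype.val
    (Subgroup.mem_center_iff.mp (e.ge (Subgroup.mem_top (⟨y0, hy0⟩ : ↥Q))) ⟨x0, hx0⟩))
  obtain ⟨y, -, hyZ, hcomm, -⟩ := CfsgLib.PStep.exists_step hQ Z ⊤ hlt
  obtain ⟨x, hx⟩ : ∃ x : ↥Q, x * y * x⁻¹ * y⁻¹ ≠ 1 := by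
    by_contra hall
    push Not at hall
    exact hyZ (Subgroup.mem_center_iff.mpr fun g => mul_inv_eq_iff_eq_mul.mp (mul_inv_eq_one.mp (hall g)))
  obtain ⟨z, hz⟩ : ∃ z : ↥Q, z = x * y * x⁻¹ * y⁻¹ := ⟨_, rfl⟩
  have hzc : ∀ g : ↥Q, g * z = z * g := Subgroup.mem_center_iff.mp (hz ▸ hcomm x)
  have hxyz : x * y * x⁻¹ = z * y := hz ▸ (inv_mul_cancel_right _ y).symm
  rw [← hz] at hx
  set f : ↥Q →* R := σ.comp Q.subtype
  have hf : Function.Injective f := hσ.comp Q.subtype_injective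
  have htr : ∀ g h : ↥Q, Commute (f g + f g⁻¹) (f h) := fun g h =>
    commute_trace σ hA hB ha hb (hle g.2) (hle h.2)
  have hconj : ∀ g : ↥Q, f (x * g * x⁻¹) + f (x * g * x⁻¹)⁻¹ = f g + f g⁻¹ := fun g => by
    rw [show (x * g * x⁻¹)⁻¹ = x * g⁻¹ * x⁻¹ by group, map_mul, map_mul, map_mul, map_mul, ← add_mul, ← mul_add,
      ← (htr g x).eq, mul_assoc, ← map_mul, mul_inv_cancel, map_one, mul_one]
  have e1 := hconj y
  have e2 := hconj (y * z)
  rw [hxyz, mul_inv_rev] at e1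
  rw [show x * (y * z) * x⁻¹ = z * z * y by
      rw [← mul_assoc, mul_assoc (x * y) z x⁻¹, ← hzc x⁻¹, ← mul_assoc, hxyz, mul_assoc, hzc y, ← mul_assoc],
    mul_inv_rev, mul_inv_rev, mul_inv_rev, hzc y] at e2
  set Z0 := f z
  set Zi := f z⁻¹
  set Y := f y
  set Yi := f y⁻¹
  simp only [map_mul] at e1 e2
  have cZY : Commute Z0 Y := by
    show f z * f y = f y * f z
    rw [← map_mul, ← map_mul, hzc y]
  have cZiY : Commute Zi Yi := by
    show f z⁻¹ * f y⁻¹ = f y⁻¹ * f z⁻¹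
    rw [← map_mul, ← map_mul, ← mul_inv_rev, ← mul_inv_rev, hzc y]
  have cZYi : Commute Z0 Yi := by
    show f z * f y⁻¹ = f y⁻¹ * f z
    rw [← map_mul, ← map_mul, hzc y⁻¹]
  have hYY : Yi * Y = 1 := by show f y⁻¹ * f y = 1; rw [← map_mul, inv_mul_cancel, map_one]
  have hZZ : Z0 * Zi = 1 := by show f z * f z⁻¹ = 1; rw [← map_mul, mul_inv_cancel, map_one]
  have hZiZ : Zi * Z0 = 1 := by show f z⁻¹ * f z = 1; rw [← map_mul, inv_mul_cancel, map_one]
  -- first relation times `Z0 Y`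
  have k1 : Z0 * Z0 * (Y * Y) + 1 = Z0 * (Y * Y) + Z0 := by
    have h := congrArg (fun w => w * (Z0 * Y)) e1
    simp only [add_mul] at h
    rw [show Z0 * Y * (Z0 * Y) = Z0 * Z0 * (Y * Y) by rw [mul_assoc, ← mul_assoc Y Z0 Y, ← cZY.eq]; simp only [mul_assoc],
      show Yi * Zi * (Z0 * Y) = 1 by rw [mul_assoc, ← mul_assoc Zi Z0 Y, hZiZ, one_mul, hYY],
      show Y * (Z0 * Y) = Z0 * (Y * Y) by rw [← mul_assoc, ← cZY.eq, mul_assoc],
      show Yi * (Z0 * Y) = Z0 by rw [← mul_assoc, ← cZYi.eq, mul_assoc, hYY, mul_one]] at h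
    exact h
  have k2 : Z0 * Z0 * Z0 * Z0 * (Y * Y) + 1 = Z0 * Z0 * Z0 * (Y * Y) + Z0 := by
    have h := congrArg (fun w => w * (Z0 * Z0 * Y)) e2
    simp only [add_mul] at h
    rw [show Z0 * Z0 * Y * (Z0 * Z0 * Y) = Z0 * Z0 * Z0 * Z0 * (Y * Y) by
        rw [mul_assoc (Z0 * Z0) Y, ← mul_assoc Y (Z0 * Z0) Y, ← (cZY.mul_left cZY).eq]; simp only [mul_assoc],
      show Yi * (Zi * Zi) * (Z0 * Z0 * Y) = 1 by
        simp only [mul_assoc]
        rw [← mul_assoc Zi Z0 (Z0 * Y), hZiZ, one_mul, ← mul_assoc Zi Z0 Y, hZiZ, one_mul, hYY],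
      show Z0 * Y * (Z0 * Z0 * Y) = Z0 * Z0 * Z0 * (Y * Y) by
        rw [mul_assoc Z0 Y, ← mul_assoc Y (Z0 * Z0) Y, ← (cZY.mul_left cZY).eq]; simp only [mul_assoc],
      show Zi * Yi * (Z0 * Z0 * Y) = Z0 by
        rw [mul_assoc Zi, ← mul_assoc Yi (Z0 * Z0) Y, ← (cZYi.mul_left cZYi).eq, mul_assoc (Z0 * Z0),
          hYY, mul_one, ← mul_assoc, hZiZ, one_mul]] at h
    exact h
  -- hence (Z0 - 1)^2 (Z0 + 1) = 0
  have k3 : (Z0 - 1) * (Z0 - 1) * (Z0 + 1) * Z0 * (Y * Y) = 0 := by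
    have h : Z0 * Z0 * Z0 * Z0 * (Y * Y) - Z0 * Z0 * Z0 * (Y * Y) - (Z0 * Z0 * (Y * Y) - Z0 * (Y * Y)) = 0 := by
      rw [show Z0 * Z0 * Z0 * Z0 * (Y * Y) = Z0 * Z0 * Z0 * (Y * Y) + Z0 - 1 by rw [← k2]; abel,
        show Z0 * Z0 * (Y * Y) = Z0 * (Y * Y) + Z0 - 1 by rw [← k1]; abel]
      abel
    rw [← h]; noncomm_ring
  have k4 : (Z0 - 1) * (Z0 - 1) * (Z0 + 1) = 0 := by
    have hu : Z0 * (Y * Y) * (Yi * Yi * Zi) = 1 := by
      simp only [mul_assoc]
      have hYY' : Y * Yi = 1 := by show f y * f y⁻¹ = 1; rw [← map_mul, mul_inv_cancel, map_one]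
      rw [← mul_assoc Y Yi (Yi * Zi), hYY', one_mul, ← mul_assoc Y Yi Zi, hYY', one_mul, hZZ]
    have := congrArg (fun w => w * (Yi * Yi * Zi)) k3
    simp only [zero_mul] at this
    rwa [mul_assoc ((Z0 - 1) * (Z0 - 1) * (Z0 + 1)) Z0 (Y * Y), mul_assoc, hu, mul_one] at this
  -- invert Z0 + 1
  obtain ⟨n, hn⟩ := IsPGroup.iff_orderOf.mp hQ z
  have hodd : Odd (q ^ n) := ((Fact.out : q.Prime).odd_of_ne_two hq2).pow
  obtain ⟨t, ht⟩ := hp.out.odd_of_ne_two hp2
  have hgeom : (Z0 + 1) * ∑ i ∈ Finset.range (q ^ n), (-Z0) ^ i = 2 := by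
    have h1 : (1 - -Z0) * ∑ i ∈ Finset.range (q ^ n), (-Z0) ^ i = 1 - (-Z0) ^ (q ^ n) := mul_neg_geom_sum _ _
    rw [sub_neg_eq_add, add_comm 1 Z0, hodd.neg_pow, sub_neg_eq_add,
      show Z0 ^ q ^ n = 1 by rw [← map_pow, ← hn, pow_orderOf_eq_one, map_one], one_add_one_eq_two] at h1
    exact h1
  have htwo : (2 : R) * (t + 1 : ℕ) = 1 := by
    have : ((2 * (t + 1) : ℕ) : R) = 1 := by
      rw [show 2 * (t + 1) = p + 1 by omega, Nat.cast_add, hR, zero_add, Nat.cast_one]
    simpa using this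
  have k5 : (Z0 - 1) * (Z0 - 1) = 0 := by
    calc (Z0 - 1) * (Z0 - 1) = (Z0 - 1) * (Z0 - 1) * ((Z0 + 1) * (∑ i ∈ Finset.range (q ^ n), (-Z0) ^ i) * (t + 1 : ℕ)) := by
          rw [hgeom, htwo, mul_one]
      _ = (Z0 - 1) * (Z0 - 1) * (Z0 + 1) * ((∑ i ∈ Finset.range (q ^ n), (-Z0) ^ i) * (t + 1 : ℕ)) := by
          simp only [mul_assoc]
      _ = 0 := by rw [k4, zero_mul]
  have k6 : z ^ p = 1 := hf (by
    rw [map_pow, map_one, show f z = 1 + (Z0 - 1) by show Z0 = _; abel, pow_one_add k5, hR, zero_mul, add_zero])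
  refine hx (orderOf_eq_one_iff.mp (Nat.eq_one_of_dvd_coprimes
    (((Nat.coprime_primes (Fact.out : q.Prime) hp.out).mpr hqp).pow_left n) hn.dvd (orderOf_dvd_of_pow_eq_one k6)))

/-- a quadratic element centralizes every q-subgroup it normalizes -/
theorem commute_of_invariant (σ : H →* R) (hσ : Function.Injective σ) (hR : (p : R) = 0) (hp2 : p ≠ 2) {A : R}
    (hA : A * A = 0) {a : H} (ha : σ a = 1 + A) {q : ℕ} [Fact q.Prime] (hq2 : q ≠ 2) (hqp : q ≠ p)
    (Q : Subgroup H) (hQ : IsPGroup q ↥Q) (hinv : ∀ x ∈ Q, a * x * a⁻¹ ∈ Q) {r : H} (hr : r ∈ Q) :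
    Commute a r := by
  have hia : σ a⁻¹ = 1 - A := by
    have h1 : (1 - A) * σ a = 1 := by
      rw [ha, show (1 - A) * (1 + A) = 1 - A * A by rw [sub_mul, one_mul, mul_add, mul_one]; abel, hA, sub_zero]
    calc σ a⁻¹ = ((1 - A) * σ a) * σ a⁻¹ := by rw [h1, one_mul]
      _ = 1 - A := by rw [mul_assoc, ← map_mul, mul_inv_cancel, map_one, mul_one]
  have hap : a ^ p = 1 := hσ (by rw [map_pow, map_one, ha, pow_one_add hA, hR, zero_mul, add_zero])
  set b := r * a * r⁻¹ with hb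
  have hrr : σ r⁻¹ * σ r = 1 := by rw [← map_mul, inv_mul_cancel, map_one]
  set B := σ r * A * σ r⁻¹ with hBdef
  have hB : B * B = 0 := by
    rw [hBdef, show σ r * A * σ r⁻¹ * (σ r * A * σ r⁻¹) = σ r * A * (σ r⁻¹ * σ r) * A * σ r⁻¹ by
      simp only [mul_assoc], hrr, mul_one, mul_assoc (σ r) A A, hA, mul_zero, zero_mul]
  have hσb : σ b = 1 + B := by
    rw [hb, map_mul, map_mul, ha, mul_add, mul_one, add_mul, ← map_mul, mul_inv_cancel, map_one]
  set K := Q ⊓ Subgroup.closure ({a, b} : Set H)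
  set s := b * a⁻¹ with hs
  have hsQ : s ∈ Q := by
    rw [hs, hb, show r * a * r⁻¹ * a⁻¹ = r * (a * r⁻¹ * a⁻¹) by group]
    exact mul_mem hr (hinv _ (inv_mem hr))
  have hacl : a ∈ Subgroup.closure ({a, b} : Set H) := Subgroup.subset_closure (by simp)
  have hbcl : b ∈ Subgroup.closure ({a, b} : Set H) := Subgroup.subset_closure (by simp)
  have hsK : s ∈ K := ⟨hsQ, (Subgroup.closure ({a, b} : Set H)).mul_mem hbcl ((Subgroup.closure _).inv_mem hacl)⟩
  have hab := abelian_of_qgroup σ hσ hR hp2 hA hB ha hσb hq2 hqp K (hQ.to_le inf_le_left) inf_le_right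
  have hKinv : ∀ x ∈ K, a * x * a⁻¹ ∈ K := fun x hx => ⟨hinv x hx.1,
    (Subgroup.closure _).mul_mem ((Subgroup.closure _).mul_mem hacl hx.2) ((Subgroup.closure _).inv_mem hacl)⟩
  have hKinv' : ∀ x ∈ K, a⁻¹ * x * a ∈ K := fun x hx => by
    have h : ∀ m : ℕ, a ^ m * x * (a ^ m)⁻¹ ∈ K := by
      intro m
      induction m with
      | zero => simpa using hx
      | succ m ih => have := hKinv _ ih; rw [pow_succ']; convert this using 1; group
    have := h (p - 1)
    have e : a ^ (p - 1) = a⁻¹ := eq_inv_of_mul_eq_one_left (by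
      rw [← pow_succ, Nat.sub_add_cancel hp.out.one_le, hap])
    rwa [e, inv_inv] at this
  obtain ⟨n, hn⟩ := IsPGroup.iff_orderOf.mp hQ ⟨s, hsQ⟩
  rw [Subgroup.orderOf_mk] at hn
  have hc1 : Commute (σ s) ((1 + A) * σ s * (1 - A)) := by
    rw [← ha, ← hia, ← map_mul, ← map_mul]
    exact (show Commute s (a * s * a⁻¹) from hab _ hsK _ (hKinv _ hsK)).map σ
  have hc2 : Commute (σ s) ((1 - A) * σ s * (1 + A)) := by
    rw [← ha, ← hia, ← map_mul, ← map_mul]
    exact (show Commute s (a⁻¹ * s * a) from hab _ hsK _ (hKinv' _ hsK)).map σ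
  have hco : (q ^ n).Coprime p := ((Nat.coprime_primes (Fact.out : q.Prime) hp.out).mpr hqp).pow_left n
  have hAs := CfsgLib.Glauberman.quad_commute (hp.out.odd_of_ne_two hp2) hR hA hco
    (pow_ne_zero n (Fact.out : q.Prime).ne_zero) (by rw [← map_pow, ← hn, pow_orderOf_eq_one, map_one]) hc1 hc2
  have has : Commute a s := hσ (by rw [map_mul σ a s, map_mul σ s a, ha, add_mul, mul_add, one_mul, mul_one, hAs])
  have hbs : b = s * a := (inv_mul_cancel_right _ a).symm
  have hs1 : s = 1 := by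
    have h1 : s ^ p = 1 := by
      have : b ^ p = 1 := by rw [hb, conj_pow, hap, mul_one, mul_inv_cancel]
      rwa [hbs, has.symm.mul_pow, hap, mul_one] at this
    exact orderOf_eq_one_iff.mp (Nat.eq_one_of_dvd_coprimes hco hn.dvd (orderOf_dvd_of_pow_eq_one h1))
  rw [hs, hb, mul_inv_eq_one, mul_inv_eq_iff_eq_mul] at hs1
  exact hs1.symm

end Group

/-- **p-stability of solvable groups of odd order.** -/
theorem stable {G : Type*} [Group G] [Finite G] [Group.IsSolvable G] {p : ℕ} [hp : Fact p.Prime] (hp2 : p ≠ 2)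
    (hodd : Odd (Nat.card G)) : CfsgLib.Glauberman.Stable p G := by
  refine CfsgLib.Glauberman.stable_of_minimal fun W _ V _ hne hVp hab hexp hmin a ha => ?_
  let X := G ⧸ W
  haveI : Group.IsSolvable X := Group.isSolvable_of_surjective (QuotientGroup.mk'_surjective W)
  have hoddX : Odd (Nat.card X) := hodd.of_dvd_nat (Subgroup.card_quotient_dvd_card W)
  letI : CommGroup V := { V.toGroup with mul_comm := fun x y => Subtype.ext (hab x x.2 y y.2) }
  set C := Subgroup.centralizer (V : Set X)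
  let ρ : X →* AddMonoid.End (Additive V) := CfsgLib.ThompsonNPC.conjEnd V
  have hker : ∀ g : X, ρ g = 1 ↔ g ∈ C := by
    intro g
    constructor
    · intro h
      refine Subgroup.mem_centralizer_iff.mpr fun v hv => ?_
      have h1 : g * v * g⁻¹ = v :=
        congrArg (fun x : Additive V => ((Additive.toMul x : V) : X))
          (DFunLike.congr_fun h (Additive.ofMul (⟨v, hv⟩ : V)))
      exact (mul_inv_eq_iff_eq_mul.mp h1).symm
    · intro h
      refine AddMonoidHom.ext fun v => Subtype.ext ?_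
      show g * ((Additive.toMul v : V) : X) * g⁻¹ = ((Additive.toMul v : V) : X)
      rw [← Subgroup.mem_centralizer_iff.mp h _ (Additive.toMul v : V).2, mul_inv_cancel_right]
  let σ : (X ⧸ C) →* AddMonoid.End (Additive V) := QuotientGroup.lift C ρ fun g hg => (hker g).mpr hg
  have hσ : Function.Injective σ := by
    intro u w h
    obtain ⟨u, rfl⟩ := QuotientGroup.mk_surjective u
    obtain ⟨w, rfl⟩ := QuotientGroup.mk_surjective w
    replace h : ρ u = ρ w := h
    refine (QuotientGroup.eq).mpr ((hker _).mp ?_)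
    rw [map_mul, ← h, ← map_mul, inv_mul_cancel, map_one]
  have hR : ((p : ℕ) : AddMonoid.End (Additive V)) = 0 := by
    refine AddMonoidHom.ext fun v => ?_
    show p • v = 0
    apply Additive.toMul.injective
    rw [toMul_nsmul, toMul_zero]
    exact Subtype.ext (hexp _ (Additive.toMul v : V).2)
  obtain ⟨A, hA⟩ : ∃ A, ρ a - 1 = A := ⟨_, rfl⟩
  have hρa : ρ a = 1 + A := by rw [← hA]; abel
  have hAA : A * A = 0 := by
    refine AddMonoidHom.ext fun v => ?_
    set x : V := Additive.toMul v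
    have h1 := ha x x.2
    have h2 : a * (a * (x : X) * a⁻¹ * (x : X)⁻¹) * a⁻¹ = a * (x : X) * a⁻¹ * (x : X)⁻¹ := by
      have h3 : ⁅(x : X), a⁆ * a = a * ⁅(x : X), a⁆ := commutatorElement_eq_one_iff_mul_comm.mp h1
      have h4 : a * ⁅(x : X), a⁆⁻¹ = ⁅(x : X), a⁆⁻¹ * a := ((show Commute ⁅(x : X), a⁆ a from h3).inv_left).eq.symm
      have h5 : ⁅(x : X), a⁆⁻¹ = a * (x : X) * a⁻¹ * (x : X)⁻¹ := by rw [commutatorElement_def]; group
      rw [← h5, h4, mul_inv_cancel_right]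
    have h6 : ρ a ((ρ a) v - v) = (ρ a) v - v := by
      refine Additive.toMul.injective (Subtype.ext ?_)
      show a * (((Additive.toMul ((ρ a) v - v)) : V) : X) * a⁻¹ = ((Additive.toMul ((ρ a) v - v) : V) : X)
      rw [toMul_sub, div_eq_mul_inv]
      exact h2
    show A (A v) = 0
    rw [← hA]
    show ρ a ((ρ a) v - v) - ((ρ a) v - v) = 0
    rw [h6, sub_self]
  haveI : Group.IsSolvable (X ⧸ C) := Group.isSolvable_of_surjective (QuotientGroup.mk'_surjective C)
  set ā : X ⧸ C := QuotientGroup.mk a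
  have hσa : σ ā = 1 + A := hρa
  -- the p-core is trivial
  have hO : Cfsg.pCore p (X ⧸ C) = ⊥ := by
    set D := (Cfsg.pCore p (X ⧸ C)).comap (QuotientGroup.mk' C)
    haveI hDn : D.Normal := Subgroup.Normal.comap (Cfsg.pCore_normal p _) _
    obtain ⟨S⟩ : Nonempty (Sylow p ↥D) := inferInstance
    set S' := (S : Subgroup ↥D).map D.subtype
    have hS' : IsPGroup p ↥S' := S.2.map _
    -- D = C S
    have hDle : D ≤ C ⊔ S' := by
      have hφ : Function.Surjective ((QuotientGroup.mk' C).subgroupMap D) :=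
        (QuotientGroup.mk' C).subgroupMap_surjective D
      have hp' : IsPGroup p ↥(D.map (QuotientGroup.mk' C)) :=
        (CfsgLib.Core.isPGroup_pCore p).to_le (Subgroup.map_comap_le _ _)
      have htop : ((S.mapSurjective hφ : Sylow p _) : Subgroup ↥(D.map (QuotientGroup.mk' C))) = ⊤ :=
        ((S.mapSurjective hφ).3 (hp'.of_equiv Subgroup.topEquiv.symm) le_top).symm
      intro d hd
      obtain ⟨s, hs, he⟩ := htop.ge (Subgroup.mem_top (⟨_, Subgroup.mem_map_of_mem _ hd⟩ : ↥(D.map (QuotientGroup.mk' C))))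
      have h1 : QuotientGroup.mk' C (s : X) = QuotientGroup.mk' C d := congrArg Subtype.val he
      have h2 : d * (s : X)⁻¹ ∈ C := (QuotientGroup.eq_one_iff _).mp (by
        show QuotientGroup.mk' C (d * (s : X)⁻¹) = 1
        rw [map_mul, map_inv, h1, mul_inv_cancel])
      have := Subgroup.mul_mem_sup h2 (Subgroup.mem_map_of_mem D.subtype hs)
      rwa [Subgroup.coe_subtype, inv_mul_cancel_right] at this
    set P := S' ⊔ V
    have hP : IsPGroup p ↥P := hS'.to_sup_of_normal_right hVp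
    have hVne : (⊥ : Subgroup ↥P) < V.subgroupOf P := by
      refine bot_lt_iff_ne_bot.mpr fun e => hne ?_
      rw [← Subgroup.map_subgroupOf_eq_of_le (le_sup_right : V ≤ P), e, Subgroup.map_bot]
    obtain ⟨v, hvV, hv1, hvc, -⟩ := CfsgLib.PStep.exists_step hP ⊥ (V.subgroupOf P) hVne
    have hU : (V ⊓ Subgroup.centralizer (D : Set X)).Normal := inferInstance
    have hvD : (v : X) ∈ V ⊓ Subgroup.centralizer (D : Set X) := by
      refine ⟨hvV, Subgroup.mem_centralizer_iff.mpr fun d hd => ?_⟩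
      have hle : C ⊔ S' ≤ Subgroup.centralizer ({(v : X)} : Set X) := by
        refine sup_le (fun c hc => Subgroup.mem_centralizer_singleton_iff.mpr
          (Subgroup.mem_centralizer_iff.mp hc _ hvV).symm) fun s hs => ?_
        have h1 := Subgroup.mem_bot.mp (hvc ⟨s, Subgroup.mem_sup_left hs⟩)
        have h2 : s * (v : X) * s⁻¹ * (v : X)⁻¹ = 1 := congrArg Subtype.val h1
        exact Subgroup.mem_centralizer_singleton_iff.mpr (mul_inv_eq_iff_eq_mul.mp (mul_inv_eq_one.mp h2))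
      exact Subgroup.mem_centralizer_singleton_iff.mp (hle (hDle hd))
    rcases hmin _ hU inf_le_left with h | h
    · rw [h, Subgroup.mem_bot] at hvD
      exact absurd (Subgroup.mem_bot.mpr (Subtype.ext hvD)) hv1
    · rw [eq_bot_iff]
      intro u hu
      obtain ⟨u, rfl⟩ := QuotientGroup.mk'_surjective C u
      refine Subgroup.mem_bot.mpr ((QuotientGroup.eq_one_iff u).mpr (Subgroup.mem_centralizer_iff.mpr fun w hw => ?_))
      exact (Subgroup.mem_centralizer_iff.mp (h.ge hw).2 u hu).symm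
  -- `a` centralizes the Fitting subgroup
  have hcent : ā ∈ Subgroup.centralizer (Cfsg.fittingSubgroup (X ⧸ C) : Set (X ⧸ C)) := by
    rw [← Subgroup.zpowers_le, Subgroup.le_centralizer_iff, CfsgLib.Core.fittingSubgroup_eq_iSup_pCore]
    refine iSup_le fun ⟨q, hq⟩ => ?_
    intro r hr
    haveI := Fact.mk hq
    rcases eq_or_ne q p with rfl | hqp
    · rw [hO, Subgroup.mem_bot] at hr; rw [hr]; exact one_mem _
    rcases eq_or_ne r 1 with hr1 | hr1
    · rw [hr1]; exact one_mem _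
    have hQ : IsPGroup q ↥(Cfsg.pCore q (X ⧸ C)) := CfsgLib.Core.isPGroup_pCore q
    have hq2 : q ≠ 2 := by
      rintro rfl
      have hodd' : Odd (Nat.card (X ⧸ C)) := hoddX.of_dvd_nat (Subgroup.card_quotient_dvd_card C)
      obtain ⟨k, hk⟩ := IsPGroup.iff_orderOf.mp hQ ⟨r, hr⟩
      rw [Subgroup.orderOf_mk] at hk
      have hk0 : k ≠ 0 := fun h0 => hr1 (orderOf_eq_one_iff.mp (by rw [hk, h0, pow_zero]))
      exact (Nat.not_even_iff_odd.mpr hodd') (even_iff_two_dvd.mpr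
        (((dvd_pow_self 2 hk0).trans hk.symm.dvd).trans (orderOf_dvd_natCard r)))
    refine Subgroup.mem_centralizer_iff.mpr fun g hg => ?_
    obtain ⟨i, rfl⟩ := hg
    exact ((commute_of_invariant σ hσ hR hp2 hAA hσa hq2 hqp _ hQ
      (fun x hx => (Cfsg.pCore_normal q _).conj_mem x hx ā) hr).zpow_left i).eq
  have hF : Subgroup.centralizer (Cfsg.fittingSubgroup (X ⧸ C) : Set (X ⧸ C)) ≤ Cfsg.fittingSubgroup (X ⧸ C) := fun g hg =>
    CfsgLib.GenFitting.solvableRadical_inf_centralizer_le ⟨(le_sSup (⟨inferInstance, inferInstance⟩ :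
      (⊤ : Subgroup (X ⧸ C)).Normal ∧ Group.IsSolvable ↥(⊤ : Subgroup (X ⧸ C))) : ⊤ ≤ Cfsg.solvableRadical (X ⧸ C))
      (Subgroup.mem_top g), hg⟩
  haveI := CfsgLib.Core.isNilpotent_fittingSubgroup (G := X ⧸ C)
  set F := Cfsg.fittingSubgroup (X ⧸ C)
  have haF : ā ∈ F := hF hcent
  obtain ⟨S, hS⟩ := (show IsPGroup p ↥(Subgroup.zpowers (⟨ā, haF⟩ : ↥F)) by
    have hap : ā ^ p = 1 := hσ (by rw [map_pow, map_one, hσa, pow_one_add hAA, hR, zero_mul, add_zero])
    rintro ⟨z, hz⟩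
    obtain ⟨i, rfl⟩ := Subgroup.mem_zpowers_iff.mp hz
    refine ⟨1, Subtype.ext (Subtype.ext ?_)⟩
    show (ā ^ i) ^ p ^ 1 = 1
    rw [pow_one, ← zpow_natCast, ← zpow_mul, mul_comm, zpow_mul, zpow_natCast, hap, one_zpow]).exists_le_sylow
  haveI hSn : (S : Subgroup ↥F).Normal :=
    ((Group.isNilpotent_of_finite_tfae (G := ↥F)).out 0 3 rfl rfl).mp inferInstance p hp S
  haveI := S.characteristic_of_normal hSn
  haveI : F.Normal := CfsgLib.Core.fittingSubgroup_normal
  exact CfsgLib.Core.le_pCore ConjAct.normal_of_characteristic_of_normal (S.2.map F.subtype)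
    ⟨⟨ā, haF⟩, hS (Subgroup.mem_zpowers _), rfl⟩

end CfsgLib.OddStable
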