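import Cfsg.Prelude.Def_LocalStructure
import Cfsg.Agent.Lib.Core
import Cfsg.Agent.Lib.LocalBasic

/-! p-reduced normal subgroups and Y_L (owner helper5). -/

set_option autoImplicit false
set_option linter.unusedSectionVars false

namespace CfsgLib.PReduced

open CfsgLib.LocalBasic
open scoped commutatorElement

variable {G : Type*} [Group G] [Finite G] {p : ℕ} [hp : Fact p.Prime]

/-- `N` is a `p`-group modulo the subgroup `C`. -/
def PMod (p : ℕ) (N C : Subgroup G) : Prop := ∀ x ∈ N, ∃ k, x ^ p ^ k ∈ C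

theorem pmod_of_isPGroup {N C : Subgroup G} (h : IsPGroup p ↥N) : PMod p N C := fun x hx => by
  obtain ⟨k, hk⟩ := h ⟨x, hx⟩
  refine ⟨k, ?_⟩
  have : x ^ p ^ k = 1 := by simpa using congrArg Subtype.val hk
  rw [this]; exact C.one_mem

/-- A p'-element of a group that is a p-group modulo `C` lies in `C`. -/
theorem mem_of_pmod {N C : Subgroup G} (h : PMod p N C) {x : G} (hx : x ∈ N) (hc : (orderOf x).Coprime p) :
    x ∈ C := by
  obtain ⟨k, hk⟩ := h x hx
  obtain ⟨m, hm⟩ := exists_pow_eq_self_of_coprime ((hc.pow_right k).symm)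
  rw [← hm]; exact C.pow_mem hk m

theorem reduced_iff {V : Subgroup G} :
    Cfsg.IsPReducedNormal p V ↔ V.Normal ∧ Cfsg.IsElementaryAbelian p V ∧
      ∀ N : Subgroup G, N.Normal → PMod p N (Subgroup.centralizer (V : Set G)) →
        N ≤ Subgroup.centralizer (V : Set G) := by
  constructor
  · rintro ⟨hn, he, hC, hq⟩
    refine ⟨hn, he, fun N hN hpN => ?_⟩
    haveI := hC
    have h1 : N.map (QuotientGroup.mk' (Subgroup.centralizer (V : Set G))) ≤ ⊥ := by
      rw [← hq]
      refine CfsgLib.Core.le_pCore (hN.map _ (QuotientGroup.mk'_surjective _)) ?_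
      rintro ⟨_, x, hx, rfl⟩
      obtain ⟨k, hk⟩ := hpN x hx
      exact ⟨k, Subtype.ext (by simpa using (QuotientGroup.eq_one_iff _).mpr hk)⟩
    intro x hx
    exact (QuotientGroup.eq_one_iff x).mp (Subgroup.mem_bot.mp (h1 ⟨x, hx, rfl⟩))
  · rintro ⟨hn, he, hq⟩
    haveI := hn
    have hC : (Subgroup.centralizer (V : Set G)).Normal := inferInstance
    refine ⟨hn, he, hC, ?_⟩
    rw [eq_bot_iff]
    intro y hy
    obtain ⟨x, rfl⟩ := QuotientGroup.mk'_surjective _ y
    have := CfsgLib.Core.pCore_characteristic (G := G ⧸ Subgroup.centralizer (V : Set G)) p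
    have h1 := hq ((Cfsg.pCore p (G ⧸ Subgroup.centralizer (V : Set G))).comap (QuotientGroup.mk' _))
      (Subgroup.Normal.comap inferInstance _) (fun u hu => by
        obtain ⟨k, hk⟩ := CfsgLib.Core.isPGroup_pCore p ⟨_, hu⟩
        exact ⟨k, (QuotientGroup.eq_one_iff _).mp (by simpa using congrArg Subtype.val hk)⟩) hy
    exact Subgroup.mem_bot.mpr ((QuotientGroup.eq_one_iff x).mpr h1)

theorem pCore_le_centralizer {V : Subgroup G} (hV : Cfsg.IsPReducedNormal p V) :
    Cfsg.pCore p G ≤ Subgroup.centralizer (V : Set G) := by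
  have := CfsgLib.Core.pCore_characteristic (G := G) p
  exact (reduced_iff.mp hV).2.2 _ inferInstance (pmod_of_isPGroup (CfsgLib.Core.isPGroup_pCore p))

theorem isPGroup_of_elementary {V : Subgroup G} (hV : Cfsg.IsElementaryAbelian p V) : IsPGroup p ↥V :=
  fun x => ⟨1, Subtype.ext (by simpa using hV.2 x x.2)⟩

theorem le_pCore_inf_centralizer {V : Subgroup G} (hV : Cfsg.IsPReducedNormal p V) :
    V ≤ Cfsg.pCore p G ⊓ Subgroup.centralizer (Cfsg.pCore p G : Set G) :=
  le_inf (CfsgLib.Core.le_pCore hV.1 (isPGroup_of_elementary hV.2.1))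
    (Subgroup.le_centralizer_iff.mp (pCore_le_centralizer hV))

theorem reduced_sSup {S : Set (Subgroup G)} (hS : ∀ V ∈ S, Cfsg.IsPReducedNormal p V) :
    Cfsg.IsPReducedNormal p (sSup S) := by
  have hnorm : (sSup S).Normal := by
    refine ⟨fun x hx g => ?_⟩
    have hle : sSup S ≤ (sSup S).comap (MulAut.conj g).toMonoidHom :=
      sSup_le fun V hV y hy => Subgroup.mem_comap.mpr (le_sSup (s := S) hV ((hS V hV).1.conj_mem y hy g))
    exact hle hx
  have hab : sSup S ≤ Subgroup.centralizer ((sSup S : Subgroup G) : Set G) := by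
    refine sSup_le fun V hV => ?_
    rw [Subgroup.le_centralizer_iff]
    refine sSup_le fun W hW => ?_
    exact ((le_pCore_inf_centralizer (hS W hW)).trans inf_le_right).trans
      (Subgroup.centralizer_le (SetLike.coe_subset_coe.mpr ((le_pCore_inf_centralizer (hS V hV)).trans inf_le_left)))
  refine reduced_iff.mpr ⟨hnorm, ⟨Subgroup.le_centralizer_iff_isMulCommutative.mp hab, fun a ha => ?_⟩, fun N hN hpN => ?_⟩
  · let E : Subgroup G :=
      { carrier := {x | x ∈ sSup S ∧ x ^ p = 1}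
        one_mem' := ⟨one_mem _, one_pow p⟩
        mul_mem' := fun {x y} hx hy => ⟨mul_mem hx.1 hy.1, by
          rw [(show Commute x y from (hab hy.1 x hx.1)).mul_pow, hx.2, hy.2, one_mul]⟩
        inv_mem' := fun {x} hx => ⟨inv_mem hx.1, by rw [inv_pow, hx.2, inv_one]⟩ }
    have hle : sSup S ≤ E := sSup_le fun V hV x hx => ⟨le_sSup hV hx, (hS V hV).2.1.2 x hx⟩
    exact (hle ha).2
  · rw [Subgroup.le_centralizer_iff]
    refine sSup_le fun V hV => ?_
    rw [Subgroup.le_centralizer_iff]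
    exact (reduced_iff.mp (hS V hV)).2.2 N hN fun x hx => by
      obtain ⟨k, hk⟩ := hpN x hx
      exact ⟨k, Subgroup.centralizer_le (SetLike.coe_subset_coe.mpr (le_sSup hV)) hk⟩

theorem reduced_largest : Cfsg.IsPReducedNormal p (Cfsg.largestPReduced p G) := reduced_sSup fun _ h => h

theorem le_largest {V : Subgroup G} (hV : Cfsg.IsPReducedNormal p V) : V ≤ Cfsg.largestPReduced p G := le_sSup hV

/-- The relative criterion: `V ≤ L` is p-reduced in `L`. -/
theorem reduced_subgroupOf_iff {L V : Subgroup G} (hVL : V ≤ L) :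
    Cfsg.IsPReducedNormal p (V.subgroupOf L) ↔ L ≤ Subgroup.normalizer (V : Set G) ∧ Cfsg.IsElementaryAbelian p V ∧
      ∀ N : Subgroup G, N ≤ L → L ≤ Subgroup.normalizer (N : Set G) → PMod p N (Subgroup.centralizer (V : Set G)) →
        N ≤ Subgroup.centralizer (V : Set G) := by
  have hcent : ∀ x : ↥L, x ∈ Subgroup.centralizer ((V.subgroupOf L : Subgroup ↥L) : Set ↥L) ↔
      (x : G) ∈ Subgroup.centralizer (V : Set G) := fun x =>
    ⟨fun h v hv => congrArg Subtype.val (h ⟨v, hVL hv⟩ (Subgroup.mem_subgroupOf.mpr hv)),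
      fun h v hv => Subtype.ext (h v hv)⟩
  rw [reduced_iff, Subgroup.normal_subgroupOf_iff_le_normalizer hVL]
  constructor
  · rintro ⟨h1, h2, h3⟩
    refine ⟨h1, ⟨⟨⟨fun a b => ?_⟩⟩, fun a ha => ?_⟩, fun N hNL hLN hN x hx => ?_⟩
    · exact Subtype.ext (congrArg (fun z : ↥(V.subgroupOf L) => ((z : ↥L) : G))
        (h2.1.is_comm.comm ⟨⟨a, hVL a.2⟩, Subgroup.mem_subgroupOf.mpr a.2⟩ ⟨⟨b, hVL b.2⟩, Subgroup.mem_subgroupOf.mpr b.2⟩))
    · simpa using congrArg Subtype.val (h2.2 ⟨a, hVL ha⟩ (Subgroup.mem_subgroupOf.mpr ha))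
    · refine (hcent ⟨x, hNL hx⟩).mp (h3 (N.subgroupOf L) ((Subgroup.normal_subgroupOf_iff_le_normalizer hNL).mpr hLN)
        (fun y hy => ?_) (Subgroup.mem_subgroupOf.mpr hx))
      obtain ⟨k, hk⟩ := hN y hy
      exact ⟨k, (hcent _).mpr (by simpa using hk)⟩
  · rintro ⟨h1, h2, h3⟩
    refine ⟨h1, ⟨⟨⟨fun a b => ?_⟩⟩, fun a ha => Subtype.ext (by simpa using h2.2 a ha)⟩, fun N hN hpN x hx => ?_⟩
    · exact Subtype.ext (Subtype.ext (congrArg (fun z : ↥V => (z : G)) (h2.1.is_comm.comm ⟨_, a.2⟩ ⟨_, b.2⟩)))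
    · refine (hcent x).mpr (h3 (N.map L.subtype) (Subgroup.map_subtype_le _) ?_ ?_ ⟨x, hx, rfl⟩)
      · refine (Subgroup.normal_subgroupOf_iff_le_normalizer (Subgroup.map_subtype_le _)).mp ?_
        rw [Subgroup.subgroupOf, Subgroup.comap_map_eq_self_of_injective L.subtype_injective]
        exact hN
      · rintro _ ⟨y, hy, rfl⟩
        obtain ⟨k, hk⟩ := hpN y hy
        exact ⟨k, by simpa using (hcent _).mp hk⟩

theorem largestOf_le (L : Subgroup G) : Cfsg.largestPReducedOf p L ≤ L := Subgroup.map_subtype_le _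

theorem subgroupOf_largestOf (L : Subgroup G) :
    (Cfsg.largestPReducedOf p L).subgroupOf L = Cfsg.largestPReduced p ↥L :=
  Subgroup.comap_map_eq_self_of_injective L.subtype_injective _

theorem largestOf_spec (L : Subgroup G) :
    L ≤ Subgroup.normalizer ((Cfsg.largestPReducedOf p L : Subgroup G) : Set G) ∧
      Cfsg.IsElementaryAbelian p (Cfsg.largestPReducedOf p L) ∧
      ∀ N : Subgroup G, N ≤ L → L ≤ Subgroup.normalizer (N : Set G) →
        PMod p N (Subgroup.centralizer ((Cfsg.largestPReducedOf p L : Subgroup G) : Set G)) →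
        N ≤ Subgroup.centralizer ((Cfsg.largestPReducedOf p L : Subgroup G) : Set G) :=
  (reduced_subgroupOf_iff (largestOf_le L)).mp (by rw [subgroupOf_largestOf]; exact reduced_largest)

theorem le_largestOf {L V : Subgroup G} (hVL : V ≤ L) (h : Cfsg.IsPReducedNormal p (V.subgroupOf L)) :
    V ≤ Cfsg.largestPReducedOf p L := fun x hx => ⟨⟨x, hVL hx⟩, le_largest h (Subgroup.mem_subgroupOf.mpr hx), rfl⟩

theorem pCoreOf_le_centralizer_largestOf (L : Subgroup G) :
    Cfsg.pCoreOf p L ≤ Subgroup.centralizer ((Cfsg.largestPReducedOf p L : Subgroup G) : Set G) := by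
  rintro _ ⟨x, hx, rfl⟩ _ ⟨y, hy, rfl⟩
  exact congrArg Subtype.val (pCore_le_centralizer reduced_largest hx y hy)

theorem largestOf_le_omega (L : Subgroup G) :
    Cfsg.largestPReducedOf p L ≤
      Cfsg.omegaOne p (Cfsg.pCoreOf p L ⊓ Subgroup.centralizer ((Cfsg.pCoreOf p L : Subgroup G) : Set G)) := by
  rintro _ ⟨y, hy, rfl⟩
  refine Subgroup.subset_closure ⟨⟨⟨y, (le_pCore_inf_centralizer reduced_largest hy).1, rfl⟩, ?_⟩, ?_⟩
  · rintro _ ⟨x, hx, rfl⟩
    exact congrArg Subtype.val ((le_pCore_inf_centralizer reduced_largest hy).2 x hx)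
  · rw [← map_pow, (reduced_largest (p := p) (G := ↥L)).2.1.2 y hy, map_one]

/-- A Sylow subgroup meets a subgroup it normalises in a Sylow subgroup. -/
theorem exists_sylow_inf (T : Sylow p G) {C : Subgroup G} (hn : (T : Subgroup G) ≤ Subgroup.normalizer (C : Set G)) :
    ∃ P : Sylow p ↥C, (P : Subgroup ↥C) = ((T : Subgroup G) ⊓ C).subgroupOf C := by
  obtain ⟨P, hP⟩ := ((T.2.to_le inf_le_left : IsPGroup p ↥((T : Subgroup G) ⊓ C : Subgroup G)).comap_subtype (K := C)).exists_le_sylow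
  refine ⟨P, le_antisymm ?_ hP⟩
  set P' := (P : Subgroup ↥C).map C.subtype with hP'
  obtain ⟨m, hm, hmP⟩ := exists_conj_le_sylow T (M := (T : Subgroup G) ⊔ C) le_sup_left (P.2.map C.subtype)
    ((Subgroup.map_subtype_le _).trans le_sup_right)
  have hmn : m ∈ Subgroup.normalizer (C : Set G) := sup_le hn Subgroup.le_normalizer hm
  have hle : (T : Subgroup G) ⊓ C ≤ P' := fun u hu => ⟨⟨u, hu.2⟩, hP (Subgroup.mem_subgroupOf.mpr hu), rfl⟩
  have hle2 : P'.map (MulAut.conj m).toMonoidHom ≤ (T : Subgroup G) ⊓ C := by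
    rintro _ ⟨u, hu, rfl⟩
    exact ⟨hmP u hu, (Subgroup.mem_normalizer_iff.mp hmn u).mp (Subgroup.map_subtype_le _ hu)⟩
  have heq := Subgroup.eq_of_le_of_card_ge hle
    ((Subgroup.card_map_of_injective (MulEquiv.injective _)).symm.le.trans (Subgroup.card_le_of_le hle2))
  intro x hx
  rw [Subgroup.mem_subgroupOf, heq]
  exact ⟨x, hx, rfl⟩

end CfsgLib.PReduced

namespace CfsgLib.PReduced

open CfsgLib.LocalBasic

variable {G : Type*} [Group G] [Finite G] {p : ℕ} [hp : Fact p.Prime]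

/-- `Ω₁Z(X)` -/
abbrev omegaZ (p : ℕ) (X : Subgroup G) : Subgroup G :=
  Cfsg.omegaOne p (X ⊓ Subgroup.centralizer (X : Set G))

theorem omegaZ_le (X : Subgroup G) : omegaZ p X ≤ X ⊓ Subgroup.centralizer (X : Set G) :=
  (Subgroup.closure_le _).mpr fun _ hx => hx.1

theorem mem_omegaZ {X : Subgroup G} {x : G} :
    x ∈ omegaZ p X ↔ x ∈ X ⊓ Subgroup.centralizer (X : Set G) ∧ x ^ p = 1 := by
  constructor
  · intro hx
    refine ⟨omegaZ_le X hx, ?_⟩
    induction hx using Subgroup.closure_induction with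
    | mem y hy => exact hy.2
    | one => exact one_pow p
    | mul a b ha hb h1 h2 =>
      rw [(show Commute a b from ((omegaZ_le X hb).2 a (omegaZ_le X ha).1)).mul_pow, h1, h2, one_mul]
    | inv a _ h => rw [inv_pow, h, inv_one]
  · exact fun h => Subgroup.subset_closure h

theorem omegaZ_map {X : Subgroup G} (g : G) :
    (omegaZ p X).map (MulAut.conj g).toMonoidHom = omegaZ p (X.map (MulAut.conj g).toMonoidHom) := by
  ext y
  have key : ∀ {X : Subgroup G} {g x : G}, x ∈ omegaZ p X → g * x * g⁻¹ ∈ omegaZ p (X.map (MulAut.conj g).toMonoidHom) := by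
    intro X g x hx
    obtain ⟨⟨h1, h2⟩, h3⟩ := mem_omegaZ.mp hx
    refine mem_omegaZ.mpr ⟨⟨⟨x, h1, rfl⟩, ?_⟩, by rw [conj_pow, h3, mul_one, mul_inv_cancel]⟩
    rintro _ ⟨u, hu, rfl⟩
    show g * u * g⁻¹ * (g * x * g⁻¹) = g * x * g⁻¹ * (g * u * g⁻¹)
    calc g * u * g⁻¹ * (g * x * g⁻¹) = g * (u * x) * g⁻¹ := by group
      _ = g * (x * u) * g⁻¹ := by rw [h2 u hu]
      _ = g * x * g⁻¹ * (g * u * g⁻¹) := by group
  constructor
  · rintro ⟨x, hx, rfl⟩; exact key hx
  · intro hy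
    have h2 := key (g := g⁻¹) hy
    rw [Subgroup.map_map, show ((MulAut.conj g⁻¹).toMonoidHom).comp (MulAut.conj g).toMonoidHom = MonoidHom.id G by
      ext z; simp [mul_assoc], Subgroup.map_id] at h2
    exact ⟨_, h2, by simp [mul_assoc]⟩

theorem omegaZ_le_sylowCenterClosure (T : Sylow p G) {L : Subgroup G} (hTL : (T : Subgroup G) ≤ L) :
    omegaZ p (T : Subgroup G) ≤ Cfsg.sylowCenterClosure p L := by
  refine le_trans (le_of_eq ?_) (le_iSup _ (T.subtype hTL))
  rw [Sylow.coe_subtype, Subgroup.map_subgroupOf_eq_of_le hTL]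

theorem sylowCenterClosure_le (L : Subgroup G) : Cfsg.sylowCenterClosure p L ≤ L :=
  iSup_le fun _ => (omegaZ_le _).trans (inf_le_left.trans (Subgroup.map_subtype_le _))

theorem le_normalizer_sylowCenterClosure (L : Subgroup G) :
    L ≤ Subgroup.normalizer ((Cfsg.sylowCenterClosure p L : Subgroup G) : Set G) := by
  have key : ∀ l ∈ L, ∀ x ∈ Cfsg.sylowCenterClosure p L, l * x * l⁻¹ ∈ Cfsg.sylowCenterClosure p L := by
    intro l hl
    suffices h : (Cfsg.sylowCenterClosure p L).map (MulAut.conj l).toMonoidHom ≤ Cfsg.sylowCenterClosure p L from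
      fun x hx => h ⟨x, hx, rfl⟩
    rw [Cfsg.sylowCenterClosure, Subgroup.map_iSup]
    refine iSup_le fun S => ?_
    rw [omegaZ_map]
    refine le_trans (le_of_eq ?_) (le_iSup _ ((⟨l, hl⟩ : ↥L) • S))
    congr 1
    have e : ((⟨l, hl⟩ : ↥L) • S : Sylow p ↥L).toSubgroup.map L.subtype =
        ((S : Subgroup ↥L).map L.subtype).map (MulAut.conj l).toMonoidHom := by
      rw [Subgroup.map_map, Sylow.coe_subgroup_smul]
      ext y
      constructor
      · rintro ⟨_, ⟨u, hu, rfl⟩, rfl⟩; exact ⟨u, hu, by simp⟩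
      · rintro ⟨u, hu, rfl⟩; exact ⟨_, ⟨u, hu, rfl⟩, by simp⟩
    rw [e]
  intro l hl
  rw [Subgroup.mem_normalizer_iff]
  intro x
  refine ⟨key l hl x, fun h => ?_⟩
  simpa [mul_assoc] using key l⁻¹ (L.inv_mem hl) _ h

/-- In characteristic `p` the centre closure is p-reduced. -/
theorem reduced_sylowCenterClosure {L : Subgroup G}
    (hL : Subgroup.centralizer (Cfsg.pCore p ↥L : Set ↥L) ≤ Cfsg.pCore p ↥L) :
    Cfsg.IsPReducedNormal p ((Cfsg.sylowCenterClosure p L).subgroupOf L) := by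
  set Q := Cfsg.pCoreOf p L
  have hZ : Cfsg.sylowCenterClosure p L ≤ omegaZ p Q := by
    refine iSup_le fun S x hx => ?_
    obtain ⟨⟨⟨y, hy, rfl⟩, hc⟩, hp1⟩ := mem_omegaZ.mp hx
    have hyc : y ∈ Subgroup.centralizer (Cfsg.pCore p ↥L : Set ↥L) := fun u hu =>
      Subtype.ext (hc u ⟨u, CfsgLib.Core.pCore_le_sylow S hu, rfl⟩)
    refine mem_omegaZ.mpr ⟨⟨⟨y, hL hyc, rfl⟩, ?_⟩, hp1⟩
    rintro _ ⟨u, hu, rfl⟩
    exact hc u ⟨u, CfsgLib.Core.pCore_le_sylow S hu, rfl⟩
  refine (reduced_subgroupOf_iff (sylowCenterClosure_le L)).mpr ⟨le_normalizer_sylowCenterClosure L, ⟨?_, ?_⟩, ?_⟩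
  · exact Subgroup.le_centralizer_iff_isMulCommutative.mp ((hZ.trans (omegaZ_le Q)).trans (inf_le_right.trans
      (Subgroup.centralizer_le (SetLike.coe_subset_coe.mpr ((hZ.trans (omegaZ_le Q)).trans inf_le_left)))))
  · exact fun a ha => (mem_omegaZ.mp (hZ ha)).2
  · intro N hNL hLN hN
    rw [Subgroup.le_centralizer_iff]
    refine iSup_le fun S => ?_
    rw [Subgroup.le_centralizer_iff]
    set C := Subgroup.centralizer
      ((omegaZ p ((S : Subgroup ↥L).map L.subtype) : Subgroup G) : Set G) with hC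
    have hN' : (N.subgroupOf L).Normal := (Subgroup.normal_subgroupOf_iff_le_normalizer hNL).mpr hLN
    obtain ⟨P, hP⟩ := exists_sylow_inf S (C := N.subgroupOf L) (by
      rw [Subgroup.normalizer_eq_top (N.subgroupOf L)]; exact le_top)
    have hne : ((C.subgroupOf L).subgroupOf (N.subgroupOf L)).index = 1 := by
      by_contra hne
      obtain ⟨q, hq, hqd⟩ := Nat.exists_prime_and_dvd hne
      haveI := Fact.mk hq
      by_cases hqp : q = p
      · subst hqp
        refine P.not_dvd_index (hqd.trans (Subgroup.index_dvd_of_le fun u hu => ?_))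
        rw [hP, Subgroup.mem_subgroupOf] at hu
        show ((u : ↥L) : G) ∈ C
        exact fun z hz => ((omegaZ_le _ hz).2 _ ⟨_, hu.1, rfl⟩).symm
      · obtain ⟨R⟩ := (inferInstance : Nonempty (Sylow q ↥(N.subgroupOf L)))
        refine R.not_dvd_index (hqd.trans (Subgroup.index_dvd_of_le fun u hu => ?_))
        show ((u : ↥L) : G) ∈ C
        have hcop : (orderOf ((u : ↥L) : G)).Coprime p := by
          rw [Subgroup.orderOf_coe, Subgroup.orderOf_coe]
          obtain ⟨k, hk⟩ := IsPGroup.iff_orderOf.mp R.2 ⟨u, hu⟩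
          rw [Subgroup.orderOf_mk] at hk
          rw [hk]; exact ((Nat.coprime_primes hq hp.out).mpr hqp).pow_left k
        refine Subgroup.centralizer_le (SetLike.coe_subset_coe.mpr ?_) (mem_of_pmod hN u.2 hcop)
        exact le_iSup (fun S : Sylow p ↥L => omegaZ p ((S : Subgroup ↥L).map L.subtype)) S
    intro x hx
    have := (Subgroup.index_eq_one.mp hne).symm ▸ Subgroup.mem_top (⟨⟨x, hNL hx⟩, hx⟩ : ↥(N.subgroupOf L))
    exact this

end CfsgLib.PReduced
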