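import Mathlib.GroupTheory.Sylow
import Mathlib.GroupTheory.Solvable
import Mathlib.GroupTheory.Perm.Cycle.Type
import Mathlib.Algebra.BigOperators.Group.Finset.Basic
import Mathlib.Tactic

/-! Prime graph lemmas: a Frobenius group has fixed points on coprime modules; Lucido's three primes. -/

namespace CfsgLib.PrimeGraph

/-- `Q` normalised by `y` of order `r`, with no commuting pairs: not both can act without fixed
points on an abelian group of order prime to `|Q|`. -/
theorem pow_card_eq_one_of_fpf {X V : Type*} [Group X] [CommGroup V] (φ : X →* MulAut V)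
    (Q : Subgroup X) [Finite Q] (hQ : Q ≠ ⊥) (y : X) {r : ℕ} (hr : 1 < r) (hyr : y ^ r = 1)
    (hyQ : ∀ u ∈ Q, y * u * y⁻¹ ∈ Q)
    (hQfix : ∀ u ∈ Q, u ≠ 1 → ∀ v : V, φ u v = v → v = 1)
    (hyfix : ∀ v : V, φ y v = v → v = 1)
    (hcomm : ∀ u ∈ Q, ∀ i, 0 < i → i < r → u * y ^ i = y ^ i * u → u = 1) (v : V) :
    v ^ Nat.card Q = 1 := by
  classical
  have := Fintype.ofFinite Q
  obtain ⟨⟨u₀, hu₀⟩, hu₀1⟩ : ∃ u : Q, u ≠ 1 := by
    have := (Subgroup.nontrivial_iff_ne_bot Q).2 hQ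
    exact exists_ne 1
  have hw : ∀ z : V, ∏ u : Q, φ (u : X) z = 1 := by
    intro z
    refine hQfix u₀ hu₀ (fun h => hu₀1 (Subtype.ext h)) _ ?_
    rw [map_prod]
    refine Fintype.prod_equiv (Equiv.mulLeft (⟨u₀, hu₀⟩ : Q)) _ _ fun u => ?_
    show φ u₀ (φ (u : X) z) = φ (u₀ * (u : X)) z
    rw [map_mul, MulAut.mul_apply]
  have hY : ∀ z : V, ∏ i ∈ Finset.range r, φ (y ^ i) z = 1 := by
    intro z
    refine hyfix _ ?_
    rw [map_prod]
    have h1 := Finset.prod_range_succ' (fun i => φ (y ^ i) z) r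
    have h2 := Finset.prod_range_succ (fun i => φ (y ^ i) z) r
    rw [h1] at h2
    simp only [pow_zero, hyr] at h2
    refine Eq.trans (Finset.prod_congr rfl fun i _ => ?_) (mul_right_cancel h2)
    rw [pow_succ', map_mul, MulAut.mul_apply]
  have hyiQ : ∀ (i : ℕ), ∀ u ∈ Q, y ^ i * u * (y ^ i)⁻¹ ∈ Q := by
    intro i
    induction i with
    | zero => simp
    | succ i ih =>
      intro u hu
      have := hyQ _ (ih u hu)
      rwa [show y * (y ^ i * u * (y ^ i)⁻¹) * y⁻¹ = y ^ (i + 1) * u * (y ^ (i + 1))⁻¹ by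
        rw [pow_succ']; group] at this
  have e1 : ∏ i ∈ Finset.range r, ∏ u : Q, φ ((u : X) * y ^ i * (u : X)⁻¹) v = 1 := by
    rw [Finset.prod_comm]
    refine Finset.prod_eq_one fun u _ => ?_
    simp only [map_mul, MulAut.mul_apply]
    rw [← map_prod, hY, map_one]
  rw [Finset.prod_eq_single 0] at e1
  · simpa [Nat.card_eq_fintype_card] using e1
  · intro i hi hi0
    let f : Q → Q := fun u => ⟨(u : X) * (y ^ i * (u : X)⁻¹ * (y ^ i)⁻¹),
      Q.mul_mem u.2 (hyiQ i _ (Q.inv_mem u.2))⟩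
    have hf : Function.Injective f := by
      intro u w huw
      have h : (u : X) * (y ^ i * (u : X)⁻¹ * (y ^ i)⁻¹) = w * (y ^ i * (w : X)⁻¹ * (y ^ i)⁻¹) :=
        congrArg Subtype.val huw
      have h' : ((w : X)⁻¹ * u) * y ^ i = y ^ i * ((w : X)⁻¹ * u) := by
        calc ((w : X)⁻¹ * u) * y ^ i
            = (w : X)⁻¹ * ((u : X) * (y ^ i * (u : X)⁻¹ * (y ^ i)⁻¹)) * y ^ i * u := by group
          _ = y ^ i * ((w : X)⁻¹ * u) := by rw [h]; group
      have h'' := hcomm _ (Q.mul_mem (Q.inv_mem w.2) u.2) i (Nat.pos_of_ne_zero hi0)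
        (Finset.mem_range.1 hi) h'
      exact Subtype.ext (inv_mul_eq_one.1 h'').symm
    rw [← hw (φ (y ^ i) v)]
    refine Fintype.prod_equiv (Equiv.ofBijective f (Finite.injective_iff_bijective.1 hf)) _ _ fun u => ?_
    show φ ((u : X) * y ^ i * (u : X)⁻¹) v =
      φ ((u : X) * (y ^ i * (u : X)⁻¹ * (y ^ i)⁻¹)) (φ (y ^ i) v)
    rw [← MulAut.mul_apply, ← map_mul]
    congr 2; group
  · intro h; exact absurd (Finset.mem_range.2 (by omega)) h

variable {G : Type*} [Group G] [Finite G]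

theorem exists_orderOf_mul {p q : ℕ} (hp : p.Prime) (hq : q.Prime) (hne : p ≠ q) {x z : G}
    (hcomm : Commute x z) (hx : p ∣ orderOf x) (hz : q ∣ orderOf z) :
    ∃ w : G, orderOf w = p * q := by
  have key : ∀ {k : ℕ} {x : G}, k ∣ orderOf x → orderOf (x ^ (orderOf x / k)) = k := by
    intro k x hk
    rw [orderOf_pow, Nat.gcd_eq_right (Nat.div_dvd_of_dvd hk), Nat.div_div_self hk (orderOf_pos x).ne']
  refine ⟨x ^ (orderOf x / p) * z ^ (orderOf z / q), ?_⟩
  rw [((hcomm.pow_left _).pow_right _).orderOf_mul_eq_mul_orderOf_of_coprime, key hx, key hz]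
  rw [key hx, key hz]
  exact (Nat.coprime_primes hp hq).2 hne

theorem exists_orderOf_lift {H : Type*} [Group H] (f : G →* H) (hf : Function.Surjective f) (x : H) :
    ∃ g : G, orderOf g = orderOf x := by
  obtain ⟨g, rfl⟩ := hf x
  have hd := orderOf_map_dvd f g
  exact ⟨g ^ (orderOf g / orderOf (f g)), by
    rw [orderOf_pow, Nat.gcd_eq_right (Nat.div_dvd_of_dvd hd), Nat.div_div_self hd (orderOf_pos g).ne']⟩

/-- Lucido: three primes distributed over a normal series of length three. -/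
theorem three_primes (K M : Subgroup G) [K.Normal] [M.Normal] (hKM : K ≤ M) {p q r : ℕ}
    (hp : p.Prime) (hq : q.Prime) (hr : r.Prime) (hpq : p ≠ q) (hpr : p ≠ r) (hqr : q ≠ r)
    (hpK : p ∣ Nat.card K) (hqM : q ∣ K.relIndex M) (hrG : r ∣ M.index) :
    (∃ x : G, orderOf x = p * q) ∨ (∃ x : G, orderOf x = p * r) ∨ (∃ x : G, orderOf x = q * r) := by
  haveI : Fact p.Prime := ⟨hp⟩
  haveI : Fact q.Prime := ⟨hq⟩
  haveI : Fact r.Prime := ⟨hr⟩
  by_contra hcon
  push Not at hcon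
  obtain ⟨hnpq, hnpr, hnqr⟩ := hcon
  let P : Sylow p K := default
  set P' := (P : Subgroup K).map K.subtype with hP'
  set N := Subgroup.normalizer (P' : Set G) with hN
  have hfr : N ⊔ K = ⊤ := P.normalizer_sup_eq_top
  have hP1 : (P : Subgroup K) ≠ ⊥ := P.ne_bot_of_dvd_card hpK
  have hqMN : q ∣ Nat.card ↥(M ⊓ N) := by
    have h1 : K.relIndex M = K.relIndex (M ⊓ N) := by
      have hsup : (M ⊓ N) ⊔ K = M := by
        refine le_antisymm (sup_le inf_le_left hKM) fun m hm => ?_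
        have : m ∈ N ⊔ K := hfr ▸ Subgroup.mem_top m
        obtain ⟨n, hn, k, hk, rfl⟩ := Subgroup.mem_sup_of_normal_right.1 this
        refine Subgroup.mul_mem_sup ⟨?_, hn⟩ hk
        simpa using M.mul_mem hm (M.inv_mem (hKM hk))
      conv_lhs => rw [← hsup]
      exact Subgroup.relIndex_sup_right _ _
    exact (h1 ▸ hqM).trans (Subgroup.relIndex_dvd_card _ _)
  let MN : Subgroup N := (M ⊓ N).subgroupOf N
  haveI : MN.Normal := ⟨fun x hx g => ⟨(inferInstance : M.Normal).conj_mem _ hx.1 g, (g * x * g⁻¹ : N).2⟩⟩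
  let Q : Sylow q MN := default
  let Q' : Subgroup N := (Q : Subgroup MN).map MN.subtype
  let W : Subgroup N := Subgroup.normalizer (Q' : Set N)
  have hfrW : W ⊔ MN = ⊤ := Q.normalizer_sup_eq_top
  have hrW : r ∣ Nat.card W := by
    have hsup : W.map N.subtype ⊔ M = ⊤ := by
      refine top_le_iff.1 (hfr ▸ sup_le ?_ (hKM.trans le_sup_right))
      have h := congrArg (Subgroup.map N.subtype) hfrW
      rw [Subgroup.map_sup, ← MonoidHom.range_eq_map, Subgroup.range_subtype] at h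
      exact h.symm.le.trans (sup_le_sup le_rfl (by rintro _ ⟨x, hx, rfl⟩; exact hx.1))
    have h1 : M.index = M.relIndex (W.map N.subtype) := by
      rw [← Subgroup.relIndex_top_right, ← hsup]
      exact Subgroup.relIndex_sup_right _ _
    exact (h1 ▸ hrG).trans ((Subgroup.relIndex_dvd_card _ _).trans
      (Nat.card_congr (W.equivMapOfInjective _ N.subtype_injective).toEquiv).symm.dvd)
  obtain ⟨y, hy⟩ := exists_prime_orderOf_dvd_card' (G := W) r hrW
  have hyo : orderOf (y : N) = r := by rw [Subgroup.orderOf_coe, hy]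
  have hQ1 : (Q : Subgroup MN) ≠ ⊥ := by
    refine Q.ne_bot_of_dvd_card ?_
    rwa [Nat.card_congr (Subgroup.subgroupOfEquivOfLe (inf_le_right : M ⊓ N ≤ N)).toEquiv]
  have hQ'1 : Q' ≠ ⊥ := fun h => hQ1 ((Subgroup.map_eq_bot_iff_of_injective _ MN.subtype_injective).1 h)
  -- the module
  have hPp : IsPGroup p P' := P.isPGroup'.map _
  haveI : Nontrivial P' := by
    rw [Subgroup.nontrivial_iff_ne_bot]
    exact fun h => hP1 ((Subgroup.map_eq_bot_iff_of_injective _ K.subtype_injective).1 h)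
  haveI := hPp.center_nontrivial
  let Z : Subgroup N := ((Subgroup.center P').map P'.subtype).subgroupOf N
  have hnorm : ∀ n ∈ N, ∀ x ∈ P', n * x * n⁻¹ ∈ P' := fun n hn x hx =>
    (Subgroup.mem_normalizer_iff.1 hn x).1 hx
  have hnorm' : ∀ n ∈ N, ∀ x ∈ P', n⁻¹ * x * n ∈ P' := fun n hn x hx =>
    (Subgroup.mem_normalizer_iff''.1 hn x).1 hx
  haveI : Z.Normal := by
    refine ⟨fun z hz g => ?_⟩
    obtain ⟨⟨w, hw⟩, hwc, hwz⟩ := hz
    refine ⟨⟨(g : G) * w * (g : G)⁻¹, hnorm g g.2 w hw⟩, ?_, ?_⟩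
    · rw [SetLike.mem_coe, Subgroup.mem_center_iff]
      intro a
      have := Subgroup.mem_center_iff.1 hwc ⟨(g : G)⁻¹ * a * g, hnorm' g g.2 a a.2⟩
      have h := congrArg (fun u : P' => (g : G) * (u : G) * (g : G)⁻¹) this
      apply Subtype.ext
      simpa [mul_assoc] using h
    · change w = (z : G) at hwz
      simp [← hwz]
  letI : CommGroup Z :=
    { (inferInstance : Group Z) with
      mul_comm := fun a b => by
        obtain ⟨x, hx, hxa⟩ := a.2
        obtain ⟨x', hx', hxb⟩ := b.2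
        apply Subtype.ext; apply Subtype.ext
        have := congrArg (fun u : P' => (u : G)) (Subgroup.mem_center_iff.1 hx x').symm
        change (x : G) = ((a : N) : G) at hxa
        change (x' : G) = ((b : N) : G) at hxb
        simp only [Subgroup.coe_mul] at this ⊢
        rwa [← hxa, ← hxb] }
  have hZp : ∀ z : Z, z ≠ 1 → p ∣ orderOf ((z : N) : G) := by
    intro z hz
    obtain ⟨x, -, hxz⟩ := z.2
    change (x : G) = ((z : N) : G) at hxz
    obtain ⟨k, hk⟩ := IsPGroup.iff_orderOf.1 hPp x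
    rw [← hxz, Subgroup.orderOf_coe, hk]
    refine dvd_pow_self p fun h0 => hz ?_
    rw [h0, pow_zero, orderOf_eq_one_iff] at hk
    rw [hk] at hxz
    exact Subtype.ext (Subtype.ext hxz.symm)
  have hQq : ∀ u ∈ Q', u ≠ 1 → q ∣ orderOf (u : G) := by
    rintro _ ⟨u, hu, rfl⟩ h1
    obtain ⟨k, hk⟩ := IsPGroup.iff_orderOf.1 Q.isPGroup' ⟨u, hu⟩
    rw [Subgroup.orderOf_mk] at hk
    rw [Subgroup.coe_subtype, Subgroup.orderOf_coe, Subgroup.orderOf_coe, hk]
    refine dvd_pow_self q fun h0 => h1 ?_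
    rw [h0, pow_zero, orderOf_eq_one_iff] at hk
    rw [hk, map_one]
  obtain ⟨⟨c, hc⟩, hc1⟩ := exists_ne (1 : Subgroup.center P')
  let z₀ : Z := ⟨⟨c, Subgroup.le_normalizer c.2⟩, ⟨c, hc, rfl⟩⟩
  have hz₀ : z₀ ≠ 1 := fun h => hc1 (Subtype.ext (Subtype.ext (congrArg (fun w : Z => ((w : N) : G)) h)))
  have hcomm_fix : ∀ (n : N) (z : Z), MulAut.conjNormal n z = z → Commute (n : G) ((z : N) : G) := by
    intro n z h
    have := congrArg (fun w : Z => ((w : N) : G)) h
    simp only [MulAut.conjNormal_apply, Subgroup.coe_mul, Subgroup.coe_inv] at this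
    exact mul_inv_eq_iff_eq_mul.1 this
  have hyG : orderOf ((y : N) : G) = r := by rw [Subgroup.orderOf_coe, hyo]
  have hmain := pow_card_eq_one_of_fpf (MulAut.conjNormal : N →* MulAut Z) Q' hQ'1 (y : N) hr.one_lt
    (hyo ▸ pow_orderOf_eq_one _) (fun u hu => (Subgroup.mem_normalizer_iff.1 y.2 u).1 hu) ?_ ?_ ?_ z₀
  · have hdvd : orderOf ((z₀ : N) : G) ∣ Nat.card Q' := by
      rw [Subgroup.orderOf_coe, Subgroup.orderOf_coe]
      exact orderOf_dvd_of_pow_eq_one hmain
    obtain ⟨k, hk⟩ := IsPGroup.iff_card.1 (Q.isPGroup'.map MN.subtype)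
    have h2 := (hZp z₀ hz₀).trans hdvd
    rw [hk] at h2
    exact hpq ((Nat.prime_dvd_prime_iff_eq hp hq).1 (hp.dvd_of_dvd_pow h2))
  · intro u hu hu1 z hz
    by_contra hne
    obtain ⟨w, hw⟩ := exists_orderOf_mul hp hq hpq (hcomm_fix u z hz).symm (hZp z hne) (hQq u hu hu1)
    exact hnpq w hw
  · intro z hz
    by_contra hne
    obtain ⟨w, hw⟩ := exists_orderOf_mul hp hr hpr (hcomm_fix y z hz).symm (hZp z hne) hyG.symm.dvd
    exact hnpr w hw
  · intro u hu i hi0 hir hc'
    by_contra hne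
    have hc'' : Commute (u : G) (((y : N) : G) ^ i) := by
      have := congrArg (fun w : N => (w : G)) hc'
      show _ * _ = _ * _
      simpa using this
    have hord : r ∣ orderOf (((y : N) : G) ^ i) := by
      have hcop : (orderOf ((y : N) : G)).Coprime i := by
        rw [hyG]
        exact (hr.coprime_iff_not_dvd).2 fun h => absurd (Nat.le_of_dvd hi0 h) (by omega)
      rw [hcop.orderOf_pow, hyG]
    obtain ⟨w, hw⟩ := exists_orderOf_mul hq hr hqr hc'' (hQq u hu hne) hord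
    exact hnqr w hw

end CfsgLib.PrimeGraph

namespace CfsgLib.PrimeGraph

variable {G : Type*} [Group G] [Finite G]

/-- In a solvable group some derived term is divisible by exactly one of given non-adjacent primes. -/
theorem exists_derived_one {H : Type*} [Group H] [Finite H] [Group.IsSolvable H] (A : Finset ℕ)
    (hA : ∀ a ∈ A, a.Prime) (hne : ∃ a ∈ A, a ∣ Nat.card H)
    (hc : ∀ a ∈ A, ∀ b ∈ A, a ≠ b → ¬ ∃ x : H, orderOf x = a * b) :
    ∃ i, ∃ a ∈ A, a ∣ Nat.card (derivedSeries H i) ∧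
      ∀ b ∈ A, b ∣ Nat.card (derivedSeries H i) → b = a := by
  classical
  obtain ⟨n, hn⟩ := (Group.isSolvable_def H).1 ‹_›
  have hex : ∃ j, ∀ a ∈ A, ¬ a ∣ Nat.card (derivedSeries H j) := ⟨n, fun a ha h => by
    rw [hn, Subgroup.card_bot] at h
    exact (hA a ha).not_dvd_one h⟩
  have hj0 : Nat.find hex ≠ 0 := by
    intro h
    have := Nat.find_spec hex
    rw [h, derivedSeries_zero] at this
    obtain ⟨a, ha, had⟩ := hne
    exact this a ha (by rwa [Subgroup.card_top])
  obtain ⟨i, hi⟩ := Nat.exists_eq_succ_of_ne_zero hj0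
  have hi' : i < Nat.find hex := by omega
  have hmin := Nat.find_min hex hi'
  push Not at hmin
  obtain ⟨a, ha, had⟩ := hmin
  refine ⟨i, a, ha, had, fun b hb hbd => ?_⟩
  by_contra hba
  have hnot := Nat.find_spec hex
  rw [hi] at hnot
  set D := derivedSeries H i with hDdef
  let E : Subgroup D := (derivedSeries H (i + 1)).subgroupOf D
  haveI : E.Normal := by
    haveI := derivedSeries_normal H (i + 1)
    exact Subgroup.Normal.subgroupOf inferInstance _
  have hle : derivedSeries H (i + 1) ≤ D := derivedSeries_antitone H (Nat.le_succ i)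
  have hcardE : Nat.card E = Nat.card (derivedSeries H (i + 1)) :=
    Nat.card_congr (Subgroup.subgroupOfEquivOfLe hle).toEquiv
  have hq : ∀ c ∈ A, c ∣ Nat.card D → c ∣ Nat.card (D ⧸ E) := by
    intro c hc' hcd
    rw [Subgroup.card_eq_card_quotient_mul_card_subgroup E, hcardE] at hcd
    exact ((hA c hc').dvd_mul.1 hcd).resolve_right (hnot c hc')
  haveI : Fact a.Prime := ⟨hA a ha⟩
  haveI : Fact b.Prime := ⟨hA b hb⟩
  obtain ⟨x, hx⟩ := exists_prime_orderOf_dvd_card' (G := D ⧸ E) a (hq a ha had)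
  obtain ⟨y, hy⟩ := exists_prime_orderOf_dvd_card' (G := D ⧸ E) b (hq b hb hbd)
  have hcomm : Commute x y := by
    obtain ⟨u, rfl⟩ := QuotientGroup.mk_surjective x
    obtain ⟨v, rfl⟩ := QuotientGroup.mk_surjective y
    show ((u * v : D) : D ⧸ E) = ((v * u : D) : D ⧸ E)
    rw [QuotientGroup.eq, Subgroup.mem_subgroupOf, derivedSeries_succ]
    have h := Subgroup.commutator_mem_commutator (D.inv_mem v.2) (D.inv_mem u.2)
    rw [commutatorElement_def] at h
    simpa [mul_assoc] using h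
  obtain ⟨w, hw⟩ := exists_orderOf_mul (hA a ha) (hA b hb) (Ne.symm hba) hcomm hx.symm.dvd hy.symm.dvd
  obtain ⟨g, hg⟩ := exists_orderOf_lift (QuotientGroup.mk' E) (QuotientGroup.mk'_surjective E) w
  exact hc a ha b hb (Ne.symm hba) ⟨g, by rw [Subgroup.orderOf_coe, hg, hw]⟩

/-- A solvable normal subgroup meets a set of three pairwise non-adjacent primes at most once. -/
theorem solvable_normal_one (K : Subgroup G) [K.Normal] [Group.IsSolvable K] {r s t : ℕ}
    (hr : r.Prime) (hs : s.Prime) (ht : t.Prime) (hrs : r ≠ s) (hrt : r ≠ t) (hst : s ≠ t)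
    (h1 : r ∣ Nat.card K) (h2 : s ∣ Nat.card K) (h3 : t ∣ Nat.card G)
    (hc : ∀ a ∈ ({r, s, t} : Finset ℕ), ∀ b ∈ ({r, s, t} : Finset ℕ), a ≠ b →
      ¬ ∃ x : G, orderOf x = a * b) : False := by
  classical
  let D : ℕ → Subgroup G := fun i => (derivedSeries K i).map K.subtype
  have hcard : ∀ i, Nat.card (D i) = Nat.card (derivedSeries K i) := fun i =>
    (Nat.card_congr ((derivedSeries K i).equivMapOfInjective _ K.subtype_injective).toEquiv).symm
  have hnormal : ∀ i, (D i).Normal := fun i => inferInstance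
  have hA : ∀ a ∈ ({r, s, t} : Finset ℕ), a.Prime := by simp [hr, hs, ht]
  have hcK : ∀ a ∈ ({r, s, t} : Finset ℕ), ∀ b ∈ ({r, s, t} : Finset ℕ), a ≠ b →
      ¬ ∃ x : K, orderOf x = a * b := fun a ha b hb hab ⟨x, hx⟩ =>
    hc a ha b hb hab ⟨x, by rw [Subgroup.orderOf_coe, hx]⟩
  obtain ⟨i, a, ha, had, hau⟩ := exists_derived_one {r, s, t} hA ⟨r, by simp, h1⟩ hcK
  let A' := ({r, s, t} : Finset ℕ).erase a
  have hne' : ∃ b ∈ A', b ∣ Nat.card K := by
    by_cases h : a = r
    · exact ⟨s, by simp [A', h, hrs.symm], h2⟩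
    · exact ⟨r, by simp [A', Ne.symm h], h1⟩
  obtain ⟨j, b, hb, hbd, hbu⟩ := exists_derived_one (H := K) A'
    (fun x hx => hA x (Finset.mem_of_mem_erase hx)) hne'
    (fun x hx y hy => hcK x (Finset.mem_of_mem_erase hx) y (Finset.mem_of_mem_erase hy))
  obtain ⟨hba, hb'⟩ := Finset.mem_erase.1 hb
  obtain ⟨c, hc', hca, hcb⟩ : ∃ c ∈ ({r, s, t} : Finset ℕ), c ≠ a ∧ c ≠ b := by
    have h3' : ({r, s, t} : Finset ℕ).card = 3 := Finset.card_eq_three.2 ⟨r, s, t, hrs, hrt, hst, rfl⟩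
    have hle' := Finset.card_le_two (a := a) (b := b)
    obtain ⟨c, hc', hcn⟩ := Finset.exists_mem_notMem_of_card_lt_card
      (show ({a, b} : Finset ℕ).card < ({r, s, t} : Finset ℕ).card by omega)
    simp only [Finset.mem_insert, Finset.mem_singleton, not_or] at hcn
    exact ⟨c, hc', hcn.1, hcn.2⟩
  have hji : j ≤ i := by
    by_contra h
    exact hba (hau b hb' (hbd.trans (Subgroup.card_dvd_of_le (derivedSeries_antitone K (by omega)))))
  have hle : D i ≤ D j := Subgroup.map_mono (derivedSeries_antitone K hji)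
  have hbrel : b ∣ (D i).relIndex (D j) := by
    have h := Subgroup.relIndex_mul_relIndex ⊥ (D i) (D j) bot_le hle
    rw [Subgroup.relIndex_bot_left, Subgroup.relIndex_bot_left, hcard, hcard] at h
    refine ((hA b hb').dvd_mul.1 (h.symm ▸ hbd)).resolve_left fun h' => hba (hau b hb' h')
  have hcG : c ∣ Nat.card G := by
    simp only [Finset.mem_insert, Finset.mem_singleton] at hc'
    rcases hc' with rfl | rfl | rfl
    · exact h1.trans (Subgroup.card_subgroup_dvd_card K)
    · exact h2.trans (Subgroup.card_subgroup_dvd_card K)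
    · exact h3
  have hcidx : c ∣ (D j).index := by
    rw [← (D j).card_mul_index, hcard] at hcG
    refine ((hA c hc').dvd_mul.1 hcG).resolve_left fun h' => hcb ?_
    exact hbu c (Finset.mem_erase.2 ⟨hca, hc'⟩) h'
  rcases three_primes (D i) (D j) hle (hA a ha) (hA b hb') (hA c hc') (Ne.symm hba) (Ne.symm hca)
    (Ne.symm hcb) (by rw [hcard]; exact had) hbrel hcidx with ⟨x, hx⟩ | ⟨x, hx⟩ | ⟨x, hx⟩
  · exact hc a ha b hb' (Ne.symm hba) ⟨x, hx⟩
  · exact hc a ha c hc' (Ne.symm hca) ⟨x, hx⟩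
  · exact hc b hb' c hc' (Ne.symm hcb) ⟨x, hx⟩

end CfsgLib.PrimeGraph
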