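import Cfsg.Agent.Lib.Dickson.Section
import Cfsg.Agent.Lib.QdExtBasic

/-! Quadratic pairs and their natural `SL₂(p)` (owner helper5; the first steps follow helper6's Dickson/Quad). -/

set_option autoImplicit false
set_option linter.style.haveILetI false

namespace CfsgLib.QdSection

open Matrix CfsgLib.Dickson

universe u v w

section Generic

variable {k : Type u} [Field k] {G : Type w} [Group G]
variable [Finite G] {p : ℕ} [hp : Fact p.Prime] [CharP k p] {V : Type v} [AddCommGroup V] [Module k V]

/-- Irreducible with scalar anticommutator: the group acts through `SL₂`. -/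
theorem exists_matrix_equiv (ρ : G →* Module.End k V) {a b : G} (hgen : Subgroup.closure ({a, b} : Set G) = ⊤)
    (ha : (ρ a - 1) * (ρ a - 1) = 0) (hb : (ρ b - 1) * (ρ b - 1) = 0) {c : k}
    (hc : (ρ a - 1) * (ρ b - 1) + (ρ b - 1) * (ρ a - 1) = c • 1) (hirr : Irred ρ) (hnp : ¬ PImage p ρ) :
    ∃ (σ : G →* Matrix.SpecialLinearGroup (Fin 2) k) (e : (Fin 2 → k) ≃ₗ[k] V),
      ∀ g w, ρ g (e w) = e ((σ g : Matrix (Fin 2) (Fin 2) k) *ᵥ w) := by
  set A := ρ a - 1 with hA
  set B := ρ b - 1 with hB
  have hAA : ∀ x, A (A x) = 0 := fun x => LinearMap.congr_fun ha x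
  have hBB : ∀ x, B (B x) = 0 := fun x => LinearMap.congr_fun hb x
  have hAB : ∀ x, A (B x) + B (A x) = c • x := fun x => LinearMap.congr_fun hc x
  have hpa : ρ a ^ p = 1 := pow_char_of_sq ha
  have hpb : ρ b ^ p = 1 := pow_char_of_sq hb
  have hρa : ∀ x, ρ a x = x + A x := fun x => by rw [hA]; simp
  have hρb : ∀ x, ρ b x = x + B x := fun x => by rw [hB]; simp
  have hinv : ∀ U : Submodule k V, (∀ x ∈ U, A x ∈ U) → (∀ x ∈ U, B x ∈ U) → U = ⊥ ∨ U = ⊤ := fun U h1 h2 =>
    hirr U (invariant_of_generators ρ hgen U (fun x hx => hρa x ▸ U.add_mem hx (h1 x hx))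
      (fun x hx => hρb x ▸ U.add_mem hx (h2 x hx)))
  -- a group generated by a single element of order `p` is a `p`-group
  have hA0 : A ≠ 0 := by
    intro h0
    refine hnp fun g => ⟨1, ?_⟩
    have h1 : ρ a = 1 := sub_eq_zero.mp (hA ▸ h0)
    have hg : g ∈ Subgroup.closure ({a, b} : Set G) := hgen ▸ Subgroup.mem_top g
    have key : ∃ m : ℕ, ρ g = ρ b ^ m := by
      induction hg using Subgroup.closure_induction with
      | mem x hx =>
        rcases hx with rfl | hx
        · exact ⟨0, by rw [h1, pow_zero]⟩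
        · exact ⟨1, by rw [Set.mem_singleton_iff.mp hx, pow_one]⟩
      | one => exact ⟨0, by simp⟩
      | mul x y _ _ hx hy =>
        obtain ⟨m, hm⟩ := hx; obtain ⟨l, hl⟩ := hy
        exact ⟨m + l, by rw [map_mul, hm, hl, pow_add]⟩
      | inv x _ hx =>
        obtain ⟨m, hm⟩ := hx
        refine ⟨m * (orderOf x - 1), ?_⟩
        rw [pow_mul, ← hm, ← map_pow]
        congr 1
        refine inv_eq_of_mul_eq_one_right ?_
        rw [← pow_succ', Nat.sub_add_cancel (orderOf_pos x), pow_orderOf_eq_one]
    obtain ⟨m, hm⟩ := key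
    rw [map_pow, hm, pow_one, ← pow_mul, mul_comm, pow_mul, hpb, one_pow]
  have hc0 : c ≠ 0 := by
    intro h0
    rcases hinv (LinearMap.ker A) (fun x hx => by rw [LinearMap.mem_ker] at hx ⊢; rw [hx, map_zero])
        (fun x hx => by
          rw [LinearMap.mem_ker] at hx ⊢
          have := hAB x
          rw [hx, map_zero, add_zero, h0, zero_smul] at this
          exact this) with h | h
    · refine hA0 (LinearMap.ext fun x => ?_)
      have : A x ∈ LinearMap.ker A := hAA x
      rw [h, Submodule.mem_bot] at this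
      exact this
    · exact hA0 (LinearMap.ker_eq_top.mp h)
  obtain ⟨x₀, hx₀⟩ : ∃ x, A x ≠ 0 := by
    by_contra h; push Not at h; exact hA0 (LinearMap.ext h)
  set u := A x₀ with hu
  have hABu : A (B u) = c • u := by
    have := hAB u
    rw [hAA x₀, map_zero, add_zero] at this
    exact this
  let f : (Fin 2 → k) →ₗ[k] V :=
    { toFun := fun z => z 0 • u + z 1 • B u
      map_add' := fun z z' => by simp only [Pi.add_apply, add_smul]; abel
      map_smul' := fun r z => by simp [smul_add, smul_smul] }
  have hfA : ∀ z, A (f z) = f ![c * z 1, 0] := fun z => by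
    show A (z 0 • u + z 1 • B u) = (c * z 1) • u + (0 : k) • B u
    rw [map_add, map_smul, map_smul, hAA x₀, hABu, smul_zero, zero_add, zero_smul, add_zero, smul_smul, mul_comm]
  have hfB : ∀ z, B (f z) = f ![0, z 0] := fun z => by
    show B (z 0 • u + z 1 • B u) = (0 : k) • u + z 0 • B u
    rw [map_add, map_smul, map_smul, hBB u, smul_zero, add_zero, zero_smul, zero_add]
  have hinj : Function.Injective f := by
    rw [← LinearMap.ker_eq_bot, LinearMap.ker_eq_bot']
    intro z hz
    have h1 : (c * z 1) • u + (0 : k) • B u = 0 := by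
      have h := hfA z
      rw [hz, map_zero] at h
      exact h.symm
    rw [zero_smul, add_zero] at h1
    have hz1 : z 1 = 0 := (mul_eq_zero.mp ((smul_eq_zero.mp h1).resolve_right hx₀)).resolve_left hc0
    have h0 : z 0 • u + z 1 • B u = 0 := hz
    rw [hz1, zero_smul, add_zero] at h0
    have hz0 := (smul_eq_zero.mp h0).resolve_right hx₀
    funext i; fin_cases i <;> assumption
  have hsurj : Function.Surjective f := by
    rw [← LinearMap.range_eq_top]
    refine (hinv (LinearMap.range f) ?_ ?_).resolve_left fun h => ?_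
    · rintro _ ⟨z, rfl⟩; exact ⟨_, (hfA z).symm⟩
    · rintro _ ⟨z, rfl⟩; exact ⟨_, (hfB z).symm⟩
    · have : f ![1, 0] = 0 := by
        rw [← Submodule.mem_bot k, ← h]; exact ⟨_, rfl⟩
      have := congrFun (hinj (this.trans (map_zero f).symm)) 0
      simp at this
  let e : (Fin 2 → k) ≃ₗ[k] V := LinearEquiv.ofBijective f ⟨hinj, hsurj⟩
  let μ : G →* Matrix (Fin 2) (Fin 2) k :=
    { toFun := fun g => LinearMap.toMatrixAlgEquiv' (e.symm.conjAlgEquiv k (ρ g))
      map_one' := by rw [map_one, map_one, map_one]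
      map_mul' := fun g h => by rw [map_mul, map_mul, map_mul] }
  have hμ : ∀ (g : G) (M : Matrix (Fin 2) (Fin 2) k), (∀ z, ρ g (f z) = f (M *ᵥ z)) → μ g = M := by
    intro g M h
    show LinearMap.toMatrixAlgEquiv' (e.symm.conjAlgEquiv k (ρ g)) = M
    rw [← LinearMap.toMatrixAlgEquiv'_toLinAlgEquiv' M]
    congr 1
    refine LinearMap.ext fun z => ?_
    show e.symm (ρ g (f z)) = _
    rw [h, Matrix.toLinAlgEquiv'_apply]
    exact e.symm_apply_apply _
  have hμa : μ a = !![1, c; 0, 1] := hμ a _ fun z => by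
    rw [hρa, hfA, ← map_add]; congr 1
    ext i; fin_cases i <;> simp [Matrix.mulVec, dotProduct, Fin.sum_univ_two]
  have hμb : μ b = !![1, 0; 1, 1] := hμ b _ fun z => by
    rw [hρb, hfB, ← map_add]; congr 1
    ext i; fin_cases i <;> simp [Matrix.mulVec, dotProduct, Fin.sum_univ_two, add_comm]
  have hdet : ∀ g, (μ g).det = 1 := by
    intro g
    have hg : g ∈ Subgroup.closure ({a, b} : Set G) := hgen ▸ Subgroup.mem_top g
    induction hg using Subgroup.closure_induction with
    | mem x hx =>
      rcases hx with rfl | hx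
      · rw [hμa]; simp [Matrix.det_fin_two]
      · rw [Set.mem_singleton_iff.mp hx, hμb]; simp [Matrix.det_fin_two]
    | one => rw [map_one, Matrix.det_one]
    | mul x y _ _ hx hy => rw [map_mul, Matrix.det_mul, hx, hy, one_mul]
    | inv x _ hx =>
      have h := congrArg Matrix.det (map_mul μ x x⁻¹)
      rw [mul_inv_cancel, map_one, Matrix.det_one, Matrix.det_mul, hx, one_mul] at h
      exact h.symm
  refine ⟨{ toFun := fun g => ⟨μ g, hdet g⟩
            map_one' := Subtype.ext (map_one μ)
            map_mul' := fun g h => Subtype.ext (map_mul μ g h) }, e, fun g w => ?_⟩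
  show ρ g (e w) = e (LinearMap.toMatrixAlgEquiv' (e.symm.conjAlgEquiv k (ρ g)) *ᵥ w)
  rw [← Matrix.toLinAlgEquiv'_apply, Matrix.toLinAlgEquiv'_toMatrixAlgEquiv']
  exact (e.apply_symm_apply _).symm

end Generic

/-- The only involution of `SL₂`. -/
theorem eq_neg_one_of_sq {k : Type u} [Field k] {p : ℕ} [Fact p.Prime] [CharP k p] (hp2 : p ≠ 2)
    (M : Matrix.SpecialLinearGroup (Fin 2) k) (h1 : M * M = 1) (h2 : M ≠ 1) :
    (M : Matrix (Fin 2) (Fin 2) k) = -1 := by
  have e1 : (M : Matrix (Fin 2) (Fin 2) k) * M = 1 := congrArg Subtype.val h1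
  have hd : (M : Matrix (Fin 2) (Fin 2) k).det = 1 := (M).2
  have h2k : (2 : k) ≠ 0 := by
    intro h
    have := (CharP.cast_eq_zero_iff k p 2).mp (by exact_mod_cast h)
    exact hp2 ((Nat.prime_dvd_prime_iff_eq Fact.out Nat.prime_two).mp this)
  rw [Matrix.det_fin_two] at hd
  have a00 := congrFun (congrFun e1 0) 0
  have a01 := congrFun (congrFun e1 0) 1
  have a10 := congrFun (congrFun e1 1) 0
  have a11 := congrFun (congrFun e1 1) 1
  simp [Matrix.mul_apply, Fin.sum_univ_two] at a00 a01 a10 a11
  have htr : ((M : Matrix (Fin 2) (Fin 2) k) 0 0) * ((M : Matrix (Fin 2) (Fin 2) k) 0 0 + (M : Matrix (Fin 2) (Fin 2) k) 1 1) = 2 := by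
    linear_combination a00 + hd
  have hne : (M : Matrix (Fin 2) (Fin 2) k) 0 0 + (M : Matrix (Fin 2) (Fin 2) k) 1 1 ≠ 0 := fun h => by
    rw [h, mul_zero] at htr; exact h2k htr.symm
  have b01 : (M : Matrix (Fin 2) (Fin 2) k) 0 1 = 0 := by
    refine (mul_eq_zero.mp ?_).resolve_right hne
    linear_combination a01
  have b10 : (M : Matrix (Fin 2) (Fin 2) k) 1 0 = 0 := by
    refine (mul_eq_zero.mp ?_).resolve_right hne
    linear_combination a10
  rw [b01, zero_mul, add_zero] at a00
  rw [b01, zero_mul, sub_zero] at hd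
  rcases mul_self_eq_one_iff.mp a00 with h | h
  · exfalso
    refine h2 (Subtype.ext ?_)
    ext i j
    fin_cases i <;> fin_cases j
    · simpa using h
    · simpa using b01
    · simpa using b10
    · rw [h, one_mul] at hd; simpa using hd
  · ext i j
    fin_cases i <;> fin_cases j
    · simpa using h
    · simpa using b01
    · simpa using b10
    · rw [h] at hd; simp; linear_combination -hd

/-- An irreducible quadratic pair: `SL₂(p)` sits with its matrix meaning. -/
theorem exists_section_irred {G : Type w} [Group G] [Finite G] {p : ℕ} [Fact p.Prime] (hp2 : p ≠ 2) {W : Type v}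
    [AddCommGroup W] [Module (ZMod p) W] [Finite W] (π : G →* Module.End (ZMod p) W) {a b : G}
    (hgen : Subgroup.closure ({a, b} : Set G) = ⊤) (ha' : (π a - 1) * (π a - 1) = 0)
    (hb' : (π b - 1) * (π b - 1) = 0) (hirr : Irred π) (hnpπ : ¬ PImage p π) :
    ∃ (K : Subgroup G) (f : ↥K →* Matrix.SpecialLinearGroup (Fin 2) (ZMod p)), Function.Surjective f ∧
      (∀ g : ↥K, f g = 1 → π g = 1) ∧ (∀ g : ↥K, f g = CfsgLib.QdExt.negI → π g = -1) ∧
      (∀ g : ↥K, f g ^ p = 1 → (π g - 1) * (π g - 1) = 0) := by
  classical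
  set A := π a - 1 with hA
  set B := π b - 1 with hB
  set C := A * B + B * A with hC
  haveI : Nontrivial W := by
    by_contra hsub
    rw [not_nontrivial_iff_subsingleton] at hsub
    exact hnpπ fun g => ⟨0, LinearMap.ext fun x => Subsingleton.elim _ _⟩
  let k := Subring.closure ({C} : Set (Module.End (ZMod p) W))
  have hcA : Commute A C := by
    show A * (A * B + B * A) = (A * B + B * A) * A
    rw [mul_add, add_mul, ← mul_assoc A A B, ha', zero_mul, zero_add, mul_assoc B A A, ha', mul_zero, add_zero,
      mul_assoc]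
  have hcB : Commute B C := by
    show B * (A * B + B * A) = (A * B + B * A) * B
    rw [mul_add, add_mul, ← mul_assoc B B A, hb', zero_mul, add_zero, mul_assoc A B B, hb', mul_zero, zero_add,
      mul_assoc]
  have hcomm : ∀ x ∈ k, Commute A x ∧ Commute B x := by
    intro x hx
    induction hx using Subring.closure_induction with
    | mem x hx => rw [Set.mem_singleton_iff.mp hx]; exact ⟨hcA, hcB⟩
    | zero => exact ⟨Commute.zero_right _, Commute.zero_right _⟩
    | one => exact ⟨Commute.one_right _, Commute.one_right _⟩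
    | add x y _ _ hx hy => exact ⟨hx.1.add_right hy.1, hx.2.add_right hy.2⟩
    | neg x _ hx => exact ⟨hx.1.neg_right, hx.2.neg_right⟩
    | mul x y _ _ hx hy => exact ⟨hx.1.mul_right hy.1, hx.2.mul_right hy.2⟩
  have hcg : ∀ x ∈ k, ∀ g, Commute (π g) x := by
    intro x hx g
    obtain ⟨h1, h2⟩ := hcomm x hx
    have hg : g ∈ Subgroup.closure ({a, b} : Set G) := hgen ▸ Subgroup.mem_top g
    induction hg using Subgroup.closure_induction with
    | mem y hy =>
      rcases hy with rfl | hy
      · simpa [hA] using h1.add_left (Commute.one_left x)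
      · rw [Set.mem_singleton_iff.mp hy]; simpa [hB] using h2.add_left (Commute.one_left x)
    | one => rw [map_one]; exact Commute.one_left x
    | mul y z _ _ hy hz => rw [map_mul]; exact hy.mul_left hz
    | inv y _ hy =>
      have h : π y⁻¹ * π y = 1 := by rw [← map_mul, inv_mul_cancel, map_one]
      have h' : π y * π y⁻¹ = 1 := by rw [← map_mul, mul_inv_cancel, map_one]
      show π y⁻¹ * x = x * π y⁻¹
      calc π y⁻¹ * x = π y⁻¹ * (x * π y) * π y⁻¹ := by rw [mul_assoc, mul_assoc x, h', mul_one]
        _ = π y⁻¹ * (π y * x) * π y⁻¹ := by rw [hy.eq]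
        _ = x * π y⁻¹ := by rw [← mul_assoc, h, one_mul]
  letI : CommRing k :=
    { (inferInstance : Ring k) with
      mul_comm := fun x y => by
        have key : ∀ z ∈ k, Commute C z := fun z hz => by
          induction hz using Subring.closure_induction with
          | mem z hz => rw [Set.mem_singleton_iff.mp hz]
          | zero => exact Commute.zero_right _
          | one => exact Commute.one_right _
          | add x y _ _ hx hy => exact hx.add_right hy
          | neg x _ hx => exact hx.neg_right
          | mul x y _ _ hx hy => exact hx.mul_right hy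
        have : ∀ z ∈ k, ∀ w ∈ k, Commute z w := fun z hz w hw => by
          induction hz using Subring.closure_induction with
          | mem z hz => rw [Set.mem_singleton_iff.mp hz]; exact key w hw
          | zero => exact Commute.zero_left _
          | one => exact Commute.one_left _
          | add x y _ _ hx hy => exact hx.add_left hy
          | neg x _ hx => exact hx.neg_left
          | mul x y _ _ hx hy => exact hx.mul_left hy
        exact Subtype.ext (this x x.2 y y.2).eq }
  haveI : Finite (Module.End (ZMod p) W) := Finite.of_injective _ DFunLike.coe_injective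
  haveI : Nontrivial k := ⟨⟨0, 1, fun h => zero_ne_one (congrArg Subtype.val h)⟩⟩
  haveI : NoZeroDivisors k := ⟨fun {x y} hxy => by
    by_contra hne
    push Not at hne
    rcases hirr (LinearMap.ker (x : Module.End (ZMod p) W)) (fun g v hv => by
        rw [LinearMap.mem_ker] at hv ⊢
        have h := LinearMap.congr_fun (hcg x x.2 g).eq v
        simp only [Module.End.mul_apply] at h
        rw [← h, hv, map_zero]) with h | h
    · refine hne.2 (Subtype.ext (LinearMap.ext fun v => ?_))
      have hv : (y : Module.End (ZMod p) W) v ∈ LinearMap.ker (x : Module.End (ZMod p) W) :=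
        LinearMap.congr_fun (congrArg Subtype.val hxy) v
      rw [h, Submodule.mem_bot] at hv
      exact hv
    · exact hne.1 (Subtype.ext (LinearMap.ker_eq_top.mp h))⟩
  haveI : IsDomain k := NoZeroDivisors.to_isDomain k
  haveI : Fintype k := Fintype.ofFinite k
  letI : Field k := Fintype.fieldOfDomain k
  letI : Module k W := Module.compHom W k.subtype
  haveI : CharP k p := by
    refine ⟨fun n => ?_⟩
    rw [← ZMod.natCast_eq_zero_iff n p]
    constructor
    · intro h
      obtain ⟨v, hv⟩ := exists_ne (0 : W)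
      have h1 : ((n : Module.End (ZMod p) W)) v = 0 := by
        have : ((n : k) : Module.End (ZMod p) W) = 0 := congrArg Subtype.val h
        rw [SubringClass.coe_natCast] at this
        exact LinearMap.congr_fun this v
      rw [Module.End.natCast_apply, ← Nat.cast_smul_eq_nsmul (ZMod p)] at h1
      exact (smul_eq_zero.mp h1).resolve_right hv
    · intro h
      refine Subtype.ext (LinearMap.ext fun v => ?_)
      rw [SubringClass.coe_natCast, Module.End.natCast_apply, ← Nat.cast_smul_eq_nsmul (ZMod p), h, zero_smul]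
      rfl
  let π' : G →* Module.End k W :=
    { toFun := fun g =>
        { toFun := π g
          map_add' := map_add (π g)
          map_smul' := fun x v => LinearMap.congr_fun (hcg x x.2 g).eq v }
      map_one' := LinearMap.ext fun v => by simp
      map_mul' := fun g h => LinearMap.ext fun v => by
        show π (g * h) v = π g (π h v)
        rw [map_mul]; rfl }
  obtain ⟨σ, e, he⟩ := exists_matrix_equiv (p := p) π' hgen (LinearMap.ext fun v => LinearMap.congr_fun ha' v)
    (LinearMap.ext fun v => LinearMap.congr_fun hb' v) (c := ⟨C, Subring.subset_closure rfl⟩)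
    (LinearMap.ext fun v => rfl) (fun U hU => by
      rcases hirr
        { carrier := U
          add_mem' := U.add_mem
          zero_mem' := U.zero_mem
          smul_mem' := fun r x hx => by
            rw [← ZMod.natCast_zmod_val r, Nat.cast_smul_eq_nsmul]
            exact U.nsmul_mem hx _ } hU with h | h
      · left; exact SetLike.ext fun x => SetLike.ext_iff.mp h x
      · right; exact SetLike.ext fun x => SetLike.ext_iff.mp h x)
    (fun h => hnpπ fun g => by
      obtain ⟨m, hm⟩ := h g
      exact ⟨m, LinearMap.ext fun v => LinearMap.congr_fun hm v⟩)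
  haveI : Fintype k := Fintype.ofFinite k
  have hlin : ∀ (g : G) (v : W), π g v = π' g v := fun g v => rfl
  have hpow_of : ∀ g : G, σ g ^ p = 1 → π g ^ p = 1 := fun g hg => LinearMap.ext fun v => by
    obtain ⟨w, rfl⟩ := e.surjective v
    rw [← map_pow] at hg ⊢
    rw [hlin, he, hg, Matrix.SpecialLinearGroup.coe_one, Matrix.one_mulVec]
    rfl
  have hna : σ a ^ p = 1 := by
    refine Subtype.ext (Matrix.ext_of_mulVec_single fun i => e.injective ?_)
    rw [← map_pow, ← he, Matrix.SpecialLinearGroup.coe_one, Matrix.one_mulVec, ← hlin, map_pow,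
      pow_char_of_sq (k := ZMod p) (p := p) ha']
    rfl
  have hnb : σ b ^ p = 1 := by
    refine Subtype.ext (Matrix.ext_of_mulVec_single fun i => e.injective ?_)
    rw [← map_pow, ← he, Matrix.SpecialLinearGroup.coe_one, Matrix.one_mulVec, ← hlin, map_pow,
      pow_char_of_sq (k := ZMod p) (p := p) hb']
    rfl
  have hn : 1 < Nat.card (Sylow p σ.range) := by
    by_contra hle
    have h1 : Nat.card (Sylow p σ.range) = 1 := by
      have := Nat.card_pos (α := Sylow p σ.range); omega
    obtain ⟨⟨hsub⟩, ⟨S⟩⟩ := Nat.card_eq_one_iff_unique.mp h1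
    have hin : ∀ g : G, σ g ^ p = 1 → (⟨σ g, g, rfl⟩ : σ.range) ∈ (S : Subgroup σ.range) := by
      intro g hg
      obtain ⟨S', hS'⟩ := (show IsPGroup p ↥(Subgroup.zpowers (⟨σ g, g, rfl⟩ : σ.range)) from fun z => by
        obtain ⟨i, hi⟩ := Subgroup.mem_zpowers_iff.mp z.2
        refine ⟨1, Subtype.ext ?_⟩
        rw [SubmonoidClass.coe_pow, ← hi, pow_one, ← zpow_natCast, ← _root_.zpow_mul, mul_comm, _root_.zpow_mul, zpow_natCast,
          show (⟨σ g, g, rfl⟩ : σ.range) ^ p = 1 from Subtype.ext hg, _root_.one_zpow]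
        rfl).exists_le_sylow
      rw [hsub S' S] at hS'
      exact hS' (Subgroup.mem_zpowers _)
    refine hnpπ (fun g => ?_)
    have hmem : g ∈ ((S : Subgroup σ.range).comap σ.rangeRestrict) := by
      have : g ∈ Subgroup.closure ({a, b} : Set G) := hgen ▸ Subgroup.mem_top g
      refine (Subgroup.closure_le _).mpr ?_ this
      rintro x (rfl | hx)
      · exact hin _ hna
      · rw [Set.mem_singleton_iff.mp hx]; exact hin _ hnb
    obtain ⟨m, hm⟩ := S.2 ⟨_, hmem⟩
    refine ⟨m, LinearMap.ext fun v => ?_⟩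
    obtain ⟨w, rfl⟩ := e.surjective v
    have h2 : σ (g ^ p ^ m) = 1 := by
      rw [map_pow]
      exact congrArg (fun z : ↥(S : Subgroup σ.range) => ((z : σ.range) : Matrix.SpecialLinearGroup (Fin 2) k)) hm
    rw [hlin, he, h2, Matrix.SpecialLinearGroup.coe_one, Matrix.one_mulVec]
    rfl
  obtain ⟨ψ, hψ, hψr⟩ := exists_sl_two_prime hp2 σ.range hn
  let ee := MonoidHom.ofInjective hψ
  let res := (σ.comp (ψ.range.comap σ).subtype).codRestrict ψ.range fun g => g.2
  have hres : Function.Surjective res := fun y => by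
    obtain ⟨g, hg⟩ := hψr y.2
    exact ⟨⟨g, by rw [Subgroup.mem_comap, hg]; exact y.2⟩, Subtype.ext hg⟩
  let f := ee.symm.toMonoidHom.comp res
  have hf : ∀ g : ↥(ψ.range.comap σ), ψ (f g) = σ g := fun g =>
    congrArg Subtype.val (ee.apply_symm_apply (res g))
  refine ⟨ψ.range.comap σ, f, ee.symm.surjective.comp hres, fun g hg => ?_, fun g hg => ?_, fun g hg => ?_⟩
  · refine LinearMap.ext fun v => ?_
    obtain ⟨w, rfl⟩ := e.surjective v
    rw [hlin, he, ← hf, hg, map_one, Matrix.SpecialLinearGroup.coe_one, Matrix.one_mulVec]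
    rfl
  · have h1 : σ (g : G) * σ (g : G) = 1 := by rw [← hf, hg, ← map_mul, CfsgLib.QdExt.negI_sq, map_one]
    have h2 : σ (g : G) ≠ 1 := by
      rw [← hf, hg, ← map_one ψ]; exact fun h => CfsgLib.QdExt.negI_ne_one hp2 (hψ h)
    have h3 : (σ (g : G) : Matrix (Fin 2) (Fin 2) k) = -1 := by
      exact eq_neg_one_of_sq (p := p) hp2 (σ (g : G)) h1 h2
    refine LinearMap.ext fun v => ?_
    obtain ⟨w, rfl⟩ := e.surjective v
    rw [hlin, he, h3, Matrix.neg_mulVec, Matrix.one_mulVec, map_neg]
    rfl
  · have h1 : σ (g : G) ^ p ^ 1 = 1 := by rw [pow_one, ← hf, ← map_pow, hg, map_one]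
    have h2 := (unipotent_of_pow (p := p) h1).1
    refine LinearMap.ext fun v => ?_
    obtain ⟨w, rfl⟩ := e.surjective v
    show π g (π g (e w) - e w) - (π g (e w) - e w) = 0
    simp only [hlin]
    rw [he, ← map_sub, he, ← map_sub]
    rw [show ((σ (g : G) : Matrix (Fin 2) (Fin 2) k) *ᵥ (((σ (g : G) : Matrix (Fin 2) (Fin 2) k) *ᵥ w) - w)) -
        (((σ (g : G) : Matrix (Fin 2) (Fin 2) k) *ᵥ w) - w) =
        (((σ (g : G) : Matrix (Fin 2) (Fin 2) k) - 1) * ((σ (g : G) : Matrix (Fin 2) (Fin 2) k) - 1)) *ᵥ w by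
      rw [← Matrix.mulVec_mulVec, Matrix.sub_mulVec, Matrix.sub_mulVec, Matrix.one_mulVec, Matrix.one_mulVec],
      h2, Matrix.zero_mulVec, map_zero]

end CfsgLib.QdSection
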