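import Cfsg.Agent.Lib.PReduced2
import Cfsg.Agent.Lib.PResidual
import Cfsg.Agent.Lib.Large
import Cfsg.Agent.Lib.GroupB.Subnormal

/-! p-reduced subgroups and subnormal subgroups (owner helper5). -/

set_option autoImplicit false
set_option linter.unusedSectionVars false

namespace CfsgLib.ReducedSubnormal

open CfsgLib.LocalBasic CfsgLib.PCoreOf CfsgLib.PReduced CfsgLib.PReduced2
open scoped commutatorElement

variable {G : Type*} [Group G] [Finite G] {p : ℕ} [hp : Fact p.Prime]

/-- A subnormal subgroup inducing a `p`-group on a `p`-reduced subgroup centralises it. -/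
theorem le_centralizer_of_subnormal {Y : Subgroup G} (hY : Cfsg.IsPReducedNormal p Y) {N : Subgroup G}
    (hN : N.IsSubnormal) (hpN : PMod p N (Subgroup.centralizer (Y : Set G))) :
    N ≤ Subgroup.centralizer (Y : Set G) := by
  obtain ⟨-, -, hC, hq⟩ := hY
  haveI := hC
  have h1 : N.map (QuotientGroup.mk' (Subgroup.centralizer (Y : Set G))) ≤ ⊥ := by
    rw [← hq]
    refine CfsgLib.Core.isPGroup_subnormal_le_pCore (hN.map (QuotientGroup.mk'_surjective _)) ?_
    rintro ⟨_, x, hx, rfl⟩
    obtain ⟨k, hk⟩ := hpN x hx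
    exact ⟨k, Subtype.ext (by simpa using (QuotientGroup.eq_one_iff _).mpr hk)⟩
  intro x hx
  exact (QuotientGroup.eq_one_iff x).mp (Subgroup.mem_bot.mp (h1 ⟨x, hx, rfl⟩))

theorem commute_of_step {V : Subgroup G} (hV : Cfsg.IsElementaryAbelian p V) {x y : G} (hx : (orderOf x).Coprime p)
    (hxV : ⁅x, y⁆ ∈ V) (hfix : x * ⁅x, y⁆ = ⁅x, y⁆ * x) : x * y = y * x :=
  commute_of_commutator_fixed hfix (j := 1) (by rw [pow_one]; exact hV.2 _ hxV) hx

/-- An element of order prime to `p` of a subnormal `L` centralising `Y ∩ L` centralises `Y`. -/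
theorem centralizes_inter {Y : Subgroup G} (hYn : Y.Normal) (hYe : Cfsg.IsElementaryAbelian p Y) {L : Subgroup G}
    (hL : L.IsSubnormal) : ∀ x ∈ L, (orderOf x).Coprime p → (∀ y ∈ Y ⊓ L, x * y = y * x) → ∀ y ∈ Y, x * y = y * x := by
  induction hL with
  | top => intro x _ _ h y hy; exact h y (Subgroup.mem_inf.mpr ⟨hy, Subgroup.mem_top y⟩)
  | step A B hle hB hN ih =>
    intro x hx hc h
    refine ih x (hle hx) hc fun y hy => ?_
    obtain ⟨hyY, hyB⟩ := Subgroup.mem_inf.mp hy
    have hBA := (Subgroup.normal_subgroupOf_iff_le_normalizer hle).mp hN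
    have h1 : ⁅x, y⁆ ∈ Y := by
      rw [commutatorElement_def]; exact Y.mul_mem (hYn.conj_mem y hyY x) (Y.inv_mem hyY)
    have h2 : ⁅x, y⁆ ∈ A := by
      rw [show ⁅x, y⁆ = x * (y * x⁻¹ * y⁻¹) by rw [commutatorElement_def]; group]
      exact A.mul_mem hx ((Subgroup.mem_normalizer_iff.mp (hBA hyB) _).mp (A.inv_mem hx))
    exact commute_of_step hYe hc h1 (h _ (Subgroup.mem_inf.mpr ⟨h1, h2⟩))

theorem normalizer_le_largestOf (L : Subgroup G) :
    Subgroup.normalizer (L : Set G) ≤ Subgroup.normalizer ((Cfsg.largestPReducedOf p L : Subgroup G) : Set G) := by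
  intro g hg
  set Y := Cfsg.largestPReducedOf p L with hY
  refine mem_normalizer_of_conj_map_eq (Subgroup.eq_of_le_of_card_ge ?_
    (Subgroup.card_map_of_injective (MulEquiv.injective _)).ge)
  obtain ⟨hn, he, hr⟩ := largestOf_spec (p := p) L
  rw [← hY] at hn he hr
  have hgL := conj_map_eq_of_mem_normalizer hg
  have hle : Y.map (MulAut.conj g).toMonoidHom ≤ L := (Subgroup.map_mono (largestOf_le L)).trans hgL.le
  have hcen : ∀ x, x ∈ Subgroup.centralizer ((Y.map (MulAut.conj g).toMonoidHom : Subgroup G) : Set G) ↔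
      g⁻¹ * x * g ∈ Subgroup.centralizer (Y : Set G) := by
    intro x
    constructor
    · intro h y hy
      have h1 : g * y * g⁻¹ * x = x * (g * y * g⁻¹) := h _ ⟨y, hy, rfl⟩
      calc y * (g⁻¹ * x * g) = g⁻¹ * (g * y * g⁻¹ * x) * g := by group
        _ = g⁻¹ * (x * (g * y * g⁻¹)) * g := by rw [h1]
        _ = _ := by group
    · rintro h _ ⟨y, hy, rfl⟩
      show g * y * g⁻¹ * x = x * (g * y * g⁻¹)
      calc g * y * g⁻¹ * x = g * (y * (g⁻¹ * x * g)) * g⁻¹ := by group
        _ = g * (g⁻¹ * x * g * y) * g⁻¹ := by rw [h y hy]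
        _ = _ := by group
  refine le_largestOf hle ((reduced_subgroupOf_iff hle).mpr ⟨?_, ?_, ?_⟩)
  · intro l hl
    rw [← hgL] at hl
    obtain ⟨m, hm, rfl⟩ := hl
    refine mem_normalizer_of_conj_map_eq ?_
    conv_rhs => rw [← conj_map_eq_of_mem_normalizer (hn hm)]
    rw [Subgroup.map_map, Subgroup.map_map]
    congr 1; ext v; simp [mul_assoc]
  · refine ⟨Subgroup.le_centralizer_iff_isMulCommutative.mp ?_, ?_⟩
    · rintro _ ⟨a, ha, rfl⟩
      rw [hcen]
      simpa [mul_assoc] using Subgroup.le_centralizer_iff_isMulCommutative.mpr he.1 ha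
    · rintro _ ⟨a, ha, rfl⟩
      show (g * a * g⁻¹) ^ p = 1
      rw [conj_pow, he.2 a ha, mul_one, mul_inv_cancel]
  · intro N hNL hLN hN
    set N' := N.map (MulAut.conj g⁻¹).toMonoidHom with hN'
    have hgL' := conj_map_eq_of_mem_normalizer ((Subgroup.normalizer (L : Set G)).inv_mem hg)
    have h1 : N' ≤ L := (Subgroup.map_mono hNL).trans hgL'.le
    have h2 : L ≤ Subgroup.normalizer (N' : Set G) := by
      intro l hl
      rw [← hgL'] at hl
      obtain ⟨m, hm, rfl⟩ := hl
      refine mem_normalizer_of_conj_map_eq ?_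
      conv_rhs => rw [hN', ← conj_map_eq_of_mem_normalizer (hLN hm)]
      rw [hN', Subgroup.map_map, Subgroup.map_map]
      congr 1; ext v; simp [mul_assoc]
    have h3 := hr N' h1 h2 (by
      rintro _ ⟨x, hx, rfl⟩
      obtain ⟨k, hk⟩ := hN x hx
      refine ⟨k, ?_⟩
      show (g⁻¹ * x * g⁻¹⁻¹) ^ p ^ k ∈ _
      rw [conj_pow, inv_inv]
      exact (hcen _).mp hk)
    intro x hx
    exact (hcen x).mpr (by simpa using h3 ⟨x, hx, rfl⟩)

/-- For `L` normalised by `B ≥ L`: elements of order prime to `p` of `L` centralising `Y_B` centralise `Y_L`. -/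
theorem centralizes_step {B L : Subgroup G} (hLB : L ≤ B) (hn : B ≤ Subgroup.normalizer (L : Set G)) :
    ∀ y ∈ L, (orderOf y).Coprime p → y ∈ Subgroup.centralizer ((Cfsg.largestPReducedOf p B : Subgroup G) : Set G) →
      y ∈ Subgroup.centralizer ((Cfsg.largestPReducedOf p L : Subgroup G) : Set G) := by
  set YL := Cfsg.largestPReducedOf p L with hYL
  obtain ⟨hLY, heY, hrY⟩ := largestOf_spec (p := p) L
  suffices h : ∀ n (V : Subgroup G), Nat.card ↥V = n → V ≤ YL → B ≤ Subgroup.normalizer (V : Set G) →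
      (∀ y ∈ L, (orderOf y).Coprime p → y ∈ Subgroup.centralizer (V : Set G) → y ∈ Subgroup.centralizer (YL : Set G)) →
      ∀ y ∈ L, (orderOf y).Coprime p → y ∈ Subgroup.centralizer ((Cfsg.largestPReducedOf p B : Subgroup G) : Set G) →
        y ∈ Subgroup.centralizer (V : Set G) from
    h _ YL rfl le_rfl (hn.trans (normalizer_le_largestOf L)) fun y _ _ h => h
  intro n
  induction n using Nat.strong_induction_on with
  | _ n ih =>
    intro V hVn hVY hBV hstar y hy hyc hyB
    have hVB : V ≤ B := hVY.trans ((largestOf_le L).trans hLB)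
    have hVe := elementary_of_le heY hVY
    by_cases hred : ∀ N : Subgroup G, N ≤ B → B ≤ Subgroup.normalizer (N : Set G) →
        PMod p N (Subgroup.centralizer (V : Set G)) → N ≤ Subgroup.centralizer (V : Set G)
    · exact Subgroup.centralizer_le (SetLike.coe_subset_coe.mpr
        (le_largestOf hVB ((reduced_subgroupOf_iff hVB).mpr ⟨hBV, hVe, hred⟩))) hyB
    push_neg at hred
    obtain ⟨N, hNB, hBN, hNp, hNC⟩ := hred
    set V' := V ⊓ Subgroup.centralizer (N : Set G) with hV'
    have hlt : V' < V := lt_of_le_not_ge inf_le_left fun h => hNC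
      (Subgroup.le_centralizer_iff.mp (h.trans inf_le_right))
    have hcard : Nat.card ↥V' < n := hVn ▸ (by
      have := Set.Finite.card_lt_card (Set.toFinite (V : Set G)) (SetLike.coe_ssubset_coe.mpr hlt)
      simpa [Nat.card_coe_set_eq] using this)
    have hM : N ⊓ L ≤ Subgroup.centralizer (V : Set G) := by
      refine (hrY (N ⊓ L) inf_le_right (normalizer_inf_ge (hLB.trans hBN) Subgroup.le_normalizer) ?_).trans
        (Subgroup.centralizer_le (SetLike.coe_subset_coe.mpr hVY))
      refine pmod_of_coprime fun x hx hxc => ?_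
      exact hstar x hx.2 hxc (mem_of_pmod hNp hx.1 hxc)
    have key : ∀ z ∈ L, (orderOf z).Coprime p → z ∈ Subgroup.centralizer (V' : Set G) →
        z ∈ Subgroup.centralizer (V : Set G) := by
      intro z hz hzc hzV'
      have hcm : ∀ m ∈ N, ∀ v ∈ V, z * (m * v * m⁻¹) * z⁻¹ = m * (z * v * z⁻¹) * m⁻¹ := by
        intro m hm v hv
        have hd : m⁻¹ * z⁻¹ * m * z ∈ N ⊓ L := by
          refine Subgroup.mem_inf.mpr ⟨?_, ?_⟩
          · have h := (Subgroup.mem_normalizer_iff.mp (hBN (B.inv_mem (hLB hz))) m).mp hm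
            rw [inv_inv] at h
            simpa [mul_assoc] using N.mul_mem (N.inv_mem hm) h
          · have h := (Subgroup.mem_normalizer_iff.mp ((Subgroup.normalizer (L : Set G)).inv_mem (hn (hNB hm))) z⁻¹).mp
              (L.inv_mem hz)
            rw [inv_inv] at h
            exact L.mul_mem h hz
        have h2 : v * (m⁻¹ * z⁻¹ * m * z) = m⁻¹ * z⁻¹ * m * z * v := hM hd v hv
        calc z * (m * v * m⁻¹) * z⁻¹ = z * m * (v * (m⁻¹ * z⁻¹ * m * z)) * (z⁻¹ * m⁻¹) := by group
          _ = z * m * (m⁻¹ * z⁻¹ * m * z * v) * (z⁻¹ * m⁻¹) := by rw [h2]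
          _ = _ := by group
      have hzV : z ∈ Subgroup.normalizer (V : Set G) := hBV (hLB hz)
      let I : Subgroup G :=
        { carrier := {u | ∃ v ∈ V, ⁅z, v⁆ = u}
          one_mem' := ⟨1, V.one_mem, by simp⟩
          mul_mem' := by
            rintro _ _ ⟨a, ha, rfl⟩ ⟨b, hb, rfl⟩
            refine ⟨a * b, V.mul_mem ha hb, ?_⟩
            have hzb : ⁅z, b⁆ ∈ V := V.mul_mem ((Subgroup.mem_normalizer_iff.mp hzV b).mp hb) (V.inv_mem hb)
            have h1 : ⁅z, a * b⁆ = ⁅z, a⁆ * (a * ⁅z, b⁆ * a⁻¹) := by simp only [commutatorElement_def]; group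
            rw [h1, commute_of_elementary hVe ha hzb, mul_inv_cancel_right]
          inv_mem' := by
            rintro _ ⟨a, ha, rfl⟩
            refine ⟨a⁻¹, V.inv_mem ha, ?_⟩
            have hza : ⁅z, a⁆⁻¹ ∈ V :=
              V.inv_mem (V.mul_mem ((Subgroup.mem_normalizer_iff.mp hzV a).mp ha) (V.inv_mem ha))
            have h1 : ⁅z, a⁻¹⁆ = a⁻¹ * ⁅z, a⁆⁻¹ * a := by simp only [commutatorElement_def]; group
            rw [h1, commute_of_elementary hVe (V.inv_mem ha) hza, inv_mul_cancel_right] }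
      have hIV : I ≤ V := by
        rintro _ ⟨v, hv, rfl⟩
        exact V.mul_mem ((Subgroup.mem_normalizer_iff.mp hzV v).mp hv) (V.inv_mem hv)
      suffices hI : I = ⊥ by
        intro v hv
        have : ⁅z, v⁆ = 1 := Subgroup.mem_bot.mp (hI ▸ ⟨v, hv, rfl⟩)
        exact (commutatorElement_eq_one_iff_mul_comm.mp this).symm
      by_contra hI
      obtain ⟨P⟩ := (inferInstance : Nonempty (Sylow p ↥N))
      have hPI : (P : Subgroup ↥N).map N.subtype ≤ Subgroup.normalizer (I : Set G) := by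
        rintro _ ⟨m, -, rfl⟩
        refine mem_normalizer_of_conj_map_eq (Subgroup.eq_of_le_of_card_ge ?_
          (Subgroup.card_map_of_injective (MulEquiv.injective _)).ge)
        rintro _ ⟨_, ⟨v, hv, rfl⟩, rfl⟩
        refine ⟨(m : G) * v * (m : G)⁻¹, (Subgroup.mem_normalizer_iff.mp (hBV (hNB m.2)) v).mp hv, ?_⟩
        show ⁅z, (m : G) * v * (m : G)⁻¹⁆ = (m : G) * ⁅z, v⁆ * (m : G)⁻¹
        rw [commutatorElement_def, hcm _ m.2 v hv, commutatorElement_def]
        group
      obtain ⟨⟨u, hu⟩, hu1⟩ := Subgroup.ne_bot_iff_exists_ne_one.mp (CfsgLib.Large.inf_centralizer_ne_bot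
        (P.2.map N.subtype) ((isPGroup_of_elementary hVe).to_le hIV) hPI hI)
      obtain ⟨⟨v, hv, hvu⟩, huP⟩ := Subgroup.mem_inf.mp hu
      have huV : u ∈ V := hIV ⟨v, hv, hvu⟩
      have hNu : N ≤ Subgroup.centralizer ({u} : Set G) := by
        intro m hm
        have hm' : (⟨m, hm⟩ : ↥N) ∈ (Subgroup.centralizer ({u} : Set G)).subgroupOf N := by
          have : (P : Subgroup ↥N) ⊔ Cfsg.pResidual p ↥N ≤ (Subgroup.centralizer ({u} : Set G)).subgroupOf N := by
            refine sup_le (fun x hx => Subgroup.mem_subgroupOf.mpr (Subgroup.mem_centralizer_singleton_iff.mpr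
              (huP (x : G) ⟨x, hx, rfl⟩))) ((Subgroup.closure_le _).mpr fun x hx => ?_)
            refine Subgroup.mem_subgroupOf.mpr (Subgroup.mem_centralizer_singleton_iff.mpr ?_)
            exact (mem_of_pmod hNp x.2 (by rw [Subgroup.orderOf_coe]; exact hx) u huV).symm
          rw [CfsgLib.PResidual.sup_pResidual_eq_top P] at this
          exact this (Subgroup.mem_top _)
        exact Subgroup.mem_subgroupOf.mp hm'
      have huV' : u ∈ V' := Subgroup.mem_inf.mpr ⟨huV, fun m hm =>
        Subgroup.mem_centralizer_singleton_iff.mp (hNu hm)⟩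
      have h := commute_of_step hVe hzc (hvu ▸ huV) (hvu ▸ (hzV' u huV').symm)
      refine hu1 (Subtype.ext ?_)
      show u = 1
      rw [← hvu, commutatorElement_eq_one_iff_mul_comm]
      exact h
    have hBV' : B ≤ Subgroup.normalizer (V' : Set G) := normalizer_inf_ge hBV (normalizer_centralizer_ge hBN)
    exact key y hy hyc (ih _ hcard V' rfl (inf_le_left.trans hVY) hBV'
      (fun w hw hwc hwV => hstar w hw hwc (key w hw hwc hwV)) y hy hyc hyB)

theorem largestOf_top : Cfsg.largestPReducedOf p (⊤ : Subgroup G) = Cfsg.largestPReduced p G := by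
  refine le_antisymm (le_largest ?_) ?_
  · obtain ⟨h1, h2, h3⟩ := largestOf_spec (p := p) (⊤ : Subgroup G)
    refine reduced_iff.mpr ⟨Subgroup.normalizer_eq_top_iff.mp (eq_top_iff.mpr h1), h2, fun N hN hpN => h3 N le_top ?_ hpN⟩
    rw [Subgroup.normalizer_eq_top]
  · obtain ⟨h1, h2, h3⟩ := reduced_iff.mp (reduced_largest (p := p) (G := G))
    refine le_largestOf le_top ((reduced_subgroupOf_iff le_top).mpr ⟨?_, h2, fun N _ hN hpN => h3 N ?_ hpN⟩)
    · haveI := h1
      rw [Subgroup.normalizer_eq_top]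
    · exact Subgroup.normalizer_eq_top_iff.mp (eq_top_iff.mpr hN)

/-- An element of order prime to `p` of a subnormal `L` centralising `Y_G` centralises `Y_L`. -/
theorem centralizes_largest {L : Subgroup G} (hL : L.IsSubnormal) : ∀ y ∈ L, (orderOf y).Coprime p →
    y ∈ Subgroup.centralizer ((Cfsg.largestPReduced p G : Subgroup G) : Set G) →
      y ∈ Subgroup.centralizer ((Cfsg.largestPReducedOf p L : Subgroup G) : Set G) := by
  induction hL with
  | top => intro y _ _ h; rw [largestOf_top]; exact h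
  | step A B hle hB hN ih =>
    intro y hy hc h
    exact centralizes_step hle ((Subgroup.normal_subgroupOf_iff_le_normalizer hle).mp hN) y hy hc (ih y (hle hy) hc h)

theorem isSubnormal_of_normalized {L N : Subgroup G} (hL : L.IsSubnormal) (hNL : N ≤ L)
    (hn : L ≤ Subgroup.normalizer (N : Set G)) : N.IsSubnormal :=
  Subgroup.IsSubnormal.step N L hNL hL ((Subgroup.normal_subgroupOf_iff_le_normalizer hNL).mpr hn)

end CfsgLib.ReducedSubnormal
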