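import Mathlib
import Cfsg.Agent.Lib.Linear.Card
import Cfsg.Agent.Lib.SpectrumExt

/-! `(F²)^k ⋊ SL₂(F)` in characteristic two has the prime graph of `SL₂(F)`. -/

namespace CfsgLib.SL2PrimeGraph

open Matrix
open scoped MatrixGroups

universe u

variable {F : Type u} [Field F]

theorem sq_eq (g : SL(2, F)) :
    (g : Matrix (Fin 2) (Fin 2) F) * g =
      ((g : Matrix (Fin 2) (Fin 2) F) 0 0 + (g : Matrix (Fin 2) (Fin 2) F) 1 1) •
        (g : Matrix (Fin 2) (Fin 2) F) - 1 := by
  have hd : (g : Matrix (Fin 2) (Fin 2) F) 0 0 * (g : Matrix (Fin 2) (Fin 2) F) 1 1 -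
      (g : Matrix (Fin 2) (Fin 2) F) 0 1 * (g : Matrix (Fin 2) (Fin 2) F) 1 0 = 1 := by
    have := g.det_coe
    rwa [Matrix.det_fin_two] at this
  ext i j
  fin_cases i <;> fin_cases j <;> simp [Matrix.mul_apply, Fin.sum_univ_two]
  · linear_combination -hd
  · ring
  · ring
  · linear_combination -hd

variable [CharP F 2]

theorem fixed_sq (g : SL(2, F)) {v : Fin 2 → F} (hv : (g : Matrix (Fin 2) (Fin 2) F) *ᵥ v = v) (hv0 : v ≠ 0) :
    g * g = 1 := by
  set τ := (g : Matrix (Fin 2) (Fin 2) F) 0 0 + (g : Matrix (Fin 2) (Fin 2) F) 1 1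
  have h := congrArg (fun A : Matrix (Fin 2) (Fin 2) F => A *ᵥ v) (sq_eq g)
  simp only [← Matrix.mulVec_mulVec, hv, Matrix.sub_mulVec, Matrix.smul_mulVec, Matrix.one_mulVec] at h
  have hτ : τ = 0 := by
    by_contra hne
    refine hv0 (funext fun i => ?_)
    have := congrFun h i
    simp only [Pi.sub_apply, Pi.smul_apply, smul_eq_mul] at this
    have h2 : τ * v i = 0 := by linear_combination -this + v i * (CharTwo.two_eq_zero : (2 : F) = 0)
    exact (mul_eq_zero.1 h2).resolve_left hne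
  apply Subtype.ext
  show (g : Matrix (Fin 2) (Fin 2) F) * g = 1
  rw [sq_eq g]
  show τ • (g : Matrix (Fin 2) (Fin 2) F) - 1 = 1
  rw [hτ, zero_smul, zero_sub]
  ext i j
  exact CharTwo.neg_eq _

/-- the natural module, written multiplicatively -/
noncomputable def act : SL(2, F) →* MulAut (Multiplicative (Fin 2 → F)) where
  toFun g := (SpecialLinearGroup.toLin' g).toAddEquiv.toMultiplicative
  map_one' := by ext v; simp
  map_mul' a b := by ext v; simp

theorem act_apply (g : SL(2, F)) (v : Multiplicative (Fin 2 → F)) :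
    act g v = Multiplicative.ofAdd ((g : Matrix (Fin 2) (Fin 2) F) *ᵥ v.toAdd) := rfl

variable [Fintype F]

theorem two_dvd : 2 ∣ Nat.card SL(2, F) := by
  have hd : (!![1, 1; 0, 1] : Matrix (Fin 2) (Fin 2) F).det = 1 := by simp [Matrix.det_fin_two]
  let u : SL(2, F) := ⟨!![1, 1; 0, 1], hd⟩
  have hu : orderOf u = 2 := by
    refine orderOf_eq_prime ?_ fun h => ?_
    · rw [sq]
      apply Subtype.ext
      show (u : Matrix (Fin 2) (Fin 2) F) * u = 1
      ext i j; fin_cases i <;> fin_cases j <;> simp [u, Matrix.mul_apply, Fin.sum_univ_two,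
        CharTwo.add_self_eq_zero]
    · have := congrArg (fun z : SL(2, F) => (z : Matrix (Fin 2) (Fin 2) F) 0 1) h
      simp [u] at this
  have := orderOf_dvd_natCard u
  rwa [hu] at this

/-- arbitrarily large groups with the prime graph of `SL₂(F)` -/
theorem exists_large' (N : ℕ) : ∃ (H : Type u) (_ : Group H) (_ : Finite H), N < Nat.card H ∧
    (∀ p : ℕ, p.Prime → (p ∣ Nat.card SL(2, F) ↔ p ∣ Nat.card H)) ∧
    (∀ p q : ℕ, p.Prime → q.Prime → p ≠ q →
      ((∃ g : SL(2, F), orderOf g = p * q) ↔ ∃ g : H, orderOf g = p * q)) := by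
  let V := Multiplicative (Fin 2 → F)
  let φ := CfsgLib.SpectrumExt.piAut (Fin N) (act (F := F))
  let H := (Fin N → V) ⋊[φ] SL(2, F)
  haveI : Finite H := Finite.of_equiv _ SemidirectProduct.equivProd.symm
  have hcard : Nat.card H = (Fintype.card F ^ 2) ^ N * Nat.card SL(2, F) := by
    show Nat.card ((Fin N → V) ⋊[φ] SL(2, F)) = _
    rw [SemidirectProduct.card, Nat.card_fun, Nat.card_congr (Multiplicative.toAdd (α := Fin 2 → F))]
    simp [Nat.card_eq_fintype_card]
  have h2v : ∀ v : Fin N → V, v * v = 1 := fun v => funext fun i => by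
    apply Multiplicative.toAdd.injective
    exact funext fun j => CharTwo.add_self_eq_zero _
  refine ⟨H, inferInstance, inferInstance, ?_, fun p hp => ⟨fun h => ?_, fun h => ?_⟩,
    fun p q hp hq hne => ⟨fun ⟨g, hg⟩ => ?_, fun ⟨z, hz⟩ => ?_⟩⟩
  · rw [hcard]
    have h4 : 2 ≤ Fintype.card F ^ 2 := by
      have := Fintype.one_lt_card (α := F)
      nlinarith
    calc N < 2 ^ N := Nat.lt_two_pow_self
      _ ≤ (Fintype.card F ^ 2) ^ N := Nat.pow_le_pow_left h4 N
      _ ≤ _ := Nat.le_mul_of_pos_right _ Nat.card_pos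
  · rw [hcard]; exact h.trans (Dvd.intro_left _ rfl)
  · rw [hcard] at h
    rcases hp.dvd_mul.1 h with h | h
    · obtain ⟨n, -, hn⟩ := FiniteField.card F 2
      rw [hn, ← pow_mul, ← pow_mul] at h
      rw [(Nat.prime_dvd_prime_iff_eq hp Nat.prime_two).1 (hp.dvd_of_dvd_pow h)]
      exact two_dvd
    · exact h
  · exact ⟨SemidirectProduct.inr g, (orderOf_injective _ SemidirectProduct.inr_injective g).trans hg⟩
  · by_cases hsq : z.right * z.right = 1
    · exfalso
      have h4 : z ^ 4 = 1 := by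
        have hr : (z ^ 2).right = 1 := by
          rw [← SemidirectProduct.rightHom_eq_right, map_pow, sq]; exact hsq
        rw [show 4 = 2 * 2 from rfl, pow_mul, sq (z ^ 2)]
        refine SemidirectProduct.ext ?_ (by rw [SemidirectProduct.mul_right, hr, mul_one, SemidirectProduct.one_right])
        rw [SemidirectProduct.mul_left, hr, map_one, MulAut.one_apply, h2v, SemidirectProduct.one_left]
      have hd := orderOf_dvd_of_pow_eq_one h4
      rw [hz] at hd
      have e1 := (Nat.prime_dvd_prime_iff_eq hp Nat.prime_two).1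
        (hp.dvd_of_dvd_pow (n := 2) ((Dvd.intro q rfl).trans hd))
      have e2 := (Nat.prime_dvd_prime_iff_eq hq Nat.prime_two).1
        (hq.dvd_of_dvd_pow (n := 2) ((Dvd.intro_left p rfl).trans hd))
      exact hne (e1.trans e2.symm)
    · refine ⟨z.right, ?_⟩
      rw [← CfsgLib.SpectrumExt.orderOf_eq_right_of_fpf φ z ?_]
      · exact hz
      intro v hv
      funext i
      by_contra hvi
      refine hsq (fixed_sq z.right (v := (v i).toAdd) ?_ ?_)
      · have := congrFun hv i
        rw [CfsgLib.SpectrumExt.piAut_apply, act_apply] at this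
        exact congrArg Multiplicative.toAdd this
      · exact fun h => hvi (Multiplicative.toAdd.injective h)

/-- the same, in `Type` -/
theorem exists_large (N : ℕ) : ∃ (H : Type) (_ : Group H) (_ : Finite H), N < Nat.card H ∧
    (∀ p : ℕ, p.Prime → (p ∣ Nat.card SL(2, F) ↔ p ∣ Nat.card H)) ∧
    (∀ p q : ℕ, p.Prime → q.Prime → p ≠ q →
      ((∃ g : SL(2, F), orderOf g = p * q) ↔ ∃ g : H, orderOf g = p * q)) := by
  obtain ⟨H, _, _, hN, hp, hpq⟩ := exists_large' (F := F) N
  obtain ⟨K, hg, hf, ⟨e⟩⟩ := CfsgLib.SpectrumExt.exists_type0 H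
  refine ⟨K, hg, inferInstance, by rwa [Nat.card_congr e.toEquiv], fun p h => ?_, fun p q h1 h2 h3 => ?_⟩
  · rw [Nat.card_congr e.toEquiv]; exact hp p h
  · rw [hpq p q h1 h2 h3]
    exact ⟨fun ⟨g, hg⟩ => ⟨e.symm g, by rw [MulEquiv.orderOf_eq, hg]⟩,
      fun ⟨g, hg⟩ => ⟨e g, by rw [MulEquiv.orderOf_eq, hg]⟩⟩

omit [Fintype F] in
/-- in characteristic two `SL₂ = PSL₂` -/
theorem pslEquiv : Nonempty (SL(2, F) ≃* Matrix.ProjectiveSpecialLinearGroup (Fin 2) F) := by
  refine ⟨MulEquiv.ofBijective (QuotientGroup.mk' (Subgroup.center SL(2, F))) ⟨?_, QuotientGroup.mk'_surjective _⟩⟩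
  rw [← MonoidHom.ker_eq_bot_iff, QuotientGroup.ker_mk', Subgroup.eq_bot_iff_forall]
  intro g hg
  obtain ⟨r, hr, hrg⟩ := Matrix.SpecialLinearGroup.mem_center_iff.1 hg
  rw [Fintype.card_fin] at hr
  have : r = 1 := by
    have h : (r + 1) * (r + 1) = 0 := by linear_combination hr + (r + 1) * (CharTwo.two_eq_zero : (2 : F) = 0)
    exact CharTwo.add_eq_zero.1 (mul_self_eq_zero.1 h)
  apply Subtype.ext
  rw [← hrg, this, map_one]
  rfl

end CfsgLib.SL2PrimeGraph
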