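import Cfsg.Agent.Lib.Involution
import Cfsg.Prelude.Def_Involutions

/-! Elementary characterisations of strongly embedded subgroups. -/

set_option autoImplicit false

namespace CfsgLib.StronglyEmbedded

open CfsgLib.Involution

variable {G : Type*} [Group G] [Finite G] {H : Subgroup G}

theorem mem_of_conj_mem (hSE : Cfsg.IsStronglyEmbedded H) {t g : G} (ht : orderOf t = 2) (htH : t ∈ H)
    (hg : g⁻¹ * t * g ∈ H) : g ∈ H := by
  by_contra hgH
  have hmem : t ∈ H ⊓ H.map (MulAut.conj g).toMonoidHom :=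
    ⟨htH, g⁻¹ * t * g, hg, by simp [mul_assoc]⟩
  have h1 := Subgroup.orderOf_dvd_natCard _ hmem
  rw [ht] at h1
  exact (hSE.2.2 g hgH).not_two_dvd_nat h1

theorem of_conj_mem (hH : H ≠ ⊤) (heven : Even (Nat.card H))
    (h : ∀ t ∈ H, orderOf t = 2 → ∀ g : G, g⁻¹ * t * g ∈ H → g ∈ H) :
    Cfsg.IsStronglyEmbedded H := by
  refine ⟨hH, heven, fun g hg => ?_⟩
  by_contra hodd
  rw [Nat.not_odd_iff_even, even_iff_two_dvd] at hodd
  obtain ⟨⟨t, ht0⟩, ht⟩ := exists_prime_orderOf_dvd_card' 2 hodd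
  rw [Subgroup.orderOf_mk] at ht
  obtain ⟨htH, w, hw, hwt⟩ := Subgroup.mem_inf.mp ht0
  refine hg (h t htH ht g ?_)
  rw [← hwt]
  simpa [mul_assoc] using hw

theorem iff_conj_mem (hH : H ≠ ⊤) (heven : Even (Nat.card H)) :
    Cfsg.IsStronglyEmbedded H ↔ ∀ t ∈ H, orderOf t = 2 → ∀ g : G, g⁻¹ * t * g ∈ H → g ∈ H :=
  ⟨fun hSE _ htH ht _ hg => mem_of_conj_mem hSE ht htH hg, of_conj_mem hH heven⟩

theorem centralizer_le (hSE : Cfsg.IsStronglyEmbedded H) {t : G} (ht : orderOf t = 2) (htH : t ∈ H) :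
    Subgroup.centralizer ({t} : Set G) ≤ H := fun c hc => by
  refine mem_of_conj_mem hSE ht htH ?_
  rw [Subgroup.mem_centralizer_singleton_iff] at hc
  rwa [mul_assoc, ← hc, inv_mul_cancel_left]

end CfsgLib.StronglyEmbedded
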