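import Mathlib
import Cfsg.Agent.Lib.Involution
import Cfsg.Agent.Lib.Isolated
import Cfsg.Agent.Lib.StronglyEmbedded

/-! The action on the cosets of a strongly embedded subgroup. -/

namespace CfsgLib.StronglyEmbedded

open CfsgLib.Involution

variable {G : Type*} [Group G] [Finite G] {H : Subgroup G}

theorem smul_mk_eq_iff {t a : G} : t • (a : G ⧸ H) = a ↔ a⁻¹ * t * a ∈ H := by
  rw [eq_comm, MulAction.Quotient.smul_coe, QuotientGroup.eq, smul_eq_mul, mul_assoc]

/-- An involution fixes at most one coset. -/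
theorem fixed_unique (hSE : Cfsg.IsStronglyEmbedded H) {t : G} (ht : orderOf t = 2) {x y : G ⧸ H}
    (hx : t • x = x) (hy : t • y = y) : x = y := by
  obtain ⟨a, rfl⟩ := QuotientGroup.mk_surjective x
  obtain ⟨b, rfl⟩ := QuotientGroup.mk_surjective y
  rw [smul_mk_eq_iff] at hx hy
  rw [QuotientGroup.eq]
  refine mem_of_conj_mem hSE (t := a⁻¹ * t * a) ?_ hx ?_
  · simpa using orderOf_conj' (g := a⁻¹) ht
  · simpa [mul_assoc] using hy

theorem involution_smul_smul {z : G} (hz : orderOf z = 2) (x : G ⧸ H) : z • z • x = x := by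
  rw [smul_smul, CfsgLib.Involution.mul_self hz, one_smul]

/-- If `s` fixes `x` and `z` moves it then `z * s` has odd order. -/
theorem odd_of_moves (hSE : Cfsg.IsStronglyEmbedded H) {s z : G} (hs : orderOf s = 2)
    (hz : orderOf z = 2) {x : G ⧸ H} (hsx : s • x = x) (hzx : z • x ≠ x) :
    Odd (orderOf (z * s)) := by
  rw [← Nat.not_even_iff_odd]
  intro he
  obtain ⟨hw, hwz, hws⟩ := central_involution hz hs he
  set w := (z * s) ^ (orderOf (z * s) / 2)
  have h1 : w • x = x :=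
    fixed_unique hSE hs (by rw [smul_smul, ← hws.eq, mul_smul, hsx]) hsx
  refine hzx (fixed_unique hSE hw ?_ h1)
  rw [smul_smul, hwz.eq, mul_smul, h1]

theorem exists_involution_fixing (hSE : Cfsg.IsStronglyEmbedded H) (x : G ⧸ H) :
    ∃ s : G, orderOf s = 2 ∧ s • x = x := by
  obtain ⟨a, rfl⟩ := QuotientGroup.mk_surjective x
  obtain ⟨⟨t, htH⟩, ht⟩ := exists_prime_orderOf_dvd_card' 2 (even_iff_two_dvd.1 hSE.2.1)
  rw [Subgroup.orderOf_mk] at ht
  refine ⟨a * t * a⁻¹, orderOf_conj' ht, smul_mk_eq_iff.2 ?_⟩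
  simpa [mul_assoc] using htH

theorem exists_ne_coset (hSE : Cfsg.IsStronglyEmbedded H) (x : G ⧸ H) : ∃ y, y ≠ x := by
  by_contra h
  push Not at h
  refine hSE.1 ((Subgroup.eq_top_iff' H).2 fun g => ?_)
  have := (h (g : G ⧸ H)).trans (h ((1 : G) : G ⧸ H)).symm
  simpa using (QuotientGroup.eq.1 this.symm)

/-- All involutions are conjugate. -/
theorem isConj_of_involutions (hSE : Cfsg.IsStronglyEmbedded H) {a b : G} (ha : orderOf a = 2)
    (hb : orderOf b = 2) : IsConj a b := by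
  suffices h : ∀ s : G, orderOf s = 2 → ∀ x : G ⧸ H, s • x = x → ∀ c : G, orderOf c = 2 →
      IsConj c s by
    obtain ⟨s, hs, hsx⟩ := exists_involution_fixing hSE ((1 : G) : G ⧸ H)
    exact (h s hs _ hsx a ha).trans (h s hs _ hsx b hb).symm
  intro s hs x hsx c hc
  by_cases hcx : c • x = x
  · obtain ⟨y, hy⟩ := exists_ne_coset hSE x
    obtain ⟨s', hs', hs'y⟩ := exists_involution_fixing hSE y
    have h1 : c • y ≠ y := fun h => hy (fixed_unique hSE hc h hcx)
    have h2 : s • y ≠ y := fun h => hy (fixed_unique hSE hs h hsx)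
    exact (isConj_of_odd hc hs' (odd_of_moves hSE hs' hc hs'y h1)).trans
      (isConj_of_odd hs hs' (odd_of_moves hSE hs' hs hs'y h2)).symm
  · exact isConj_of_odd hc hs (odd_of_moves hSE hs hc hsx hcx)

/-- For `s` fixing `x`, every involution fixing `y ≠ x` is `z s z` for an involution `z : x ↦ y`. -/
theorem exists_swap (hSE : Cfsg.IsStronglyEmbedded H) {s i : G} (hs : orderOf s = 2)
    (hi : orderOf i = 2) {x y : G ⧸ H} (hsx : s • x = x) (hiy : i • y = y) (hxy : x ≠ y) :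
    ∃ z : G, orderOf z = 2 ∧ z • x = y ∧ z * s * z = i := by
  have hodd := odd_of_moves hSE hs hi hsx (fun h => hxy (fixed_unique hSE hi h hiy))
  obtain ⟨m, hm⟩ := id hodd
  set r := (i * s) ^ (m + 1) with hr
  have hr2 : r * r = i * s := by
    rw [hr, ← pow_add, show m + 1 + (m + 1) = orderOf (i * s) + 1 by omega, pow_succ,
      pow_orderOf_eq_one, one_mul]
  have hsr : s * r * s = r⁻¹ := by
    conv_lhs => arg 2; rw [← inv_eq hs]
    rw [hr, ← conj_pow, ← inv_pow]
    congr 1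
    rw [inv_eq hs, mul_inv_rev, inv_eq hs, inv_eq hi, mul_assoc, mul_assoc,
      CfsgLib.Involution.mul_self hs, mul_one]
  have hzz : r * s * (r * s) = 1 := by
    rw [show r * s * (r * s) = r * (s * r * s) by group, hsr, mul_inv_cancel]
  have hz1 : r * s ≠ 1 := fun h => by
    have h1 : r = s := by rw [eq_inv_of_mul_eq_one_left h, inv_eq hs]
    have h2 : Odd (orderOf r) := hodd.of_dvd_nat (orderOf_pow_dvd _)
    rw [h1, hs] at h2
    exact absurd h2 (by decide)
  have hz := orderOf_eq_two hzz hz1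
  have hzsz : r * s * s * (r * s) = i := by
    rw [mul_assoc r s s, CfsgLib.Involution.mul_self hs, mul_one, ← mul_assoc, hr2, mul_assoc,
      CfsgLib.Involution.mul_self hs, mul_one]
  refine ⟨r * s, hz, fixed_unique hSE hi ?_ hiy, hzsz⟩
  nth_rewrite 1 [← hzsz]
  rw [mul_smul, mul_smul (r * s) s, involution_smul_smul hz, hsx]

/-- Involutions carrying `x` to `y ≠ x` correspond to involutions fixing `y`. -/
theorem card_swap (hSE : Cfsg.IsStronglyEmbedded H) {x y : G ⧸ H} (hxy : x ≠ y) :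
    Nat.card {z : G // orderOf z = 2 ∧ z • x = y} = Nat.card {i : G // orderOf i = 2 ∧ i • y = y} := by
  obtain ⟨s, hs, hsx⟩ := exists_involution_fixing hSE x
  refine Nat.card_eq_of_bijective (fun z => ⟨z.1 * s * z.1, ?_, ?_⟩) ⟨?_, ?_⟩
  · have := orderOf_conj' (g := z.1) hs
    rwa [inv_eq z.2.1] at this
  · have hzy : (z : G) • y = x :=
      (congrArg ((z : G) • ·) z.2.2).symm.trans (involution_smul_smul z.2.1 x)
    rw [mul_smul, mul_smul, hzy, hsx, z.2.2]
  · rintro ⟨z, hz, hzx⟩ ⟨w, hw, hwx⟩ h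
    have h' : z * s * z = w * s * w := congrArg Subtype.val h
    have hsq : (z * s) ^ 2 = (w * s) ^ 2 := by
      rw [pow_two, pow_two, ← mul_assoc, ← mul_assoc, h']
    exact Subtype.ext (mul_right_cancel (CfsgLib.Isolated.eq_of_sq_eq
      (odd_of_moves hSE hs hz hsx (by rw [hzx]; exact hxy.symm))
      (odd_of_moves hSE hs hw hsx (by rw [hwx]; exact hxy.symm)) hsq))
  · rintro ⟨i, hi, hiy⟩
    obtain ⟨z, hz, hzx, hzs⟩ := exists_swap hSE hs hi hsx hiy hxy
    exact ⟨⟨z, hz, hzx⟩, Subtype.ext hzs⟩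

theorem card_fixing (y : G ⧸ H) :
    Nat.card {i : G // orderOf i = 2 ∧ i • y = y} = Nat.card {t : G // orderOf t = 2 ∧ t ∈ H} := by
  obtain ⟨a, rfl⟩ := QuotientGroup.mk_surjective y
  refine Nat.card_congr ((MulAut.conj a⁻¹).toEquiv.subtypeEquiv fun t => ?_)
  show _ ↔ orderOf (a⁻¹ * t * a⁻¹⁻¹) = 2 ∧ a⁻¹ * t * a⁻¹⁻¹ ∈ H
  rw [CfsgLib.Involution.orderOf_conj, inv_inv, smul_mk_eq_iff]

/-- Involutions of `H` are conjugate by the elements fixing `H` and `u H`. -/
theorem conj_by_two_point (hSE : Cfsg.IsStronglyEmbedded H) {u : G} (huH : u ∉ H) {s t : G}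
    (hs : orderOf s = 2) (hsH : s ∈ H) (ht : orderOf t = 2) (htH : t ∈ H) :
    ∃ d ∈ (H ⊓ H.map (MulAut.conj u).toMonoidHom), d * s * d⁻¹ = t := by
  let x : G ⧸ H := ((1 : G) : G ⧸ H)
  let y : G ⧸ H := (u : G ⧸ H)
  have hxy : x ≠ y := fun h => huH (by simpa using QuotientGroup.eq.1 h)
  have hfix : ∀ {g : G}, g ∈ H → g • x = x := fun hg => smul_mk_eq_iff.2 (by simpa using hg)
  obtain ⟨w, hw, hwy⟩ := exists_involution_fixing hSE y
  obtain ⟨z, hz, hzx, hzs⟩ := exists_swap hSE hs hw (hfix hsH) hwy hxy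
  obtain ⟨z', hz', hz'x, hz't⟩ := exists_swap hSE ht hw (hfix htH) hwy hxy
  have hd1 : (z' * z) • x = x := by
    rw [mul_smul, hzx, ← hz'x, involution_smul_smul hz']
  have hd2 : (z' * z) • y = y := by
    rw [mul_smul, ← hzx, involution_smul_smul hz, hz'x, hzx]
  refine ⟨z' * z, Subgroup.mem_inf.2 ⟨?_, u⁻¹ * (z' * z) * u, ?_, by simp [mul_assoc]⟩, ?_⟩
  · simpa using smul_mk_eq_iff.1 hd1
  · exact smul_mk_eq_iff.1 hd2
  · rw [mul_inv_rev, inv_eq hz, inv_eq hz', show z' * z * s * (z * z') = z' * (z * s * z) * z' by group,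
      hzs, ← hz't]
    rw [show z' * (z' * t * z') * z' = z' * z' * t * (z' * z') by group,
      CfsgLib.Involution.mul_self hz', one_mul, mul_one]

end CfsgLib.StronglyEmbedded
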