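import Cfsg.Agent.Lib.GroupB.Subnormal
import Cfsg.Agent.Lib.PResidual
import Cfsg.Agent.Lib.PLocal.ProductSet
import Mathlib.GroupTheory.Transfer

/-! Wielandt: residuals and Sylow subgroups of a join of subnormal subgroups (owner helper5). -/

set_option autoImplicit false

namespace CfsgLib.SubnormalSylow

open scoped Pointwise commutatorElement
open CfsgLib.GroupB.Coprime

universe u

variable {G : Type u} [Group G]

/-- `O^p(A)` as a subgroup of the ambient group. -/
def res (p : ℕ) (A : Subgroup G) : Subgroup G := Subgroup.closure {x : G | x ∈ A ∧ (orderOf x).Coprime p}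

theorem res_le (p : ℕ) (A : Subgroup G) : res p A ≤ A := (Subgroup.closure_le _).mpr fun _ h => h.1

theorem mem_res {p : ℕ} {A : Subgroup G} {x : G} (h : x ∈ A) (hx : (orderOf x).Coprime p) : x ∈ res p A :=
  Subgroup.subset_closure ⟨h, hx⟩

theorem res_res (p : ℕ) (A : Subgroup G) : res p (res p A) = res p A :=
  le_antisymm (res_le _ _) ((Subgroup.closure_le _).mpr fun _ h => mem_res (mem_res h.1 h.2) h.2)

theorem res_mono {p : ℕ} {A B : Subgroup G} (h : A ≤ B) : res p A ≤ res p B :=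
  Subgroup.closure_mono fun _ hx => ⟨h hx.1, hx.2⟩

theorem map_res_le {G' : Type*} [Group G'] (f : G →* G') (p : ℕ) (A : Subgroup G) :
    (res p A).map f ≤ res p (A.map f) := by
  rw [res, MonoidHom.map_closure, Subgroup.closure_le]
  rintro _ ⟨x, ⟨hx, hxc⟩, rfl⟩
  exact mem_res ⟨x, hx, rfl⟩ (Nat.Coprime.coprime_dvd_left (orderOf_map_dvd f x) hxc)

theorem conj_res_le (p : ℕ) (A : Subgroup G) (g : G) :
    (res p A).map (MulAut.conj g).toMonoidHom ≤ res p (A.map (MulAut.conj g).toMonoidHom) := map_res_le _ p A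

theorem mem_normalizer_res [Finite G] (p : ℕ) {A : Subgroup G} {g : G} (hg : g ∈ Subgroup.normalizer (A : Set G)) :
    g ∈ Subgroup.normalizer (res p A : Set G) := by
  refine mem_normalizer_iff_map_conj_eq.mpr (Subgroup.eq_of_le_of_card_ge ?_
    (Subgroup.card_map_of_injective (f := (MulAut.conj g).toMonoidHom) (MulAut.conj g).injective).ge)
  have h := conj_res_le p A g
  rwa [mem_normalizer_iff_map_conj_eq.mp hg] at h

theorem mem_zpowers_pow_of_coprime {x : G} {m : ℕ} (h : (orderOf x).Coprime m) : x ∈ Subgroup.zpowers (x ^ m) := by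
  obtain ⟨j, hj⟩ := exists_pow_eq_self_of_coprime h.symm
  exact ⟨j, by simpa [zpow_natCast] using hj⟩

/-- A subgroup containing a `p`-power of every element of `A` contains `O^p(A)`. -/
theorem res_le_of {p : ℕ} {A V : Subgroup G} (h : ∀ a ∈ A, ∃ k : ℕ, a ^ p ^ k ∈ V) : res p A ≤ V := by
  refine (Subgroup.closure_le _).mpr fun x hx => ?_
  obtain ⟨k, hk⟩ := h x hx.1
  exact Subgroup.zpowers_le.mpr hk (mem_zpowers_pow_of_coprime (hx.2.pow_right k))

theorem pow_mem_res [Finite G] {p : ℕ} [hp : Fact p.Prime] {A : Subgroup G} {a : G} (ha : a ∈ A) :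
    ∃ k : ℕ, a ^ p ^ k ∈ res p A := by
  obtain ⟨k, m, hm, hxm⟩ := Nat.exists_eq_pow_mul_and_not_dvd (orderOf_pos a).ne' p hp.out.ne_one
  refine ⟨k, mem_res (pow_mem ha _) ?_⟩
  rw [orderOf_pow' a (pow_ne_zero k hp.out.ne_zero), hxm, Nat.gcd_mul_right_left,
    Nat.mul_div_cancel_left _ (pow_pos hp.out.pos k)]
  exact (hp.out.coprime_iff_not_dvd.mpr hm).symm

theorem map_res [Finite G] {p : ℕ} [Fact p.Prime] {G' : Type*} [Group G'] (f : G →* G') (A : Subgroup G) :
    (res p A).map f = res p (A.map f) := by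
  refine le_antisymm (map_res_le f p A) (res_le_of ?_)
  rintro _ ⟨a, ha, rfl⟩
  obtain ⟨k, hk⟩ := pow_mem_res (p := p) ha
  exact ⟨k, ⟨_, hk, map_pow f a _⟩⟩

/-- `A` is generated by `O^p(A)` and a Sylow subgroup. -/
theorem le_res_sup [Finite G] {p : ℕ} [Fact p.Prime] {A X : Subgroup G} (hXA : X ≤ A) (hX : IsPGroup p ↥X)
    (hi : ¬ p ∣ X.relIndex A) : A ≤ res p A ⊔ X := by
  intro a ha
  have h := CfsgLib.PResidual.sup_pResidual_eq_top ((hX.comap_subtype (K := A)).toSylow hi)
  have hm : (⟨a, ha⟩ : ↥A) ∈ (X.subgroupOf A) ⊔ Cfsg.pResidual p ↥A := by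
    have : ((hX.comap_subtype (K := A)).toSylow hi : Subgroup ↥A) = X.subgroupOf A := rfl
    rw [← this, h]; exact Subgroup.mem_top _
  have h2 := Subgroup.mem_map_of_mem A.subtype hm
  rw [Subgroup.map_sup, Subgroup.map_subgroupOf_eq_of_le hXA] at h2
  refine (sup_le le_sup_right ?_ : X ⊔ (Cfsg.pResidual p ↥A).map A.subtype ≤ res p A ⊔ X) h2
  rw [Cfsg.pResidual, MonoidHom.map_closure, Subgroup.closure_le]
  rintro _ ⟨x, hx, rfl⟩
  refine Subgroup.mem_sup_left (mem_res x.2 ?_)
  have hx' : (orderOf x).Coprime p := hx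
  rwa [← Subgroup.orderOf_coe] at hx'

theorem isSubnormal_res [Finite G] (p : ℕ) {A : Subgroup G} (hA : A.IsSubnormal) : (res p A).IsSubnormal :=
  Subgroup.IsSubnormal.step _ A (res_le p A) hA ((Subgroup.normal_subgroupOf_iff_le_normalizer (res_le p A)).mpr
    fun _ ha => mem_normalizer_res p (Subgroup.le_normalizer ha))

theorem sylow_of_subnormal [Finite G] {p : ℕ} {S A : Subgroup G} (hi : ¬ p ∣ S.index) (hA : A.IsSubnormal) :
    ¬ p ∣ (S ⊓ A).relIndex A := fun h => hi (h.trans (by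
      rw [inf_comm]; exact CfsgLib.GroupB.Subnormal.relIndex_dvd_index hA S))

theorem card_sylow_inf [Finite G] {p : ℕ} [hp : Fact p.Prime] {S A : Subgroup G} (hS : IsPGroup p ↥S)
    (hi : ¬ p ∣ S.index) (hA : A.IsSubnormal) :
    Nat.card ↥(S ⊓ A : Subgroup G) = p ^ (Nat.card ↥A).factorization p := by
  have h := ((hS.to_le inf_le_left).comap_subtype (K := A)).toSylow (sylow_of_subnormal hi hA) |>.card_eq_multiplicity
  rw [← Nat.card_congr (Subgroup.subgroupOfEquivOfLe (inf_le_right : S ⊓ A ≤ A)).toEquiv]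
  exact h

/-- A minimal normal subgroup normalises every subnormal subgroup. -/
theorem minNormal_normalizes_aux : ∀ (n : ℕ) (G : Type u) [Group G] [Finite G], Nat.card G = n →
    ∀ K : Subgroup G, K.Normal → K ≠ ⊥ → (∀ M : Subgroup G, M.Normal → M ≤ K → M = ⊥ ∨ M = K) →
      ∀ A : Subgroup G, A.IsSubnormal → K ≤ Subgroup.normalizer (A : Set G) := by
  intro n
  induction n using Nat.strong_induction_on with
  | _ n ih =>
    intro G _ _ hn K hK hK0 hmin A hA
    rcases hA.lt_normal with rfl | ⟨M, hM, hAM, hMt⟩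
    · rw [Subgroup.normalizer_eq_top]; exact le_top
    haveI := hK; haveI := hM
    by_cases hKM : K ≤ M
    swap
    · have hbot : K ⊓ M = ⊥ := (hmin (K ⊓ M) (Subgroup.normal_inf_normal K M) inf_le_left).resolve_right
        fun e => hKM (e ▸ inf_le_right)
      refine le_normalizer_of_conj_mem fun k hk x hx => ?_
      rw [(Subgroup.commute_of_normal_of_disjoint K M hK hM (disjoint_iff.mpr hbot) k x hk (hAM hx)).eq,
        mul_inv_cancel_right]
      exact hx
    have hlt : Nat.card ↥M < n := hn ▸ lt_of_le_of_ne (Subgroup.card_le_card_group M) fun e =>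
      hMt.ne (Subgroup.eq_top_of_card_eq M e)
    let P : Subgroup G → Prop := fun L => L ≤ K ∧ L ≠ ⊥ ∧ M ≤ Subgroup.normalizer (L : Set G)
    let 𝓛 : Set (Subgroup G) := {L | Minimal P L}
    obtain ⟨L₀, -, hL₀⟩ := Finite.exists_le_minimal (p := P)
      (show P K from ⟨le_rfl, hK0, by rw [Subgroup.normalizer_eq_top]; exact le_top⟩)
    have hPconj : ∀ g L, P L → P (L.map (MulAut.conj g).toMonoidHom) := by
      rintro g L ⟨h1, h2, h3⟩
      refine ⟨?_, fun e => h2 ((Subgroup.map_eq_bot_iff_of_injective _ (MulAut.conj g).injective).mp e), ?_⟩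
      · rintro _ ⟨l, hl, rfl⟩; exact hK.conj_mem l (h1 hl) g
      · refine le_normalizer_of_conj_mem ?_
        rintro m hm _ ⟨l, hl, rfl⟩
        have hm' : g⁻¹ * m * g⁻¹⁻¹ ∈ M := hM.conj_mem m hm g⁻¹
        refine ⟨_, (conj_mem_iff (h3 hm')).mpr hl, ?_⟩
        show g * (g⁻¹ * m * g⁻¹⁻¹ * l * (g⁻¹ * m * g⁻¹⁻¹)⁻¹) * g⁻¹ = m * (g * l * g⁻¹) * m⁻¹
        group
    have hconj : ∀ g, ∀ L ∈ 𝓛, L.map (MulAut.conj g).toMonoidHom ∈ 𝓛 := by
      intro g L hL
      refine ⟨hPconj g L hL.1, fun L' hL' hle => ?_⟩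
      have h1 : L'.map (MulAut.conj g⁻¹).toMonoidHom ≤ L := by
        rintro _ ⟨x, hx, rfl⟩
        obtain ⟨l, hl, rfl⟩ := hle hx
        simpa [mul_assoc] using hl
      have h2 := hL.2 (hPconj g⁻¹ L' hL') h1
      rintro _ ⟨l, hl, rfl⟩
      obtain ⟨x, hx, rfl⟩ := h2 hl
      simpa [mul_assoc] using hx
    have hsupn : (sSup 𝓛).Normal := by
      refine ⟨fun x hx g => ?_⟩
      have hle : (sSup 𝓛).map (MulAut.conj g).toMonoidHom ≤ sSup 𝓛 := by
        rw [sSup_eq_iSup, Subgroup.map_iSup]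
        refine iSup_le fun L => ?_
        rw [Subgroup.map_iSup]
        exact iSup_le fun hL => le_iSup₂_of_le _ (hconj g L hL) le_rfl
      exact hle ⟨x, hx, rfl⟩
    have hsup : sSup 𝓛 = K := (hmin _ hsupn (sSup_le fun L hL => hL.1.1)).resolve_left fun e =>
      hL₀.1.2.1 (le_bot_iff.mp (e ▸ le_sSup (a := L₀) hL₀))
    rw [← hsup]
    refine sSup_le fun L hL => ?_
    obtain ⟨⟨hLK, hL0, hLM⟩, hLmin⟩ := hL
    have hLM' : L ≤ M := hLK.trans hKM
    have h := ih _ hlt ↥M rfl (L.subgroupOf M)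
      ((Subgroup.normal_subgroupOf_iff_le_normalizer hLM').mpr hLM)
      (fun e => hL0 (le_bot_iff.mp fun x hx => by
        have : (⟨x, hLM' hx⟩ : ↥M) ∈ L.subgroupOf M := Subgroup.mem_subgroupOf.mpr hx
        rw [e, Subgroup.mem_bot] at this
        exact Subgroup.mem_bot.mpr (congrArg Subtype.val this)))
      (fun W hW hWL => by
        by_cases hW0 : W = ⊥
        · exact Or.inl hW0
        refine Or.inr (le_antisymm hWL fun x hx => ?_)
        have hWm : W.map M.subtype ≤ L := by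
          rintro _ ⟨w, hw, rfl⟩; exact Subgroup.mem_subgroupOf.mp (hWL hw)
        have hPW : P (W.map M.subtype) := ⟨hWm.trans hLK, fun e => hW0
          ((Subgroup.map_eq_bot_iff_of_injective _ M.subtype_injective).mp e),
          le_normalizer_of_conj_mem (by rintro m hm _ ⟨w, hw, rfl⟩; exact ⟨_, hW.conj_mem w hw ⟨m, hm⟩, rfl⟩)⟩
        obtain ⟨w, hw, hwx⟩ := hLmin hPW hWm (Subgroup.mem_subgroupOf.mp hx)
        rwa [← Subtype.ext (show (w : G) = x from hwx)])
      (A.subgroupOf M) hA.subgroupOf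
    refine le_normalizer_of_conj_mem fun l hl x hx => ?_
    exact Subgroup.mem_subgroupOf.mp ((conj_mem_iff (h (Subgroup.mem_subgroupOf.mpr hl : (⟨l, hLM' hl⟩ : ↥M) ∈ _))).mpr
      (Subgroup.mem_subgroupOf.mpr hx : (⟨x, hAM hx⟩ : ↥M) ∈ A.subgroupOf M))

theorem minNormal_normalizes [Finite G] {K : Subgroup G} (hK : K.Normal) (hK0 : K ≠ ⊥)
    (hmin : ∀ M : Subgroup G, M.Normal → M ≤ K → M = ⊥ ∨ M = K) {A : Subgroup G} (hA : A.IsSubnormal) :
    K ≤ Subgroup.normalizer (A : Set G) :=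
  minNormal_normalizes_aux _ G rfl K hK hK0 hmin A hA

/-- A minimal normal subgroup of `⟨A₁, A₂⟩` is the product of its meets with the factors, or is central. -/
theorem minNormal_split [Finite G] {K A₁ A₂ : Subgroup G} (hK : K.Normal) (hK0 : K ≠ ⊥)
    (hmin : ∀ M : Subgroup G, M.Normal → M ≤ K → M = ⊥ ∨ M = K) (h₁ : A₁.IsSubnormal) (h₂ : A₂.IsSubnormal)
    (hG : A₁ ⊔ A₂ = ⊤) :
    (K ⊓ A₁) ⊔ (K ⊓ A₂) = K ∨ (K ⊓ A₁ = ⊥ ∧ K ⊓ A₂ = ⊥ ∧ K ≤ Subgroup.center G) := by
  have hn : ∀ A : Subgroup G, A.IsSubnormal → K ≤ Subgroup.normalizer ((K ⊓ A : Subgroup G) : Set G) :=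
    fun A hA => le_normalizer_of_conj_mem fun k hk x hx => Subgroup.mem_inf.mpr
      ⟨hK.conj_mem x hx.1 k, (conj_mem_iff (minNormal_normalizes hK hK0 hmin hA hk)).mpr hx.2⟩
  set X := (K ⊓ A₁) ⊔ (K ⊓ A₂) with hX
  -- conjugation by `a ∈ A` moves an element of `K` only inside its coset of `K ⊓ A`
  have hstep : ∀ A : Subgroup G, A.IsSubnormal → ∀ a ∈ A, ∀ x ∈ K, a * x * a⁻¹ * x⁻¹ ∈ K ⊓ A := by
    intro A hA a ha x hx
    refine Subgroup.mem_inf.mpr ⟨mul_mem (hK.conj_mem x hx a) (inv_mem hx), ?_⟩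
    rw [show a * x * a⁻¹ * x⁻¹ = a * (x * a⁻¹ * x⁻¹) by group]
    exact mul_mem ha ((conj_mem_iff (minNormal_normalizes hK hK0 hmin hA hx)).mpr (inv_mem ha))
  have hXK : X ≤ K := sup_le inf_le_left inf_le_left
  have hXn : X.Normal := by
    rw [← Subgroup.normalizer_eq_top_iff, eq_top_iff, ← hG]
    refine sup_le ?_ ?_ <;> refine le_normalizer_of_conj_mem fun a ha x hx => ?_ <;>
      rw [show a * x * a⁻¹ = (a * x * a⁻¹ * x⁻¹) * x by group]
    · exact mul_mem (Subgroup.mem_sup_left (hstep A₁ h₁ a ha x (hXK hx))) hx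
    · exact mul_mem (Subgroup.mem_sup_right (hstep A₂ h₂ a ha x (hXK hx))) hx
  rcases hmin X hXn hXK with h | h
  · obtain ⟨e1, e2⟩ := sup_eq_bot_iff.mp h
    refine Or.inr ⟨e1, e2, fun k hk => Subgroup.mem_center_iff.mpr fun g => ?_⟩
    have hle : (⊤ : Subgroup G) ≤ Subgroup.centralizer ({k} : Set G) := by
      rw [← hG]
      refine sup_le ?_ ?_ <;> intro a ha <;> refine Subgroup.mem_centralizer_singleton_iff.mpr ?_
      · have := hstep A₁ h₁ a ha k hk
        rw [e1, Subgroup.mem_bot, mul_inv_eq_one, mul_inv_eq_iff_eq_mul] at this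
        exact this
      · have := hstep A₂ h₂ a ha k hk
        rw [e2, Subgroup.mem_bot, mul_inv_eq_one, mul_inv_eq_iff_eq_mul] at this
        exact this
    exact Subgroup.mem_centralizer_singleton_iff.mp (hle (Subgroup.mem_top g))
  · exact Or.inl h

theorem exists_minNormal [Finite G] {M : Subgroup G} (hM : M.Normal) (hM0 : M ≠ ⊥) :
    ∃ K : Subgroup G, K.Normal ∧ K ≠ ⊥ ∧ K ≤ M ∧ ∀ L : Subgroup G, L.Normal → L ≤ K → L = ⊥ ∨ L = K := by
  obtain ⟨K, hKM, hK⟩ := Finite.exists_le_minimal (p := fun L : Subgroup G => L.Normal ∧ L ≠ ⊥) ⟨hM, hM0⟩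
  exact ⟨K, hK.1.1, hK.1.2, hKM, fun L hL hLK => or_iff_not_imp_left.mpr fun h => le_antisymm hLK (hK.2 ⟨hL, h⟩ hLK)⟩

/-- An element of `A` subnormal pushes coprime commutators into `A`. -/
theorem commutator_zpowers_le [Finite G] {R A : Subgroup G} {a : G} (hA : A.IsSubnormal) (ha : a ∈ A)
    (haR : a ∈ Subgroup.normalizer (R : Set G)) (hcop : (orderOf a).Coprime (Nat.card ↥R)) :
    ⁅R, Subgroup.zpowers a⁆ ≤ A := by
  induction hA with
  | top => exact le_top
  | step H C hle _ hN ih =>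
    rw [← commutator_commutator_eq (Subgroup.zpowers_le.mpr haR) (by rw [Nat.card_zpowers]; exact hcop)
      (Or.inr (by
        letI : CommGroup ↥(Subgroup.zpowers a) := IsCyclic.commGroup
        infer_instance))]
    refine (Subgroup.commutator_mono (ih (hle ha)) (Subgroup.zpowers_le.mpr ha)).trans ?_
    exact Subgroup.le_normalizer_iff_commutator_le_right.mp ((Subgroup.normal_subgroupOf_iff_le_normalizer hle).mp hN)

/-- **Wielandt**: for `G = ⟨A₁, A₂⟩`, the group `⟨O^p(A₁), O^p(A₂)⟩` is normal. -/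
theorem res_sup_normal_aux {p : ℕ} [hp : Fact p.Prime] : ∀ (n : ℕ) (G : Type u) [Group G] [Finite G], Nat.card G = n →
    ∀ A₁ A₂ : Subgroup G, A₁.IsSubnormal → A₂.IsSubnormal → A₁ ⊔ A₂ = ⊤ → (res p A₁ ⊔ res p A₂).Normal := by
  intro n
  induction n using Nat.strong_induction_on with
  | _ n ih =>
    intro G _ _ hn A₁ A₂ h₁ h₂ hG
    by_cases htriv : (⊤ : Subgroup G) = ⊥
    · rw [show res p A₁ ⊔ res p A₂ = ⊥ from le_bot_iff.mp (htriv ▸ le_top)]; infer_instance
    set U := res p A₁ ⊔ res p A₂ with hU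
    have hUres : U ≤ res p U := sup_le ((res_res p A₁).ge.trans (res_mono le_sup_left))
      ((res_res p A₂).ge.trans (res_mono le_sup_right))
    -- modulo a nontrivial normal subgroup
    have hq : ∀ M : Subgroup G, M.Normal → M ≠ ⊥ → (U ⊔ M).Normal := by
      intro M hM hM0
      haveI := hM
      set π := QuotientGroup.mk' M
      have hπ : Function.Surjective π := QuotientGroup.mk'_surjective M
      have hlt : Nat.card (G ⧸ M) < n := by
        rw [← hn, Subgroup.card_eq_card_quotient_mul_card_subgroup M]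
        exact lt_mul_of_one_lt_right Nat.card_pos (Subgroup.one_lt_card_iff_ne_bot M |>.mpr hM0)
      have h := ih _ hlt (G ⧸ M) rfl (A₁.map π) (A₂.map π) (h₁.map hπ) (h₂.map hπ)
        (by rw [← Subgroup.map_sup, hG, Subgroup.map_top_of_surjective π hπ])
      rw [← map_res, ← map_res, ← Subgroup.map_sup, ← hU] at h
      have h2 := h.comap π
      rwa [Subgroup.comap_map_eq, QuotientGroup.ker_mk'] at h2
    obtain ⟨K, hK, hK0, -, hmin⟩ := exists_minNormal (M := (⊤ : Subgroup G)) inferInstance htriv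
    haveI := hK
    have hKn : K ≤ Subgroup.normalizer (U : Set G) := fun k hk => by
      refine mem_normalizer_iff_map_conj_eq.mpr ?_
      rw [hU, Subgroup.map_sup]
      exact congr_arg₂ (· ⊔ ·)
        (mem_normalizer_iff_map_conj_eq.mp (mem_normalizer_res p (minNormal_normalizes hK hK0 hmin h₁ hk)))
        (mem_normalizer_iff_map_conj_eq.mp (mem_normalizer_res p (minNormal_normalizes hK hK0 hmin h₂ hk)))
    by_cases hKU : K ≤ U
    · have := hq K hK hK0
      rwa [sup_eq_left.mpr hKU] at this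
    set R := U ⊔ K with hR
    haveI hRn : R.Normal := hq K hK hK0
    by_cases hKp : IsPGroup p ↥K
    · have he : res p R = U := by
        refine le_antisymm (res_le_of fun r hr => ?_) (hUres.trans (res_mono le_sup_left))
        rw [← SetLike.mem_coe, hR, Subgroup.coe_mul_of_right_le_normalizer_left U K hKn] at hr
        obtain ⟨u, hu, k, hk, rfl⟩ := hr
        obtain ⟨j, hj⟩ := hKp ⟨k, hk⟩
        have hj' : k ^ p ^ j = 1 := by simpa using congrArg Subtype.val hj
        have hpw : ∀ i : ℕ, ∃ u' ∈ U, (u * k) ^ i = u' * k ^ i := by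
          intro i
          induction i with
          | zero => exact ⟨1, one_mem _, by simp⟩
          | succ i ihi =>
            obtain ⟨u', hu', e⟩ := ihi
            exact ⟨u' * (k ^ i * u * (k ^ i)⁻¹), mul_mem hu' ((conj_mem_iff (hKn (pow_mem hk i))).mpr hu),
              by rw [pow_succ, e, pow_succ]; group⟩
        obtain ⟨u', hu', e⟩ := hpw (p ^ j)
        exact ⟨j, by rw [e, hj', mul_one]; exact hu'⟩
      rw [← he]
      exact ⟨fun x hx g => (conj_mem_iff (mem_normalizer_res p (by rw [Subgroup.normalizer_eq_top]; exact Subgroup.mem_top g))).mpr hx⟩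
    rcases minNormal_split hK hK0 hmin h₁ h₂ hG with hsplit | ⟨hk1, hk2, hKc⟩
    · -- `K` has no p-quotient
      exfalso
      apply hKU
      have hresK : res p K = K := by
        have hn' : (res p K).Normal := ⟨fun x hx g => (conj_mem_iff (mem_normalizer_res p (by
          rw [Subgroup.normalizer_eq_top]; exact Subgroup.mem_top g))).mpr hx⟩
        refine (hmin _ hn' (res_le p K)).resolve_left fun e => hKp fun k => ?_
        obtain ⟨j, hj⟩ := pow_mem_res (p := p) k.2
        rw [e, Subgroup.mem_bot] at hj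
        exact ⟨j, Subtype.ext (by simpa using hj)⟩
      rw [← hresK]
      refine res_le_of fun k hk => ?_
      -- elements of K ⊓ Aᵢ have a p-power in U; the quotient of K by K ⊓ U is then a p-group
      haveI : (U.subgroupOf K).Normal := by
        refine ⟨fun x hx g => Subgroup.mem_subgroupOf.mpr ?_⟩
        exact (conj_mem_iff (hKn g.2)).mpr (Subgroup.mem_subgroupOf.mp hx)
      set π := QuotientGroup.mk' (U.subgroupOf K)
      have hpow : ∀ A : Subgroup G, res p A ≤ U → IsPGroup p ↥((A.subgroupOf K).map π) := by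
        rintro A hA ⟨_, y, hy, rfl⟩
        obtain ⟨j, hj⟩ := pow_mem_res (p := p) (Subgroup.mem_subgroupOf.mp hy)
        refine ⟨j, Subtype.ext ?_⟩
        simp only [SubmonoidClass.coe_pow, ← map_pow, OneMemClass.coe_one]
        exact (QuotientGroup.eq_one_iff _).mpr (Subgroup.mem_subgroupOf.mpr (by simpa using hA hj))
      haveI hAn : ((A₁.subgroupOf K).map π).Normal := by
        refine Subgroup.Normal.map ⟨fun x hx g => Subgroup.mem_subgroupOf.mpr ?_⟩ π (QuotientGroup.mk'_surjective _)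
        exact (conj_mem_iff (minNormal_normalizes hK hK0 hmin h₁ g.2)).mpr (Subgroup.mem_subgroupOf.mp hx)
      have htop : IsPGroup p ↥((A₁.subgroupOf K).map π ⊔ (A₂.subgroupOf K).map π) :=
        IsPGroup.to_sup_of_normal_left (hpow A₁ le_sup_left) (hpow A₂ le_sup_right)
      have hmem : (⟨k, hk⟩ : ↥K) ∈ A₁.subgroupOf K ⊔ A₂.subgroupOf K := by
        have h : (⟨k, hk⟩ : ↥K) ∈ (K ⊓ A₁).subgroupOf K ⊔ (K ⊓ A₂).subgroupOf K := by
          rw [← Subgroup.subgroupOf_sup inf_le_left inf_le_left, Subgroup.mem_subgroupOf, hsplit]; exact hk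
        rwa [Subgroup.inf_subgroupOf_left, Subgroup.inf_subgroupOf_left] at h
      obtain ⟨j, hj⟩ := htop ⟨π ⟨k, hk⟩, by rw [← Subgroup.map_sup]; exact Subgroup.mem_map_of_mem π hmem⟩
      refine ⟨j, ?_⟩
      have hj' := congrArg Subtype.val hj
      simp only [SubmonoidClass.coe_pow, ← map_pow, OneMemClass.coe_one] at hj'
      simpa using Subgroup.mem_subgroupOf.mp ((QuotientGroup.eq_one_iff _).mp hj')
    · -- central of prime order q ≠ p
      obtain ⟨q, hqp, hqd⟩ := Nat.exists_prime_and_dvd (mt Subgroup.card_eq_one.mp hK0)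
      haveI := Fact.mk hqp
      obtain ⟨z, hz⟩ := exists_prime_orderOf_dvd_card' q hqd
      have hKz : Subgroup.zpowers (z : G) = K := by
        refine (hmin _ ⟨fun x hx g => ?_⟩ (Subgroup.zpowers_le.mpr z.2)).resolve_left ?_
        · rw [Subgroup.mem_center_iff.mp (hKc (Subgroup.zpowers_le.mpr z.2 hx)) g, mul_inv_cancel_right]
          exact hx
        · intro e
          rw [Subgroup.zpowers_eq_bot] at e
          rw [← Subgroup.orderOf_coe, e, orderOf_one] at hz
          exact hqp.one_lt.ne hz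
      have hKq : ∀ k ∈ K, k ^ q = 1 := fun k hk => by
        rw [← hKz] at hk
        obtain ⟨i, rfl⟩ := Subgroup.mem_zpowers_iff.mp hk
        rw [← zpow_natCast, ← zpow_mul, mul_comm, zpow_mul, zpow_natCast, ← hz, ← Subgroup.orderOf_coe,
          pow_orderOf_eq_one, one_zpow]
      have hqpow : ∀ r ∈ R, r ^ q ∈ U := by
        intro r hr
        rw [← SetLike.mem_coe, hR, Subgroup.coe_mul_of_right_le_normalizer_left U K hKn] at hr
        obtain ⟨u, hu, k, hk, rfl⟩ := hr
        rw [(show Commute u k from Subgroup.mem_center_iff.mp (hKc hk) u).mul_pow, hKq k hk, mul_one]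
        exact pow_mem hu q
      set N := res q R
      have hNU : N ≤ U := res_le_of fun r hr => ⟨1, by rw [pow_one]; exact hqpow r hr⟩
      by_cases hN0 : N = ⊥
      swap
      · obtain ⟨K', hK', hK'0, hK'N, -⟩ := exists_minNormal (M := N) ⟨fun x hx g => (conj_mem_iff
          (mem_normalizer_res q (by rw [Subgroup.normalizer_eq_top]; exact Subgroup.mem_top g))).mpr hx⟩ hN0
        have := hq K' hK' hK'0
        rwa [sup_eq_left.mpr (hK'N.trans hNU)] at this
      -- `R` is a q-group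
      have hRq : IsPGroup q ↥R := fun r => by
        obtain ⟨j, hj⟩ := pow_mem_res (p := q) r.2
        rw [show res q R = N from rfl, hN0, Subgroup.mem_bot] at hj
        exact ⟨j, Subtype.ext (by simpa using hj)⟩
      have hne : q ≠ p := by
        rintro rfl
        exact hKp (hRq.to_le le_sup_right)
      have hA : ∀ A : Subgroup G, A.IsSubnormal → res p A ≤ U → A ≤ Subgroup.normalizer (U : Set G) := by
        intro A hAs hAU
        have T : Sylow p ↥A := default
        refine (le_res_sup (Subgroup.map_subtype_le (T : Subgroup ↥A)) (T.2.map _) (by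
          rw [Subgroup.relIndex, Subgroup.subgroupOf, Subgroup.comap_map_eq_self_of_injective A.subtype_injective]
          exact T.not_dvd_index)).trans (sup_le (hAU.trans Subgroup.le_normalizer) ?_)
        rintro _ ⟨a, ha, rfl⟩
        obtain ⟨i, hi⟩ := IsPGroup.iff_orderOf.mp T.2 ⟨a, ha⟩
        rw [Subgroup.orderOf_mk, ← Subgroup.orderOf_coe] at hi
        obtain ⟨j, hj⟩ := hRq.exists_card_eq
        have hcop : (orderOf (a : G)).Coprime (Nat.card ↥R) := by
          rw [hi, hj]; exact Nat.Coprime.pow _ _ ((Nat.coprime_primes hp.out hqp).mpr hne.symm)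
        have hc := commutator_zpowers_le hAs a.2 (by rw [Subgroup.normalizer_eq_top]; exact Subgroup.mem_top _) hcop
        refine mem_normalizer_iff_map_conj_eq.mpr (Subgroup.eq_of_le_of_card_ge ?_
          (Subgroup.card_map_of_injective (f := (MulAut.conj (a : G)).toMonoidHom) (MulAut.conj (a : G)).injective).ge)
        rintro _ ⟨u, hu, rfl⟩
        show (a : G) * u * (a : G)⁻¹ ∈ U
        have h1 := Subgroup.commutator_mem_commutator (Subgroup.mem_sup_left hu : u ∈ R) (Subgroup.mem_zpowers (a : G))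
        have h2 : ⁅u, (a : G)⁆ ∈ U := by
          refine hAU (mem_res (hc h1) ?_)
          have hRmem : ⁅u, (a : G)⁆ ∈ R := by
            rw [commutatorElement_def, show u * (a : G) * u⁻¹ * (a : G)⁻¹ = u * ((a : G) * u⁻¹ * (a : G)⁻¹) by group]
            exact mul_mem (Subgroup.mem_sup_left hu) (hRn.conj_mem _ (Subgroup.mem_sup_left (inv_mem hu)) _)
          obtain ⟨l, hl⟩ := IsPGroup.iff_orderOf.mp hRq ⟨_, hRmem⟩
          rw [Subgroup.orderOf_mk] at hl
          rw [hl]; exact ((Nat.coprime_primes hqp hp.out).mpr hne).pow_left l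
        rw [show (a : G) * u * (a : G)⁻¹ = ⁅u, (a : G)⁆⁻¹ * u by simp only [commutatorElement_def]; group]
        exact mul_mem (inv_mem h2) hu
      rw [← Subgroup.normalizer_eq_top_iff, eq_top_iff, ← hG]
      exact sup_le (hA A₁ h₁ le_sup_left) (hA A₂ h₂ le_sup_right)

/-- A central subgroup of order `p` missing from a complement in a Sylow subgroup gives a `p`-quotient. -/
theorem res_ne_top [Finite G] {p : ℕ} [hp : Fact p.Prime] {S K T : Subgroup G} (hi : ¬ p ∣ S.index)
    (hKS : K ≤ S) (hTS : T ≤ S) (hKc : K ≤ Subgroup.center G) (hKT : K ⊓ T = ⊥)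
    (hS : ∀ s ∈ S, ∃ k ∈ K, ∃ t ∈ T, s = k * t) {z : G} (hzK : z ∈ K) (hz : orderOf z = p)
    (hKp : IsPGroup p ↥K) : res p (⊤ : Subgroup G) ≠ ⊤ := by
  classical
  letI : CommGroup ↥K := { (inferInstance : Group ↥K) with
    mul_comm := fun a b => Subtype.ext (Subgroup.mem_center_iff.mp (hKc b.2) a) }
  choose κ hκ τ hτ he using hS
  have huniq : ∀ k ∈ K, ∀ t ∈ T, ∀ k' ∈ K, ∀ t' ∈ T, k * t = k' * t' → k = k' := by
    intro k hk t ht k' hk' t' ht' e
    have : k'⁻¹ * k = t' * t⁻¹ := by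
      calc k'⁻¹ * k = k'⁻¹ * (k * t) * t⁻¹ := by group
        _ = t' * t⁻¹ := by rw [e]; group
    have hmem : k'⁻¹ * k ∈ K ⊓ T := Subgroup.mem_inf.mpr ⟨mul_mem (inv_mem hk') hk, this ▸ mul_mem ht' (inv_mem ht)⟩
    rw [hKT, Subgroup.mem_bot, inv_mul_eq_one] at hmem
    exact hmem.symm
  let φ : ↥S →* ↥K :=
    { toFun := fun s => ⟨κ s s.2, hκ _ _⟩
      map_one' := Subtype.ext (huniq _ (hκ _ _) _ (hτ _ _) 1 (one_mem _) 1 (one_mem _) (by
        rw [one_mul]; exact (he 1 (one_mem S)).symm))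
      map_mul' := fun a b => Subtype.ext (huniq _ (hκ _ _) _ (hτ _ _) _ (mul_mem (hκ _ a.2) (hκ _ b.2))
        _ (mul_mem (hτ _ a.2) (hτ _ b.2)) (by
          rw [← he _ (a * b).2]
          show (a : G) * b = _
          conv_lhs => rw [he _ a.2, he _ b.2]
          have hc : κ (b : G) b.2 * τ (a : G) a.2 = τ (a : G) a.2 * κ (b : G) b.2 :=
            (Subgroup.mem_center_iff.mp (hKc (hκ _ b.2)) _).symm
          calc κ (a : G) a.2 * τ (a : G) a.2 * (κ (b : G) b.2 * τ (b : G) b.2)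
              = κ (a : G) a.2 * (τ (a : G) a.2 * κ (b : G) b.2) * τ (b : G) b.2 := by group
            _ = κ (a : G) a.2 * κ (b : G) b.2 * (τ (a : G) a.2 * τ (b : G) b.2) := by rw [← hc]; group)) }
  intro htop
  have hz' := MonoidHom.transfer_eq_pow φ z fun k g hk => by
    rw [mul_assoc, ← Subgroup.mem_center_iff.mp (pow_mem (hKc hzK) k) g, inv_mul_cancel_left]
  have hker : res p (⊤ : Subgroup G) ≤ (MonoidHom.transfer φ).ker := res_le_of fun g _ => by
    obtain ⟨j, hj⟩ := hKp (MonoidHom.transfer φ g)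
    exact ⟨j, by rw [MonoidHom.mem_ker, map_pow]; exact hj⟩
  have h1 : MonoidHom.transfer φ z = 1 := hker (htop.ge (Subgroup.mem_top z))
  rw [hz'] at h1
  have h2 : κ (z ^ S.index) (pow_mem (hKS hzK) _) = 1 := congrArg Subtype.val h1
  have h3 := huniq (z ^ S.index) (pow_mem hzK _) 1 (one_mem _) _ (hκ _ (pow_mem (hKS hzK) _)) _ (hτ _ (pow_mem (hKS hzK) _))
    (by rw [mul_one]; exact he _ (pow_mem (hKS hzK) _))
  rw [h2, ← orderOf_dvd_iff_pow_eq_one, hz] at h3
  exact hi h3

/-- The join of Sylow subgroups of two subnormal subgroups is a Sylow subgroup of their join. -/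
theorem sylow_sup_aux {p : ℕ} [hp : Fact p.Prime] : ∀ (n : ℕ) (G : Type u) [Group G] [Finite G], Nat.card G = n →
    ∀ S : Subgroup G, IsPGroup p ↥S → ¬ p ∣ S.index → ∀ A₁ A₂ : Subgroup G, A₁.IsSubnormal → A₂.IsSubnormal →
      S ⊓ (A₁ ⊔ A₂) ≤ (S ⊓ A₁) ⊔ (S ⊓ A₂) := by
  intro n
  induction n using Nat.strong_induction_on with
  | _ n ih =>
    intro G _ _ hn S hS hSi A₁ A₂ h₁ h₂
    set T := (S ⊓ A₁) ⊔ (S ⊓ A₂) with hT
    -- inside a proper subnormal subgroup
    have hsub : ∀ J : Subgroup G, J ≠ ⊤ → J.IsSubnormal → ∀ B₁ B₂ : Subgroup G, B₁.IsSubnormal → B₂.IsSubnormal →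
        B₁ ⊔ B₂ = J → S ⊓ J ≤ (S ⊓ B₁) ⊔ (S ⊓ B₂) := by
      intro J hJt hJs B₁ B₂ hB₁ hB₂ hJ
      have hlt : Nat.card ↥J < n := hn ▸ lt_of_le_of_ne (Subgroup.card_le_card_group J) fun e =>
        hJt (Subgroup.eq_top_of_card_eq J e)
      have hi : ¬ p ∣ (S.subgroupOf J).index := fun h => sylow_of_subnormal hSi hJs (by
        rw [Subgroup.inf_relIndex_right]; exact h)
      have h := ih _ hlt ↥J rfl (S.subgroupOf J) hS.comap_subtype hi (B₁.subgroupOf J) (B₂.subgroupOf J)
        hB₁.subgroupOf hB₂.subgroupOf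
      intro x hx
      have hxJ : (⟨x, hx.2⟩ : ↥J) ∈ S.subgroupOf J ⊓ (B₁.subgroupOf J ⊔ B₂.subgroupOf J) := by
        refine Subgroup.mem_inf.mpr ⟨Subgroup.mem_subgroupOf.mpr hx.1, ?_⟩
        rw [← Subgroup.subgroupOf_sup (hJ ▸ le_sup_left) (hJ ▸ le_sup_right), Subgroup.mem_subgroupOf, hJ]
        exact hx.2
      have h2 := Subgroup.mem_map_of_mem J.subtype (h hxJ)
      rw [Subgroup.map_sup] at h2
      refine (sup_le ?_ ?_ : _ ≤ (S ⊓ B₁) ⊔ (S ⊓ B₂)) h2
      · exact le_sup_of_le_left (by rintro _ ⟨y, hy, rfl⟩; exact Subgroup.mem_inf.mpr ⟨hy.1, hy.2⟩)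
      · exact le_sup_of_le_right (by rintro _ ⟨y, hy, rfl⟩; exact Subgroup.mem_inf.mpr ⟨hy.1, hy.2⟩)
    by_cases hG : A₁ ⊔ A₂ = ⊤
    swap
    · exact hsub _ hG (CfsgLib.GroupB.Subnormal.sup h₁ h₂) A₁ A₂ h₁ h₂ rfl
    rw [hG, inf_top_eq]
    by_cases htriv : (⊤ : Subgroup G) = ⊥
    · exact le_top.trans (htriv.le.trans bot_le)
    obtain ⟨K, hK, hK0, -, hmin⟩ := exists_minNormal (M := (⊤ : Subgroup G)) inferInstance htriv
    haveI := hK
    set π := QuotientGroup.mk' K
    have hπ : Function.Surjective π := QuotientGroup.mk'_surjective K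
    -- modulo K
    have hST : ∀ s ∈ S, ∃ k ∈ S ⊓ K, ∃ t ∈ T, s = k * t := by
      have hlt : Nat.card (G ⧸ K) < n := by
        rw [← hn, Subgroup.card_eq_card_quotient_mul_card_subgroup K]
        exact lt_mul_of_one_lt_right Nat.card_pos (Subgroup.one_lt_card_iff_ne_bot K |>.mpr hK0)
      have h := ih _ hlt (G ⧸ K) rfl (S.map π) (hS.map π) (fun h => hSi (h.trans (Subgroup.index_map_dvd _ hπ)))
        (A₁.map π) (A₂.map π) (h₁.map hπ) (h₂.map hπ)
      have himg : ∀ A : Subgroup G, A.IsSubnormal → S.map π ⊓ A.map π ≤ (S ⊓ A).map π := by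
        intro A hA
        have hle : (S ⊓ A).map π ≤ S.map π ⊓ A.map π := Subgroup.map_inf_le _ _ π
        refine (Subgroup.eq_of_le_of_card_ge hle ?_).ge
        have hdvd : ((S ⊓ A).map π).relIndex (A.map π) ∣ (S ⊓ A).relIndex A := by
          have he : ((S ⊓ A).subgroupOf A).map (π.subgroupMap A) = ((S ⊓ A).map π).subgroupOf (A.map π) := by
            ext ⟨y, hy⟩
            constructor
            · rintro ⟨a, ha, e⟩
              exact Subgroup.mem_subgroupOf.mpr ⟨a, Subgroup.mem_subgroupOf.mp ha, congrArg Subtype.val e⟩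
            · intro hy'
              obtain ⟨a, ha, e⟩ := Subgroup.mem_subgroupOf.mp hy'
              exact ⟨⟨a, ha.2⟩, Subgroup.mem_subgroupOf.mpr ha, Subtype.ext e⟩
          rw [Subgroup.relIndex, ← he]
          exact Subgroup.index_map_dvd _ (π.subgroupMap_surjective A)
        obtain ⟨a, ha⟩ := ((hS.map π).to_le (inf_le_left : S.map π ⊓ A.map π ≤ S.map π)).exists_card_eq
        obtain ⟨b, hb⟩ := ((hS.to_le (inf_le_left : S ⊓ A ≤ S)).map π).exists_card_eq
        have h1 := Subgroup.relIndex_mul_relIndex ⊥ _ _ bot_le hle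
        rw [Subgroup.relIndex_bot_left, Subgroup.relIndex_bot_left, ha, hb] at h1
        obtain ⟨i, -, hi⟩ := (Nat.dvd_prime_pow hp.out).mp (Dvd.intro_left _ h1)
        have hi0 : i = 0 := by
          by_contra h0
          refine sylow_of_subnormal hSi hA (dvd_trans ?_ hdvd)
          rw [← Subgroup.relIndex_mul_relIndex _ (S.map π ⊓ A.map π) _ hle inf_le_right, hi]
          exact Dvd.dvd.mul_right (dvd_pow_self p h0) _
        rw [hi, hi0, pow_zero, mul_one] at h1
        rw [ha, hb, h1]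
      intro s hs
      have hsm : π s ∈ S.map π ⊓ (A₁.map π ⊔ A₂.map π) := by
        rw [← Subgroup.map_sup, hG, Subgroup.map_top_of_surjective π hπ, inf_top_eq]
        exact Subgroup.mem_map_of_mem π hs
      have h2 : π s ∈ T.map π := by
        rw [hT, Subgroup.map_sup]
        exact sup_le_sup (himg A₁ h₁) (himg A₂ h₂) (h hsm)
      obtain ⟨t, ht, hts⟩ := h2
      have htS : t ∈ S := (sup_le inf_le_left inf_le_left : T ≤ S) ht
      refine ⟨s * t⁻¹, Subgroup.mem_inf.mpr ⟨mul_mem hs (inv_mem htS), ?_⟩, t, ht, (inv_mul_cancel_right s t).symm⟩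
      refine (QuotientGroup.eq_one_iff (N := K) _).mp ?_
      show π (s * t⁻¹) = 1
      rw [map_mul, map_inv, hts, mul_inv_cancel]
    suffices hSK : S ⊓ K ≤ T by
      intro s hs
      obtain ⟨k, hk, t, ht, rfl⟩ := hST s hs
      exact mul_mem (hSK hk) ht
    rcases minNormal_split hK hK0 hmin h₁ h₂ hG with hsplit | ⟨hk1, hk2, hKc⟩
    · set X₁ := K ⊓ A₁ with hX₁
      set X₂ := K ⊓ A₂ with hX₂
      have hs1 : X₁.IsSubnormal := (Subgroup.Normal.isSubnormal hK).inf h₁
      have hs2 : X₂.IsSubnormal := (Subgroup.Normal.isSubnormal hK).inf h₂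
      have hn2 : X₂ ≤ Subgroup.normalizer (X₁ : Set G) := fun x hx => by
        refine mem_normalizer_iff_map_conj_eq.mpr ?_
        rw [hX₁, Subgroup.map_inf _ _ _ (MulAut.conj x).injective,
          mem_normalizer_iff_map_conj_eq.mp (show x ∈ Subgroup.normalizer (K : Set G) from Subgroup.le_normalizer hx.1),
          mem_normalizer_iff_map_conj_eq.mp (minNormal_normalizes hK hK0 hmin h₁ hx.1)]
      have hKset : (X₁ : Set G) * (X₂ : Set G) = (K : Set G) := by
        rw [← Subgroup.coe_mul_of_right_le_normalizer_left X₁ X₂ hn2, hsplit]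
      have e1 := CfsgLib.PLocal.ProductSet.card_mul_eq X₁ X₂
      rw [hKset] at e1
      have e2 := CfsgLib.PLocal.ProductSet.card_mul_eq (S ⊓ X₁) (S ⊓ X₂)
      have hsub2 : ((S ⊓ X₁ : Subgroup G) : Set G) * ((S ⊓ X₂ : Subgroup G) : Set G) ⊆ ((S ⊓ K : Subgroup G) : Set G) := by
        rintro _ ⟨a, ha, b, hb, rfl⟩
        exact mul_mem (Subgroup.mem_inf.mpr ⟨ha.1, ha.2.1⟩) (Subgroup.mem_inf.mpr ⟨hb.1, hb.2.1⟩)
      have c1 := card_sylow_inf hS hSi hs1
      have c2 := card_sylow_inf hS hSi hs2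
      have c3 := card_sylow_inf hS hSi (hs1.inf hs2)
      have c4 := card_sylow_inf hS hSi (Subgroup.Normal.isSubnormal hK)
      have hinf : (S ⊓ X₁) ⊓ (S ⊓ X₂) = S ⊓ (X₁ ⊓ X₂) := inf_inf_distrib_left S X₁ X₂ |>.symm
      rw [hinf, c1, c2, c3] at e2
      have hKc' : Nat.card ↥((K : Subgroup G) : Set G) = Nat.card ↥K := rfl
      rw [hKc'] at e1
      have hf := congrArg (fun n => n.factorization p) e1
      simp only [Nat.factorization_mul Nat.card_pos.ne' Nat.card_pos.ne', Finsupp.add_apply] at hf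
      rw [← pow_add, ← hf, pow_add, ← c4] at e2
      have hcard := Nat.eq_of_mul_eq_mul_right (pow_pos hp.out.pos _) e2
      have heq := Set.eq_of_subset_of_ncard_le hsub2 (by
        rw [← Nat.card_coe_set_eq, ← Nat.card_coe_set_eq]; exact hcard.ge) (Set.toFinite _)
      intro k hk
      obtain ⟨a, ha, b, hb, e⟩ := (Set.ext_iff.mp heq k).mpr hk
      rw [← e]
      exact mul_mem (Subgroup.mem_sup_left (Subgroup.mem_inf.mpr ⟨ha.1, ha.2.2⟩))
        (Subgroup.mem_sup_right (Subgroup.mem_inf.mpr ⟨hb.1, hb.2.2⟩))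
    by_cases hKT : S ⊓ K ≤ T
    · exact hKT
    exfalso
    set U := res p A₁ ⊔ res p A₂ with hU
    by_cases hUt : U = ⊤
    · obtain ⟨z, hz, hz1⟩ : ∃ z ∈ S ⊓ K, z ≠ 1 := by
        by_contra h
        push Not at h
        exact hKT fun x hx => by rw [h x hx]; exact one_mem _
      have hSKp : IsPGroup p ↥(S ⊓ K : Subgroup G) := hS.to_le inf_le_left
      obtain ⟨y, hy⟩ := exists_prime_orderOf_dvd_card' p (G := ↥(S ⊓ K : Subgroup G))
        ((hSKp.card_eq_or_dvd).resolve_left fun h => hz1 (by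
          rw [Subgroup.card_eq_one] at h
          rw [h] at hz; exact Subgroup.mem_bot.mp hz))
      have hyK : (y : G) ∈ K := y.2.2
      have hKy : Subgroup.zpowers (y : G) = K := by
        refine (hmin _ ⟨fun x hx g => ?_⟩ (Subgroup.zpowers_le.mpr hyK)).resolve_left ?_
        · rw [Subgroup.mem_center_iff.mp (hKc (Subgroup.zpowers_le.mpr hyK hx)) g, mul_inv_cancel_right]; exact hx
        · intro e
          rw [Subgroup.zpowers_eq_bot] at e
          rw [← Subgroup.orderOf_coe, e, orderOf_one] at hy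
          exact hp.out.one_lt.ne hy
      have hKS : K ≤ S := hKy ▸ Subgroup.zpowers_le.mpr y.2.1
      have hKT0 : K ⊓ T = ⊥ := by
        by_contra hne
        refine hKT ?_
        rcases hmin (K ⊓ T) ⟨fun x hx g => by
          rw [Subgroup.mem_center_iff.mp (hKc hx.1) g, mul_inv_cancel_right]; exact hx⟩ inf_le_left with e | e
        · exact absurd e hne
        · exact (inf_le_right.trans e.ge).trans inf_le_right
      refine res_ne_top hSi hKS (sup_le inf_le_left inf_le_left : T ≤ S) hKc hKT0 (fun s hs => ?_) hyK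
        (by rw [Subgroup.orderOf_coe]; exact hy) (hS.to_le hKS) (eq_top_iff.mpr ?_)
      · obtain ⟨k, hk, t, ht, e⟩ := hST s hs
        exact ⟨k, hk.2, t, ht, e⟩
      · exact hUt.ge.trans (sup_le (res_mono le_top) (res_mono le_top))
    · have hUn : U.Normal := res_sup_normal_aux _ G rfl A₁ A₂ h₁ h₂ hG
      haveI := hUn
      have hSU : S ⊓ U ≤ T := (hsub U hUt (Subgroup.Normal.isSubnormal hUn) _ _ (isSubnormal_res p h₁)
        (isSubnormal_res p h₂) hU.symm).trans (sup_le (le_sup_of_le_left (inf_le_inf_left _ (res_le p A₁)))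
          (le_sup_of_le_right (inf_le_inf_left _ (res_le p A₂))))
      have hgen : (⊤ : Subgroup G) ≤ U ⊔ T := by
        rw [← hG]
        exact sup_le ((le_res_sup inf_le_right (hS.to_le inf_le_left) (sylow_of_subnormal hSi h₁)).trans
            (sup_le_sup le_sup_left le_sup_left))
          ((le_res_sup inf_le_right (hS.to_le inf_le_left) (sylow_of_subnormal hSi h₂)).trans
            (sup_le_sup le_sup_right le_sup_right))
      refine hKT fun s hs => ?_
      obtain ⟨u, hu, t, ht, e⟩ := Subgroup.mem_sup_of_normal_left.mp (hgen (Subgroup.mem_top s))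
      have htS : t ∈ S := (sup_le inf_le_left inf_le_left : T ≤ S) ht
      have huS : u ∈ S := by
        rw [show u = s * t⁻¹ by rw [← e, mul_inv_cancel_right]]
        exact mul_mem hs.1 (inv_mem htS)
      rw [← e]
      exact mul_mem (hSU (Subgroup.mem_inf.mpr ⟨huS, hu⟩)) ht

theorem sylow_sup [Finite G] {p : ℕ} [Fact p.Prime] {S A₁ A₂ : Subgroup G} (hS : IsPGroup p ↥S) (hSi : ¬ p ∣ S.index)
    (h₁ : A₁.IsSubnormal) (h₂ : A₂.IsSubnormal) : S ⊓ (A₁ ⊔ A₂) = (S ⊓ A₁) ⊔ (S ⊓ A₂) :=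
  le_antisymm (sylow_sup_aux _ G rfl S hS hSi A₁ A₂ h₁ h₂)
    (sup_le (inf_le_inf_left _ le_sup_left) (inf_le_inf_left _ le_sup_right))

/-- `⟨O^p(A₁), O^p(A₂)⟩ = O^p(⟨A₁, A₂⟩)` for `G = ⟨A₁, A₂⟩`. -/
theorem res_sup_normal [Finite G] {p : ℕ} [Fact p.Prime] {A₁ A₂ : Subgroup G} (h₁ : A₁.IsSubnormal)
    (h₂ : A₂.IsSubnormal) (hG : A₁ ⊔ A₂ = ⊤) : (res p A₁ ⊔ res p A₂).Normal :=
  res_sup_normal_aux _ G rfl A₁ A₂ h₁ h₂ hG

end CfsgLib.SubnormalSylow
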