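import Cfsg.Agent.Lib.Chars.Linear
import Mathlib.LinearAlgebra.Matrix.Kronecker
import Mathlib.LinearAlgebra.Matrix.ToLin
import Mathlib.LinearAlgebra.Trace
import Cfsg.Agent.Lib.GroupB.Indicator

/-! The Frobenius–Schur indicator is integral; counting square roots by characters. -/

set_option autoImplicit false

namespace CfsgLib.SymAlt

open scoped ComplexConjugate Kronecker
open Cfsg CfsgLib.Chars

universe u

variable {G : Type u} [Group G] [Fintype G]

/-- The symmetric and alternating parts of the indicator of a character. -/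
theorem exists_sym_alt {χ : G → ℂ} (hχ : IsCharacter G χ) :
    ∃ r s : ℕ, (Nat.card G : ℂ)⁻¹ * ∑ g : G, χ (g ^ 2) = (r : ℂ) - s ∧
      (Nat.card G : ℂ)⁻¹ * ∑ g : G, χ g * χ g = (r : ℂ) + s := by
  obtain ⟨n, ρ, rfl⟩ := hχ
  set M : G → Matrix (Fin n) (Fin n) ℂ := fun g => LinearMap.toMatrix' (ρ g)
  have hMmul : ∀ g h, M (g * h) = M g * M h := fun g h => by
    simp only [M, map_mul, Module.End.mul_eq_comp, LinearMap.toMatrix'_comp]
  set c : ℂ := (Nat.card G : ℂ)⁻¹
  set P : Matrix (Fin n × Fin n) (Fin n × Fin n) ℂ := c • ∑ g : G, (M g ⊗ₖ M g)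
  have hPg : ∀ h : G, (M h ⊗ₖ M h) * P = P := by
    intro h
    simp only [P, Matrix.mul_smul, Finset.mul_sum, ← Matrix.mul_kronecker_mul, ← hMmul]
    congr 1
    exact Equiv.sum_comp (Equiv.mulLeft h) (fun g => M g ⊗ₖ M g)
  have hPP : P * P = P := by
    conv_lhs =>
      arg 1
      simp only [P]
    rw [Matrix.smul_mul, Finset.sum_mul, Finset.sum_congr rfl (fun g _ => hPg g), Finset.sum_const,
      Finset.card_univ, ← Nat.card_eq_fintype_card, ← Nat.cast_smul_eq_nsmul ℂ, smul_smul,
      inv_mul_cancel₀ (natCast_card_ne_zero G), one_smul]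
  set σ : Fin n × Fin n → Fin n × Fin n := Prod.swap
  set T := P.submatrix σ id with hT
  have hPsym : P.submatrix σ σ = P := by
    ext ⟨i, j⟩ ⟨k, l⟩
    simp [P, σ, Matrix.sum_apply, mul_comm]
  have hσσ : σ ∘ σ = id := by funext x; simp [σ]
  have hPT : P.submatrix id σ = T := by
    conv_lhs => rw [← hPsym]
    rw [Matrix.submatrix_submatrix, Function.comp_id, hσσ]
  have hTP : T * P = T := by
    conv_rhs => rw [hT, ← hPP]
    rw [Matrix.submatrix_mul P P σ id id Function.bijective_id, Matrix.submatrix_id_id]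
  have hPT2 : P * T = T := by
    have h1 := (Matrix.submatrix_mul P P id σ id Prod.swap_bijective).symm
    rw [hPT, Matrix.submatrix_id_id] at h1
    -- T * T-free identity
    rw [show P * T = T * P from ?_, hTP]
    rw [hTP]
    have h2 : P.submatrix id σ * P.submatrix σ id = (P * P).submatrix id id :=
      (Matrix.submatrix_mul P P id σ id Prod.swap_bijective).symm
    have h3 : P * T = (P.submatrix id σ).submatrix id id * P := by
      rw [Matrix.submatrix_id_id]
      conv_lhs => rw [hT]
      ext i j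
      simp only [Matrix.mul_apply, Matrix.submatrix_apply, id]
      exact Fintype.sum_equiv (Equiv.prodComm _ _) _ _ fun x => by simp [σ]
    rw [h3, Matrix.submatrix_id_id, hPT, hTP]
  have hTT : T * T = P := by
    have h2 : P.submatrix σ σ * P.submatrix σ id = (P * P).submatrix σ id :=
      (Matrix.submatrix_mul P P σ σ id Prod.swap_bijective).symm
    calc T * T = (P.submatrix id σ) * (P.submatrix σ id) := by rw [hPT]
      _ = (P * P).submatrix id id := (Matrix.submatrix_mul P P id σ id Prod.swap_bijective).symm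
      _ = P := by rw [hPP, Matrix.submatrix_id_id]
  have hE : ((2 : ℂ)⁻¹ • (P + T)) * ((2 : ℂ)⁻¹ • (P + T)) = (2 : ℂ)⁻¹ • (P + T) := by
    simp only [Matrix.smul_mul, Matrix.mul_smul, smul_smul, add_mul, mul_add, hPP, hTT, hTP, hPT2]
    module
  have hF : ((2 : ℂ)⁻¹ • (P - T)) * ((2 : ℂ)⁻¹ • (P - T)) = (2 : ℂ)⁻¹ • (P - T) := by
    simp only [Matrix.smul_mul, Matrix.mul_smul, smul_smul, sub_mul, mul_sub, hPP, hTT, hTP, hPT2]
    module
  obtain ⟨r, hr⟩ := CfsgLib.GroupB.Indicator.trace_idempotent _ hE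
  obtain ⟨s, hs⟩ := CfsgLib.GroupB.Indicator.trace_idempotent _ hF
  refine ⟨r, s, ?_, ?_⟩
  swap
  · have hP : P.trace = c * ∑ g : G, ρ.character g * ρ.character g := by
      simp only [P, Matrix.trace_smul, Matrix.trace_sum, Matrix.trace_kronecker, smul_eq_mul]
      congr 1
      refine Finset.sum_congr rfl fun g _ => ?_
      rw [Representation.character, LinearMap.trace_eq_matrix_trace ℂ (Pi.basisFun ℂ (Fin n)),
        LinearMap.toMatrix_eq_toMatrix']
    rw [← hP, ← hr, ← hs]
    simp only [Matrix.trace_smul, Matrix.trace_add, Matrix.trace_sub, smul_eq_mul]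
    ring
  have htr : T.trace = c * ∑ g : G, ρ.character (g ^ 2) := by
    simp only [T, P, Matrix.trace, Matrix.diag, Matrix.submatrix_apply, id, σ, Matrix.smul_apply,
      Matrix.sum_apply, Matrix.kroneckerMap_apply, smul_eq_mul, ← Finset.mul_sum]
    congr 1
    rw [Finset.sum_comm]
    refine Finset.sum_congr rfl fun g _ => ?_
    rw [Representation.character, LinearMap.trace_eq_matrix_trace ℂ (Pi.basisFun ℂ (Fin n)),
      LinearMap.toMatrix_eq_toMatrix', show LinearMap.toMatrix' (ρ (g ^ 2)) = M (g ^ 2) from rfl,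
      sq, hMmul, Fintype.sum_prod_type]
    simp only [Matrix.trace, Matrix.diag, Matrix.mul_apply, Prod.fst_swap, Prod.snd_swap]
    exact Finset.sum_comm
  rw [← htr, ← hr, ← hs]
  simp only [Matrix.trace_smul, Matrix.trace_add, Matrix.trace_sub, smul_eq_mul]
  ring

end CfsgLib.SymAlt
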