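import Mathlib.GroupTheory.Transfer
import Mathlib.GroupTheory.PGroup
import Mathlib.GroupTheory.Sylow
import Mathlib.GroupTheory.SpecificGroups.Cyclic

/-! The Thompson transfer lemma: extremal conjugation (owner helper5). -/

set_option autoImplicit false

namespace CfsgLib.ThompsonTransfer

/-- If every hom from `G` to a commutative quotient `S/T` kills the involution `y ∈ S`, with `S/T`
cyclic, then `y` has an extremal conjugate in `T`. -/
theorem extremal {G : Type*} [Group G] [Finite G] (S : Sylow 2 G) (T : Subgroup G)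
    [hTn : (T.subgroupOf (S : Subgroup G)).Normal]
    (hcyc : IsCyclic (↥(S : Subgroup G) ⧸ T.subgroupOf (S : Subgroup G)))
    (y : G) (hy : orderOf y = 2)
    (htriv : ∀ ψ : G →* (↥(S : Subgroup G) ⧸ T.subgroupOf (S : Subgroup G)), ψ y = 1) :
    ∃ g : G, g * y * g⁻¹ ∈ T ∧
      ¬ 2 ∣ ((S : Subgroup G) ⊓ Subgroup.centralizer {g * y * g⁻¹}).relIndex
          (Subgroup.centralizer {g * y * g⁻¹}) ∧
      ((S : Subgroup G) ⊓ Subgroup.centralizer {y}).map (MulAut.conj g).toMonoidHom ≤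
        (S : Subgroup G) ⊓ Subgroup.centralizer {g * y * g⁻¹} := by
  classical
  haveI := Fact.mk Nat.prime_two
  set H := (S : Subgroup G)
  haveI hTn' : (T.subgroupOf H).Normal := hTn
  letI : CommGroup (↥H ⧸ T.subgroupOf H) :=
    { (inferInstance : Group (↥H ⧸ T.subgroupOf H)) with mul_comm := fun a b => (IsCyclic.commutative (α := ↥H ⧸ T.subgroupOf H)).is_comm.comm a b }
  set φ : ↥H →* (↥H ⧸ T.subgroupOf H) := QuotientGroup.mk' (T.subgroupOf H)
  letI := Fintype.ofFinite (G ⧸ H)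
  letI := Fintype.ofFinite (↥H ⧸ T.subgroupOf H)
  have hy2 : y * y = 1 := by rw [← pow_two, ← hy, pow_orderOf_eq_one]
  have hyi : y⁻¹ = y := inv_eq_of_mul_eq_one_right hy2
  have hV : MonoidHom.transfer (A := ↥H ⧸ T.subgroupOf H) φ y = 1 := htriv _
  let T₀ : H.LeftTransversal := default
  let r : G ⧸ H → G := fun q => T₀.2.leftQuotientEquiv q
  have hr : ∀ q, (r q : G ⧸ H) = q := fun q => by
    exact T₀.2.leftQuotientEquiv.symm_apply_apply q
  have hmem : ∀ q : G ⧸ H, (r q)⁻¹ * y * r (y • q) ∈ H := fun q => by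
    have e : ((r q : G) : G ⧸ H) = ((y * r (y • q) : G) : G ⧸ H) := by
      rw [hr, show ((y * r (y • q) : G) : G ⧸ H) = y • ((r (y • q) : G) : G ⧸ H) from rfl, hr, smul_smul, hy2, one_smul]
    rw [mul_assoc]
    exact QuotientGroup.eq.mp e
  let f : G ⧸ H → (↥H ⧸ T.subgroupOf H) := fun q => φ ⟨_, hmem q⟩
  have hV2 : ∏ q, f q = 1 := by
    rw [← hV, MonoidHom.transfer_def φ T₀ y]
    unfold Subgroup.leftTransversals.diff
    refine Finset.prod_congr (by ext; simp) fun q _ => congrArg φ (Subtype.ext ?_)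
    show (r q)⁻¹ * y * r (y • q) = (r q)⁻¹ * _
    rw [Subgroup.smul_apply_eq_smul_apply_inv_smul, smul_eq_mul, hyi, mul_assoc]
  set F := Finset.univ.filter (fun q : G ⧸ H => y • q = q) with hF
  have hpair : ∀ q, f q * f (y • q) = 1 := fun q => by
    rw [← map_mul, ← map_one φ]
    refine congrArg φ (Subtype.ext ?_)
    show (r q)⁻¹ * y * r (y • q) * ((r (y • q))⁻¹ * y * r (y • (y • q))) = 1
    rw [smul_smul, hy2, one_smul, show (r q)⁻¹ * y * r (y • q) * ((r (y • q))⁻¹ * y * r q) = (r q)⁻¹ * (y * y) * r q by group, hy2]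
    group
  have hVF : ∏ q ∈ F, f q = 1 := by
    have h0 : ∏ q ∈ Finset.univ.filter (fun q : G ⧸ H => ¬ y • q = q), f q = 1 := by
      refine Finset.prod_involution (fun q _ => y • q) (fun q _ => hpair q) (fun q hq _ => (Finset.mem_filter.mp hq).2)
        (fun q hq => Finset.mem_filter.mpr ⟨Finset.mem_univ _, ?_⟩) (fun q _ => by rw [smul_smul, hy2, one_smul])
      rw [smul_smul, hy2, one_smul]
      exact Ne.symm (Finset.mem_filter.mp hq).2
    have h1 := Finset.prod_filter_mul_prod_filter_not Finset.univ (fun q : G ⧸ H => y • q = q) f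
    rwa [h0, mul_one, hV2] at h1
  have hfix : ∀ q ∈ F, ∀ x : G, (x : G ⧸ H) = q → ∃ hx : x⁻¹ * y * x ∈ H, f q = φ ⟨_, hx⟩ := by
    intro q hq x hx
    have hq' := (Finset.mem_filter.mp hq).2
    obtain ⟨s, hs⟩ : ∃ s : ↥H, x = r q * s := ⟨⟨(r q)⁻¹ * x, QuotientGroup.eq.mp ((hr q).trans hx.symm)⟩, by group⟩
    have h1 := hmem q
    rw [hq'] at h1
    have hxm : x⁻¹ * y * x ∈ H := by
      rw [hs, show (r q * (s : G))⁻¹ * y * (r q * s) = (s : G)⁻¹ * ((r q)⁻¹ * y * r q) * s by group]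
      exact H.mul_mem (H.mul_mem (H.inv_mem s.2) h1) s.2
    refine ⟨hxm, ?_⟩
    have e : (⟨_, hxm⟩ : ↥H) = s⁻¹ * ⟨_, hmem q⟩ * s := Subtype.ext (by
      show x⁻¹ * y * x = (s : G)⁻¹ * ((r q)⁻¹ * y * r (y • q)) * s
      rw [hq', hs]; group)
    rw [e, map_mul, map_mul, map_inv, mul_comm, mul_inv_cancel_left]
  have hsq : ∀ q ∈ F, f q * f q = 1 := fun q hq => by
    have := hpair q
    rwa [(Finset.mem_filter.mp hq).2] at this
  have hFodd : Odd F.card := by
    have hP : IsPGroup 2 ↥(Subgroup.zpowers y) := IsPGroup.of_card (n := 1) (by rw [Nat.card_zpowers, hy, pow_one])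
    have h := hP.card_modEq_card_fixedPoints (G ⧸ H)
    have e : MulAction.fixedPoints ↥(Subgroup.zpowers y) (G ⧸ H) = (F : Set (G ⧸ H)) := by
      ext q
      simp only [MulAction.mem_fixedPoints, hF, Finset.coe_filter, Finset.mem_univ, true_and, Set.mem_setOf_eq]
      refine ⟨fun hq => hq ⟨y, Subgroup.mem_zpowers y⟩, fun hq => ?_⟩
      rintro ⟨a, ha⟩
      exact (Subgroup.zpowers_le.mpr (show y ∈ MulAction.stabilizer G q from hq)) ha
    rw [e, Nat.card_coe_set_eq, Set.ncard_coe_finset, ← Subgroup.index_eq_card] at h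
    have hodd : Odd H.index := Nat.not_even_iff_odd.mp fun he => S.not_dvd_index (even_iff_two_dvd.mp he)
    rw [Nat.odd_iff] at hodd ⊢
    unfold Nat.ModEq at h
    omega
  set F1 := F.filter (fun q => f q = 1) with hF1
  have hF1odd : Odd F1.card := by
    rcases em (∃ q ∈ F, f q ≠ 1) with ⟨q0, hq0, hne⟩ | hall
    · have heps : ∀ q ∈ F, f q ≠ 1 → f q = f q0 := by
        intro q hq hq1
        by_contra hd
        have h3 := IsCyclic.card_pow_eq_one_le (α := ↥H ⧸ T.subgroupOf H) (n := 2) two_pos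
        have hsub : ({1, f q, f q0} : Finset _) ⊆ Finset.univ.filter fun w => w ^ 2 = 1 := by
          intro w hw
          simp only [Finset.mem_insert, Finset.mem_singleton] at hw
          rcases hw with rfl | rfl | rfl <;> simp [pow_two, hsq _ hq, hsq _ hq0]
        have h4 := (Finset.card_le_card hsub).trans h3
        rw [Finset.card_insert_of_notMem (by simp [Ne.symm hq1, Ne.symm hne]), Finset.card_pair hd] at h4
        omega
      have h1 := Finset.prod_filter_mul_prod_filter_not F (fun q => f q = 1) f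
      rw [hVF, Finset.prod_eq_one (fun q hq => (Finset.mem_filter.mp hq).2), one_mul,
        Finset.prod_congr rfl (fun q hq => heps q (Finset.mem_filter.mp hq).1 (Finset.mem_filter.mp hq).2),
        Finset.prod_const] at h1
      have heven : 2 ∣ (F.filter fun q => ¬ f q = 1).card := by
        rw [← orderOf_eq_prime (p := 2) (by rw [pow_two, hsq _ hq0]) hne]
        exact orderOf_dvd_of_pow_eq_one h1
      have hc := Finset.card_filter_add_card_filter_not (s := F) (fun q => f q = 1)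
      rw [Nat.odd_iff] at hFodd ⊢
      rw [hF1]; omega
    · push Not at hall
      rwa [hF1, Finset.filter_eq_self.mpr hall]
  -- a Sylow subgroup of the centralizer fixes one of these cosets
  set C := Subgroup.centralizer ({y} : Set G)
  obtain ⟨R, hR⟩ := ((S.2.to_inf_left (K := C)).comap_subtype (K := C)).exists_le_sylow
  have hCy : ∀ c ∈ C, c * y = y * c := fun c hc => Subgroup.mem_centralizer_singleton_iff.mp hc
  have hstab : ∀ (c : G), c ∈ C → ∀ q ∈ F1, c • q ∈ F1 := by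
    intro c hc q hq
    obtain ⟨hqF, hq1⟩ := Finset.mem_filter.mp hq
    have hqy := (Finset.mem_filter.mp hqF).2
    have hcF : c • q ∈ F := Finset.mem_filter.mpr ⟨Finset.mem_univ _, by rw [smul_smul, ← hCy c hc, ← smul_smul, hqy]⟩
    refine Finset.mem_filter.mpr ⟨hcF, ?_⟩
    obtain ⟨hx, he⟩ := hfix q hqF (r q) (hr q)
    obtain ⟨hx', he'⟩ := hfix _ hcF (c * r q) (by rw [show ((c * r q : G) : G ⧸ H) = c • ((r q : G) : G ⧸ H) from rfl, hr])
    rw [he'] 
    refine Eq.trans (congrArg φ (Subtype.ext ?_)) (he.symm.trans hq1)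
    show (c * r q)⁻¹ * y * (c * r q) = (r q)⁻¹ * y * r q
    calc (c * r q)⁻¹ * y * (c * r q) = (r q)⁻¹ * (c⁻¹ * (y * c)) * r q := by group
      _ = _ := by rw [← hCy c hc, inv_mul_cancel_left]
  let R' : Subgroup G := (R : Subgroup ↥C).map C.subtype
  letI : MulAction ↥R' ↥(F1 : Set (G ⧸ H)) :=
    { smul := fun c q => ⟨(c : G) • (q : G ⧸ H), hstab c (Subgroup.map_subtype_le _ c.2) q q.2⟩
      one_smul := fun q => Subtype.ext (one_smul G (q : G ⧸ H))
      mul_smul := fun a b q => Subtype.ext (mul_smul (a : G) (b : G) (q : G ⧸ H)) }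
  obtain ⟨⟨q, hq⟩, hqfix⟩ := (R.2.map C.subtype : IsPGroup 2 ↥R').nonempty_fixed_point_of_prime_not_dvd_card ↥(F1 : Set (G ⧸ H)) (by
    rw [Nat.card_coe_set_eq, Set.ncard_coe_finset]
    exact fun h => (Nat.not_even_iff_odd.mpr hF1odd) (even_iff_two_dvd.mpr h))
  obtain ⟨hqF, hq1⟩ := Finset.mem_filter.mp hq
  obtain ⟨hx, he⟩ := hfix q hqF (r q) (hr q)
  have hzT : (r q)⁻¹ * y * r q ∈ T := by
    rw [he] at hq1
    exact Subgroup.mem_subgroupOf.mp ((QuotientGroup.eq_one_iff _).mp hq1)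
  have hRS : ∀ c ∈ R', (r q)⁻¹ * c * r q ∈ H := by
    intro c hc
    have h1 : c • q = q := congrArg Subtype.val (hqfix ⟨c, hc⟩)
    rw [mul_assoc]
    refine QuotientGroup.eq.mp ?_
    rw [show ((c * r q : G) : G ⧸ H) = c • ((r q : G) : G ⧸ H) from rfl, hr, h1]
  have hgy : ((r q)⁻¹) * y * ((r q)⁻¹)⁻¹ = (r q)⁻¹ * y * r q := by rw [inv_inv]
  refine ⟨(r q)⁻¹, by rw [hgy]; exact hzT, ?_, ?_⟩
  · have hmapC : C.map (MulAut.conj (r q)⁻¹).toMonoidHom = Subgroup.centralizer {(r q)⁻¹ * y * ((r q)⁻¹)⁻¹} := by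
      ext w
      rw [Subgroup.mem_centralizer_singleton_iff, inv_inv]
      constructor
      · rintro ⟨u, hu, rfl⟩
        simp only [MulEquiv.coe_toMonoidHom, MulAut.conj_apply, inv_inv]
        calc (r q)⁻¹ * u * r q * ((r q)⁻¹ * y * r q) = (r q)⁻¹ * (u * y) * r q := by group
          _ = (r q)⁻¹ * (y * u) * r q := by rw [hCy u hu]
          _ = _ := by group
      · intro hw
        refine ⟨r q * w * (r q)⁻¹, Subgroup.mem_centralizer_singleton_iff.mpr ?_, by simp [mul_assoc]⟩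
        calc r q * w * (r q)⁻¹ * y = r q * (w * ((r q)⁻¹ * y * r q)) * (r q)⁻¹ := by group
          _ = r q * ((r q)⁻¹ * y * r q * w) * (r q)⁻¹ := by rw [hw]
          _ = _ := by group
    have hi : ¬ 2 ∣ R'.relIndex C := by
      rw [Subgroup.relIndex, show R'.subgroupOf C = (R : Subgroup ↥C) from Subgroup.comap_map_eq_self_of_injective C.subtype_injective _]
      exact R.not_dvd_index
    rw [← hmapC]
    refine fun hd => hi ?_
    rw [← Subgroup.relIndex_map_map_of_injective R' C (f := (MulAut.conj (r q)⁻¹).toMonoidHom) (MulEquiv.injective _)]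
    refine hd.trans (Subgroup.relIndex_dvd_of_le_left _ (le_inf ?_ (Subgroup.map_mono (Subgroup.map_subtype_le _))))
    rintro _ ⟨c, hc, rfl⟩
    simpa using hRS c hc
  · rintro _ ⟨c, ⟨hcS, hcC⟩, rfl⟩
    have hcR : c ∈ R' := ⟨⟨c, hcC⟩, hR (Subgroup.mem_subgroupOf.mpr ⟨hcS, hcC⟩), rfl⟩
    refine ⟨by simpa using hRS c hcR, Subgroup.mem_centralizer_singleton_iff.mpr ?_⟩
    simp only [MulEquiv.coe_toMonoidHom, MulAut.conj_apply, inv_inv]
    calc (r q)⁻¹ * c * r q * ((r q)⁻¹ * y * r q) = (r q)⁻¹ * (c * y) * r q := by group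
      _ = (r q)⁻¹ * (y * c) * r q := by rw [hCy c hcC]
      _ = _ := by group

/-- In a finite group, conjugation into a subgroup normalizes it. -/
theorem mem_normalizer_of_conj_le {G : Type*} [Group G] [Finite G] (H : Subgroup G) {g : G}
    (h : ∀ s ∈ H, g * s * g⁻¹ ∈ H) : g ∈ Subgroup.normalizer (H : Set G) := by
  rw [Subgroup.mem_normalizer_iff]
  intro s
  refine ⟨h s, fun hs => ?_⟩
  have hle : H.map (MulAut.conj g).toMonoidHom ≤ H := by
    rintro _ ⟨x, hx, rfl⟩; exact h x hx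
  have he : H.map (MulAut.conj g).toMonoidHom = H := Subgroup.eq_of_le_of_card_ge hle (by
    rw [Subgroup.card_map_of_injective (f := (MulAut.conj g).toMonoidHom) (MulEquiv.injective _)])
  obtain ⟨x, hx, hxe⟩ := he.ge hs
  exact (MulEquiv.injective (MulAut.conj g) hxe) ▸ hx

end CfsgLib.ThompsonTransfer
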