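import Cfsg.Agent.Lib.BaerSuzuki
import Cfsg.Agent.Lib.PConstrained

/-! A criterion for a normal Sylow 2-subgroup. -/

set_option autoImplicit false
set_option linter.style.haveILetI false

namespace CfsgLib.TwoClosed

variable {G : Type*} [Group G] [Finite G]

/-- If 2-elements centralise the subgroups of odd prime order they normalise, the Sylow 2-subgroup is normal. -/
theorem sylow_normal
    (h : ∀ y : G, (orderOf y).Prime → orderOf y ≠ 2 →
      ∀ g ∈ Subgroup.normalizer ((Subgroup.zpowers y : Subgroup G) : Set G), (∃ k : ℕ, orderOf g = 2 ^ k) → g * y = y * g)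
    (P : Sylow 2 G) : (P : Subgroup G).Normal := by
  haveI : Fact (Nat.Prime 2) := ⟨Nat.prime_two⟩
  haveI := CfsgLib.Core.pCore_characteristic (G := G) 2
  set O := Cfsg.pCore 2 G with hO
  set π := QuotientGroup.mk' O with hπd
  have hπ : Function.Surjective π := QuotientGroup.mk'_surjective O
  have hO2 : IsPGroup 2 ↥O := CfsgLib.Core.isPGroup_pCore 2
  have hodd : ¬ 2 ∣ Nat.card (G ⧸ O) := by
    intro hd
    obtain ⟨t, ht⟩ := exists_prime_orderOf_dvd_card' (G := G ⧸ O) 2 hd
    obtain ⟨u, hu1, huo, hut⟩ := CfsgLib.BaerSuzuki.exists_inverted_odd t ht (fun N hN hN2 htN => by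
      have h1 := CfsgLib.Core.le_pCore hN hN2 htN
      rw [CfsgLib.Core.pCore_quotient_eq_bot, Subgroup.mem_bot] at h1
      rw [h1, orderOf_one] at ht
      exact absurd ht (by norm_num))
    obtain ⟨r, hr, hrd⟩ := Nat.exists_prime_and_dvd (fun e => hu1 (orderOf_eq_one_iff.mp e))
    have hr2 : r ≠ 2 := fun e => by subst e; exact (Nat.not_even_iff_odd.mpr huo) (even_iff_two_dvd.mpr hrd)
    haveI : Fact r.Prime := ⟨hr⟩
    set v := u ^ (orderOf u / r) with hv
    have hvo : orderOf v = r := orderOf_pow_orderOf_div (orderOf_pos u).ne' hrd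
    have hvt : t * v * t⁻¹ = v⁻¹ := by rw [hv, ← conj_pow, hut, inv_pow]
    obtain ⟨x, hx⟩ := hπ v
    obtain ⟨j, hj⟩ := hO2.exists_card_eq
    have hco : Nat.Coprime (2 ^ j) r := ((Nat.coprime_primes Nat.prime_two hr).mpr (Ne.symm hr2)).pow_left j
    obtain ⟨s, hs⟩ := Nat.exists_mul_mod_eq_one_of_coprime hco hr.one_lt
    set y := x ^ (2 ^ j * s) with hy
    have hxr : (x ^ r) ∈ O := by
      refine (QuotientGroup.eq_one_iff _).mp ?_
      show π (x ^ r) = 1
      rw [map_pow, hx]
      have h4 := pow_orderOf_eq_one v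
      rwa [hvo] at h4
    have hyr : y ^ r = 1 := by
      have h2 : (x ^ r) ^ 2 ^ j = 1 := by
        have := pow_card_eq_one' (x := (⟨_, hxr⟩ : O))
        rw [hj] at this
        simpa using congrArg Subtype.val this
      rw [hy, ← pow_mul, show 2 ^ j * s * r = r * 2 ^ j * s by ring, pow_mul, pow_mul, h2, one_pow]
    have hyv : π y = v := by
      rw [hy, map_pow, hx, ← pow_mod_orderOf, hvo, hs.2, pow_one]
    have hyo : orderOf y = r := orderOf_eq_prime hyr fun e => by
      rw [e, map_one] at hyv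
      exact hr.ne_one (by rw [← hvo, ← hyv, orderOf_one])
    have hker : (Nat.card π.ker).Coprime r := by rw [QuotientGroup.ker_mk', hj]; exact hco
    have hU : IsPGroup r ↥(Subgroup.zpowers y) := IsPGroup.of_card (n := 1) (by rw [Nat.card_zpowers, hyo, pow_one])
    have htN : t ∈ Subgroup.normalizer (((Subgroup.zpowers y).map π : Subgroup (G ⧸ O)) : Set (G ⧸ O)) := by
      rw [MonoidHom.map_zpowers, hyv]
      refine Subgroup.mem_normalizer_fintype fun w hw => ?_
      obtain ⟨i, rfl⟩ := hw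
      show t * v ^ i * t⁻¹ ∈ Subgroup.zpowers v
      rw [← conj_zpow, hvt]
      exact zpow_mem (inv_mem (Subgroup.mem_zpowers v)) i
    rw [← CfsgLib.PConstrained.normalizer_map_eq π hπ hker hU] at htN
    obtain ⟨g, hg, hgt⟩ := htN
    have hg2 : ∃ k : ℕ, orderOf g = 2 ^ k := by
      have hgg : g ^ 2 ∈ O := by
        refine (QuotientGroup.eq_one_iff _).mp ?_
        show π (g ^ 2) = 1
        rw [map_pow, hgt]
        have h4 := pow_orderOf_eq_one t
        rwa [ht] at h4
      have h3 : g ^ 2 ^ (j + 1) = 1 := by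
        have := pow_card_eq_one' (x := (⟨_, hgg⟩ : O))
        rw [hj] at this
        rw [pow_succ', pow_mul]
        simpa using congrArg Subtype.val this
      obtain ⟨k, -, hk⟩ := (Nat.dvd_prime_pow Nat.prime_two).mp (orderOf_dvd_of_pow_eq_one h3)
      exact ⟨k, hk⟩
    have hc := congrArg π (h y (hyo ▸ hr) (hyo ▸ hr2) g hg hg2)
    rw [map_mul, map_mul, hgt, hyv] at hc
    rw [hc, mul_inv_cancel_right, eq_inv_iff_mul_eq_one, ← sq] at hvt
    exact hr2 ((Nat.prime_dvd_prime_iff_eq hr Nat.prime_two).mp (hvo ▸ orderOf_dvd_of_pow_eq_one hvt))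
  have hle : O ≤ (P : Subgroup G) := CfsgLib.Core.pCore_le_sylow P
  have heq : (P : Subgroup G) ≤ O := by
    intro x hx
    obtain ⟨k, hk⟩ := IsPGroup.iff_orderOf.mp P.2 ⟨x, hx⟩
    rw [Subgroup.orderOf_mk] at hk
    refine (QuotientGroup.eq_one_iff x).mp (orderOf_eq_one_iff.mp (Nat.eq_one_of_dvd_coprimes
      ((Nat.prime_two.coprime_iff_not_dvd.mpr hodd).pow_left k) ?_ (orderOf_dvd_natCard _)))
    exact (orderOf_map_dvd π x).trans hk.dvd
  rw [le_antisymm heq hle]
  infer_instance

end CfsgLib.TwoClosed
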